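import Mathlib
import Groth.Agent.Lib.Helper16.RelPC4
import Groth.Agent.Lib.Helper16.RelPC3
import Groth.Agent.Lib.Helper16.RelPC2

/-!
# Helper15 — RelPC5: more ring maps making the target pseudo-coherent over the source
(quotient by a regular element, localization away from an element as a quotient of a polynomial ring).
-/

open CategoryTheory CategoryTheory.Limits DerivedCategory CategoryTheory.Pretriangulated

namespace Groth.Agent.Lib.Helper15.RelPC5

open Groth.Agent.Lib.Helper16.PC Groth.Agent.Lib.Helper16.RelPC Groth.Agent.Lib.Helper16.RestrictD Polynomial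

universe u

attribute [local instance] HasDerivedCategory.standard

/-- a surjective ring map whose kernel is generated by a regular element makes the target pseudo-coherent. -/
theorem pcHom_of_ker_span_regular {C D : Type u} [CommRing C] [CommRing D] (φ : C →+* D)
    (hφ : Function.Surjective φ) (r : C) (hr : IsSMulRegular C r)
    (hker : RingHom.ker φ = Ideal.span {r}) : PCHom φ := by
  letI : Algebra C D := φ.toAlgebra
  rw [pcHom_iff]
  intro m
  let f : C →ₗ[C] C := LinearMap.mulLeft C r
  let g : C →ₗ[C] D := Algebra.linearMap C D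
  have hg : ∀ p : C, g p = φ p := fun p => rfl
  let S : ShortComplex (ModuleCat.{u} C) :=
    ShortComplex.mk (ModuleCat.ofHom f) (ModuleCat.ofHom g) (by
      apply ModuleCat.hom_ext
      apply LinearMap.ext
      intro p
      change g (r * p) = 0
      rw [hg, ← RingHom.mem_ker, hker]
      exact Ideal.mul_mem_right _ _ (Ideal.mem_span_singleton_self r))
  have hS : S.ShortExact := by
    refine ShortComplex.ShortExact.mk' ?_ ?_ ?_
    · rw [ShortComplex.ShortExact.moduleCat_exact_iff_function_exact]
      intro p
      change g p = 0 ↔ p ∈ Set.range f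
      rw [hg, ← RingHom.mem_ker, hker, Ideal.mem_span_singleton]
      constructor
      · rintro ⟨q, rfl⟩
        exact ⟨q, rfl⟩
      · rintro ⟨q, rfl⟩
        exact ⟨q, rfl⟩
    · rw [ModuleCat.mono_iff_injective]
      intro a b hab
      exact hr hab
    · rw [ModuleCat.epi_iff_surjective]
      intro d
      obtain ⟨c, rfl⟩ := hφ d
      exact ⟨c, rfl⟩
  have hT := hS.singleTriangle_distinguished
  have h1 : ∀ m' : ℤ, DRing.IsPseudoCoherent C m'
      ((singleFunctor (ModuleCat.{u} C) 0).obj (ModuleCat.of C C)) :=
    fun m' => (isPseudoCoherent_iff _ _).2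
      (isPC_single finFree_zero finFree_iso _
        ⟨(inferInstance : Module.Finite C C), (inferInstance : Module.Free C C)⟩ 0 m')
  exact (isPseudoCoherent_two_of_three _ hT m).1 (h1 (m + 1)) (h1 m)

lemma isSMulRegular_C_mul_X_sub_one {P : Type u} [CommRing P] (g : P) :
    IsSMulRegular (Polynomial P) (C g * X - 1 : Polynomial P) := by
  intro p q hpq
  have h0 : (C g * X - 1 : Polynomial P) * (p - q) = 0 := by
    rw [mul_sub]; exact sub_eq_zero.2 hpq
  have hc : ∀ k, ((C g * X - 1 : Polynomial P) * (p - q)).coeff k =
      g * (X * (p - q)).coeff k - (p - q).coeff k := by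
    intro k
    rw [sub_mul, one_mul, mul_assoc, coeff_sub, coeff_C_mul]
  have hd : p - q = 0 := by
    ext n
    induction n with
    | zero =>
      have h1 := hc 0
      rw [h0, coeff_zero, coeff_X_mul_zero, mul_zero, zero_sub] at h1
      rw [coeff_zero]
      exact neg_eq_zero.1 h1.symm
    | succ n ih =>
      have h1 := hc (n + 1)
      rw [h0, coeff_zero, coeff_X_mul, ih, coeff_zero, mul_zero, zero_sub] at h1
      rw [coeff_zero]
      exact neg_eq_zero.1 h1.symm
  exact sub_eq_zero.1 hd

section Away

variable {P : Type u} [CommRing P] (g : P)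

/-- the presentation `P[T] → P_g`, `T ↦ 1/g`. -/
noncomputable def awayPres : Polynomial P →+* Localization.Away g :=
  ((Localization.awayEquivAdjoin g).symm : AdjoinRoot (C g * X - 1) →+* Localization.Away g).comp
    (AdjoinRoot.mk (C g * X - 1))

lemma awayPres_surjective : Function.Surjective (awayPres g) := by
  intro y
  obtain ⟨p, hp⟩ := AdjoinRoot.mk_surjective (Localization.awayEquivAdjoin g y)
  refine ⟨p, ?_⟩
  change (Localization.awayEquivAdjoin g).symm (AdjoinRoot.mk _ p) = y
  rw [hp, AlgEquiv.symm_apply_apply]

lemma awayPres_C (a : P) : awayPres g (C a) = algebraMap P (Localization.Away g) a := by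
  change (Localization.awayEquivAdjoin g).symm (AdjoinRoot.mk _ (C a)) = _
  rw [AdjoinRoot.mk_C]
  exact (Localization.awayEquivAdjoin g).symm.commutes a

lemma pcHom_awayPres : PCHom (awayPres g) := by
  have h1 : PCHom (AdjoinRoot.mk (C g * X - 1 : Polynomial P)) := by
    refine pcHom_of_ker_span_regular _ AdjoinRoot.mk_surjective (C g * X - 1)
      (isSMulRegular_C_mul_X_sub_one g) ?_
    ext p
    rw [RingHom.mem_ker, AdjoinRoot.mk_eq_zero, Ideal.mem_span_singleton]
  have h2 : PCHom ((Localization.awayEquivAdjoin g).symm :
      AdjoinRoot (C g * X - 1) →+* Localization.Away g) :=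
    pcHom_of_bijective _ (Localization.awayEquivAdjoin g).symm.bijective
  exact h1.comp h2

end Away

end Groth.Agent.Lib.Helper15.RelPC5
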