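import Mathlib
import Groth.Agent.Lib.Helper16.FlatBC2

/-!
# Helper15 — RelPC6: base change of modules in a pushout square of rings
`P' ⊗_P M ≅ A' ⊗_A M` for `A' = P' ⊗_P A`, as a natural isomorphism of `P'`-modules.
-/

open CategoryTheory CategoryTheory.Limits TensorProduct

namespace Groth.Agent.Lib.Helper15.RelPC6

open Groth.Agent.Lib.Helper16.FlatBC

universe u

section Square

variable (P P' A A' : Type u) [CommRing P] [CommRing P'] [CommRing A] [CommRing A']
  [Algebra P P'] [Algebra P A] [Algebra A A'] [Algebra P' A'] [Algebra P A']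
  [IsScalarTower P P' A'] [IsScalarTower P A A'] [Algebra.IsPushout P P' A A']

/-- the source of the comparison. -/
noncomputable abbrev src (M : ModuleCat.{u} A) : ModuleCat.{u} P' :=
  (ModuleCat.extendScalars.{u, u, u} (algebraMap P P')).obj
    ((ModuleCat.restrictScalars.{u} (algebraMap P A)).obj M)

/-- the target of the comparison. -/
noncomputable abbrev tgt (M : ModuleCat.{u} A) : ModuleCat.{u} P' :=
  (ModuleCat.restrictScalars.{u} (algebraMap P' A')).obj
    ((ModuleCat.extendScalars.{u, u, u} (algebraMap A A')).obj M)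

variable {A} in
/-- the underlying linear equivalence. -/
noncomputable def sqEquiv (M : ModuleCat.{u} A) : src P P' A M ≃ₗ[P'] tgt P' A A' M := by
  letI : Module P M := Module.compHom M (algebraMap P A)
  haveI : IsScalarTower P A M := IsScalarTower.of_algebraMap_smul (fun _ _ => rfl)
  let e₀ : (A' ⊗[A] M) ≃ₗ[P'] (P' ⊗[P] M) := Algebra.IsPushout.cancelBaseChange P P' A A' M
  let e₁ : (P' ⊗[P] M) ≃ₗ[P'] src P P' A M := extEquiv (A := P) (B := P') M
  let e₂ : (A' ⊗[A] M) ≃ₗ[A'] ((ModuleCat.extendScalars.{u, u, u} (algebraMap A A')).obj M) :=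
    extEquiv (A := A) (B := A') M
  let e₂' : (A' ⊗[A] M) ≃ₗ[P'] tgt P' A A' M :=
    { toFun := e₂
      invFun := e₂.symm
      left_inv := e₂.left_inv
      right_inv := e₂.right_inv
      map_add' := e₂.map_add
      map_smul' := fun s x => by
        change e₂ (s • x) = algebraMap P' A' s • e₂ x
        rw [← e₂.map_smul, algebraMap_smul] }
  exact e₁.symm ≪≫ₗ e₀.symm ≪≫ₗ e₂'

open ChangeOfRings in
variable {A} in
lemma sqEquiv_one_tmul (M : ModuleCat.{u} A) (m : M) :
    sqEquiv P P' A' M ((1 : P') ⊗ₜ[P, algebraMap P P'] (m : (ModuleCat.restrictScalars.{u} (algebraMap P A)).obj M)) =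
      ((1 : A') ⊗ₜ[A, algebraMap A A'] m) := by
  letI : Module P M := Module.compHom M (algebraMap P A)
  haveI : IsScalarTower P A M := IsScalarTower.of_algebraMap_smul (fun _ _ => rfl)
  have h2 : (Algebra.IsPushout.cancelBaseChange P P' A A' M).symm ((1 : P') ⊗ₜ[P] (m : M)) =
      (1 : A') ⊗ₜ[A] (m : M) := by
    rw [Algebra.IsPushout.cancelBaseChange_symm_tmul, map_one]
  have key : sqEquiv P P' A' M ((extEquiv (A := P) (B := P') M) ((1 : P') ⊗ₜ[P] (m : M))) =
      ((1 : A') ⊗ₜ[A, algebraMap A A'] m) := by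
    change (extEquiv (A := A) (B := A') M) ((Algebra.IsPushout.cancelBaseChange P P' A A' M).symm
      ((extEquiv (A := P) (B := P') M).symm ((extEquiv (A := P) (B := P') M) _))) = _
    rw [LinearEquiv.symm_apply_apply, h2]
    rfl
  exact key

variable {A} in
/-- the comparison isomorphism `P' ⊗_P M ≅ A' ⊗_A M` of `P'`-modules. -/
noncomputable def sqIso (M : ModuleCat.{u} A) : src P P' A M ≅ tgt P' A A' M :=
  (sqEquiv P P' A' M).toModuleIso

open ChangeOfRings in
variable {A} in
lemma sqIso_hom_one_tmul (M : ModuleCat.{u} A) (m : M) :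
    (sqIso P P' A' M).hom ((1 : P') ⊗ₜ[P, algebraMap P P'] (m : (ModuleCat.restrictScalars.{u} (algebraMap P A)).obj M)) =
      ((1 : A') ⊗ₜ[A, algebraMap A A'] m) :=
  sqEquiv_one_tmul P P' A' M m

variable {A} in
lemma sqIso_naturality {M N : ModuleCat.{u} A} (v : M ⟶ N) :
    (ModuleCat.extendScalars.{u, u, u} (algebraMap P P')).map
        ((ModuleCat.restrictScalars.{u} (algebraMap P A)).map v) ≫ (sqIso P P' A' N).hom =
      (sqIso P P' A' M).hom ≫ (ModuleCat.restrictScalars.{u} (algebraMap P' A')).map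
        ((ModuleCat.extendScalars.{u, u, u} (algebraMap A A')).map v) := by
  apply ModuleCat.ExtendScalars.hom_ext
  intro m
  refine (sqIso_hom_one_tmul P P' A' N (v m)).trans ?_
  exact (congrArg (fun z => (ModuleCat.extendScalars.{u, u, u} (algebraMap A A')).map v z)
    (sqIso_hom_one_tmul P P' A' M m)).symm

variable {A} in
/-- the comparison isomorphism for complexes. -/
noncomputable def sqCxIso (K : CochainComplex (ModuleCat.{u} A) ℤ) :
    ((ModuleCat.extendScalars.{u, u, u} (algebraMap P P')).mapHomologicalComplex (ComplexShape.up ℤ)).obj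
      (((ModuleCat.restrictScalars.{u} (algebraMap P A)).mapHomologicalComplex (ComplexShape.up ℤ)).obj K) ≅
    ((ModuleCat.restrictScalars.{u} (algebraMap P' A')).mapHomologicalComplex (ComplexShape.up ℤ)).obj
      (((ModuleCat.extendScalars.{u, u, u} (algebraMap A A')).mapHomologicalComplex (ComplexShape.up ℤ)).obj K) :=
  HomologicalComplex.Hom.isoOfComponents (fun i => sqIso P P' A' (K.X i))
    (fun i j _ => (sqIso_naturality P P' A' (K.d i j)).symm)

end Square

end Groth.Agent.Lib.Helper15.RelPC6
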