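import Mathlib
import Groth.Agent.Lib.Helper15.RelPC5
import Groth.Agent.Lib.Helper15.RelPC6
import Groth.Agent.Lib.Helper16.FlatBC5

/-!
# Helper15 — RelPC7: relative pseudo-coherence and localization away from an element.
-/

open CategoryTheory CategoryTheory.Limits DerivedCategory CategoryTheory.Pretriangulated

namespace Groth.Agent.Lib.Helper15.RelPC7

open Groth.Agent.Lib.Helper16.PC Groth.Agent.Lib.Helper16.RelPC Groth.Agent.Lib.Helper16.RestrictD
  Groth.Agent.Lib.Helper16.FlatBC Groth.Agent.Lib.Helper16.LDer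
  Groth.Agent.Lib.Helper15.RelPC5 Groth.Agent.Lib.Helper15.RelPC6

universe u

attribute [local instance] HasDerivedCategory.standard

section MvAway

variable {R : Type u} [CommRing R] {n : ℕ} (g : MvPolynomial (Fin n) R)

/-- `awayPres` as an `R`-algebra map. -/
noncomputable def awayPresₐ : Polynomial (MvPolynomial (Fin n) R) →ₐ[R] Localization.Away g :=
  { awayPres g with
    commutes' := fun r => by
      change awayPres g (Polynomial.C (algebraMap R (MvPolynomial (Fin n) R) r)) = _
      rw [awayPres_C, ← IsScalarTower.algebraMap_apply] }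

/-- the presentation `R[x₀, …, x_n] → R[x₁, …, x_n]_g`. -/
noncomputable def mvAwayPres : MvPolynomial (Fin (n + 1)) R →ₐ[R] Localization.Away g :=
  (awayPresₐ g).comp (MvPolynomial.finSuccEquiv R n).toAlgHom

lemma mvAwayPres_surjective : Function.Surjective (mvAwayPres g) := by
  intro y
  obtain ⟨p, hp⟩ := awayPres_surjective g y
  refine ⟨(MvPolynomial.finSuccEquiv R n).symm p, ?_⟩
  rw [mvAwayPres, AlgHom.comp_apply]
  have h1 : (MvPolynomial.finSuccEquiv R n).toAlgHom ((MvPolynomial.finSuccEquiv R n).symm p) = p :=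
    (MvPolynomial.finSuccEquiv R n).apply_symm_apply p
  rw [h1]
  exact hp

lemma mvAwayPres_coe :
    ((mvAwayPres g : MvPolynomial (Fin (n + 1)) R →ₐ[R] Localization.Away g) :
      MvPolynomial (Fin (n + 1)) R →+* Localization.Away g) =
    (awayPres g).comp ((MvPolynomial.finSuccEquiv R n : MvPolynomial (Fin (n + 1)) R ≃ₐ[R] _) :
      MvPolynomial (Fin (n + 1)) R →+* Polynomial (MvPolynomial (Fin n) R)) :=
  RingHom.ext fun _ => rfl

lemma pcHom_mvAwayPres :
    PCHom ((mvAwayPres g : MvPolynomial (Fin (n + 1)) R →ₐ[R] Localization.Away g) :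
      MvPolynomial (Fin (n + 1)) R →+* Localization.Away g) := by
  rw [mvAwayPres_coe]
  have h1 : PCHom ((MvPolynomial.finSuccEquiv R n : MvPolynomial (Fin (n + 1)) R ≃ₐ[R] _) :
      MvPolynomial (Fin (n + 1)) R →+* Polynomial (MvPolynomial (Fin n) R)) :=
    pcHom_of_bijective _ (MvPolynomial.finSuccEquiv R n).bijective
  exact h1.comp (pcHom_awayPres g)

end MvAway

section Loc

variable {R A : Type u} [CommRing R] [CommRing A] [Algebra R A] {n : ℕ}
  (α : MvPolynomial (Fin n) R →ₐ[R] A) (g : MvPolynomial (Fin n) R)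
  (A' : Type u) [CommRing A'] [Algebra A A'] [Algebra R A'] [IsScalarTower R A A']
  [IsLocalization.Away (α g) A']

/-- the induced map on localizations. -/
noncomputable abbrev locMap : Localization.Away g →ₐ[R] A' :=
  IsLocalization.Away.mapₐ (Localization.Away g) A' α g

/-- the induced presentation of the localization. -/
noncomputable def locPres : MvPolynomial (Fin (n + 1)) R →ₐ[R] A' :=
  (locMap α g A').comp (mvAwayPres g)

lemma locPres_surjective (hα : Function.Surjective α) : Function.Surjective (locPres α g A') := by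
  intro y
  obtain ⟨z, hz⟩ := IsLocalization.Away.mapₐ_surjective_of_surjective
    (Aₚ := Localization.Away g) (Bₚ := A') g hα y
  obtain ⟨w, hw⟩ := mvAwayPres_surjective g z
  refine ⟨w, ?_⟩
  rw [locPres, AlgHom.comp_apply, hw]
  exact hz

/-- over the localization: pc via the induced presentation iff pc over `P_g`. -/
theorem via_locPres_iff (L : Dual.D A') (m : ℤ) :
    DerCA.IsRelPseudoCoherentVia (locPres α g A') m L ↔
      DRing.IsPseudoCoherent (Localization.Away g) m
        ((DRing.restrictD ((locMap α g A' : Localization.Away g →ₐ[R] A') :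
          Localization.Away g →+* A')).obj L) := by
  rw [pc_iff_of_pcHom (pcHom_mvAwayPres g)]
  unfold DerCA.IsRelPseudoCoherentVia
  have e := restrictDCompIso
    ((mvAwayPres g : MvPolynomial (Fin (n + 1)) R →ₐ[R] Localization.Away g) :
      MvPolynomial (Fin (n + 1)) R →+* Localization.Away g)
    ((locMap α g A' : Localization.Away g →ₐ[R] A') : Localization.Away g →+* A') L
  exact ⟨fun h => pc_of_iso h e, fun h => pc_of_iso h e.symm⟩

/-- the base change iso in `D(P_g)` for the localization square. -/
theorem nonempty_sqIso (K : DRing.Cx A) :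
    Nonempty ((ε (algebraMap (MvPolynomial (Fin n) R) (Localization.Away g))).obj
        ((DRing.restrictD (α : MvPolynomial (Fin n) R →+* A)).obj (DRing.toD K)) ≅
      (DRing.restrictD ((locMap α g A' : Localization.Away g →ₐ[R] A') :
          Localization.Away g →+* A')).obj
        (DRing.toD ((extCx (algebraMap A A')).obj K))) := by
  letI : Algebra (MvPolynomial (Fin n) R) A := (α : MvPolynomial (Fin n) R →+* A).toAlgebra
  letI : Algebra (MvPolynomial (Fin n) R) A' :=
    ((algebraMap A A').comp (α : MvPolynomial (Fin n) R →+* A)).toAlgebra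
  haveI : IsScalarTower (MvPolynomial (Fin n) R) A A' := .of_algebraMap_eq (fun _ => rfl)
  letI : Algebra (Localization.Away g) A' :=
    ((locMap α g A' : Localization.Away g →ₐ[R] A') : Localization.Away g →+* A').toAlgebra
  have hmap : ∀ x : MvPolynomial (Fin n) R,
      (locMap α g A') (algebraMap (MvPolynomial (Fin n) R) (Localization.Away g) x) =
        algebraMap A A' (α x) := fun x => by
    rw [IsLocalization.Away.mapₐ_apply]
    exact IsLocalization.map_eq _ x
  haveI : IsScalarTower (MvPolynomial (Fin n) R) (Localization.Away g) A' :=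
    .of_algebraMap_eq (fun x => (hmap x).symm)
  haveI : IsLocalization.Away (algebraMap (MvPolynomial (Fin n) R) A g) A' :=
    (inferInstance : IsLocalization.Away (α g) A')
  haveI : Algebra.IsPushout (MvPolynomial (Fin n) R) A (Localization.Away g) A' :=
    Algebra.isPushout_of_isLocalization (Submonoid.powers g) (Localization.Away g) A A'
  haveI : Algebra.IsPushout (MvPolynomial (Fin n) R) (Localization.Away g) A A' :=
    Algebra.IsPushout.symm inferInstance
  refine ⟨(ε _).mapIso (restrictQIso _ K) ≪≫ εQIso _ _ ≪≫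
    Q.mapIso (sqCxIso (MvPolynomial (Fin n) R) (Localization.Away g) A' K) ≪≫
    (restrictQIso _ _).symm⟩

/-- relative pseudo-coherence passes to the localization (w.r.t. the induced presentation). -/
theorem via_locPres_of_via (K : DRing.Cx A) (m : ℤ)
    (h : DerCA.IsRelPseudoCoherentVia α m (DRing.toD K)) :
    DerCA.IsRelPseudoCoherentVia (locPres α g A') m
      (DRing.toD ((extCx (algebraMap A A')).obj K)) := by
  rw [via_locPres_iff]
  obtain ⟨e⟩ := nonempty_sqIso α g A' K
  exact pc_of_iso (pc_ε _ _ m h) e

/-- converse on one chart: from the localization back to the flat base change over `P_g`. -/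
theorem pc_ε_of_via_locPres (K : DRing.Cx A) (m : ℤ)
    (h : DerCA.IsRelPseudoCoherentVia (locPres α g A') m
      (DRing.toD ((extCx (algebraMap A A')).obj K))) :
    DRing.IsPseudoCoherent (Localization.Away g) m
      ((ε (algebraMap (MvPolynomial (Fin n) R) (Localization.Away g))).obj
        ((DRing.restrictD (α : MvPolynomial (Fin n) R →+* A)).obj (DRing.toD K))) := by
  rw [via_locPres_iff] at h
  obtain ⟨e⟩ := nonempty_sqIso α g A' K
  exact pc_of_iso h e.symm

end Loc

section Zero

variable {P P' : Type u} [CommRing P] [CommRing P'] [Algebra P P']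

open TensorProduct in
lemma tensor_eq_zero (h0 : P) (hu : IsUnit (algebraMap P P' h0))
    (N : Type u) [AddCommGroup N] [Module P N] (hN : ∀ x : N, h0 • x = 0) (z : P' ⊗[P] N) :
    z = 0 := by
  induction z using TensorProduct.induction_on with
  | zero => rfl
  | tmul s x =>
    obtain ⟨v, hv⟩ := hu
    have hs : s = h0 • ((↑v⁻¹ : P') * s) := by
      rw [Algebra.smul_def, ← hv, ← mul_assoc, Units.mul_inv, one_mul]
    rw [hs, TensorProduct.smul_tmul, hN, TensorProduct.tmul_zero]
  | add a b ha hb => rw [ha, hb, add_zero]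

lemma subsingleton_ext_of_smul_zero (h0 : P) (hu : IsUnit (algebraMap P P' h0))
    (N : ModuleCat.{u} P) (hN : ∀ x : N, h0 • x = 0) :
    Subsingleton ((ModuleCat.extendScalars.{u, u, u} (algebraMap P P')).obj N) := by
  have h1 : Subsingleton (TensorProduct P P' N) :=
    ⟨fun x y => (tensor_eq_zero h0 hu N hN x).trans (tensor_eq_zero h0 hu N hN y).symm⟩
  exact (extEquiv (A := P) (B := P') N).symm.toEquiv.subsingleton

end Zero

section Family

variable {R A : Type u} [CommRing R] [CommRing A] [Algebra R A] {n : ℕ}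
  (α : MvPolynomial (Fin n) R →ₐ[R] A)

/-- for `h0 ∈ ker α`, the flat base change to `P_{h0}` of a restricted complex is zero. -/
lemma isZero_ε_of_mem_ker (h0 : MvPolynomial (Fin n) R) (hh : α h0 = 0) (K : DRing.Cx A) :
    IsZero ((ε (algebraMap (MvPolynomial (Fin n) R) (Localization.Away h0))).obj
      ((DRing.restrictD (α : MvPolynomial (Fin n) R →+* A)).obj (DRing.toD K))) := by
  refine IsZero.of_iso ?_ ((ε _).mapIso (restrictQIso _ K) ≪≫ εQIso _ _)
  apply Functor.map_isZero
  rw [IsZero.iff_id_eq_zero]
  ext i : 1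
  have hsub : Subsingleton ((ModuleCat.extendScalars.{u, u, u}
      (algebraMap (MvPolynomial (Fin n) R) (Localization.Away h0))).obj
      ((ModuleCat.restrictScalars.{u} (α : MvPolynomial (Fin n) R →+* A)).obj (K.X i))) := by
    refine subsingleton_ext_of_smul_zero h0 (IsLocalization.Away.algebraMap_isUnit h0) _ ?_
    intro x
    change (α h0) • (x : K.X i) = 0
    rw [hh, zero_smul]
  have hz : IsZero (((extCx (algebraMap (MvPolynomial (Fin n) R) (Localization.Away h0))).obj
      (((ModuleCat.restrictScalars.{u} (α : MvPolynomial (Fin n) R →+* A)).mapHomologicalComplex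
        (ComplexShape.up ℤ)).obj K)).X i) :=
    @ModuleCat.isZero_of_subsingleton _ _ _ hsub
  exact hz.eq_of_src _ _

include α in
theorem via_of_family (hα : Function.Surjective α) {r : ℕ} (f : Fin r → A)
    (hf : Ideal.span (Set.range f) = ⊤)
    (A' : Fin r → Type u) [∀ i, CommRing (A' i)] [∀ i, Algebra A (A' i)] [∀ i, Algebra R (A' i)]
    [∀ i, IsScalarTower R A (A' i)] [∀ i, IsLocalization.Away (f i) (A' i)]
    (K : DRing.Cx A) (m : ℤ)
    (h : ∀ i, DerCA.IsRelPseudoCoherent R (A' i) m
      (DRing.toD ((extCx (algebraMap A (A' i))).obj K))) :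
    DerCA.IsRelPseudoCoherentVia α m (DRing.toD K) := by
  choose g hg using fun i => hα (f i)
  obtain ⟨c, hc⟩ : ∃ c : Fin r → A, ∑ i, c i * f i = 1 :=
    (Ideal.mem_span_range_iff_exists_fun).1 (hf ▸ Submodule.mem_top)
  choose c' hc' using fun i => hα (c i)
  let h0 : MvPolynomial (Fin n) R := 1 - ∑ i, c' i * g i
  have hh0 : α h0 = 0 := by
    simp only [h0, map_sub, map_one, map_sum, map_mul, hc', hg, hc, sub_self]
  let F : Fin (r + 1) → MvPolynomial (Fin n) R := Fin.cons h0 g
  have hF : Ideal.span (Set.range F) = ⊤ := by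
    rw [Ideal.eq_top_iff_one]
    have h1 : (1 : MvPolynomial (Fin n) R) = h0 + ∑ i, c' i * g i := by simp [h0]
    rw [h1]
    refine Ideal.add_mem _ (Ideal.subset_span ⟨0, rfl⟩) (Ideal.sum_mem _ fun i _ => ?_)
    exact Ideal.mul_mem_left _ _ (Ideal.subset_span ⟨i.succ, by simp [F]⟩)
  have J := jff_localizationAway F hF
  unfold DerCA.IsRelPseudoCoherentVia
  apply J.pc
  intro j
  refine Fin.cases ?_ (fun i => ?_) j
  · exact (isPseudoCoherent_iff _ _).2
      (isPC_of_isZero finFree_zero _ (isZero_ε_of_mem_ker α h0 hh0 K) m)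
  · haveI : IsLocalization.Away (α (g i)) (A' i) := by rw [hg i]; infer_instance
    have h1 := (rel_iff_via (locPres α (g i) (A' i)) (locPres_surjective α (g i) (A' i) hα) m _).1 (h i)
    exact pc_ε_of_via_locPres α (g i) (A' i) K m h1

end Family

end Groth.Agent.Lib.Helper15.RelPC7
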