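import Mathlib
import Groth.Agent.Lib.Helper15.RelPC7

/-!
# Helper15 — RelPC8: a localization `R_f` is pseudo-coherent relative to `R`.
-/

open CategoryTheory CategoryTheory.Limits DerivedCategory CategoryTheory.Pretriangulated

namespace Groth.Agent.Lib.Helper15.RelPC8

open Groth.Agent.Lib.Helper16.PC Groth.Agent.Lib.Helper16.RelPC Groth.Agent.Lib.Helper16.RestrictD
  Groth.Agent.Lib.Helper15.RelPC5 Groth.Agent.Lib.Helper15.RelPC7

universe u

attribute [local instance] HasDerivedCategory.standard

/-- `R_f`, as a module over itself, is pseudo-coherent relative to `R`. -/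
theorem relPCModuleAll_away {R : Type u} [CommRing R] (f : R) (A' : Type u) [CommRing A']
    [Algebra R A'] [IsLocalization.Away f A'] : DerCA.IsRelPseudoCoherentModuleAll R A' A' := by
  let α₀ : MvPolynomial (Fin 0) R →ₐ[R] R := (MvPolynomial.isEmptyAlgEquiv R (Fin 0)).toAlgHom
  have hα₀ : Function.Bijective α₀ := (MvPolynomial.isEmptyAlgEquiv R (Fin 0)).bijective
  let g₀ : MvPolynomial (Fin 0) R := MvPolynomial.C f
  have hg₀ : α₀ g₀ = f := by
    exact (MvPolynomial.isEmptyAlgEquiv R (Fin 0)).commutes f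
  haveI : IsLocalization.Away (α₀ g₀) A' := by rw [hg₀]; infer_instance
  have hbij : Function.Bijective (locMap α₀ g₀ A') :=
    ⟨IsLocalization.Away.mapₐ_injective_of_injective g₀ hα₀.1,
      IsLocalization.Away.mapₐ_surjective_of_surjective g₀ hα₀.2⟩
  intro m
  refine ⟨1, locPres α₀ g₀ A', locPres_surjective α₀ g₀ A' hα₀.2, ?_⟩
  rw [via_locPres_iff]
  exact pcHom_of_bijective _ hbij m

end Groth.Agent.Lib.Helper15.RelPC8
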