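import Mathlib
import Groth.Agent.Lib.Helper15.RelPC8
import Groth.Agent.S6985
import Groth.Agent.S2066
import Groth.Prelude.Def_MoreMor

/-!
# Helper15 — RelPC9: pseudo-coherent ring maps as a local property of ring homomorphisms.
-/

open CategoryTheory CategoryTheory.Limits DerivedCategory CategoryTheory.Pretriangulated

namespace Groth.Agent.Lib.Helper15.RelPC9

open Groth.Agent.Lib.Helper16.PC Groth.Agent.Lib.Helper16.RelPC Groth.Agent.Lib.Helper16.RestrictD
  Groth.Agent.Lib.Helper15.RelPC5 Groth.Agent.Lib.Helper15.RelPC7 Groth.Agent.Lib.Helper15.RelPC8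

universe u

attribute [local instance] HasDerivedCategory.standard

section Bridge

variable {A B : Type u} [CommRing A] [CommRing B] [Algebra A B]

theorem pch_iff_relAll :
    MoreMor.IsPseudoCoherentHom A B ↔ DerCA.IsRelPseudoCoherentModuleAll A B B := by
  constructor
  · rintro ⟨n, α, hα, h⟩ m
    refine ⟨n, α, hα, ?_⟩
    have hpc : PCHom (α : MvPolynomial (Fin n) A →+* B) := by
      rw [pcHom_iff]
      intro m'
      exact pc_of_pc' h m'
    exact hpc m
  · intro h
    obtain ⟨n, α, hα, -⟩ := h 0
    have hall : PCHom (α : MvPolynomial (Fin n) A →+* B) :=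
      fun m => (rel_iff_via α hα m _).1 (h m)
    refine ⟨n, α, hα, ?_⟩
    letI := (α : MvPolynomial (Fin n) A →+* B).toAlgebra
    exact (Groth.Agent.S2066.result (Dual.inD (MvPolynomial (Fin n) A) B)).1.1 ((pcHom_iff _).1 hall)

end Bridge

section Single

variable {A : Type u} [CommRing A]

/-- the complex with `M` in degree `0`. -/
noncomputable abbrev sCx (M : ModuleCat.{u} A) : DRing.Cx A :=
  (HomologicalComplex.single (ModuleCat.{u} A) (ComplexShape.up ℤ) 0).obj M

/-- `Q (M[0]) ≅ M[0]`. -/
noncomputable def toDSingleIso (M : ModuleCat.{u} A) :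
    DRing.toD (sCx M) ≅ (singleFunctor (ModuleCat.{u} A) 0).obj M :=
  ((singleFunctorIsoCompQ (ModuleCat.{u} A) 0).app M).symm

variable {A' : Type u} [CommRing A'] [Algebra A A'] [Module.Flat A A']

open Groth.Agent.Lib.Helper16.FlatBC Groth.Agent.Lib.Helper16.LDer in
/-- `Q ((A[0]) ⊗ A') ≅ A'[0]`. -/
noncomputable def toDExtSingleIso :
    DRing.toD ((extCx (algebraMap A A')).obj (sCx (ModuleCat.of A A))) ≅ Dual.inD A' A' :=
  (εQIso (algebraMap A A') _).symm ≪≫ (ε (algebraMap A A')).mapIso (toDSingleIso (ModuleCat.of A A)) ≪≫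
    (inDExtIso (A := A) (B := A') A).symm ≪≫
    (singleFunctor (ModuleCat.{u} A') 0).mapIso
      (TensorProduct.AlgebraTensorModule.rid A A' A').toModuleIso

end Single

section PCH

/-- pseudo-coherent ring homomorphisms, as a property of ring homomorphisms. -/
def PCH {A B : Type u} [CommRing A] [CommRing B] (φ : A →+* B) : Prop :=
  letI := φ.toAlgebra
  MoreMor.IsPseudoCoherentHom A B

variable {A B C : Type u} [CommRing A] [CommRing B] [CommRing C]

lemma toAlgebra_algebraMap [Algebra A B] : (algebraMap A B).toAlgebra = ‹Algebra A B› :=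
  Algebra.algebra_ext _ _ (fun _ => rfl)

lemma pch_algebraMap [Algebra A B] : PCH (algebraMap A B) ↔ MoreMor.IsPseudoCoherentHom A B := by
  unfold PCH
  rw [toAlgebra_algebraMap]

lemma finiteType_of_pch [Algebra A B] (h : MoreMor.IsPseudoCoherentHom A B) :
    Algebra.FiniteType A B := by
  obtain ⟨n, α, hα, -⟩ := h
  exact Algebra.FiniteType.of_surjective α hα

theorem pch_comp (φ : A →+* B) (ψ : B →+* C) (h1 : PCH φ) (h2 : PCH ψ) : PCH (ψ.comp φ) := by
  letI := φ.toAlgebra
  letI := ψ.toAlgebra
  letI : Algebra A C := (ψ.comp φ).toAlgebra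
  haveI : IsScalarTower A B C := .of_algebraMap_eq (fun _ => rfl)
  have h1' : MoreMor.IsPseudoCoherentHom A B := h1
  have h2' : MoreMor.IsPseudoCoherentHom B C := h2
  haveI := finiteType_of_pch h1'
  haveI := finiteType_of_pch h2'
  haveI : Algebra.FiniteType A C := Algebra.FiniteType.trans ‹Algebra.FiniteType A B› ‹_›
  have hB := pch_iff_relAll.1 h1'
  have hC : DerCA.IsRelPseudoCoherentAll B C (Dual.inD C C) := pch_iff_relAll.1 h2'
  have := ((Groth.Agent.S6985.result (R := A) (A := B) (B := C) hB (Dual.inD C C) 0).2).1 hC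
  exact pch_iff_relAll.2 this

theorem pch_away [Algebra A B] (r : A) [IsLocalization.Away r B] : PCH (algebraMap A B) :=
  pch_algebraMap.2 (pch_iff_relAll.2 (relPCModuleAll_away r B))

theorem pch_localizationAwayPreserves : RingHom.LocalizationAwayPreserves @PCH := by
  intro R S _ _ f r R' S' _ _ _ _ _ _ hf
  letI := f.toAlgebra
  letI : Algebra R S' := ((algebraMap S S').comp f).toAlgebra
  haveI : IsScalarTower R S S' := .of_algebraMap_eq (fun _ => rfl)
  letI : Algebra R' S' := (IsLocalization.Away.map R' S' f r).toAlgebra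
  haveI : IsScalarTower R R' S' := .of_algebraMap_eq (fun x => by
    change algebraMap S S' (f x) = IsLocalization.Away.map R' S' f r (algebraMap R R' x)
    exact (IsLocalization.map_eq _ x).symm)
  have h1 : PCH ((algebraMap S S').comp f) := pch_comp f _ hf (pch_away (f r))
  have h1' : MoreMor.IsPseudoCoherentHom R S' := h1
  haveI : Algebra.FiniteType R S' := finiteType_of_pch h1'
  haveI : Algebra.FiniteType R R' := IsLocalization.finiteType_of_monoid_fg (Submonoid.powers r) R'
  haveI : Algebra.FiniteType R' S' := Algebra.FiniteType.of_restrictScalars_finiteType R R' S'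
  have hA := relPCModuleAll_away r R'
  have hC : DerCA.IsRelPseudoCoherentAll R S' (Dual.inD S' S') := pch_iff_relAll.1 h1'
  have := ((Groth.Agent.S6985.result (R := R) (A := R') (B := S') hA (Dual.inD S' S') 0).2).2 hC
  exact pch_iff_relAll.2 this

lemma via_of_iso {R A : Type u} [CommRing R] [CommRing A] [Algebra R A] {n : ℕ}
    {α : MvPolynomial (Fin n) R →ₐ[R] A} {m : ℤ} {K K' : Dual.D A}
    (h : DerCA.IsRelPseudoCoherentVia α m K) (e : K ≅ K') : DerCA.IsRelPseudoCoherentVia α m K' :=
  pc_of_iso h ((DRing.restrictD _).mapIso e)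

lemma rel_of_iso {R A : Type u} [CommRing R] [CommRing A] [Algebra R A] {m : ℤ} {K K' : Dual.D A}
    (h : DerCA.IsRelPseudoCoherent R A m K) (e : K ≅ K') : DerCA.IsRelPseudoCoherent R A m K' := by
  obtain ⟨n, α, hα, hv⟩ := h
  exact ⟨n, α, hα, via_of_iso hv e⟩

theorem pch_ofLocalizationFiniteSpanTarget : RingHom.OfLocalizationFiniteSpanTarget @PCH := by
  intro R S _ _ f s hs h
  letI := f.toAlgebra
  have hft : f.FiniteType := by
    apply RingHom.finiteType_ofLocalizationSpanTarget f (s : Set S) hs
    intro r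
    have hr := h ⟨r.1, r.2⟩
    letI := ((algebraMap S (Localization.Away (r : S))).comp f).toAlgebra
    exact finiteType_of_pch hr
  haveI : Algebra.FiniteType R S := hft
  obtain ⟨n, α, hα⟩ := exists_presentation R S
  let e := s.equivFin
  let F : Fin s.card → S := fun i => (e.symm i).1
  have hF : Ideal.span (Set.range F) = ⊤ := by
    have : Set.range F = (s : Set S) := by
      ext x
      constructor
      · rintro ⟨i, rfl⟩
        exact (e.symm i).2
      · intro hx
        exact ⟨e ⟨x, hx⟩, by simp [F]⟩
    rw [this, hs]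
  have hall : ∀ m, DerCA.IsRelPseudoCoherentVia α m (DRing.toD (sCx (ModuleCat.of S S))) := by
    intro m
    apply via_of_family α hα F hF (fun i => Localization.Away (F i))
    intro i
    have hi := h ⟨F i, (e.symm i).2⟩
    have hi' : MoreMor.IsPseudoCoherentHom R (Localization.Away (F i)) := by
      have hh : ((algebraMap S (Localization.Away (F i))).comp f).toAlgebra =
          (inferInstance : Algebra R (Localization.Away (F i))) :=
        Algebra.algebra_ext _ _ (fun x => (IsScalarTower.algebraMap_apply R S _ x).symm)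
      unfold PCH at hi
      rw [hh] at hi
      exact hi
    have h3 := pch_iff_relAll.1 hi' m
    exact rel_of_iso h3 toDExtSingleIso.symm
  exact pch_iff_relAll.2 (fun m => ⟨n, α, hα, via_of_iso (hall m) (toDSingleIso _)⟩)

theorem pch_stableUnderComposition : RingHom.StableUnderComposition @PCH :=
  fun _ _ _ _ _ _ f g hf hg => pch_comp f g hf hg

theorem pch_holdsForLocalizationAway : RingHom.HoldsForLocalizationAway @PCH :=
  fun _ _ _ _ _ r _ => pch_away r

theorem pch_ofLocalizationSpanTarget : RingHom.OfLocalizationSpanTarget @PCH :=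
  (RingHom.ofLocalizationSpanTarget_iff_finite _).2 pch_ofLocalizationFiniteSpanTarget

theorem pch_isLocal : RingHom.PropertyIsLocal @PCH :=
  ⟨pch_localizationAwayPreserves, pch_ofLocalizationSpanTarget,
    pch_ofLocalizationSpanTarget.ofLocalizationSpan
      (pch_stableUnderComposition.stableUnderCompositionWithLocalizationAway
        pch_holdsForLocalizationAway).left,
    (pch_stableUnderComposition.stableUnderCompositionWithLocalizationAway
      pch_holdsForLocalizationAway).right⟩

end PCH

section Scheme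

open AlgebraicGeometry

instance : HasRingHomProperty (affineLocally @PCH) @PCH := ⟨pch_isLocal, rfl⟩

theorem isPseudoCoherentMor_iff {X Y : Scheme.{u}} (f : X ⟶ Y) :
    MoreMor.IsPseudoCoherentMor f ↔ affineLocally @PCH f := by
  rw [HasRingHomProperty.iff_appLE (P := affineLocally @PCH)]
  constructor
  · intro h V U e
    exact h U.1 V.1 U.2 V.2 e
  · intro h U V hU hV e
    exact h ⟨V, hV⟩ ⟨U, hU⟩ e

theorem isPseudoCoherentMor_comp {X Y Z : Scheme.{u}} (f : X ⟶ Y) (g : Y ⟶ Z)
    (hf : MoreMor.IsPseudoCoherentMor f) (hg : MoreMor.IsPseudoCoherentMor g) :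
    MoreMor.IsPseudoCoherentMor (f ≫ g) := by
  rw [isPseudoCoherentMor_iff] at hf hg ⊢
  haveI := HasRingHomProperty.stableUnderComposition (P := affineLocally @PCH)
    pch_stableUnderComposition
  exact MorphismProperty.comp_mem _ f g hf hg

end Scheme

end Groth.Agent.Lib.Helper15.RelPC9
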