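import Mathlib
import Groth.Agent.Lib.Helper15.RelPC9
import Groth.Agent.S6941

/-!
# Helper15 — RelPC10: pseudo-coherent ring maps codescend along faithfully flat ring maps;
pseudo-coherent morphisms descend along fpqc base change.
-/

open CategoryTheory CategoryTheory.Limits DerivedCategory CategoryTheory.Pretriangulated

namespace Groth.Agent.Lib.Helper15.RelPC10

open Groth.Agent.Lib.Helper16.PC Groth.Agent.Lib.Helper16.RelPC Groth.Agent.Lib.Helper16.RestrictD
  Groth.Agent.Lib.Helper16.FlatBC Groth.Agent.Lib.Helper16.LDer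
  Groth.Agent.Lib.Helper15.RelPC6 Groth.Agent.Lib.Helper15.RelPC9

universe u

attribute [local instance] HasDerivedCategory.standard
attribute [local instance] MvPolynomial.algebraMvPolynomial

section Ring

variable {R S R' S' : Type u} [CommRing R] [CommRing S] [CommRing R'] [CommRing S']
  [Algebra R S] [Algebra R R'] [Algebra R S'] [Algebra S S'] [Algebra R' S']
  [IsScalarTower R S S'] [IsScalarTower R R' S']

/-- the base-changed presentation. -/
noncomputable def bcPres {n : ℕ} (α : MvPolynomial (Fin n) R →ₐ[R] S) :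
    MvPolynomial (Fin n) R' →ₐ[R'] S' :=
  MvPolynomial.aeval (fun i => algebraMap S S' (α (MvPolynomial.X i)))

lemma bcPres_map {n : ℕ} (α : MvPolynomial (Fin n) R →ₐ[R] S) (p : MvPolynomial (Fin n) R) :
    bcPres (R' := R') (S' := S') α (MvPolynomial.map (algebraMap R R') p) =
      algebraMap S S' (α p) := by
  have : ((bcPres (R' := R') (S' := S') α : MvPolynomial (Fin n) R' →+* S').comp
      (MvPolynomial.map (algebraMap R R'))) =
      (algebraMap S S').comp (α : MvPolynomial (Fin n) R →+* S) := by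
    apply MvPolynomial.ringHom_ext
    · intro r
      simp only [RingHom.comp_apply, MvPolynomial.map_C, RingHom.coe_coe, bcPres,
        MvPolynomial.aeval_C]
      rw [← MvPolynomial.algebraMap_eq, α.commutes, ← IsScalarTower.algebraMap_apply,
        ← IsScalarTower.algebraMap_apply]
    · intro i
      simp [bcPres]
  exact RingHom.congr_fun this p

lemma bcPres_surjective [Algebra.IsPushout R S R' S'] {n : ℕ}
    (α : MvPolynomial (Fin n) R →ₐ[R] S) (hα : Function.Surjective α) :
    Function.Surjective (bcPres (R' := R') (S' := S') α) := by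
  intro y
  have hb : IsBaseChange S (IsScalarTower.toAlgHom R R' S').toLinearMap :=
    Algebra.IsPushout.out
  induction y using hb.inductionOn with
  | zero => exact ⟨0, map_zero _⟩
  | tmul m =>
    refine ⟨MvPolynomial.C m, ?_⟩
    simp [bcPres]
  | smul s y ih =>
    obtain ⟨q, rfl⟩ := ih
    obtain ⟨p, rfl⟩ := hα s
    refine ⟨MvPolynomial.map (algebraMap R R') p * q, ?_⟩
    rw [map_mul, bcPres_map, Algebra.smul_def]
  | add y₁ y₂ h₁ h₂ =>
    obtain ⟨q₁, rfl⟩ := h₁
    obtain ⟨q₂, rfl⟩ := h₂
    exact ⟨q₁ + q₂, map_add _ _ _⟩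

theorem pch_codescends [Algebra.IsPushout R S R' S'] [Module.FaithfullyFlat R R']
    (h : MoreMor.IsPseudoCoherentHom R' S') : MoreMor.IsPseudoCoherentHom R S := by
  haveI : Algebra.FiniteType R' S' := finiteType_of_pch h
  haveI : Algebra.FiniteType R S := by
    have h1 : (algebraMap R R').FaithfullyFlat :=
      RingHom.faithfullyFlat_algebraMap_iff.2 inferInstance
    have h2 : (algebraMap R' S').FiniteType := RingHom.finiteType_algebraMap.2 inferInstance
    exact RingHom.finiteType_algebraMap.1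
      (RingHom.FiniteType.codescendsAlong_faithfullyFlat (R := R) (S := S) (R' := R') (S' := S')
        h1 h2)
  obtain ⟨n, α, hα⟩ := exists_presentation R S
  let α' : MvPolynomial (Fin n) R' →ₐ[R'] S' := bcPres α
  have hα' : Function.Surjective α' := bcPres_surjective α hα
  letI : Algebra (MvPolynomial (Fin n) R) S := (α : MvPolynomial (Fin n) R →+* S).toAlgebra
  letI : Algebra (MvPolynomial (Fin n) R') S' := (α' : MvPolynomial (Fin n) R' →+* S').toAlgebra
  letI : Algebra (MvPolynomial (Fin n) R) S' :=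
    ((algebraMap S S').comp (α : MvPolynomial (Fin n) R →+* S)).toAlgebra
  haveI : IsScalarTower (MvPolynomial (Fin n) R) S S' := .of_algebraMap_eq (fun _ => rfl)
  haveI : IsScalarTower (MvPolynomial (Fin n) R) (MvPolynomial (Fin n) R') S' :=
    .of_algebraMap_eq (fun x => (bcPres_map α x).symm)
  haveI : IsScalarTower R (MvPolynomial (Fin n) R) S :=
    .of_algebraMap_eq (fun x => (α.commutes x).symm)
  haveI : IsScalarTower R' (MvPolynomial (Fin n) R') S' :=
    .of_algebraMap_eq (fun x => (α'.commutes x).symm)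
  haveI : IsScalarTower R (MvPolynomial (Fin n) R') S' := .of_algebraMap_eq (fun x => by
    rw [IsScalarTower.algebraMap_apply R R' S', IsScalarTower.algebraMap_apply R R' (MvPolynomial (Fin n) R')]
    exact (α'.commutes _).symm)
  haveI : Algebra.IsPushout (MvPolynomial (Fin n) R) S (MvPolynomial (Fin n) R') S' :=
    (Algebra.IsPushout.comp_iff R (MvPolynomial (Fin n) R) R' (MvPolynomial (Fin n) R')
      (T := S) (T' := S')).1 inferInstance
  haveI : Algebra.IsPushout (MvPolynomial (Fin n) R) (MvPolynomial (Fin n) R') S S' :=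
    Algebra.IsPushout.symm inferInstance
  haveI : Module.FaithfullyFlat (MvPolynomial (Fin n) R) (MvPolynomial (Fin n) R') :=
    Module.FaithfullyFlat.of_linearEquiv _ _
      (Algebra.IsPushout.equiv R (MvPolynomial (Fin n) R) R' (MvPolynomial (Fin n) R')).symm.toLinearEquiv
  haveI : Module.Flat S S' :=
    Module.Flat.of_linearEquiv (Algebra.IsPushout.equiv R S R' S').symm.toLinearEquiv
  refine pch_iff_relAll.2 (fun m => ⟨n, α, hα, ?_⟩)
  have h1 : DerCA.IsRelPseudoCoherentVia α' m (Dual.inD S' S') :=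
    (rel_iff_via α' hα' m _).1 (pch_iff_relAll.1 h m)
  let K₀ : DRing.Cx S := sCx (ModuleCat.of S S)
  have h2 : DerCA.IsRelPseudoCoherentVia α' m
      (DRing.toD ((extCx (algebraMap S S')).obj K₀)) := via_of_iso h1 toDExtSingleIso.symm
  have h3 : DRing.IsPseudoCoherent (MvPolynomial (Fin n) R') m
      (DRing.toD (((ModuleCat.extendScalars (algebraMap (MvPolynomial (Fin n) R)
        (MvPolynomial (Fin n) R'))).mapHomologicalComplex (ComplexShape.up ℤ)).obj
        (((ModuleCat.restrictScalars.{u} (algebraMap (MvPolynomial (Fin n) R) S)).mapHomologicalComplex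
          (ComplexShape.up ℤ)).obj K₀))) :=
    pc_of_iso h2 (restrictQIso _ _ ≪≫
      (Q.mapIso (sqCxIso (MvPolynomial (Fin n) R) (MvPolynomial (Fin n) R') S' K₀)).symm)
  have h4 := (Groth.Agent.S6941.result (R := MvPolynomial (Fin n) R)
    (R' := MvPolynomial (Fin n) R') _ m).1 h3
  exact via_of_iso (K := DRing.toD K₀) (pc_of_iso h4 (restrictQIso _ K₀).symm) (toDSingleIso _)

theorem pch_codescendsAlong : RingHom.CodescendsAlong @PCH RingHom.FaithfullyFlat := by
  intro R S R' S' _ _ _ _ _ _ _ _ _ _ _ _ hff h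
  haveI : Module.FaithfullyFlat R R' := RingHom.faithfullyFlat_algebraMap_iff.1 hff
  exact pch_algebraMap.2 (pch_codescends (pch_algebraMap.1 h))

end Ring

section Scheme

open AlgebraicGeometry MorphismProperty

variable (P P' : MorphismProperty Scheme.{u})

/-- a property local at the target is stable under base change along local isomorphisms. -/
lemma pullback_fst_of_isLocalIso [IsZariskiLocalAtTarget P] {X T X' : Scheme.{u}} (p : T ⟶ X)
    (hp : IsLocalIso p) (h : X' ⟶ X) (hP : P h) : P (pullback.fst p h) := by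
  obtain ⟨𝒰, h𝒰⟩ : sourceLocalClosure IsOpenImmersion IsOpenImmersion p :=
    IsLocalIso.eq_sourceLocalClosure_isOpenImmersion ▸ hp
  rw [IsZariskiLocalAtTarget.iff_of_openCover (P := P) 𝒰]
  intro i
  haveI : IsOpenImmersion (𝒰.f i ≫ p) := h𝒰 i
  have hpb : IsPullback (pullback.fst (pullback.fst p h) (𝒰.f i) ≫ pullback.snd p h)
      (pullback.snd (pullback.fst p h) (𝒰.f i)) h (𝒰.f i ≫ p) :=
    (IsPullback.paste_vert (IsPullback.of_hasPullback (pullback.fst p h) (𝒰.f i)).flip
      (IsPullback.of_hasPullback p h)).flip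
  exact IsZariskiLocalAtTarget.of_isPullback hpb hP

variable [P'.IsStableUnderBaseChange] [P'.IsStableUnderComposition]
variable (Q Q' : ∀ {R S : Type u} [CommRing R] [CommRing S], (R →+* S) → Prop)
variable
  (H₁ : (@IsLocalIso ⊓ @Surjective : MorphismProperty Scheme) ≤ P')
  (H₂ : ∀ {R S : CommRingCat.{u}} {f : R ⟶ S}, P' (Spec.map f) → Q' f.hom)

set_option backward.isDefEq.respectTransparency.types false in
include H₁ in
lemma descendsAlong_inf_quasiCompact' [IsZariskiLocalAtTarget P]
    (H : ∀ {R S : CommRingCat.{u}} {Y : Scheme.{u}} (φ : R ⟶ S) (g : Y ⟶ Spec R),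
      P' (Spec.map φ) → P (pullback.fst (Spec.map φ) g) → P g) :
    P.DescendsAlong (P' ⊓ @QuasiCompact) := by
  apply IsZariskiLocalAtTarget.descendsAlong
  intro R X Y f g hf h
  wlog hX : ∃ T, X = Spec T generalizing X
  · have _ : CompactSpace X := by simpa [← quasiCompact_iff_compactSpace f] using hf.2
    obtain ⟨Y, p, hsurj, hP', hY⟩ := X.exists_hom_isAffine_of_isZariskiLocalAtSource @IsLocalIso
    refine this (f := (Y.isoSpec.inv ≫ p) ≫ f) ?_ ?_ ⟨_, rfl⟩
    · rw [Category.assoc, (P' ⊓ @QuasiCompact).cancel_left_of_respectsIso]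
      exact ⟨P'.comp_mem _ _ (H₁ _ ⟨hP', hsurj⟩) hf.1, inferInstance⟩
    · rw [← pullbackRightPullbackFstIso_inv_fst f g _, P.cancel_left_of_respectsIso]
      exact pullback_fst_of_isLocalIso P _
        ((MorphismProperty.cancel_left_of_respectsIso @IsLocalIso _ _).2 hP') _ h
  obtain ⟨T, rfl⟩ := hX
  obtain ⟨φ, rfl⟩ := Spec.map_surjective f
  exact H φ g hf.1 h

include H₁ H₂ in
lemma descendsAlong' [HasRingHomProperty P Q]
    (hQQ' : RingHom.CodescendsAlong Q Q') :
    P.DescendsAlong (P' ⊓ @QuasiCompact) := by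
  apply descendsAlong_inf_quasiCompact' _ _ H₁
  introv h hf
  wlog hY : ∃ S, Y = Spec S generalizing Y
  · rw [IsZariskiLocalAtSource.iff_of_openCover (P := P) Y.affineCover]
    intro i
    have heq : pullback.fst (Spec.map φ) (Y.affineCover.f i ≫ g) =
        pullback.map _ _ _ _ (𝟙 _) (Y.affineCover.f i) (𝟙 _) (by simp) (by simp) ≫
          pullback.fst (Spec.map φ) g := (pullback.lift_fst _ _ _).symm
    exact this _ (heq ▸ AlgebraicGeometry.IsZariskiLocalAtSource.comp hf _) ⟨_, rfl⟩
  obtain ⟨S, rfl⟩ := hY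
  apply of_pullback_fst_Spec_of_codescendsAlong _ _ hQQ' H₂ _ h hf
  simp [HasRingHomProperty.Spec_iff (P := P)]

set_option backward.isDefEq.respectTransparency.types false in
lemma descendsAlong_flat' {P : MorphismProperty Scheme.{u}}
    {Q : ∀ {R S : Type u} [CommRing R] [CommRing S], (R →+* S) → Prop}
    [HasRingHomProperty P Q] (h : RingHom.CodescendsAlong Q RingHom.FaithfullyFlat) :
    P.DescendsAlong (@Surjective ⊓ @Flat ⊓ @QuasiCompact) := by
  refine descendsAlong' _ _ _ _ ?_ ?_ h
  · rw [inf_comm]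
    gcongr
    exact IsLocalIso.le_of_isZariskiLocalAtSource @Flat
  · intro R S f ⟨hf₁, hf₂⟩
    rw [RingHom.FaithfullyFlat.iff_flat_and_comap_surjective]
    refine ⟨?_, (Spec.map f).surjective⟩
    rwa [HasRingHomProperty.Spec_iff (P := @Flat)] at hf₂

theorem isPseudoCoherentMor_descends {X S X' S' : Scheme.{u}} (f : X ⟶ S) (f' : X' ⟶ S')
    (g' : X' ⟶ X) (g : S' ⟶ S) [Flat g] [Surjective g] [QuasiCompact g]
    (hc : IsPullback g' f' f g) (hf' : MoreMor.IsPseudoCoherentMor f') :
    MoreMor.IsPseudoCoherentMor f := by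
  rw [isPseudoCoherentMor_iff] at hf' ⊢
  haveI := descendsAlong_flat' (P := affineLocally @PCH) pch_codescendsAlong
  exact MorphismProperty.of_isPullback_of_descendsAlong
    (Q := @Surjective ⊓ @Flat ⊓ @QuasiCompact) hc.flip
    ⟨⟨inferInstance, inferInstance⟩, inferInstance⟩ hf'

end Scheme

end Groth.Agent.Lib.Helper15.RelPC10
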