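import Mathlib
import Groth.Agent.Lib.Helper15.RelPC10
import Groth.Agent.Lib.Helper16.TorBal8
import Groth.Agent.S6946
import Groth.Agent.S6947
import Groth.Agent.S6950

/-!
# Helper15 — RelPC11: ring maps of finite tor dimension and perfect ring maps as local properties.
-/

open CategoryTheory CategoryTheory.Limits DerivedCategory CategoryTheory.Pretriangulated

namespace Groth.Agent.Lib.Helper15.RelPC11

open Groth.Agent.Lib.Helper16.PC Groth.Agent.Lib.Helper16.RelPC Groth.Agent.Lib.Helper16.RestrictD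
  Groth.Agent.Lib.Helper16.FlatBC Groth.Agent.Lib.Helper16.LDer
  Groth.Agent.Lib.Helper16.TorAmp Groth.Agent.Lib.Helper16.TorBal
  Groth.Agent.Lib.Helper15.RelPC6 Groth.Agent.Lib.Helper15.RelPC9 Groth.Agent.Lib.Helper15.RelPC10

universe u

attribute [local instance] HasDerivedCategory.standard

section Modules

open TensorProduct

variable {A B : Type u} [CommRing A] [CommRing B] [Algebra A B]

/-- exactness of `B ⊗_A -` is local on `B`. -/
theorem exact_lTensor_of_localized_span
    {X Y Z : Type u} [AddCommGroup X] [Module A X] [AddCommGroup Y] [Module A Y]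
    [AddCommGroup Z] [Module A Z] (f : X →ₗ[A] Y) (g : Y →ₗ[A] Z)
    (s : Set B) (spn : Ideal.span s = ⊤)
    (Bₛ : ∀ _ : s, Type u) [∀ r : s, CommRing (Bₛ r)] [∀ r : s, Algebra B (Bₛ r)]
    [∀ r : s, Algebra A (Bₛ r)] [∀ r : s, IsScalarTower A B (Bₛ r)]
    [∀ r : s, IsLocalization.Away r.1 (Bₛ r)]
    (H : ∀ r : s, Function.Exact (f.lTensor (Bₛ r)) (g.lTensor (Bₛ r))) :
    Function.Exact (f.lTensor B) (g.lTensor B) := by
  simp_rw [← AlgebraTensorModule.coe_lTensor (A := B)] at H ⊢
  refine _root_.exact_of_isLocalized_span s spn _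
    (fun r ↦ AlgebraTensorModule.rTensor A _ (Algebra.linearMap B (Bₛ r))) _
    (fun r ↦ AlgebraTensorModule.rTensor A _ (Algebra.linearMap B (Bₛ r))) _
    (fun r ↦ AlgebraTensorModule.rTensor A _ (Algebra.linearMap B (Bₛ r))) _ _ fun r ↦ ?_
  simpa [IsLocalizedModule.map_lTensor] using H r

end Modules

section TorDim

variable {A B : Type u} [CommRing A] [CommRing B] [Algebra A B]

lemma hasTorDimLE_mono {d d' : ℕ} (hdd : d ≤ d') (M : Type u) [AddCommGroup M] [Module A M]
    (h : DRing.HasTorDimLE A d M) : DRing.HasTorDimLE A d' M :=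
  fun N _ _ p hp => h N p (by omega)

/-- tor dimension of an `A`-algebra `B` is local on `B`. -/
theorem hasTorDimLE_of_localized_span (d : ℕ) (s : Set B) (spn : Ideal.span s = ⊤)
    (Bₛ : ∀ _ : s, Type u) [∀ r : s, CommRing (Bₛ r)] [∀ r : s, Algebra B (Bₛ r)]
    [∀ r : s, Algebra A (Bₛ r)] [∀ r : s, IsScalarTower A B (Bₛ r)]
    [∀ r : s, IsLocalization.Away r.1 (Bₛ r)]
    (h : ∀ r : s, DRing.HasTorDimLE A d (Bₛ r)) : DRing.HasTorDimLE A d B := by
  rw [hasTorDimLE_iff_torVan]
  intro M p hp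
  obtain ⟨q, rfl⟩ : ∃ q, p = q + 1 := ⟨p - 1, by omega⟩
  have hq : (-((q + 1 : ℕ) : ℤ)) = -((q : ℤ) + 1) := by push_cast; ring
  rw [hq, torVan_symm q]
  obtain ⟨Y, hY, hproj, ⟨e⟩⟩ := exists_resolution M
  rw [torVan_iff M _ _ Y 0 hY hproj e,
    exactAt_tensCx_iff _ Y (-((q : ℤ) + 1) - 1) _ (-((q : ℤ) + 1) + 1) (by omega) (by omega)]
  have hr : ∀ r : s, Function.Exact
      ((Y.d (-((q : ℤ) + 1) - 1) (-((q : ℤ) + 1))).hom.rTensor (Bₛ r))
      ((Y.d (-((q : ℤ) + 1)) (-((q : ℤ) + 1) + 1)).hom.rTensor (Bₛ r)) := by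
    intro r
    have h1 := (hasTorDimLE_iff_torVan (Bₛ r) d).1 (h r) M (q + 1) hp
    rw [hq, torVan_symm q, torVan_iff M _ _ Y 0 hY hproj e,
      exactAt_tensCx_iff _ Y (-((q : ℤ) + 1) - 1) _ (-((q : ℤ) + 1) + 1) (by omega) (by omega)] at h1
    exact h1
  set f := (Y.d (-((q : ℤ) + 1) - 1) (-((q : ℤ) + 1))).hom with hf
  set g := (Y.d (-((q : ℤ) + 1)) (-((q : ℤ) + 1) + 1)).hom with hg
  have hl : ∀ r : s, Function.Exact (f.lTensor (Bₛ r)) (g.lTensor (Bₛ r)) := fun r =>
    exact_of_ladder _ _ _ _ (TensorProduct.comm A _ (Bₛ r)).toEquiv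
      (TensorProduct.comm A _ (Bₛ r)).toEquiv
      (TensorProduct.comm A _ (Bₛ r)).toAddEquiv
      (fun x => comm_rTensor f (Bₛ r) x) (fun x => comm_rTensor g (Bₛ r) x) (hr r)
  have h2 := exact_lTensor_of_localized_span f g s spn Bₛ hl
  exact exact_of_ladder _ _ _ _ (TensorProduct.comm A B _).toEquiv (TensorProduct.comm A B _).toEquiv
      (TensorProduct.comm A B _).toAddEquiv
      (fun x => comm_lTensor f B x) (fun x => comm_lTensor g B x) h2

end TorDim

section Trans

variable {A B C : Type u} [CommRing A] [CommRing B] [CommRing C] [Algebra A B] [Algebra B C]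
  [Algebra A C] [IsScalarTower A B C]

/-- `C` as a `B`-module restricted to `A` is `C` as an `A`-module. -/
noncomputable def restrictLinearEquiv' :
    C ≃ₗ[A] ((ModuleCat.restrictScalars.{u} (algebraMap A B)).obj (ModuleCat.of B C)) where
  toFun := fun x => x
  invFun := fun x => x
  left_inv := fun _ => rfl
  right_inv := fun _ => rfl
  map_add' := fun _ _ => rfl
  map_smul' := fun a x => (algebraMap_smul B a x).symm

/-- `C` as a `B`-module restricted to `A` is `C` as an `A`-module. -/
noncomputable def restrictOfIso :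
    (ModuleCat.restrictScalars.{u} (algebraMap A B)).obj (ModuleCat.of B C) ≅ ModuleCat.of A C :=
  (LinearEquiv.toModuleIso (restrictLinearEquiv' (A := A) (B := B) (C := C))).symm

/-- `ρ (C[0]) ≅ C[0]`. -/
noncomputable def restrictInDIso' :
    (DRing.restrictD (algebraMap A B)).obj (Dual.inD B C) ≅ Dual.inD A C :=
  ((ModuleCat.restrictScalars.{u} (algebraMap A B)).mapDerivedCategorySingleFunctor 0).app
      (ModuleCat.of B C) ≪≫
    (singleFunctor (ModuleCat.{u} A) 0).mapIso (restrictOfIso (A := A) (B := B) (C := C))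

theorem hasFiniteTorDim_trans (h1 : DRing.HasFiniteTorDim A B) (h2 : DRing.HasFiniteTorDim B C) :
    DRing.HasFiniteTorDim A C := by
  obtain ⟨d, hd⟩ := h1
  obtain ⟨e, he⟩ := h2
  refine ⟨e + d, ?_⟩
  rw [hasTorDimLE_iff_torAmp] at hd he ⊢
  have h3 := torAmp_restrict d hd (Dual.inD B C) (-(e : ℤ)) 0 he
  have h4 := hasTorAmplitudeIn_of_iso (restrictInDIso' (A := A) (B := B) (C := C)) _ _ h3
  have : (-((e + d : ℕ) : ℤ)) = -(e : ℤ) - d := by push_cast; ring
  rw [this]
  exact h4

end Trans

section BaseChange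

variable {R S R' S' : Type u} [CommRing R] [CommRing S] [CommRing R'] [CommRing S']
  [Algebra R S] [Algebra R R'] [Algebra R S'] [Algebra S S'] [Algebra R' S']
  [IsScalarTower R S S'] [IsScalarTower R R' S'] [Algebra.IsPushout R S R' S']

/-- `ε (S[0]) ≅ S'[0]` in a pushout square with `R → R'` flat. -/
noncomputable def εInDPushoutIso [Module.Flat R R'] :
    (ε (algebraMap R R')).obj (Dual.inD R S) ≅ Dual.inD R' S' :=
  haveI : Algebra.IsPushout R R' S S' := Algebra.IsPushout.symm inferInstance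
  (inDExtIso (A := R) (B := R') S).symm ≪≫
    (singleFunctor (ModuleCat.{u} R') 0).mapIso
      ((Algebra.IsPushout.equiv R R' S S').toLinearEquiv.toModuleIso)

theorem hasTorDimLE_baseChange [Module.Flat R R'] (d : ℕ) (h : DRing.HasTorDimLE R d S) :
    DRing.HasTorDimLE R' d S' := by
  rw [hasTorDimLE_iff_torAmp] at h ⊢
  exact hasTorAmplitudeIn_of_iso (εInDPushoutIso (R := R) (S := S) (R' := R') (S' := S')) _ _
    (torAmp_ε (algebraMap R R') _ _ _ h)

theorem hasTorDimLE_codescend [Module.FaithfullyFlat R R'] (d : ℕ)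
    (h : DRing.HasTorDimLE R' d S') : DRing.HasTorDimLE R d S := by
  rw [hasTorDimLE_iff_torAmp] at h ⊢
  have h1 : DRing.HasTorAmplitudeIn R' (-(d : ℤ)) 0
      (DRing.toD ((extCx (algebraMap R R')).obj (sCx (ModuleCat.of R S)))) :=
    hasTorAmplitudeIn_of_iso
      ((εInDPushoutIso (R := R) (S := S) (R' := R') (S' := S')).symm ≪≫
        (ε (algebraMap R R')).mapIso (toDSingleIso (ModuleCat.of R S)).symm ≪≫
        εQIso (algebraMap R R') _) _ _ h
  have h2 := Groth.Agent.S6950.result (R := R) (R' := R') (sCx (ModuleCat.of R S)) (-(d : ℤ)) 0 h1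
  exact hasTorAmplitudeIn_of_iso (toDSingleIso (ModuleCat.of R S)) _ _ h2

end BaseChange

section FTD

/-- ring homomorphisms of finite tor dimension. -/
def FTD {A B : Type u} [CommRing A] [CommRing B] (φ : A →+* B) : Prop :=
  letI := φ.toAlgebra
  DRing.HasFiniteTorDim A B

variable {A B C : Type u} [CommRing A] [CommRing B] [CommRing C]

lemma ftd_algebraMap [Algebra A B] : FTD (algebraMap A B) ↔ DRing.HasFiniteTorDim A B := by
  unfold FTD
  rw [RelPC9.toAlgebra_algebraMap]

theorem ftd_comp (φ : A →+* B) (ψ : B →+* C) (h1 : FTD φ) (h2 : FTD ψ) : FTD (ψ.comp φ) := by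
  letI := φ.toAlgebra
  letI := ψ.toAlgebra
  letI : Algebra A C := (ψ.comp φ).toAlgebra
  haveI : IsScalarTower A B C := .of_algebraMap_eq (fun _ => rfl)
  exact hasFiniteTorDim_trans (A := A) (B := B) (C := C) h1 h2

theorem ftd_of_flat [Algebra A B] [Module.Flat A B] : FTD (algebraMap A B) :=
  ftd_algebraMap.2 ⟨0, (Groth.Agent.S6946.result A B 0).2.2 inferInstance⟩

theorem ftd_away [Algebra A B] (r : A) [IsLocalization.Away r B] : FTD (algebraMap A B) :=
  haveI : Module.Flat A B := IsLocalization.flat B (Submonoid.powers r)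
  ftd_of_flat

theorem ftd_stableUnderComposition : RingHom.StableUnderComposition @FTD :=
  fun _ _ _ _ _ _ f g hf hg => ftd_comp f g hf hg

theorem ftd_holdsForLocalizationAway : RingHom.HoldsForLocalizationAway @FTD :=
  fun _ _ _ _ _ r _ => ftd_away r

theorem ftd_localizationAwayPreserves : RingHom.LocalizationAwayPreserves @FTD := by
  intro R S _ _ f r R' S' _ _ _ _ _ _ hf
  letI := f.toAlgebra
  letI : Algebra R S' := ((algebraMap S S').comp f).toAlgebra
  haveI : IsScalarTower R S S' := .of_algebraMap_eq (fun _ => rfl)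
  letI : Algebra R' S' := (IsLocalization.Away.map R' S' f r).toAlgebra
  haveI : IsScalarTower R R' S' := .of_algebraMap_eq (fun x => by
    change algebraMap S S' (f x) = IsLocalization.Away.map R' S' f r (algebraMap R R' x)
    exact (IsLocalization.map_eq _ x).symm)
  haveI : IsLocalization.Away (algebraMap R S r) S' := (inferInstance : IsLocalization.Away (f r) S')
  haveI : Algebra.IsPushout R S R' S' :=
    Algebra.isPushout_of_isLocalization (Submonoid.powers r) R' S S'
  haveI : Module.Flat R R' := IsLocalization.flat R' (Submonoid.powers r)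
  obtain ⟨d, hd⟩ := (hf : DRing.HasFiniteTorDim R S)
  exact ⟨d, hasTorDimLE_baseChange (R := R) (S := S) (R' := R') (S' := S') d hd⟩

theorem ftd_ofLocalizationFiniteSpanTarget : RingHom.OfLocalizationFiniteSpanTarget @FTD := by
  intro R S _ _ f s hs h
  letI := f.toAlgebra
  have hd : ∀ r : s, ∃ d : ℕ, DRing.HasTorDimLE R d (Localization.Away (r : S)) := by
    intro r
    have hr := h r
    have hh : ((algebraMap S (Localization.Away (r : S))).comp f).toAlgebra =
        (inferInstance : Algebra R (Localization.Away (r : S))) :=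
      Algebra.algebra_ext _ _ (fun x => (IsScalarTower.algebraMap_apply R S _ x).symm)
    unfold FTD at hr
    rw [hh] at hr
    exact hr
  choose d hd using hd
  refine ⟨Finset.univ.sup d, ?_⟩
  apply hasTorDimLE_of_localized_span (A := R) (B := S) _ (s : Set S) hs
    (fun r => Localization.Away (r : S))
  intro r
  exact hasTorDimLE_mono (Finset.le_sup (Finset.mem_univ r)) _ (hd r)

theorem ftd_ofLocalizationSpanTarget : RingHom.OfLocalizationSpanTarget @FTD :=
  (RingHom.ofLocalizationSpanTarget_iff_finite _).2 ftd_ofLocalizationFiniteSpanTarget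

theorem ftd_isLocal : RingHom.PropertyIsLocal @FTD :=
  ⟨ftd_localizationAwayPreserves, ftd_ofLocalizationSpanTarget,
    ftd_ofLocalizationSpanTarget.ofLocalizationSpan
      (ftd_stableUnderComposition.stableUnderCompositionWithLocalizationAway
        ftd_holdsForLocalizationAway).left,
    (ftd_stableUnderComposition.stableUnderCompositionWithLocalizationAway
      ftd_holdsForLocalizationAway).right⟩

theorem ftd_codescendsAlong : RingHom.CodescendsAlong @FTD RingHom.FaithfullyFlat := by
  intro R S R' S' _ _ _ _ _ _ _ _ _ _ _ _ hff h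
  haveI : Module.FaithfullyFlat R R' := RingHom.faithfullyFlat_algebraMap_iff.1 hff
  obtain ⟨d, hd⟩ := ftd_algebraMap.1 h
  exact ftd_algebraMap.2 ⟨d, hasTorDimLE_codescend (R := R) (S := S) (R' := R') (S' := S') d hd⟩

end FTD

section Perf

/-- perfect ring homomorphisms. -/
def PerfH {A B : Type u} [CommRing A] [CommRing B] (φ : A →+* B) : Prop := PCH φ ∧ FTD φ

lemma perfH_iff {A B : Type u} [CommRing A] [CommRing B] (φ : A →+* B) :
    PerfH φ ↔ (letI := φ.toAlgebra; MoreMor.IsPerfectHom A B) := Iff.rfl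

theorem perfH_isLocal : RingHom.PropertyIsLocal @PerfH := pch_isLocal.and ftd_isLocal

theorem perfH_stableUnderComposition : RingHom.StableUnderComposition @PerfH :=
  pch_stableUnderComposition.and ftd_stableUnderComposition

theorem perfH_codescendsAlong : RingHom.CodescendsAlong @PerfH RingHom.FaithfullyFlat :=
  pch_codescendsAlong.and ftd_codescendsAlong

end Perf

section Scheme

open AlgebraicGeometry MorphismProperty

instance : HasRingHomProperty (affineLocally @PerfH) @PerfH := ⟨perfH_isLocal, rfl⟩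

theorem isPerfectMor_iff {X Y : Scheme.{u}} (f : X ⟶ Y) :
    MoreMor.IsPerfectMor f ↔ affineLocally @PerfH f := by
  rw [HasRingHomProperty.iff_appLE (P := affineLocally @PerfH)]
  constructor
  · intro h V U e
    exact h U.1 V.1 U.2 V.2 e
  · intro h U V hU hV e
    exact h ⟨V, hV⟩ ⟨U, hU⟩ e

theorem isPerfectMor_comp {X Y Z : Scheme.{u}} (f : X ⟶ Y) (g : Y ⟶ Z)
    (hf : MoreMor.IsPerfectMor f) (hg : MoreMor.IsPerfectMor g) :
    MoreMor.IsPerfectMor (f ≫ g) := by
  rw [isPerfectMor_iff] at hf hg ⊢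
  haveI := HasRingHomProperty.stableUnderComposition (P := affineLocally @PerfH)
    perfH_stableUnderComposition
  exact MorphismProperty.comp_mem _ f g hf hg

theorem isPerfectMor_descends {X S X' S' : Scheme.{u}} (f : X ⟶ S) (f' : X' ⟶ S')
    (g' : X' ⟶ X) (g : S' ⟶ S) [Flat g] [Surjective g] [QuasiCompact g]
    (hc : IsPullback g' f' f g) (hf' : MoreMor.IsPerfectMor f') :
    MoreMor.IsPerfectMor f := by
  rw [isPerfectMor_iff] at hf' ⊢
  haveI := descendsAlong_flat' (P := affineLocally @PerfH) perfH_codescendsAlong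
  exact MorphismProperty.of_isPullback_of_descendsAlong
    (Q := @Surjective ⊓ @Flat ⊓ @QuasiCompact) hc.flip
    ⟨⟨inferInstance, inferInstance⟩, inferInstance⟩ hf'

end Scheme

end Groth.Agent.Lib.Helper15.RelPC11
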