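import Mathlib
import Groth.Agent.Lib.Helper15.RelPC11

/-!
# Helper15 — RelPC12: flat base change of pseudo-coherent / perfect ring maps and morphisms.
-/

open CategoryTheory CategoryTheory.Limits DerivedCategory CategoryTheory.Pretriangulated

namespace Groth.Agent.Lib.Helper15.RelPC12

open Groth.Agent.Lib.Helper16.PC Groth.Agent.Lib.Helper16.RelPC Groth.Agent.Lib.Helper16.RestrictD
  Groth.Agent.Lib.Helper16.FlatBC Groth.Agent.Lib.Helper16.LDer
  Groth.Agent.Lib.Helper16.TorAmp Groth.Agent.Lib.Helper16.TorBal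
  Groth.Agent.Lib.Helper15.RelPC6 Groth.Agent.Lib.Helper15.RelPC9 Groth.Agent.Lib.Helper15.RelPC10
  Groth.Agent.Lib.Helper15.RelPC11

universe u

attribute [local instance] HasDerivedCategory.standard
attribute [local instance] MvPolynomial.algebraMvPolynomial

section Ring

variable {R S R' S' : Type u} [CommRing R] [CommRing S] [CommRing R'] [CommRing S']
  [Algebra R S] [Algebra R R'] [Algebra R S'] [Algebra S S'] [Algebra R' S']
  [IsScalarTower R S S'] [IsScalarTower R R' S']

theorem pch_baseChange [Algebra.IsPushout R S R' S'] [Module.Flat R R']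
    (h : MoreMor.IsPseudoCoherentHom R S) : MoreMor.IsPseudoCoherentHom R' S' := by
  obtain ⟨n, α, hα, -⟩ := id h
  let α' : MvPolynomial (Fin n) R' →ₐ[R'] S' := bcPres α
  have hα' : Function.Surjective α' := bcPres_surjective α hα
  letI : Algebra (MvPolynomial (Fin n) R) S := (α : MvPolynomial (Fin n) R →+* S).toAlgebra
  letI : Algebra (MvPolynomial (Fin n) R') S' := (α' : MvPolynomial (Fin n) R' →+* S').toAlgebra
  letI : Algebra (MvPolynomial (Fin n) R) S' :=
    ((algebraMap S S').comp (α : MvPolynomial (Fin n) R →+* S)).toAlgebra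
  haveI : IsScalarTower (MvPolynomial (Fin n) R) S S' := .of_algebraMap_eq (fun _ => rfl)
  haveI : IsScalarTower (MvPolynomial (Fin n) R) (MvPolynomial (Fin n) R') S' :=
    .of_algebraMap_eq (fun x => (bcPres_map α x).symm)
  haveI : IsScalarTower R (MvPolynomial (Fin n) R) S :=
    .of_algebraMap_eq (fun x => (α.commutes x).symm)
  haveI : IsScalarTower R' (MvPolynomial (Fin n) R') S' :=
    .of_algebraMap_eq (fun x => (α'.commutes x).symm)
  haveI : IsScalarTower R (MvPolynomial (Fin n) R') S' := .of_algebraMap_eq (fun x => by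
    rw [IsScalarTower.algebraMap_apply R R' S', IsScalarTower.algebraMap_apply R R' (MvPolynomial (Fin n) R')]
    exact (α'.commutes _).symm)
  haveI : Algebra.IsPushout (MvPolynomial (Fin n) R) S (MvPolynomial (Fin n) R') S' :=
    (Algebra.IsPushout.comp_iff R (MvPolynomial (Fin n) R) R' (MvPolynomial (Fin n) R')
      (T := S) (T' := S')).1 inferInstance
  haveI : Algebra.IsPushout (MvPolynomial (Fin n) R) (MvPolynomial (Fin n) R') S S' :=
    Algebra.IsPushout.symm inferInstance
  haveI : Module.Flat (MvPolynomial (Fin n) R) (MvPolynomial (Fin n) R') :=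
    Module.Flat.of_linearEquiv
      (Algebra.IsPushout.equiv R (MvPolynomial (Fin n) R) R' (MvPolynomial (Fin n) R')).symm.toLinearEquiv
  haveI : Module.Flat S S' :=
    Module.Flat.of_linearEquiv (Algebra.IsPushout.equiv R S R' S').symm.toLinearEquiv
  refine pch_iff_relAll.2 (fun m => ⟨n, α', hα', ?_⟩)
  have h1 : DerCA.IsRelPseudoCoherentVia α m (Dual.inD S S) :=
    (rel_iff_via α hα m _).1 (pch_iff_relAll.1 h m)
  let K₀ : DRing.Cx S := sCx (ModuleCat.of S S)
  have h2 : DerCA.IsRelPseudoCoherentVia α m (DRing.toD K₀) := via_of_iso h1 (toDSingleIso _).symm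
  have h3 := pc_ε (algebraMap (MvPolynomial (Fin n) R) (MvPolynomial (Fin n) R')) _ m h2
  have e : (ε (algebraMap (MvPolynomial (Fin n) R) (MvPolynomial (Fin n) R'))).obj
        ((DRing.restrictD (α : MvPolynomial (Fin n) R →+* S)).obj (DRing.toD K₀)) ≅
      (DRing.restrictD (α' : MvPolynomial (Fin n) R' →+* S')).obj
        (DRing.toD ((extCx (algebraMap S S')).obj K₀)) :=
    (ε _).mapIso (restrictQIso _ K₀) ≪≫ εQIso _ _ ≪≫
      Q.mapIso (sqCxIso (MvPolynomial (Fin n) R) (MvPolynomial (Fin n) R') S' K₀) ≪≫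
      (restrictQIso _ _).symm
  exact via_of_iso (K := DRing.toD ((extCx (algebraMap S S')).obj K₀)) (pc_of_iso h3 e)
    toDExtSingleIso

theorem isPerfectHom_baseChange [Algebra.IsPushout R S R' S'] [Module.Flat R R']
    (h : MoreMor.IsPerfectHom R S) : MoreMor.IsPerfectHom R' S' := by
  obtain ⟨h1, d, hd⟩ := h
  exact ⟨pch_baseChange h1, d, hasTorDimLE_baseChange (R := R) (S := S) (R' := R') (S' := S') d hd⟩

end Ring

section Scheme

open AlgebraicGeometry MorphismProperty TensorProduct

variable {P : MorphismProperty Scheme.{u}}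
  {Q : ∀ {R S : Type u} [CommRing R] [CommRing S], (R →+* S) → Prop}

set_option backward.isDefEq.respectTransparency false in
/-- a property of morphisms induced by a local property of ring maps that is stable under flat
base change (of rings) is stable under flat base change (of schemes). -/
theorem pullback_fst_of_flat [HasRingHomProperty P Q]
    (hQ : ∀ ⦃R S T : Type u⦄ [CommRing R] [CommRing S] [CommRing T] [Algebra R S] [Algebra R T],
      Module.Flat R S → Q (algebraMap R T) → Q (algebraMap S (S ⊗[R] T)))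
    {X Y S : Scheme.{u}} (f : X ⟶ S) (g : Y ⟶ S) [Flat f] (H : P g) : P (pullback.fst f g) := by
  wlog hS : ∃ R, S = Spec R generalizing X Y S
  · rw [IsZariskiLocalAtTarget.iff_of_openCover (P := P) (S.affineCover.pullback₁ f)]
    intro i
    let e : pullback (pullback.fst f g) ((S.affineCover.pullback₁ f).f i) ≅ _ := by
      refine pullbackSymmetry _ _ ≪≫ pullbackRightPullbackFstIso f g _ ≪≫ ?_ ≪≫
        (pullbackRightPullbackFstIso (S.affineCover.f i) g
          (pullback.snd f (S.affineCover.f i))).symm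
      exact asIso
        (pullback.map _ _ _ _ (𝟙 _) (𝟙 _) (𝟙 _) (by simpa using! pullback.condition) (by simp))
    have he : e.hom ≫ pullback.fst _ _ =
        pullback.snd (pullback.fst f g) ((S.affineCover.pullback₁ f).f i) := by
      simp [e]
    rw [Scheme.Cover.pullbackHom, ← he, P.cancel_left_of_respectsIso]
    refine this (pullback.snd f (S.affineCover.f i)) (pullback.fst (S.affineCover.f i) g) ?_ ⟨_, rfl⟩
    exact IsZariskiLocalAtTarget.of_isPullback (IsPullback.of_hasPullback _ _).flip H
  obtain ⟨R, rfl⟩ := hS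
  wlog hX : ∃ T, X = Spec T generalizing X
  · rw [IsZariskiLocalAtTarget.iff_of_openCover (P := P) X.affineCover]
    intro i
    let e := pullbackSymmetry _ _ ≪≫ pullbackRightPullbackFstIso f g (X.affineCover.f i)
    have he : e.hom ≫ pullback.fst _ _ = X.affineCover.pullbackHom (pullback.fst _ _) i := by
      simp [e, Scheme.Cover.pullbackHom]
    rw [← he, P.cancel_left_of_respectsIso]
    exact this (X.affineCover.f i ≫ f) ⟨_, rfl⟩
  obtain ⟨T, rfl⟩ := hX
  wlog hY : ∃ S₀, Y = Spec S₀ generalizing Y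
  · rw [IsZariskiLocalAtSource.iff_of_openCover (P := P)
      (Scheme.Pullback.openCoverOfRight Y.affineCover f g)]
    intro i
    simp only [Scheme.Pullback.openCoverOfRight_f, limit.lift_π, PullbackCone.mk_π_app,
      Category.comp_id]
    exact this _ (IsZariskiLocalAtSource.comp H _) ⟨_, rfl⟩
  obtain ⟨S₀, rfl⟩ := hY
  obtain ⟨φ, rfl⟩ := Spec.map_surjective g
  obtain ⟨ψ, rfl⟩ := Spec.map_surjective f
  algebraize [φ.hom, ψ.hom]
  have hfl : Module.Flat R T := by
    have h1 : Flat (Spec.map ψ) := inferInstance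
    rw [HasRingHomProperty.Spec_iff (P := @Flat)] at h1
    exact h1
  rw [HasRingHomProperty.Spec_iff (P := P)] at H
  have h2 : Q (algebraMap T (T ⊗[R] S₀)) := hQ hfl H
  change P (pullback.fst (Spec.map <| CommRingCat.ofHom <| algebraMap R T)
    (Spec.map <| CommRingCat.ofHom <| algebraMap R S₀))
  rw [← pullbackSpecIso_hom_fst' R T S₀, P.cancel_left_of_respectsIso,
    HasRingHomProperty.Spec_iff (P := P)]
  exact h2

attribute [local instance] Algebra.TensorProduct.rightAlgebra in
theorem perfH_flat_tensor ⦃R S T : Type u⦄ [CommRing R] [CommRing S] [CommRing T] [Algebra R S]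
    [Algebra R T] (hfl : Module.Flat R S) (h : PerfH (algebraMap R T)) :
    PerfH (algebraMap S (S ⊗[R] T)) := by
  have h' : MoreMor.IsPerfectHom R T := ⟨pch_algebraMap.1 h.1, ftd_algebraMap.1 h.2⟩
  have h2 := isPerfectHom_baseChange (R := R) (S := T) (R' := S) (S' := S ⊗[R] T) h'
  exact ⟨pch_algebraMap.2 h2.1, ftd_algebraMap.2 h2.2⟩

attribute [local instance] Algebra.TensorProduct.rightAlgebra in
theorem pch_flat_tensor ⦃R S T : Type u⦄ [CommRing R] [CommRing S] [CommRing T] [Algebra R S]
    [Algebra R T] (hfl : Module.Flat R S) (h : PCH (algebraMap R T)) :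
    PCH (algebraMap S (S ⊗[R] T)) :=
  pch_algebraMap.2 (pch_baseChange (R := R) (S := T) (R' := S) (S' := S ⊗[R] T) (pch_algebraMap.1 h))

theorem isPerfectMor_flat_baseChange {X S X' S' : Scheme.{u}} (f : X ⟶ S) (f' : X' ⟶ S')
    (g' : X' ⟶ X) (g : S' ⟶ S) [Flat g] (hc : IsPullback g' f' f g)
    (hf : MoreMor.IsPerfectMor f) : MoreMor.IsPerfectMor f' := by
  rw [isPerfectMor_iff] at hf ⊢
  have h1 := pullback_fst_of_flat (P := affineLocally @PerfH) perfH_flat_tensor g f hf
  rw [← hc.flip.isoPullback_hom_fst, (affineLocally @PerfH).cancel_left_of_respectsIso]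
  exact h1

theorem isPseudoCoherentMor_flat_baseChange {X S X' S' : Scheme.{u}} (f : X ⟶ S) (f' : X' ⟶ S')
    (g' : X' ⟶ X) (g : S' ⟶ S) [Flat g] (hc : IsPullback g' f' f g)
    (hf : MoreMor.IsPseudoCoherentMor f) : MoreMor.IsPseudoCoherentMor f' := by
  rw [isPseudoCoherentMor_iff] at hf ⊢
  have h1 := pullback_fst_of_flat (P := affineLocally @PCH) pch_flat_tensor g f hf
  rw [← hc.flip.isoPullback_hom_fst, (affineLocally @PCH).cancel_left_of_respectsIso]
  exact h1

end Scheme

end Groth.Agent.Lib.Helper15.RelPC12
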