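import Mathlib
import Groth.Agent.Lib.Helper15.RelPC12
import Groth.Prelude.Def_Mor2

/-!
# Helper15 — RelPC13: quotients by regular sequences are perfect ring maps; regular closed immersions
are perfect morphisms.
-/

open CategoryTheory CategoryTheory.Limits DerivedCategory CategoryTheory.Pretriangulated

namespace Groth.Agent.Lib.Helper15.RelPC13

open Groth.Agent.Lib.Helper16.PC Groth.Agent.Lib.Helper16.RelPC Groth.Agent.Lib.Helper16.RestrictD
  Groth.Agent.Lib.Helper16.FlatBC Groth.Agent.Lib.Helper16.LDer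
  Groth.Agent.Lib.Helper16.TorAmp Groth.Agent.Lib.Helper16.TorBal
  Groth.Agent.Lib.Helper15.RelPC5 Groth.Agent.Lib.Helper15.RelPC9 Groth.Agent.Lib.Helper15.RelPC10
  Groth.Agent.Lib.Helper15.RelPC11 Groth.Agent.Lib.Helper15.RelPC12

universe u

attribute [local instance] HasDerivedCategory.standard

section Ring

variable {A B : Type u} [CommRing A] [CommRing B]

/-- a surjective ring map making the target a pseudo-coherent module is a pseudo-coherent ring map. -/
theorem pch_of_surjective_pcHom (φ : A →+* B) (hφ : Function.Surjective φ) (h : PCHom φ) :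
    PCH φ := by
  letI := φ.toAlgebra
  refine pch_iff_relAll.2 (fun m => ?_)
  let e : MvPolynomial (Fin 0) A ≃ₐ[A] A := MvPolynomial.isEmptyAlgEquiv A (Fin 0)
  let α : MvPolynomial (Fin 0) A →ₐ[A] B := (Algebra.ofId A B).comp e.toAlgHom
  have hα : Function.Surjective α := by
    intro b
    obtain ⟨a, rfl⟩ := hφ b
    exact ⟨e.symm a, by simp [α, e]; rfl⟩
  refine ⟨0, α, hα, ?_⟩
  have h1 : PCHom ((e : MvPolynomial (Fin 0) A ≃+* A) : MvPolynomial (Fin 0) A →+* A) :=
    pcHom_of_bijective _ e.bijective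
  have h2 := h1.comp h
  exact h2 m

/-- quotient by a regular element: tor dimension `≤ 1`. -/
theorem hasTorDimLE_one_of_ker_span_regular (φ : A →+* B)
    (hφ : Function.Surjective φ) (r : A) (hr : IsSMulRegular A r)
    (hker : RingHom.ker φ = Ideal.span {r}) :
    letI := φ.toAlgebra
    DRing.HasTorDimLE A 1 B := by
  letI : Algebra A B := φ.toAlgebra
  let f : A →ₗ[A] A := LinearMap.mulLeft A r
  let g : A →ₗ[A] B := Algebra.linearMap A B
  have hg : ∀ p : A, g p = φ p := fun p => rfl
  let S : ShortComplex (ModuleCat.{u} A) :=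
    ShortComplex.mk (ModuleCat.ofHom f) (ModuleCat.ofHom g) (by
      apply ModuleCat.hom_ext
      apply LinearMap.ext
      intro p
      change g (r * p) = 0
      rw [hg, ← RingHom.mem_ker, hker]
      exact Ideal.mul_mem_right _ _ (Ideal.mem_span_singleton_self r))
  have hS : S.ShortExact := by
    refine ShortComplex.ShortExact.mk' ?_ ?_ ?_
    · rw [ShortComplex.ShortExact.moduleCat_exact_iff_function_exact]
      intro p
      change g p = 0 ↔ p ∈ Set.range f
      rw [hg, ← RingHom.mem_ker, hker, Ideal.mem_span_singleton]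
      constructor
      · rintro ⟨q, rfl⟩
        exact ⟨q, rfl⟩
      · rintro ⟨q, rfl⟩
        exact ⟨q, rfl⟩
    · rw [ModuleCat.mono_iff_injective]
      intro a b hab
      exact hr hab
    · rw [ModuleCat.epi_iff_surjective]
      intro d
      obtain ⟨c, rfl⟩ := hφ d
      exact ⟨c, rfl⟩
  have hT := hS.singleTriangle_distinguished
  have h0 : DRing.HasTorAmplitudeIn A 0 0 (Dual.inD A A) :=
    (torAmp_zero_iff_flat A).2 inferInstance
  rw [hasTorDimLE_iff_torAmp]
  exact torAmp_obj₃ _ hT (-1) 0 (torAmp_mono _ 0 0 _ _ (by norm_num) (by norm_num) h0)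
    (torAmp_mono _ 0 0 _ _ (by norm_num) (by norm_num) h0)

theorem perfH_of_ker_span_regular (φ : A →+* B)
    (hφ : Function.Surjective φ) (r : A) (hr : IsSMulRegular A r)
    (hker : RingHom.ker φ = Ideal.span {r}) : PerfH φ :=
  ⟨pch_of_surjective_pcHom φ hφ (pcHom_of_ker_span_regular φ hφ r hr hker),
    ⟨1, hasTorDimLE_one_of_ker_span_regular φ hφ r hr hker⟩⟩

theorem perfH_of_bijective (φ : A →+* B) (h : Function.Bijective φ) : PerfH φ := by
  refine ⟨pch_of_surjective_pcHom φ h.2 (pcHom_of_bijective φ h), ?_⟩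
  letI := φ.toAlgebra
  haveI : Module.Flat A B :=
    Module.Flat.of_linearEquiv (LinearEquiv.ofBijective (Algebra.linearMap A B) h).symm
  exact ftd_of_flat

open RingTheory.Sequence Pointwise in
lemma isWeaklyRegular_quotient (r : A) (rs : List A) (h : IsWeaklyRegular (QuotSMulTop r A) rs) :
    IsWeaklyRegular (A ⧸ Ideal.span {r}) (rs.map (Ideal.Quotient.mk (Ideal.span {r}))) := by
  have heq : (r • (⊤ : Submodule A A)) = (Ideal.span {r} : Ideal A) := by
    rw [← Submodule.ideal_span_singleton_smul, Ideal.smul_top_eq_map]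
    simp
  let e : QuotSMulTop r A ≃ₗ[A] (A ⧸ Ideal.span {r}) := Submodule.quotEquivOfEq _ _ heq
  refine (AddEquiv.isWeaklyRegular_congr (e := e.toAddEquiv) ?_).1 h
  rw [List.forall₂_map_right_iff, List.forall₂_same]
  intro a _ x
  change e (a • x) = Ideal.Quotient.mk _ a • e x
  rw [e.map_smul]
  rfl

open RingTheory.Sequence in
theorem perfH_of_ker_ofList_aux : ∀ (n : ℕ) {A : Type u} [CommRing A] (rs : List A),
    rs.length = n → IsWeaklyRegular A rs → ∀ (φ : A →+* B), Function.Surjective φ →
    RingHom.ker φ = Ideal.ofList rs → PerfH φ := by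
  intro n
  induction n with
  | zero =>
    intro A _ rs hlen _ φ hφ hker
    obtain rfl := List.length_eq_zero_iff.1 hlen
    rw [Ideal.ofList_nil] at hker
    exact perfH_of_bijective φ ⟨(RingHom.injective_iff_ker_eq_bot φ).2 hker, hφ⟩
  | succ n ih =>
    intro A _ rs hlen hreg φ hφ hker
    obtain ⟨r, rs, rfl⟩ := List.exists_cons_of_length_eq_add_one hlen
    obtain ⟨hr, hreg'⟩ := (isWeaklyRegular_cons_iff A r rs).1 hreg
    have hreg₁ := isWeaklyRegular_quotient r rs hreg'
    have hle : Ideal.span {r} ≤ RingHom.ker φ := by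
      rw [hker, Ideal.ofList_cons]
      exact le_sup_left
    let φ₁ : A ⧸ Ideal.span {r} →+* B := Ideal.Quotient.lift (Ideal.span {r}) φ
      (fun a ha => (RingHom.mem_ker).1 (hle ha))
    have hφ₁ : Function.Surjective φ₁ := Ideal.Quotient.lift_surjective_of_surjective _ _ hφ
    have hker₁ : RingHom.ker φ₁ =
        Ideal.ofList (rs.map (Ideal.Quotient.mk (Ideal.span {r}))) := by
      rw [show RingHom.ker φ₁ = (RingHom.ker φ).map (Ideal.Quotient.mk (Ideal.span {r})) from
        Ideal.ker_quotient_lift φ hle, hker, Ideal.map_ofList, List.map_cons, Ideal.ofList_cons]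
      have : Ideal.Quotient.mk (Ideal.span {r}) r = 0 :=
        Ideal.Quotient.eq_zero_iff_mem.2 (Ideal.mem_span_singleton_self r)
      rw [this]
      simp
    have h1 : PerfH φ₁ := ih _ (by simpa using hlen) hreg₁ φ₁ hφ₁ hker₁
    have h0 : PerfH (Ideal.Quotient.mk (Ideal.span {r})) :=
      perfH_of_ker_span_regular _ Ideal.Quotient.mk_surjective r hr Ideal.mk_ker
    have hcomp : φ₁.comp (Ideal.Quotient.mk (Ideal.span {r})) = φ := Ideal.Quotient.lift_comp_mk _ _ _
    rw [← hcomp]
    exact perfH_stableUnderComposition _ _ h0 h1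

open RingTheory.Sequence in
theorem perfH_of_ker_ofList (rs : List A) (hreg : IsWeaklyRegular A rs) (φ : A →+* B)
    (hφ : Function.Surjective φ) (hker : RingHom.ker φ = Ideal.ofList rs) : PerfH φ :=
  perfH_of_ker_ofList_aux rs.length rs rfl hreg φ hφ hker

end Ring

section Scheme

open AlgebraicGeometry MorphismProperty

theorem perfH_holdsForLocalizationAway : RingHom.HoldsForLocalizationAway @PerfH :=
  fun _ _ _ _ _ r _ => ⟨pch_away r, ftd_away r⟩

theorem isPerfectMor_of_regularClosedImmersion {Z X : Scheme.{u}} (i : Z ⟶ X)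
    (hi : Mor2.IsRegularClosedImmersion i) : MoreMor.IsPerfectMor i := by
  rw [isPerfectMor_iff]
  obtain ⟨hci, hloc⟩ := hi
  rw [HasRingHomProperty.iff_exists_appLE (P := affineLocally @PerfH)
    (perfH_stableUnderComposition.stableUnderCompositionWithLocalizationAway
      perfH_holdsForLocalizationAway).left]
  intro z
  obtain ⟨U, hU, hzU, rs, hreg, hker⟩ := hloc z
  refine ⟨⟨U, hU⟩, ⟨i ⁻¹ᵁ U, hU.preimage i⟩, hzU, le_rfl, ?_⟩
  rw [← Scheme.Hom.app_eq_appLE]
  refine perfH_of_ker_ofList rs hreg.toIsWeaklyRegular _ (i.app_surjective U hU) ?_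
  rw [← hker, Scheme.Hom.ker_apply]

end Scheme

end Groth.Agent.Lib.Helper15.RelPC13
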