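import Mathlib
import Groth.Agent.Lib.Helper15.RelPC13
import Groth.Agent.S6935

/-!
# Helper15 — RelPC14: pointwise criteria for pseudo-coherent / perfect morphisms.
-/

open CategoryTheory CategoryTheory.Limits

namespace Groth.Agent.Lib.Helper15.RelPC14

open Groth.Agent.Lib.Helper15.RelPC9 Groth.Agent.Lib.Helper15.RelPC10
  Groth.Agent.Lib.Helper15.RelPC11 Groth.Agent.Lib.Helper15.RelPC12 Groth.Agent.Lib.Helper15.RelPC13

universe u

attribute [local instance] HasDerivedCategory.standard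

open AlgebraicGeometry MorphismProperty

theorem pch_holdsForLocalizationAway' : RingHom.HoldsForLocalizationAway @PCH :=
  pch_holdsForLocalizationAway

theorem isPseudoCoherentMor_iff_exists {X S : Scheme.{u}} (f : X ⟶ S) :
    MoreMor.IsPseudoCoherentMor f ↔ ∀ x : X, ∃ (U : X.Opens) (V : S.Opens) (hUV : U ≤ f ⁻¹ᵁ V),
      IsAffineOpen U ∧ IsAffineOpen V ∧ x ∈ U ∧
      (letI := (f.appLE V U hUV).hom.toAlgebra
       MoreMor.IsPseudoCoherentHom Γ(S, V) Γ(X, U)) := by
  rw [isPseudoCoherentMor_iff, HasRingHomProperty.iff_exists_appLE (P := affineLocally @PCH)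
    (pch_stableUnderComposition.stableUnderCompositionWithLocalizationAway
      pch_holdsForLocalizationAway).left]
  constructor
  · intro h x
    obtain ⟨U, V, hx, e, hQ⟩ := h x
    exact ⟨V.1, U.1, e, V.2, U.2, hx, hQ⟩
  · intro h x
    obtain ⟨U, V, hUV, hU, hV, hx, hQ⟩ := h x
    exact ⟨⟨V, hV⟩, ⟨U, hU⟩, hx, hUV, hQ⟩

theorem isPerfectMor_iff_exists {X S : Scheme.{u}} (f : X ⟶ S) :
    MoreMor.IsPerfectMor f ↔ ∀ x : X, ∃ (U : X.Opens) (V : S.Opens) (hUV : U ≤ f ⁻¹ᵁ V),
      IsAffineOpen U ∧ IsAffineOpen V ∧ x ∈ U ∧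
      (letI := (f.appLE V U hUV).hom.toAlgebra
       MoreMor.IsPerfectHom Γ(S, V) Γ(X, U)) := by
  rw [isPerfectMor_iff, HasRingHomProperty.iff_exists_appLE (P := affineLocally @PerfH)
    (perfH_stableUnderComposition.stableUnderCompositionWithLocalizationAway
      perfH_holdsForLocalizationAway).left]
  constructor
  · intro h x
    obtain ⟨U, V, hx, e, hQ⟩ := h x
    exact ⟨V.1, U.1, e, V.2, U.2, hx, hQ⟩
  · intro h x
    obtain ⟨U, V, hUV, hU, hV, hx, hQ⟩ := h x
    exact ⟨⟨V, hV⟩, ⟨U, hU⟩, hx, hUV, hQ⟩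

section Ring

open Groth.Agent.Lib.Helper16.PC Groth.Agent.Lib.Helper16.RelPC

variable {A B C : Type u} [CommRing A] [CommRing B] [CommRing C]

theorem finitePresentation_of_isPseudoCoherentHom [Algebra A B]
    (h : MoreMor.IsPseudoCoherentHom A B) : Algebra.FinitePresentation A B := by
  obtain ⟨n, φ, hφ, hpc⟩ := h
  letI : Algebra (MvPolynomial (Fin n) A) B := φ.toRingHom.toAlgebra
  have h1 : ∀ m : ℤ, DRing.IsPseudoCoherent (MvPolynomial (Fin n) A) m
      (Dual.inD (MvPolynomial (Fin n) A) B) :=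
    (Groth.Agent.S2066.result (Dual.inD (MvPolynomial (Fin n) A) B)).1.2 hpc
  haveI hfp : Module.FinitePresentation (MvPolynomial (Fin n) A) B :=
    (Groth.Agent.S6935.result (MvPolynomial (Fin n) A) B).2.1 (h1 (-1))
  have hsurj : Function.Surjective (Algebra.linearMap (MvPolynomial (Fin n) A) B) := hφ
  have hfg := Module.FinitePresentation.fg_ker (Algebra.linearMap (MvPolynomial (Fin n) A) B) hsurj
  refine Algebra.FinitePresentation.of_surjective (f := φ) hφ ?_
  exact hfg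

theorem pch_of_comp (φ : A →+* B) (ψ : B →+* C) (h1 : PCH φ) (h2 : PCH (ψ.comp φ)) : PCH ψ := by
  letI := φ.toAlgebra
  letI := ψ.toAlgebra
  letI : Algebra A C := (ψ.comp φ).toAlgebra
  haveI : IsScalarTower A B C := .of_algebraMap_eq (fun _ => rfl)
  have h1' : MoreMor.IsPseudoCoherentHom A B := h1
  have h2' : MoreMor.IsPseudoCoherentHom A C := h2
  haveI := finiteType_of_pch h1'
  haveI := finiteType_of_pch h2'
  haveI : Algebra.FiniteType B C := Algebra.FiniteType.of_restrictScalars_finiteType A B C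
  have hB := pch_iff_relAll.1 h1'
  have hC : DerCA.IsRelPseudoCoherentAll A C (Dual.inD C C) := pch_iff_relAll.1 h2'
  have := ((Groth.Agent.S6985.result (R := A) (A := B) (B := C) hB (Dual.inD C C) 0).2).2 hC
  exact pch_iff_relAll.2 this

end Ring

theorem locallyOfFinitePresentation_of_isPseudoCoherentMor {X S : Scheme.{u}} (f : X ⟶ S)
    (hf : MoreMor.IsPseudoCoherentMor f) : LocallyOfFinitePresentation f := by
  rw [HasRingHomProperty.iff_appLE (P := @LocallyOfFinitePresentation)]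
  intro V U e
  have h := hf U.1 V.1 U.2 V.2 e
  letI := (f.appLE V.1 U.1 e).hom.toAlgebra
  exact finitePresentation_of_isPseudoCoherentHom h

theorem isPseudoCoherentMor_of_comp {X Y S : Scheme.{u}} (f : X ⟶ Y) (g : Y ⟶ S)
    (hX : MoreMor.IsPseudoCoherentMor (f ≫ g)) (hY : MoreMor.IsPseudoCoherentMor g) :
    MoreMor.IsPseudoCoherentMor f := by
  rw [isPseudoCoherentMor_iff_exists]
  intro x
  obtain ⟨W, hW, hxW, -⟩ := exists_isAffineOpen_mem_and_subset (x := g (f x)) (U := ⊤) trivial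
  obtain ⟨V, hV, hxV, hVW⟩ := exists_isAffineOpen_mem_and_subset (x := f x) (U := g ⁻¹ᵁ W) hxW
  obtain ⟨U, hU, hxU, hUV⟩ := exists_isAffineOpen_mem_and_subset (x := x) (U := f ⁻¹ᵁ V) hxV
  refine ⟨U, V, hUV, hU, hV, hxU, ?_⟩
  have e₁ : V ≤ g ⁻¹ᵁ W := hVW
  have e₂ : U ≤ f ⁻¹ᵁ V := hUV
  have h1 : PCH (g.appLE W V e₁).hom := hY V W hV hW e₁
  have h2 := hX U W hU hW (e₂.trans ((TopologicalSpace.Opens.map f.base).map (homOfLE e₁)).le)
  change PCH _ at h2
  rw [← Scheme.Hom.appLE_comp_appLE f g W V U e₁ e₂, CommRingCat.hom_comp] at h2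
  exact pch_of_comp _ _ h1 h2

end Groth.Agent.Lib.Helper15.RelPC14
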