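import Mathlib
import Groth.Agent.Lib.Helper15.RelPC14
import Groth.Agent.Lib.Helper2.KosTor2
import Groth.Prelude.Def_LCI2

/-!
# Helper15 — RelPC15: quotients by Koszul-regular ideals are perfect ring maps; lci ring maps are
perfect.
-/

open CategoryTheory CategoryTheory.Limits DerivedCategory CategoryTheory.Pretriangulated

namespace Groth.Agent.Lib.Helper15.RelPC15

open Groth.Agent.Lib.Helper16.PC Groth.Agent.Lib.Helper16.RelPC Groth.Agent.Lib.Helper16.RestrictD
  Groth.Agent.Lib.Helper16.TorAmp Groth.Agent.Lib.Helper16.TorBal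
  Groth.Agent.Lib.Helper15.RelPC9 Groth.Agent.Lib.Helper15.RelPC10
  Groth.Agent.Lib.Helper15.RelPC11 Groth.Agent.Lib.Helper15.RelPC12 Groth.Agent.Lib.Helper15.RelPC13
  Groth.Agent.Lib.Helper15.RelPC14
  Groth.Agent.Lib.Helper2.KosTor2 Groth.Agent.Lib.Helper2.KosChi2

universe u

attribute [local instance] HasDerivedCategory.standard

section Koszul

variable {A : Type u} [CommRing A]

/-- the terms of the Koszul complex are finite. -/
theorem finite_koszul (l : List A) : ∀ n : ℤ, Module.Finite A ((Koszul.koszul A l).X n) := by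
  induction l with
  | nil =>
    intro n
    by_cases hn : n = 0
    · subst hn
      exact Module.Finite.equiv
        (HomologicalComplex.singleObjXSelf (ComplexShape.up ℤ) (0 : ℤ)
          (ModuleCat.of A A)).toLinearEquiv.symm
    · have hz : IsZero ((Koszul.koszul A []).X n) :=
        HomologicalComplex.isZero_single_obj_X (ComplexShape.up ℤ) 0 (ModuleCat.of A A) n hn
      have : Subsingleton ((Koszul.koszul A []).X n) := ModuleCat.subsingleton_of_isZero hz
      infer_instance
  | cons f l ih =>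
    intro n
    have e1 : (Koszul.koszul A (f :: l)).X n ≅
        (Koszul.koszul A l).X (n + 1) ⊞ (Koszul.koszul A l).X n :=
      HomologicalComplex.homotopyCofiber.XIsoBiprod (f • 𝟙 (Koszul.koszul A l)) n (n + 1) rfl
    have e2 := e1 ≪≫ ModuleCat.biprodIsoProd _ _
    have := ih (n + 1)
    have := ih n
    exact Module.Finite.equiv e2.toLinearEquiv.symm

/-- the Koszul complex vanishes below `-length`. -/
theorem isZero_koszul_X_lt (l : List A) :
    ∀ n : ℤ, n < -(l.length : ℤ) → IsZero ((Koszul.koszul A l).X n) := by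
  induction l with
  | nil =>
    intro n hn
    exact HomologicalComplex.isZero_single_obj_X (ComplexShape.up ℤ) 0 (ModuleCat.of A A) n
      (by simp at hn; omega)
  | cons f l ih =>
    intro n hn
    have e1 : (Koszul.koszul A (f :: l)).X n ≅
        (Koszul.koszul A l).X (n + 1) ⊞ (Koszul.koszul A l).X n :=
      HomologicalComplex.homotopyCofiber.XIsoBiprod (f • 𝟙 (Koszul.koszul A l)) n (n + 1) rfl
    refine IsZero.of_iso ?_ e1
    simp only [List.length_cons, Nat.cast_add, Nat.cast_one] at hn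
    have h1 := ih (n + 1) (by omega)
    have h2 := ih n (by omega)
    exact (biprod_isZero_iff _ _).2 ⟨h1, h2⟩

/-- `H⁰` of the Koszul complex. -/
theorem homology_zero_koszul (l : List A) :
    Nonempty ((Koszul.koszul A l).homology 0 ≅ ModuleCat.of A (A ⧸ Ideal.ofList l)) := by
  obtain ⟨e⟩ := opcycles_iso l
  set K := Koszul.koszul A l with hK
  have h00 : (-((0 : ℕ) : ℤ)) = (0 : ℤ) := by norm_num
  have e0 : K.opcycles (-((0 : ℕ) : ℤ)) ≅ K.opcycles 0 := eqToIso (by rw [h00])
  have hd : K.d 0 1 = 0 := (isZero_koszul_X l 1 (by norm_num)).eq_of_tgt _ _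
  have e1 : K.homology 0 ≅ K.opcycles 0 := K.isoHomologyι 0 1 (by simp) hd
  exact ⟨e1 ≪≫ e0.symm ≪≫ e⟩

/-- for a Koszul-regular sequence, the Koszul complex resolves `A/(l)`. -/
theorem nonempty_toD_koszul_iso (l : List A) (hl : LCI.IsKoszulRegularSeq A l) :
    Nonempty (DRing.toD (Koszul.koszul A l) ≅ Dual.inD A (A ⧸ Ideal.ofList l)) := by
  set K := Koszul.koszul A l with hK
  haveI : (Q.obj K).IsGE 0 := by
    rw [isGE_Q_obj_iff, CochainComplex.isGE_iff]
    intro i hi
    rw [HomologicalComplex.exactAt_iff_isZero_homology]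
    exact hl i (by omega)
  haveI : (Q.obj K).IsLE 0 := by
    rw [isLE_Q_obj_iff, CochainComplex.isLE_iff]
    intro i hi
    rw [HomologicalComplex.exactAt_iff_isZero_homology]
    exact hl i (by omega)
  obtain ⟨Y, ⟨e⟩⟩ := exists_iso_singleFunctor_obj_of_isGE_of_isLE (Q.obj K) 0
  obtain ⟨e0⟩ := homology_zero_koszul l
  have e1 : (homologyFunctor (ModuleCat.{u} A) 0).obj (Q.obj K) ≅ K.homology 0 :=
    (homologyFunctorFactors (ModuleCat.{u} A) 0).app K
  have e2 : (homologyFunctor (ModuleCat.{u} A) 0).obj ((singleFunctor (ModuleCat.{u} A) 0).obj Y) ≅ Y :=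
    (homologyFunctor (ModuleCat.{u} A) 0).mapIso ((singleFunctorIsoCompQ (ModuleCat.{u} A) 0).app Y) ≪≫
      (homologyFunctorFactors (ModuleCat.{u} A) 0).app _ ≪≫
      HomologicalComplex.singleObjHomologySelfIso (ComplexShape.up ℤ) 0 Y
  have eY : Y ≅ ModuleCat.of A (A ⧸ Ideal.ofList l) :=
    e2.symm ≪≫ (homologyFunctor (ModuleCat.{u} A) 0).mapIso e.symm ≪≫ e1 ≪≫ e0
  exact ⟨e ≪≫ (singleFunctor (ModuleCat.{u} A) 0).mapIso eY⟩

end Koszul

section Perfect

variable {A B : Type u} [CommRing A] [CommRing B]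

theorem perfH_mk_of_koszulRegular (l : List A) (hl : LCI.IsKoszulRegularSeq A l) :
    PerfH (Ideal.Quotient.mk (Ideal.ofList l)) := by
  obtain ⟨e⟩ := nonempty_toD_koszul_iso l hl
  have hproj := projective_koszul l
  have hfin := finite_koszul l
  refine ⟨pch_of_surjective_pcHom _ Ideal.Quotient.mk_surjective ?_, ?_⟩
  · letI : Algebra A (A ⧸ Ideal.ofList l) := (Ideal.Quotient.mk (Ideal.ofList l)).toAlgebra
    rw [pcHom_iff]
    exact (Groth.Agent.S2066.result (Dual.inD A (A ⧸ Ideal.ofList l))).2.2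
      ⟨Koszul.koszul A l, 0, fun i hi => isZero_koszul_X l i hi,
        fun i => ⟨hfin i, hproj i⟩, ⟨e⟩⟩
  · refine ⟨l.length, ?_⟩
    rw [hasTorDimLE_iff_torAmp]
    refine ⟨Koszul.koszul A l, fun i hi => ?_, fun i => ?_, ⟨e⟩⟩
    · rcases hi with hi | hi
      · exact isZero_koszul_X_lt l i hi
      · exact isZero_koszul_X l i hi
    · haveI := hproj i
      infer_instance

theorem perfH_of_koszulRegular (l : List A) (hl : LCI.IsKoszulRegularSeq A l) (φ : A →+* B)
    (hφ : Function.Surjective φ) (hker : RingHom.ker φ = Ideal.ofList l) : PerfH φ := by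
  have h0 := perfH_mk_of_koszulRegular l hl
  rw [← hker] at h0
  let e : A ⧸ RingHom.ker φ ≃+* B := RingHom.quotientKerEquivOfSurjective hφ
  have h1 := perfH_isLocal.respectsIso.1 _ e h0
  have : e.toRingHom.comp (Ideal.Quotient.mk (RingHom.ker φ)) = φ := by
    ext a
    rfl
  rwa [this] at h1

open RingTheory.Sequence in
theorem perfH_of_koszulRegularIdeal (φ : A →+* B) (hφ : Function.Surjective φ)
    (hI : LCI.IsKoszulRegularIdeal (RingHom.ker φ)) : PerfH φ := by
  have hsurj : ∀ g : A, Function.Surjective (Localization.awayMap φ g) := fun g => by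
    haveI : IsLocalization (Submonoid.map φ (Submonoid.powers g)) (Localization.Away (φ g)) := by
      rw [Submonoid.map_powers]; infer_instance
    exact IsLocalization.map_surjective_of_surjective _ _ _ hφ
  have hker : ∀ g : A, RingHom.ker (Localization.awayMap φ g) =
      (RingHom.ker φ).map (algebraMap A (Localization.Away g)) := fun g =>
    IsLocalization.ker_map (Localization.Away (φ g)) φ (Submonoid.map_powers φ g)
  refine perfH_isLocal.ofLocalizationSpan φ {g | PerfH (Localization.awayMap φ g)} ?_ (fun r => r.2)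
  by_contra hne
  obtain ⟨p, hp, hle⟩ := Ideal.exists_le_maximal _ hne
  have hsub : ∀ g, PerfH (Localization.awayMap φ g) → g ∈ p :=
    fun g hg => hle (Ideal.subset_span hg)
  by_cases hIp : RingHom.ker φ ≤ p
  · obtain ⟨g, hg, l, hl, hmap⟩ := hI ⟨p, hp.isPrime⟩ hIp
    apply hg
    apply hsub
    exact perfH_of_koszulRegular l hl _ (hsurj g) ((hker g).trans hmap)
  · obtain ⟨g, hgI, hgp⟩ := Set.not_subset.1 hIp
    apply hgp
    apply hsub
    refine perfH_of_ker_ofList [1] ?_ _ (hsurj g) ?_
    · rw [isWeaklyRegular_singleton_iff]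
      exact IsSMulRegular.one _
    · rw [hker g, Ideal.ofList_singleton, Ideal.span_singleton_one]
      exact Ideal.eq_top_of_isUnit_mem _ (Ideal.mem_map_of_mem _ hgI)
        (IsLocalization.Away.algebraMap_isUnit g)

theorem perfH_mvPolynomial (n : ℕ) : PerfH (algebraMap A (MvPolynomial (Fin n) A)) := by
  refine ⟨pch_algebraMap.2 (pch_iff_relAll.2 (fun m => ?_)), ftd_of_flat⟩
  refine ⟨n, AlgHom.id A _, Function.surjective_id, ?_⟩
  exact pcHom_of_bijective (RingHom.id (MvPolynomial (Fin n) A)) Function.bijective_id m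

theorem isPerfectHom_of_isLCI [Algebra A B] (h : LCI.IsLCI A B) : MoreMor.IsPerfectHom A B := by
  obtain ⟨-, n, f, hf, hI⟩ := h
  have h1 : PerfH (algebraMap A (MvPolynomial (Fin n) A)) := perfH_mvPolynomial n
  have h2 : PerfH (f : MvPolynomial (Fin n) A →+* B) := perfH_of_koszulRegularIdeal _ hf hI
  have h3 := perfH_stableUnderComposition _ _ h1 h2
  have : (f : MvPolynomial (Fin n) A →+* B).comp (algebraMap A _) = algebraMap A B :=
    f.comp_algebraMap
  rw [this] at h3
  exact ⟨pch_algebraMap.1 h3.1, ftd_algebraMap.1 h3.2⟩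

end Perfect

section Scheme

open AlgebraicGeometry

theorem lci_morphism_props {X S : Scheme.{u}} (f : X ⟶ S)
    (hf : (∀ (U : X.Opens) (V : S.Opens) (hU : IsAffineOpen U) (hV : IsAffineOpen V) (hUV : U ≤ f ⁻¹ᵁ V),
        letI := (f.appLE V U hUV).hom.toAlgebra
        LCI.IsLCI Γ(S, V) Γ(X, U))) :
    LocallyOfFinitePresentation f ∧ MoreMor.IsPseudoCoherentMor f ∧ MoreMor.IsPerfectMor f := by
  have hperf : MoreMor.IsPerfectMor f := by
    intro U V hU hV e
    letI := (f.appLE V U e).hom.toAlgebra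
    exact isPerfectHom_of_isLCI (hf U V hU hV e)
  have hpc : MoreMor.IsPseudoCoherentMor f := fun U V hU hV e => (hperf U V hU hV e).1
  exact ⟨locallyOfFinitePresentation_of_isPseudoCoherentMor f hpc, hpc, hperf⟩

end Scheme

end Groth.Agent.Lib.Helper15.RelPC15
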