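import Groth.Agent.Lib.Helper15.GeomDesc
set_option autoImplicit false
universe u
open CategoryTheory CategoryTheory.Limits AlgebraicGeometry TensorProduct

namespace Groth.Agent.Lib.Helper15.GeomDesc
set_option backward.isDefEq.respectTransparency.types false

theorem reduced_of_flat_surjective {Y Z : Scheme.{u}} (p : Z ⟶ Y) [Flat p] [Surjective p]
    [IsReduced Z] : IsReduced Y := by
  apply +allowSynthFailures isReduced_of_isReduced_stalk
  intro y
  obtain ⟨z, rfl⟩ := p.surjective y
  have hinj : Function.Injective (p.stalkMap z).hom := by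
    algebraize [(p.stalkMap z).hom]
    have : Module.FaithfullyFlat (Y.presheaf.stalk (p z)) (Z.presheaf.stalk z) :=
      @Module.FaithfullyFlat.of_flat_of_isLocalHom _ _ _ _ _ _ _
        (Flat.stalkMap p z) (p.toLRSHom.prop z)
    exact ‹RingHom.FaithfullyFlat _›.injective
  exact isReduced_of_injective _ hinj

theorem flat_specMap_field {L Ω : Type u} [Field L] [Field Ω] (φ : L →+* Ω) :
    Flat (Spec.map (CommRingCat.ofHom φ)) := by
  rw [Flat.SpecMap_iff]
  show φ.Flat
  letI := φ.toAlgebra
  exact (inferInstance : Module.Flat L Ω)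

theorem reduced_descends {L Ω : Type u} [Field L] [Field Ω] (φ : L →+* Ω) {Y Z : Scheme.{u}}
    (p : Z ⟶ Y) (q : Z ⟶ Spec (CommRingCat.of Ω)) (s : Y ⟶ Spec (CommRingCat.of L))
    (hZ : IsPullback p q s (Spec.map (CommRingCat.ofHom φ))) (h : IsReduced Z) :
    IsReduced Y := by
  have hs : Surjective p :=
    MorphismProperty.of_isPullback (P := @Surjective) hZ.flip (surjective_specMap_field φ)
  have hf : Flat p :=
    MorphismProperty.of_isPullback (P := @Flat) hZ.flip (flat_specMap_field φ)
  exact reduced_of_flat_surjective p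

theorem integral_descends {L Ω : Type u} [Field L] [Field Ω] (φ : L →+* Ω) {Y Z : Scheme.{u}}
    (p : Z ⟶ Y) (q : Z ⟶ Spec (CommRingCat.of Ω)) (s : Y ⟶ Spec (CommRingCat.of L))
    (hZ : IsPullback p q s (Spec.map (CommRingCat.ofHom φ))) (h : IsIntegral Z) :
    IsIntegral Y := by
  have h1 : IsReduced Y := reduced_descends φ p q s hZ inferInstance
  have h2 : IrreducibleSpace Y := irreducible_descends φ p q s hZ inferInstance
  exact isIntegral_of_irreducibleSpace_of_isReduced Y

end Groth.Agent.Lib.Helper15.GeomDesc
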