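import Mathlib
set_option autoImplicit false
universe u
open CategoryTheory CategoryTheory.Limits AlgebraicGeometry TensorProduct

namespace Groth.Agent.Lib.Helper15.GeomDesc
set_option backward.isDefEq.respectTransparency.types false

theorem surjective_specMap_field {L Ω : Type u} [Field L] [Field Ω] (φ : L →+* Ω) :
    Surjective (Spec.map (CommRingCat.ofHom φ)) := by
  constructor
  intro x
  have : Subsingleton (Spec (CommRingCat.of L)) :=
    inferInstanceAs (Subsingleton (PrimeSpectrum L))
  have : Nonempty (Spec (CommRingCat.of Ω)) := inferInstanceAs (Nonempty (PrimeSpectrum Ω))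
  obtain ⟨y⟩ := this
  exact ⟨y, Subsingleton.elim _ _⟩

theorem geometrically_of_bc {P : ObjectProperty Scheme.{u}}
    (hD : ∀ {L Ω : Type u} [Field L] [Field Ω] (φ : L →+* Ω) {Y Z : Scheme.{u}} (p : Z ⟶ Y)
      (q : Z ⟶ Spec (CommRingCat.of Ω)) (s : Y ⟶ Spec (CommRingCat.of L)),
      IsPullback p q s (Spec.map (CommRingCat.ofHom φ)) → P Z → P Y)
    {k K : Type u} [Field k] [Field K] [Algebra k K] {X : Scheme.{u}}
    (f : X ⟶ Spec (CommRingCat.of k))
    (h : geometrically P (pullback.snd f (Spec.map (CommRingCat.ofHom (algebraMap k K))))) :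
    geometrically P f := by
  rw [geometrically_iff_of_commRing]
  intro L _ _ Y fst snd hY
  have hnt : Nontrivial (L ⊗[k] K) :=
    Algebra.TensorProduct.nontrivial_of_algebraMap_injective_of_flat_left (R := k) L K
      (algebraMap k K).injective
  obtain ⟨m, hm⟩ := Ideal.exists_maximal (L ⊗[k] K)
  letI : Field ((L ⊗[k] K) ⧸ m) := Ideal.Quotient.field m
  let ιL : L →+* (L ⊗[k] K) ⧸ m :=
    (Ideal.Quotient.mk m).comp (Algebra.TensorProduct.includeLeft (R := k) (S := k) (A := L) (B := K)).toRingHom
  let ιK : K →+* (L ⊗[k] K) ⧸ m :=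
    (Ideal.Quotient.mk m).comp (Algebra.TensorProduct.includeRight (R := k) (A := L) (B := K)).toRingHom
  have hcomm : ιL.comp (algebraMap k L) = ιK.comp (algebraMap k K) := by
    ext c
    simp only [ιL, ιK, RingHom.comp_apply, AlgHom.toRingHom_eq_coe, RingHom.coe_coe, AlgHom.commutes]
  have hcomm' : Spec.map (CommRingCat.ofHom ιL) ≫ Spec.map (CommRingCat.ofHom (algebraMap k L)) =
      Spec.map (CommRingCat.ofHom ιK) ≫ Spec.map (CommRingCat.ofHom (algebraMap k K)) := by
    rw [← Spec.map_comp, ← Spec.map_comp, ← CommRingCat.ofHom_comp, ← CommRingCat.ofHom_comp, hcomm]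
  have hZ := IsPullback.of_hasPullback snd (Spec.map (CommRingCat.ofHom ιL))
  have hbig := hZ.paste_horiz hY
  rw [hcomm'] at hbig
  have hK := IsPullback.of_hasPullback f (Spec.map (CommRingCat.ofHom (algebraMap k K)))
  let r : pullback snd (Spec.map (CommRingCat.ofHom ιL)) ⟶
      pullback f (Spec.map (CommRingCat.ofHom (algebraMap k K))) :=
    pullback.lift (pullback.fst snd (Spec.map (CommRingCat.ofHom ιL)) ≫ fst)
      (pullback.snd snd (Spec.map (CommRingCat.ofHom ιL)) ≫ Spec.map (CommRingCat.ofHom ιK))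
      (by rw [Category.assoc, Category.assoc]; exact hbig.w)
  have hr1 : r ≫ pullback.fst f (Spec.map (CommRingCat.ofHom (algebraMap k K))) =
      pullback.fst snd (Spec.map (CommRingCat.ofHom ιL)) ≫ fst := pullback.lift_fst _ _ _
  have hr2 : r ≫ pullback.snd f (Spec.map (CommRingCat.ofHom (algebraMap k K))) =
      pullback.snd snd (Spec.map (CommRingCat.ofHom ιL)) ≫ Spec.map (CommRingCat.ofHom ιK) :=
    pullback.lift_snd _ _ _
  have hleft : IsPullback r (pullback.snd snd (Spec.map (CommRingCat.ofHom ιL)))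
      (pullback.snd f (Spec.map (CommRingCat.ofHom (algebraMap k K))))
      (Spec.map (CommRingCat.ofHom ιK)) := by
    refine IsPullback.of_right ?_ hr2 hK
    rw [hr1]
    exact hbig
  have hPZ := h (Spec.map (CommRingCat.ofHom ιK)) r _ hleft
  exact hD ιL _ _ snd hZ hPZ

theorem connected_descends {L Ω : Type u} [Field L] [Field Ω] (φ : L →+* Ω) {Y Z : Scheme.{u}}
    (p : Z ⟶ Y) (q : Z ⟶ Spec (CommRingCat.of Ω)) (s : Y ⟶ Spec (CommRingCat.of L))
    (hZ : IsPullback p q s (Spec.map (CommRingCat.ofHom φ))) (h : ConnectedSpace Z) :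
    ConnectedSpace Y := by
  have hs : Surjective p :=
    MorphismProperty.of_isPullback (P := @Surjective) hZ.flip (surjective_specMap_field φ)
  exact Function.Surjective.connectedSpace p.surjective p.continuous

theorem irreducible_descends {L Ω : Type u} [Field L] [Field Ω] (φ : L →+* Ω) {Y Z : Scheme.{u}}
    (p : Z ⟶ Y) (q : Z ⟶ Spec (CommRingCat.of Ω)) (s : Y ⟶ Spec (CommRingCat.of L))
    (hZ : IsPullback p q s (Spec.map (CommRingCat.ofHom φ))) (h : IrreducibleSpace Z) :
    IrreducibleSpace Y := by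
  have hs : Surjective p :=
    MorphismProperty.of_isPullback (P := @Surjective) hZ.flip (surjective_specMap_field φ)
  exact Function.Surjective.irreducibleSpace p.continuous p.surjective

end Groth.Agent.Lib.Helper15.GeomDesc
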