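import Groth.Prelude.Def_AlgSp4
import Groth.Prelude.Def_AlgSpDec
import Groth.Agent.Lib.Helper3.AlgSpHasAtMor2
import Groth.Agent.Lib.Helper3.AlgSpLocP4
import Groth.Agent.Lib.Helper3.AlgSpLocP3
import Groth.Agent.Lib.Helper3.AlgSpPoints
import Groth.Agent.Lib.Helper3.AlgSpOpenSub

/-!
# Helper15 — AlgSpBCChart: chart diagrams of a base change obtained by base change of a chart diagram
-/

set_option autoImplicit false
universe u
open CategoryTheory CategoryTheory.Limits AlgebraicGeometry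
open AlgSp

namespace Groth.Agent.Lib.Helper15.AlgSpBCChart
open Groth.Agent.Lib.Helper3
set_option backward.isDefEq.respectTransparency.types false

variable {S : Scheme.{u}}

/-- For a base change `f'` of `f : X ⟶ Y` along `a : Y' ⟶ Y` and a point `x'` of `X'`: a chart diagram
`(a₀, b₀, h)` of `f` and a chart diagram `(a'', b'', p₂)` of `f'` through `x'` such that `p₂` is the
base change of `h` along a morphism of schemes `k`, compatibly with the points. -/
theorem exists_baseChange_chart {X Y Y' X' : Sp S} (hX : IsAlgSpace X) (hY : IsAlgSpace Y)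
    (hY' : IsAlgSpace Y') (f : X ⟶ Y) (a : Y' ⟶ Y) (b : X' ⟶ X)
    (f' : X' ⟶ Y') (sq : IsPullback b f' f a) (x' : Points X') :
    ∃ (U V V'' U'' : Over S) (a₀ : (yon S).obj U ⟶ X) (b₀ : (yon S).obj V ⟶ Y) (h : U ⟶ V)
      (a'' : (yon S).obj U'' ⟶ X') (b'' : (yon S).obj V'' ⟶ Y') (p₁ : U'' ⟶ U) (p₂ : U'' ⟶ V'')
      (k : V'' ⟶ V) (w₀ : ↥U''.left),
      RepWith @Etale a₀ ∧ RepWith @Etale b₀ ∧ a₀ ≫ f = (yon S).map h ≫ b₀ ∧
      RepWith @Etale a'' ∧ RepWith @Etale b'' ∧ a'' ≫ f' = (yon S).map p₂ ≫ b'' ∧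
      IsPullback p₁.left p₂.left h.left k.left ∧
      a'' ≫ b = (yon S).map p₁ ≫ a₀ ∧ b'' ≫ a = (yon S).map k ≫ b₀ ∧
      Points.ofPt a'' w₀ = x' ∧ Points.ofPt a₀ (p₁.left w₀) = Points.map b x' := by
  obtain ⟨V, b₀, hb₀e, hb₀s⟩ := hY.atlas
  obtain ⟨U, u₀, h, -, -, ha₀e, ha₀s, -, hw⟩ := exists_chart_over hX hY f b₀ hb₀e
  generalize u₀ ≫ pullback.fst f b₀ = a₀ at ha₀e ha₀s hw
  have ha₀s' := ha₀s hb₀s
  obtain ⟨u, hu⟩ := exists_ofPt_eq a₀ ha₀s' (Points.map b x')
  have sqU := IsPullback.of_hasPullback b a₀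
  have sqV := IsPullback.of_hasPullback a b₀
  have hV' : IsAlgSpace (pullback a b₀) := isAlgSpace_of_isPullback' hY hY' (IsAlgSpace.yon_obj V) sqV
  have hjVe : RepWith @Etale (pullback.fst a b₀) := MorphismProperty.of_isPullback sqV.flip hb₀e
  have hjUe : RepWith @Etale (pullback.fst b a₀) := MorphismProperty.of_isPullback sqU.flip ha₀e
  have hcomm : (pullback.fst b a₀ ≫ f') ≫ a = (pullback.snd b a₀ ≫ (yon S).map h) ≫ b₀ := by
    rw [Category.assoc, ← sq.w, ← Category.assoc, sqU.w, Category.assoc, Category.assoc, hw]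
  let h' : pullback b a₀ ⟶ pullback a b₀ := sqV.lift _ _ hcomm
  have hh'1 : h' ≫ pullback.fst a b₀ = pullback.fst b a₀ ≫ f' := sqV.lift_fst _ _ _
  have hh'2 : h' ≫ pullback.snd a b₀ = pullback.snd b a₀ ≫ (yon S).map h := sqV.lift_snd _ _ _
  have outer : IsPullback (h' ≫ pullback.fst a b₀) (pullback.snd b a₀) a ((yon S).map h ≫ b₀) := by
    rw [hh'1, ← hw]
    exact (sqU.flip.paste_vert sq).flip
  have sqh' : IsPullback h' (pullback.snd b a₀) (pullback.snd a b₀) ((yon S).map h) :=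
    IsPullback.of_right outer hh'2 sqV
  obtain ⟨V'', v'', hv''e, hv''s⟩ := hV'.atlas
  obtain ⟨k, hk⟩ := (yon S).map_surjective (v'' ≫ pullback.snd a b₀)
  have hb''e : RepWith @Etale (v'' ≫ pullback.fst a b₀) :=
    MorphismProperty.comp_mem _ _ _ hv''e hjVe
  have sqO := IsPullback.of_hasPullback h k
  have sqY : IsPullback ((yon S).map (pullback.fst h k)) ((yon S).map (pullback.snd h k))
      ((yon S).map h) ((yon S).map k) := sqO.map (yon S)
  have hcomm2 : (yon S).map (pullback.snd h k) ≫ v'' ≫ pullback.snd a b₀ =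
      (yon S).map (pullback.fst h k) ≫ (yon S).map h := by
    rw [← hk]; exact sqY.w.symm
  let u'' : (yon S).obj (pullback h k) ⟶ pullback b a₀ :=
    sqh'.lift ((yon S).map (pullback.snd h k) ≫ v'') ((yon S).map (pullback.fst h k))
      (by rw [Category.assoc]; exact hcomm2)
  have hu''1 : u'' ≫ h' = (yon S).map (pullback.snd h k) ≫ v'' := sqh'.lift_fst _ _ _
  have hu''2 : u'' ≫ pullback.snd b a₀ = (yon S).map (pullback.fst h k) := sqh'.lift_snd _ _ _
  have sqL : IsPullback ((yon S).map (pullback.snd h k)) u'' v'' h' := by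
    refine IsPullback.of_bot ?_ hu''1.symm sqh'
    rw [hu''2, ← hk]
    exact sqY.flip
  have hu''e : RepWith @Etale u'' := MorphismProperty.of_isPullback sqL hv''e
  have hu''s : RepWith @Surjective u'' := MorphismProperty.of_isPullback sqL hv''s
  have ha''e : RepWith @Etale (u'' ≫ pullback.fst b a₀) :=
    MorphismProperty.comp_mem _ _ _ hu''e hjUe
  have hw'' : (u'' ≫ pullback.fst b a₀) ≫ f' =
      (yon S).map (pullback.snd h k) ≫ (v'' ≫ pullback.fst a b₀) := by
    rw [Category.assoc, ← hh'1, ← Category.assoc, hu''1, Category.assoc]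
  have hxy : Points.map b x' = Points.map a₀ (Points.ofScheme U u) := by
    rw [← Points.ofPt_eq_map_ofScheme, hu]
  obtain ⟨z, hz1, hz2⟩ := Points.exists_of_isPullback sqU x' (Points.ofScheme U u) hxy
  obtain ⟨w₀, hw₀⟩ := exists_ofPt_eq u'' hu''s z
  have hpt1 : Points.ofPt (u'' ≫ pullback.fst b a₀) w₀ = x' := by
    rw [← Points.map_ofPt, hw₀, hz1]
  have hpt2 : (pullback.fst h k).left w₀ = u := by
    have h1 : Points.ofPt ((yon S).map (pullback.fst h k)) w₀ = Points.ofScheme U u := by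
      rw [← hu''2, ← Points.map_ofPt, hw₀, hz2]
    have h2 := congrArg (Points.toScheme U) h1
    rwa [Points.toScheme_ofPt, Points.toScheme_ofScheme] at h2
  have sqS : IsPullback (pullback.fst h k).left (pullback.snd h k).left h.left k.left :=
    sqO.map (Over.forget S)
  refine ⟨U, V, V'', pullback h k, a₀, b₀, h, u'' ≫ pullback.fst b a₀, v'' ≫ pullback.fst a b₀,
    pullback.fst h k, pullback.snd h k, k, w₀, ha₀e, hb₀e, hw, ha''e, hb''e, hw'', sqS, ?_, ?_,
    hpt1, ?_⟩
  · rw [Category.assoc, sqU.w, ← Category.assoc, hu''2]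
  · rw [Category.assoc, sqV.w, ← Category.assoc, hk]
  · rw [hpt2, hu]

end Groth.Agent.Lib.Helper15.AlgSpBCChart
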