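import Groth.Prelude.Def_AlgSpInf
import Groth.Agent.Lib.Helper3.AlgSpLocP4

set_option autoImplicit false
universe u
open CategoryTheory CategoryTheory.Limits AlgebraicGeometry
open AlgSp

namespace Groth.Agent.Lib.Helper15.AlgSpThick
open Groth.Agent.Lib.Helper3
set_option backward.isDefEq.respectTransparency.types false

variable {S : Scheme.{u}}

/-- A chart diagram of `f'` restricts, along a cartesian square of thickenings, to a chart
diagram of `f`, and the resulting square of schemes is cartesian. -/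
theorem exists_thick_chart {X X' Y Y' : Sp S} (i : X ⟶ X') (j : Y ⟶ Y') (f : X ⟶ Y) (f' : X' ⟶ Y')
    (hi : IsThickMor i) (hj : IsThickMor j) (hcart : IsPullback i f f' j)
    {U' V' : Over S} (a' : (yon S).obj U' ⟶ X') (b' : (yon S).obj V' ⟶ Y') (h' : U' ⟶ V')
    (ha' : RepWith @Etale a') (hb' : RepWith @Etale b') (w' : a' ≫ f' = (yon S).map h' ≫ b') :
    ∃ (U V : Over S) (iU : U ⟶ U') (iV : V ⟶ V') (h : U ⟶ V) (a : (yon S).obj U ⟶ X)
      (b : (yon S).obj V ⟶ Y),
      RepWith @Etale a ∧ RepWith @Etale b ∧ a ≫ f = (yon S).map h ≫ b ∧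
      MoreMor.IsThickening iU.left ∧ MoreMor.IsThickening iV.left ∧
      IsPullback iU.left h.left h'.left iV.left ∧
      IsPullback a ((yon S).map iU) i a' ∧ IsPullback b ((yon S).map iV) j b' := by
  have sqU := hi.rep.isPullback a'
  have sqV := hj.rep.isPullback b'
  have hU : MoreMor.IsThickening (hi.rep.snd a').left := hi.property_snd a'
  have hV : MoreMor.IsThickening (hj.rep.snd b').left := hj.property_snd b'
  have hae : RepWith @Etale (hi.rep.fst a') := MorphismProperty.of_isPullback sqU.flip ha'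
  have hbe : RepWith @Etale (hj.rep.fst b') := MorphismProperty.of_isPullback sqV.flip hb'
  have big : IsPullback ((yon S).map (hi.rep.snd a')) (hi.rep.fst a' ≫ f) (a' ≫ f') j :=
    sqU.flip.paste_vert hcart
  have comm : (hi.rep.fst a' ≫ f) ≫ j = ((yon S).map (hi.rep.snd a') ≫ (yon S).map h') ≫ b' := by
    rw [Category.assoc, Category.assoc, ← w']
    simpa only [Category.assoc] using big.w.symm
  obtain ⟨h, hh⟩ := (yon S).map_surjective (sqV.lift _ _ comm)
  have h1 : (yon S).map h ≫ hj.rep.fst b' = hi.rep.fst a' ≫ f := by rw [hh, sqV.lift_fst]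
  have h2 : (yon S).map h ≫ (yon S).map (hj.rep.snd b') =
      (yon S).map (hi.rep.snd a') ≫ (yon S).map h' := by rw [hh, sqV.lift_snd]
  have big' : IsPullback ((yon S).map (hi.rep.snd a')) ((yon S).map h ≫ hj.rep.fst b')
      ((yon S).map h' ≫ b') j := by
    rw [h1, ← w']; exact big
  have top : IsPullback ((yon S).map (hi.rep.snd a')) ((yon S).map h) ((yon S).map h')
      ((yon S).map (hj.rep.snd b')) :=
    IsPullback.of_bot big' h2.symm sqV.flip
  have commO : hi.rep.snd a' ≫ h' = h ≫ hj.rep.snd b' := by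
    apply (yon S).map_injective
    rw [Functor.map_comp, Functor.map_comp, h2]
  have topO : IsPullback (hi.rep.snd a') h h' (hj.rep.snd b') :=
    IsPullback.of_map (yon S) commO top
  exact ⟨_, _, hi.rep.snd a', hj.rep.snd b', h, hi.rep.fst a', hj.rep.fst b', hae, hbe, h1.symm,
    hU, hV, topO.map (Over.forget S), sqU, sqV⟩

end Groth.Agent.Lib.Helper15.AlgSpThick
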