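import Mathlib
set_option autoImplicit false
universe u
open CategoryTheory CategoryTheory.Limits AlgebraicGeometry TensorProduct

namespace Groth.Agent.Lib.Helper15.Thick

/-- nilpotent Nakayama for submodules: `N ⊔ I • ⊤ = ⊤` and `I` nilpotent implies `N = ⊤`. -/
theorem eq_top_of_sup_smul_top {A M : Type*} [CommRing A] [AddCommGroup M] [Module A M]
    (I : Ideal A) (hI : IsNilpotent I) (N : Submodule A M) (h : ⊤ ≤ N ⊔ I • (⊤ : Submodule A M)) :
    N = ⊤ := by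
  obtain ⟨n, hn⟩ := hI
  have key : ∀ k : ℕ, (⊤ : Submodule A M) ≤ N ⊔ (I ^ k) • (⊤ : Submodule A M) := by
    intro k
    induction k with
    | zero => rw [pow_zero, Ideal.one_eq_top, Submodule.top_smul]; exact le_sup_right
    | succ k ih =>
      have h1 : (I ^ k) • (⊤ : Submodule A M) ≤ N ⊔ (I ^ (k + 1)) • (⊤ : Submodule A M) := by
        calc (I ^ k) • (⊤ : Submodule A M) ≤ (I ^ k) • (N ⊔ I • (⊤ : Submodule A M)) :=
              Submodule.smul_mono le_rfl h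
          _ = (I ^ k) • N ⊔ (I ^ k) • (I • (⊤ : Submodule A M)) := Submodule.smul_sup _ _ _
          _ ≤ N ⊔ (I ^ (k + 1)) • (⊤ : Submodule A M) := by
              apply sup_le_sup
              · exact Submodule.smul_le_right
              · rw [← Submodule.mul_smul, ← pow_succ]
      exact ih.trans (sup_le le_sup_left h1)
  have := key n
  rw [hn, Ideal.zero_eq_bot, Submodule.bot_smul, sup_bot_eq] at this
  exact top_le_iff.mp this

theorem finiteType_of_comp_surjective {A B B₀ : Type*} [CommRing A] [CommRing B] [CommRing B₀]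
    (φ : A →+* B) (π : B →+* B₀) (hπ : Function.Surjective π) (I : Ideal A) (hI : IsNilpotent I)
    (hker : RingHom.ker π ≤ Ideal.map φ I) (hft : (π.comp φ).FiniteType) : φ.FiniteType := by
  classical
  letI := φ.toAlgebra
  letI := (π.comp φ).toAlgebra
  let πₐ : B →ₐ[A] B₀ := { π with commutes' := fun a => rfl }
  have hft' : Algebra.FiniteType A B₀ := hft
  obtain ⟨s, hs⟩ := hft'.out
  let t : Finset B := s.image (Function.surjInv hπ)
  have hts : πₐ '' (t : Set B) = (s : Set B₀) := by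
    ext y
    simp only [t, Finset.coe_image, Set.mem_image, Finset.mem_coe]
    constructor
    · rintro ⟨_, ⟨z, hz, rfl⟩, rfl⟩
      have : πₐ (Function.surjInv hπ z) = z := Function.surjInv_eq hπ z
      rw [this]; exact hz
    · intro hy
      exact ⟨_, ⟨y, hy, rfl⟩, Function.surjInv_eq hπ y⟩
  let C : Subalgebra A B := Algebra.adjoin A (t : Set B)
  have hmap : C.map πₐ = ⊤ := by
    rw [AlgHom.map_adjoin, hts, hs]
  have hC : Subalgebra.toSubmodule C = ⊤ := by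
    apply eq_top_of_sup_smul_top I hI
    intro b _
    have hb : πₐ b ∈ C.map πₐ := by rw [hmap]; trivial
    obtain ⟨c, hc, hcb⟩ := hb
    have hk : b - c ∈ RingHom.ker π := by
      rw [RingHom.mem_ker, map_sub]
      have : π c = π b := hcb
      rw [this, sub_self]
    have hk' : b - c ∈ I • (⊤ : Submodule A B) := by
      rw [Ideal.smul_top_eq_map]
      exact hker hk
    have : b = c + (b - c) := by ring
    rw [this]
    exact Submodule.add_mem_sup hc hk'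
  refine ⟨⟨t, ?_⟩⟩
  show C = ⊤
  apply Subalgebra.toSubmodule_injective
  rw [hC]; rfl

theorem formallyUnramified_of_isPushout {A A₀ B B₀ : Type u} [CommRing A] [CommRing A₀] [CommRing B]
    [CommRing B₀] [Algebra A A₀] [Algebra A B] [Algebra A₀ B₀] [Algebra B B₀] [Algebra A B₀]
    [IsScalarTower A A₀ B₀] [IsScalarTower A B B₀] [Algebra.IsPushout A A₀ B B₀]
    (hsurj : Function.Surjective (algebraMap B B₀))
    (hnil : IsNilpotent (RingHom.ker (algebraMap B B₀)))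
    [Algebra.FormallyUnramified A₀ B₀] : Algebra.FormallyUnramified A B := by
  constructor
  let M := Ω[B⁄A]
  let K : Ideal B := RingHom.ker (algebraMap B B₀)
  have e1 : B₀ ⊗[B] M ≃ₗ[B₀] Ω[B₀⁄A₀] := KaehlerDifferential.tensorKaehlerEquiv A A₀ B B₀
  have hsub : Subsingleton (B₀ ⊗[B] M) := e1.toEquiv.subsingleton
  let e2 : (B ⧸ K) ≃ₐ[B] B₀ :=
    Ideal.quotientKerAlgEquivOfSurjective (f := Algebra.ofId B B₀) hsurj
  have e3 : (B ⧸ K) ⊗[B] M ≃ₗ[B] B₀ ⊗[B] M := LinearEquiv.rTensor M e2.toLinearEquiv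
  have e4 : (B ⧸ K) ⊗[B] M ≃ₗ[B] M ⧸ (K • (⊤ : Submodule B M)) :=
    TensorProduct.quotTensorEquivQuotSMul M K
  have hsub2 : Subsingleton (M ⧸ (K • (⊤ : Submodule B M))) :=
    (e4.symm.trans e3).toEquiv.subsingleton
  have htop : K • (⊤ : Submodule B M) = ⊤ := Submodule.Quotient.subsingleton_iff.mp hsub2
  have hbot : (⊥ : Submodule B M) = ⊤ :=
    eq_top_of_sup_smul_top K hnil ⊥ (by rw [htop]; exact le_sup_right)
  exact (Submodule.subsingleton_iff B).mp (subsingleton_iff_bot_eq_top.mp hbot)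

set_option backward.isDefEq.respectTransparency.types false

section ring

variable {A B A₀ B₀ : CommRingCat.{u}} {φ : A ⟶ B} {ψ : A ⟶ A₀} {ψ' : B ⟶ B₀} {φ₀ : A₀ ⟶ B₀}

theorem surjective_of_isPushout (h : IsPushout φ ψ ψ' φ₀) (hψ : Function.Surjective ψ.hom) :
    Function.Surjective ψ'.hom := by
  let R' : Subring B₀ := ψ'.hom.range
  let a : B ⟶ CommRingCat.of R' := CommRingCat.ofHom ψ'.hom.rangeRestrict
  have hb : ∀ x : A₀, φ₀.hom x ∈ R' := by
    intro x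
    obtain ⟨y, rfl⟩ := hψ x
    refine ⟨φ.hom y, ?_⟩
    exact congrArg (fun k => k.hom y) h.w
  let b : A₀ ⟶ CommRingCat.of R' := CommRingCat.ofHom (φ₀.hom.codRestrict R' hb)
  have hab : φ ≫ a = ψ ≫ b := by
    ext y
    exact congrArg (fun k => k.hom y) h.w
  let ι : CommRingCat.of R' ⟶ B₀ := CommRingCat.ofHom R'.subtype
  have hd : h.desc a b hab ≫ ι = 𝟙 B₀ := by
    apply h.hom_ext
    · rw [← Category.assoc, h.inl_desc]; rfl
    · rw [← Category.assoc, h.inr_desc]; rfl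
  intro y
  have h1 : ι.hom ((h.desc a b hab).hom y) = y := congrArg (fun k => k.hom y) hd
  have h2 : y ∈ R' := by
    rw [← h1]
    exact ((h.desc a b hab).hom y).2
  exact h2

theorem ker_le_of_isPushout (h : IsPushout φ ψ ψ' φ₀) (hψ : Function.Surjective ψ.hom) :
    RingHom.ker ψ'.hom ≤ Ideal.map φ.hom (RingHom.ker ψ.hom) := by
  let K : Ideal B := Ideal.map φ.hom (RingHom.ker ψ.hom)
  let q : B ⟶ CommRingCat.of (B ⧸ K) := CommRingCat.ofHom (Ideal.Quotient.mk K)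
  have hker : RingHom.ker ψ.hom ≤ RingHom.ker ((Ideal.Quotient.mk K).comp φ.hom) := by
    intro x hx
    rw [RingHom.mem_ker, RingHom.comp_apply, Ideal.Quotient.eq_zero_iff_mem]
    exact Ideal.mem_map_of_mem _ hx
  let χ : A₀ ⟶ CommRingCat.of (B ⧸ K) :=
    CommRingCat.ofHom (ψ.hom.liftOfSurjective hψ ⟨(Ideal.Quotient.mk K).comp φ.hom, hker⟩)
  have hcomm : φ ≫ q = ψ ≫ χ := by
    ext y
    exact (RingHom.liftOfRightInverse_comp_apply ψ.hom (Function.surjInv hψ)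
      (Function.rightInverse_surjInv hψ) ⟨(Ideal.Quotient.mk K).comp φ.hom, hker⟩ y).symm
  intro x hx
  have h1 : (h.desc q χ hcomm).hom (ψ'.hom x) = q.hom x :=
    congrArg (fun k => k.hom x) (h.inl_desc q χ hcomm)
  rw [RingHom.mem_ker] at hx
  rw [hx, map_zero] at h1
  exact Ideal.Quotient.eq_zero_iff_mem.mp h1.symm

end ring


section ring2

variable {A B A₀ B₀ : CommRingCat.{u}} {φ : A ⟶ B} {ψ : A ⟶ A₀} {ψ' : B ⟶ B₀} {φ₀ : A₀ ⟶ B₀}

theorem isNilpotent_ker_of_isPushout (h : IsPushout φ ψ ψ' φ₀) (hψ : Function.Surjective ψ.hom)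
    (hnil : IsNilpotent (RingHom.ker ψ.hom)) : IsNilpotent (RingHom.ker ψ'.hom) := by
  obtain ⟨n, hn⟩ := hnil
  refine ⟨n, ?_⟩
  rw [Ideal.zero_eq_bot, eq_bot_iff]
  calc RingHom.ker ψ'.hom ^ n ≤ (Ideal.map φ.hom (RingHom.ker ψ.hom)) ^ n :=
        Ideal.pow_right_mono (ker_le_of_isPushout h hψ) n
    _ = Ideal.map φ.hom (RingHom.ker ψ.hom ^ n) := (Ideal.map_pow _ _ _).symm
    _ = ⊥ := by rw [hn, Ideal.zero_eq_bot, Ideal.map_bot]

theorem finiteType_of_isPushout (h : IsPushout φ ψ ψ' φ₀) (hψ : Function.Surjective ψ.hom)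
    (hnil : IsNilpotent (RingHom.ker ψ.hom)) (hQ : φ₀.hom.FiniteType) : φ.hom.FiniteType := by
  apply finiteType_of_comp_surjective φ.hom ψ'.hom (surjective_of_isPushout h hψ) _ hnil
    (ker_le_of_isPushout h hψ)
  have : ψ'.hom.comp φ.hom = φ₀.hom.comp ψ.hom := congrArg (fun k => k.hom) h.w
  rw [this]
  exact hQ.comp (RingHom.FiniteType.of_surjective _ hψ)

theorem formallyUnramified_of_isPushout' (h : IsPushout φ ψ ψ' φ₀) (hψ : Function.Surjective ψ.hom)
    (hnil : IsNilpotent (RingHom.ker ψ.hom)) (hQ : φ₀.hom.FormallyUnramified) :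
    φ.hom.FormallyUnramified := by
  have hsurj := surjective_of_isPushout h hψ
  have hnil' := isNilpotent_ker_of_isPushout h hψ hnil
  algebraize [φ.hom, ψ.hom, ψ'.hom, φ₀.hom, ψ'.hom.comp φ.hom]
  have : IsScalarTower A A₀ B₀ := .of_algebraMap_eq' (congrArg (fun k => k.hom) h.w)
  have hpo : Algebra.IsPushout A B A₀ B₀ := CommRingCat.isPushout_iff_isPushout.mp h
  have hpo' : Algebra.IsPushout A A₀ B B₀ := hpo.symm
  have hQ' : Algebra.FormallyUnramified A₀ B₀ := hQ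
  exact formallyUnramified_of_isPushout (A := A) (A₀ := A₀) (B := B) (B₀ := B₀) hsurj hnil'

end ring2

section scheme
set_option backward.isDefEq.respectTransparency.types false

theorem descend_along_nilpotent {P : MorphismProperty Scheme.{u}}
    {Q : ∀ {R S : Type u} [CommRing R] [CommRing S], (R →+* S) → Prop} [HasRingHomProperty P Q]
    (hQ : ∀ {A B A₀ B₀ : CommRingCat.{u}} (φ : A ⟶ B) (ψ : A ⟶ A₀) (ψ' : B ⟶ B₀) (φ₀ : A₀ ⟶ B₀),
      IsPushout φ ψ ψ' φ₀ → Function.Surjective ψ.hom → IsNilpotent (RingHom.ker ψ.hom) →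
        Q φ₀.hom → Q φ.hom)
    {X X' S S' : Scheme.{u}} (iX : X ⟶ X') (iS : S ⟶ S') (f : X ⟶ S) (f' : X' ⟶ S')
    [IsClosedImmersion iS]
    (hnil : ∀ U : S'.affineOpens, IsNilpotent (RingHom.ker (iS.app U.1).hom))
    (hc : IsPullback iX f f' iS) (hf : P f) : P f' := by
  rw [HasRingHomProperty.iff_appLE (P := P)]
  intro U V e
  have hU₀ : IsAffineOpen (iS ⁻¹ᵁ U.1) := U.2.preimage iS
  have hiso := isIso_pushoutSection_of_isAffineOpen hc (US := U.1) (UT := iS ⁻¹ᵁ U.1) (UX := V.1)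
    le_rfl e (UY := iX ⁻¹ᵁ V.1 ⊓ f ⁻¹ᵁ (iS ⁻¹ᵁ U.1)) rfl U.2 hU₀ V.2
  have hpo := (isIso_pushoutSection_iff hc (US := U.1) (UT := iS ⁻¹ᵁ U.1) (UX := V.1)
    le_rfl e (UY := iX ⁻¹ᵁ V.1 ⊓ f ⁻¹ᵁ (iS ⁻¹ᵁ U.1)) rfl).mp hiso
  have hW : IsAffineOpen (iX ⁻¹ᵁ V.1 ⊓ f ⁻¹ᵁ (iS ⁻¹ᵁ U.1)) := by
    have : IsAffine _ := U.2
    have : IsAffine _ := hU₀
    have : IsAffine _ := V.2
    exact .of_isIso (Scheme.Hom.isPullback_resLE hc (US := U.1) (UT := iS ⁻¹ᵁ U.1) (UX := V.1)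
      le_rfl e (UY := iX ⁻¹ᵁ V.1 ⊓ f ⁻¹ᵁ (iS ⁻¹ᵁ U.1)) rfl).isoPullback.hom
  refine hQ _ _ _ _ hpo ?_ ?_ ?_
  · rw [Scheme.Hom.appLE_eq_app]
    exact iS.app_surjective U.1 U.2
  · rw [Scheme.Hom.appLE_eq_app]
    exact hnil U
  · exact HasRingHomProperty.appLE P f hf ⟨_, hU₀⟩ ⟨_, hW⟩ _

end scheme

end Groth.Agent.Lib.Helper15.Thick
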