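import Mathlib
import Groth.Agent.Lib.Helper15.Thick

/-!
# Helper15 — ThickSmooth: smoothness lifts across nilpotent thickenings for flat morphisms

* `smooth_of_flat_of_isPushout` (ring level): `A → B` flat and of finite presentation, `A → A₀` surjective
  with nil kernel, `B₀ = A₀ ⊗_A B` smooth over `A₀` ⇒ `B` smooth over `A`.
* `descend_along_nilpotent'`: variant of `Thick.descend_along_nilpotent` where the ring-level lemma may use
  an auxiliary property of `f'` (e.g. flatness) and of the base rings (e.g. Noetherian).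
-/

universe u

open CategoryTheory CategoryTheory.Limits AlgebraicGeometry TensorProduct

namespace Groth.Agent.Lib.Helper15.ThickSmooth

section ring

theorem smooth_of_flat_of_isPushout {A A₀ B B₀ : Type u} [CommRing A] [CommRing A₀] [CommRing B]
    [CommRing B₀] [Algebra A A₀] [Algebra A B] [Algebra A₀ B₀] [Algebra B B₀] [Algebra A B₀]
    [IsScalarTower A A₀ B₀] [IsScalarTower A B B₀] [Algebra.IsPushout A A₀ B B₀]
    (hsurj : Function.Surjective (algebraMap A A₀))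
    (hnil : RingHom.ker (algebraMap A A₀) ≤ nilradical A)
    [Module.Flat A B] [Algebra.FinitePresentation A B] [Algebra.FormallySmooth A₀ B₀] :
    Algebra.Smooth A B := by
  refine Algebra.Smooth.of_formallySmooth_fiber fun p hp => ?_
  have hker : RingHom.ker (algebraMap A A₀) ≤ RingHom.ker (algebraMap A p.ResidueField) := by
    intro x hx
    have h1 : IsNilpotent x := hnil hx
    rw [RingHom.mem_ker]
    exact (h1.map (algebraMap A p.ResidueField)).eq_zero
  let g : A₀ →+* p.ResidueField :=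
    RingHom.liftOfSurjective (algebraMap A A₀) hsurj ⟨algebraMap A p.ResidueField, hker⟩
  letI : Algebra A₀ p.ResidueField := g.toAlgebra
  haveI : IsScalarTower A A₀ p.ResidueField := .of_algebraMap_eq fun a =>
    (RingHom.liftOfRightInverse_comp_apply (algebraMap A A₀) (Function.surjInv hsurj)
      (Function.rightInverse_surjInv hsurj) ⟨algebraMap A p.ResidueField, hker⟩ a).symm
  let e₁ : A₀ ⊗[A] B ≃ₐ[A₀] B₀ := Algebra.IsPushout.equiv A A₀ B B₀
  haveI : Algebra.FormallySmooth A₀ (A₀ ⊗[A] B) := .of_equiv e₁.symm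
  let e₂ : p.ResidueField ⊗[A₀] (A₀ ⊗[A] B) ≃ₐ[p.ResidueField] p.ResidueField ⊗[A] B :=
    Algebra.TensorProduct.cancelBaseChange A A₀ p.ResidueField p.ResidueField B
  exact .of_equiv e₂

end ring

set_option backward.isDefEq.respectTransparency.types false

section ring2

variable {A B A₀ B₀ : CommRingCat.{u}} {φ : A ⟶ B} {ψ : A ⟶ A₀} {ψ' : B ⟶ B₀} {φ₀ : A₀ ⟶ B₀}

theorem smooth_of_isPushout (h : IsPushout φ ψ ψ' φ₀) (hψ : Function.Surjective ψ.hom)
    (hnil : IsNilpotent (RingHom.ker ψ.hom)) (hN : IsNoetherianRing A) (hfl : φ.hom.Flat)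
    (hQ : φ₀.hom.Smooth) : φ.hom.Smooth := by
  have hft : φ.hom.FiniteType := Thick.finiteType_of_isPushout h hψ hnil (RingHom.FiniteType.of_finitePresentation hQ.finitePresentation)
  have hfp : φ.hom.FinitePresentation := RingHom.FinitePresentation.of_finiteType.1 hft
  have hnil' : RingHom.ker ψ.hom ≤ nilradical A := by
    obtain ⟨n, hn⟩ := hnil
    intro x hx
    refine ⟨n, ?_⟩
    have : x ^ n ∈ RingHom.ker ψ.hom ^ n := Ideal.pow_mem_pow hx n
    rw [hn] at this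
    exact this
  algebraize [φ.hom, ψ.hom, ψ'.hom, φ₀.hom, ψ'.hom.comp φ.hom]
  have : IsScalarTower A A₀ B₀ := .of_algebraMap_eq' (congrArg (fun k => k.hom) h.w)
  have hpo : Algebra.IsPushout A B A₀ B₀ := CommRingCat.isPushout_iff_isPushout.mp h
  have hpo' : Algebra.IsPushout A A₀ B B₀ := hpo.symm
  have hQ' : Algebra.Smooth A₀ B₀ := hQ
  haveI : Algebra.FormallySmooth A₀ B₀ := hQ'.1
  exact smooth_of_flat_of_isPushout (A := A) (A₀ := A₀) (B := B) (B₀ := B₀) hψ hnil'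

end ring2

section scheme

theorem descend_along_nilpotent' {P P₁ : MorphismProperty Scheme.{u}}
    {Q Q₁ : ∀ {R S : Type u} [CommRing R] [CommRing S], (R →+* S) → Prop} [HasRingHomProperty P Q]
    [HasRingHomProperty P₁ Q₁] (R : CommRingCat.{u} → Prop)
    (hQ : ∀ {A B A₀ B₀ : CommRingCat.{u}} (φ : A ⟶ B) (ψ : A ⟶ A₀) (ψ' : B ⟶ B₀) (φ₀ : A₀ ⟶ B₀),
      IsPushout φ ψ ψ' φ₀ → Function.Surjective ψ.hom → IsNilpotent (RingHom.ker ψ.hom) →
        R A → Q₁ φ.hom → Q φ₀.hom → Q φ.hom)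
    {X X' S S' : Scheme.{u}} (iX : X ⟶ X') (iS : S ⟶ S') (f : X ⟶ S) (f' : X' ⟶ S')
    [IsClosedImmersion iS]
    (hnil : ∀ U : S'.affineOpens, IsNilpotent (RingHom.ker (iS.app U.1).hom))
    (hR : ∀ U : S'.affineOpens, R Γ(S', U.1))
    (hc : IsPullback iX f f' iS) (hf' : P₁ f') (hf : P f) : P f' := by
  rw [HasRingHomProperty.iff_appLE (P := P)]
  intro U V e
  have hU₀ : IsAffineOpen (iS ⁻¹ᵁ U.1) := U.2.preimage iS
  have hiso := isIso_pushoutSection_of_isAffineOpen hc (US := U.1) (UT := iS ⁻¹ᵁ U.1) (UX := V.1)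
    le_rfl e (UY := iX ⁻¹ᵁ V.1 ⊓ f ⁻¹ᵁ (iS ⁻¹ᵁ U.1)) rfl U.2 hU₀ V.2
  have hpo := (isIso_pushoutSection_iff hc (US := U.1) (UT := iS ⁻¹ᵁ U.1) (UX := V.1)
    le_rfl e (UY := iX ⁻¹ᵁ V.1 ⊓ f ⁻¹ᵁ (iS ⁻¹ᵁ U.1)) rfl).mp hiso
  have hW : IsAffineOpen (iX ⁻¹ᵁ V.1 ⊓ f ⁻¹ᵁ (iS ⁻¹ᵁ U.1)) := by
    have : IsAffine _ := U.2
    have : IsAffine _ := hU₀
    have : IsAffine _ := V.2
    exact .of_isIso (Scheme.Hom.isPullback_resLE hc (US := U.1) (UT := iS ⁻¹ᵁ U.1) (UX := V.1)
      le_rfl e (UY := iX ⁻¹ᵁ V.1 ⊓ f ⁻¹ᵁ (iS ⁻¹ᵁ U.1)) rfl).isoPullback.hom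
  refine hQ _ _ _ _ hpo ?_ ?_ (hR U) ?_ ?_
  · rw [Scheme.Hom.appLE_eq_app]
    exact iS.app_surjective U.1 U.2
  · rw [Scheme.Hom.appLE_eq_app]
    exact hnil U
  · exact HasRingHomProperty.appLE P₁ f' hf' U V e
  · exact HasRingHomProperty.appLE P f hf ⟨_, hU₀⟩ ⟨_, hW⟩ _

/-- **Smoothness lifts across nilpotent thickenings of locally Noetherian bases for flat morphisms.** -/
theorem smooth_of_flat_of_isPullback {X X' S S' : Scheme.{u}} (iX : X ⟶ X') (iS : S ⟶ S') (f : X ⟶ S)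
    (f' : X' ⟶ S') [IsClosedImmersion iS] [IsLocallyNoetherian S']
    (hnil : ∀ U : S'.affineOpens, IsNilpotent (RingHom.ker (iS.app U.1).hom))
    (hc : IsPullback iX f f' iS) [Flat f'] [Smooth f] : Smooth f' :=
  descend_along_nilpotent' (P := @Smooth) (P₁ := @Flat) (Q := RingHom.Smooth) (Q₁ := RingHom.Flat)
    (fun A => IsNoetherianRing A)
    (fun _ _ _ _ h hψ hnil hN hfl hQ => smooth_of_isPushout h hψ hnil hN hfl hQ)
    iX iS f f' hnil (fun U => IsLocallyNoetherian.component_noetherian U) hc inferInstance inferInstance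

end scheme

end Groth.Agent.Lib.Helper15.ThickSmooth
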