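import Mathlib
import Groth.Agent.Lib.Helper15.ThickSmooth
import Groth.Agent.Lib.Helper17.LocalFlat
import Groth.Agent.Lib.Helper21.FlatKit2

/-!
# Helper15 — Deform: ring-level deformation lemmas across nilpotent ideals

`TorCond J C'` : `J ⊗[B'] C' → B' ⊗[B'] C'` is injective (i.e. `Tor₁^{B'}(B'/J, C') = 0`).
It holds when `J = I B'` for an ideal `I` of a ring `A'` over which `C'` is flat.
Under `TorCond` and `J` nilpotent, flatness / finite presentation / smoothness / étaleness of
`B'/J → C'/JC'` lift to `B' → C'`.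
-/

universe u

open TensorProduct Function

namespace Groth.Agent.Lib.Helper15.Deform

section tor

variable {B' C' : Type*} [CommRing B'] [CommRing C'] [Algebra B' C']

/-- `Tor₁^{B'}(B'/J, C') = 0`, in Tor-free form. -/
def TorCond (J : Ideal B') (C' : Type*) [CommRing C'] [Algebra B' C'] : Prop :=
  Injective (J.subtype.rTensor C')

theorem torCond_of_flat {A' : Type*} [CommRing A'] [Algebra A' B'] [Algebra A' C']
    [IsScalarTower A' B' C'] [Module.Flat A' C'] (I : Ideal A') :
    TorCond (I.map (algebraMap A' B')) C' := by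
  set J := I.map (algebraMap A' B') with hJ
  -- the comparison map
  let f : I →+ C' →+ (J ⊗[B'] C') :=
    { toFun := fun i =>
        { toFun := fun c => (⟨algebraMap A' B' i, Ideal.mem_map_of_mem _ i.2⟩ : J) ⊗ₜ[B'] c
          map_zero' := by simp
          map_add' := fun c c' => by rw [TensorProduct.tmul_add] }
      map_zero' := by
        ext c
        simp only [AddMonoidHom.coe_mk, ZeroMemClass.coe_zero, map_zero, ZeroHom.coe_mk,
          AddMonoidHom.zero_apply]
        have : (⟨0, J.zero_mem⟩ : J) = 0 := rfl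
        rw [this, TensorProduct.zero_tmul]
      map_add' := fun i i' => by
        ext c
        simp only [AddMonoidHom.coe_mk, ZeroHom.coe_mk, AddMonoidHom.add_apply]
        rw [← TensorProduct.add_tmul]
        congr 1
        ext
        simp }
  let θ : (I ⊗[A'] C') →+ (J ⊗[B'] C') := TensorProduct.liftAddHom f (by
    intro a i c
    show (⟨algebraMap A' B' (a • i : I), _⟩ : J) ⊗ₜ[B'] c = (⟨algebraMap A' B' i, _⟩ : J) ⊗ₜ[B'] (a • c)
    have h1 : (⟨algebraMap A' B' (a • i : I), Ideal.mem_map_of_mem _ (a • i).2⟩ : J) =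
        (algebraMap A' B' a) • (⟨algebraMap A' B' i, Ideal.mem_map_of_mem _ i.2⟩ : J) := by
      ext
      simp [Algebra.smul_def]
    rw [h1, TensorProduct.smul_tmul, algebraMap_smul])
  have hθ : ∀ (i : I) (c : C'), θ (i ⊗ₜ c) = (⟨algebraMap A' B' i, Ideal.mem_map_of_mem _ i.2⟩ : J) ⊗ₜ[B'] c :=
    fun i c => rfl
  -- multiplication maps
  let μI : (I ⊗[A'] C') →ₗ[A'] C' := (TensorProduct.lid A' C').toLinearMap ∘ₗ I.subtype.rTensor C'
  let μJ : (J ⊗[B'] C') →ₗ[B'] C' := (TensorProduct.lid B' C').toLinearMap ∘ₗ J.subtype.rTensor C'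
  have hμI : Injective μI := (TensorProduct.lid A' C').injective.comp
    (Module.Flat.rTensor_preserves_injective_linearMap _ I.injective_subtype)
  have hcomp : ∀ z, μJ (θ z) = μI z := by
    intro z
    induction z using TensorProduct.induction_on with
    | zero => simp
    | tmul i c =>
      rw [hθ]
      simp only [μJ, μI, LinearMap.coe_comp, LinearEquiv.coe_coe, Function.comp_apply,
        LinearMap.rTensor_tmul, Submodule.subtype_apply, TensorProduct.lid_tmul]
      rw [algebraMap_smul]
    | add x y hx hy => rw [map_add, map_add, map_add, hx, hy]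
  have hsurj : Surjective θ := by
    intro w
    induction w using TensorProduct.induction_on with
    | zero => exact ⟨0, map_zero _⟩
    | tmul j c =>
      obtain ⟨j, hj⟩ := j
      revert c
      have hj' : j ∈ Submodule.span B' (algebraMap A' B' '' (I : Set A')) := hj
      induction hj' using Submodule.span_induction with
      | mem x hx =>
        intro c
        obtain ⟨i, hi, rfl⟩ := hx
        exact ⟨(⟨i, hi⟩ : I) ⊗ₜ c, rfl⟩
      | zero =>
        intro c
        refine ⟨0, ?_⟩
        rw [map_zero]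
        have : (⟨0, hj⟩ : J) = 0 := rfl
        rw [this, TensorProduct.zero_tmul]
      | add x y hx hy ihx ihy =>
        intro c
        obtain ⟨z1, h1⟩ := ihx (Ideal.span_le.mpr (by rintro _ ⟨i, hi, rfl⟩; exact Ideal.mem_map_of_mem _ hi) hx) c
        obtain ⟨z2, h2⟩ := ihy (Ideal.span_le.mpr (by rintro _ ⟨i, hi, rfl⟩; exact Ideal.mem_map_of_mem _ hi) hy) c
        refine ⟨z1 + z2, ?_⟩
        rw [map_add, h1, h2, ← TensorProduct.add_tmul]
        rfl
      | smul b x hx ihx =>
        intro c
        obtain ⟨z1, h1⟩ := ihx (Ideal.span_le.mpr (by rintro _ ⟨i, hi, rfl⟩; exact Ideal.mem_map_of_mem _ hi) hx) (b • c)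
        refine ⟨z1, ?_⟩
        rw [h1, ← TensorProduct.smul_tmul]
        rfl
    | add x y hx hy =>
      obtain ⟨z1, h1⟩ := hx
      obtain ⟨z2, h2⟩ := hy
      exact ⟨z1 + z2, by rw [map_add, h1, h2]⟩
  have hμJ : Injective μJ := by
    rw [injective_iff_map_eq_zero]
    intro w hw
    obtain ⟨z, rfl⟩ := hsurj w
    rw [hcomp] at hw
    have : z = 0 := hμI (by rw [hw, map_zero])
    rw [this, map_zero]
  exact Injective.of_comp hμJ

end tor

section modules

variable {R : Type*} [CommRing R] {P C : Type*} [AddCommGroup P] [Module R P] [AddCommGroup C]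
  [Module R C]

/-- If `Tor₁(R/J, C) = 0` and `p : P → C` is onto then `ker p ∩ J P = J (ker p)`. -/
theorem mem_smul_ker_of_torCond (J : Ideal R) (p : P →ₗ[R] C) (hp : Surjective p)
    (hT : Injective (J.subtype.rTensor C)) (r : P) (hr : p r = 0)
    (hrJ : r ∈ J • (⊤ : Submodule R P)) : r ∈ J • LinearMap.ker p := by
  set N' := LinearMap.ker p with hN'
  have hex : Exact N'.subtype p := by
    intro y
    constructor
    · intro hy; exact ⟨⟨y, hy⟩, rfl⟩
    · rintro ⟨z, rfl⟩; exact z.2
  have hinj : Injective (N'.subtype.rTensor (R ⧸ J)) :=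
    Groth.Agent.Lib.Helper21.FlatKit.snake_injective N'.subtype p hex hp J.subtype J.mkQ
      (LinearMap.exact_subtype_mkQ J) J.mkQ_surjective
      (Module.Flat.rTensor_preserves_injective_linearMap _ N'.injective_subtype)
      ((LinearMap.lTensor_inj_iff_rTensor_inj _ _).2 hT)
  have h0 : ∀ x ∈ J • (⊤ : Submodule R P), x ⊗ₜ[R] (1 : R ⧸ J) = 0 := by
    intro x hx
    refine Submodule.smul_induction_on hx ?_ ?_
    · intro b hb y _
      rw [TensorProduct.smul_tmul]
      have : b • (1 : R ⧸ J) = 0 := by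
        rw [Algebra.smul_def, mul_one]
        exact Ideal.Quotient.eq_zero_iff_mem.mpr hb
      rw [this, TensorProduct.tmul_zero]
    · intro x y hx hy
      rw [TensorProduct.add_tmul, hx, hy, add_zero]
  have hz : (⟨r, hr⟩ : N') ⊗ₜ[R] (1 : R ⧸ J) = 0 := by
    apply hinj
    rw [LinearMap.rTensor_tmul, map_zero]
    exact h0 r hrJ
  have h1 : (Submodule.Quotient.mk (⟨r, hr⟩ : N') : N' ⧸ (J • (⊤ : Submodule R N'))) = 0 := by
    have := congrArg (TensorProduct.tensorQuotEquivQuotSMul N' J) hz
    rw [map_zero, ← map_one (Ideal.Quotient.mk J), TensorProduct.tensorQuotEquivQuotSMul_tmul_mk,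
      one_smul] at this
    exact this
  rw [Submodule.Quotient.mk_eq_zero] at h1
  have h2 : N'.subtype ⟨r, hr⟩ ∈ (J • (⊤ : Submodule R N')).map N'.subtype :=
    Submodule.mem_map_of_mem h1
  rw [Submodule.map_smul'', Submodule.map_subtype_top] at h2
  exact h2

/-- nilpotent Nakayama, relative form. -/
theorem le_of_le_sup_smul {M : Type*} [AddCommGroup M] [Module R M]
    (I : Ideal R) (hI : IsNilpotent I) (N N' : Submodule R M) (h : N' ≤ N ⊔ I • N') : N' ≤ N := by
  obtain ⟨n, hn⟩ := hI
  have key : ∀ k : ℕ, N' ≤ N ⊔ (I ^ k) • N' := by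
    intro k
    induction k with
    | zero => rw [pow_zero, Ideal.one_eq_top, Submodule.top_smul]; exact le_sup_right
    | succ k ih =>
      have h1 : (I ^ k) • N' ≤ N ⊔ (I ^ (k + 1)) • N' := by
        calc (I ^ k) • N' ≤ (I ^ k) • (N ⊔ I • N') := Submodule.smul_mono le_rfl h
          _ = (I ^ k) • N ⊔ (I ^ k) • (I • N') := Submodule.smul_sup _ _ _
          _ ≤ N ⊔ (I ^ (k + 1)) • N' := by
              apply sup_le_sup
              · exact Submodule.smul_le_right
              · rw [← Submodule.mul_smul, ← pow_succ]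
      exact ih.trans (sup_le le_sup_left h1)
  have := key n
  rw [hn, Ideal.zero_eq_bot, Submodule.bot_smul, sup_bot_eq] at this
  exact this

end modules


section fp

variable {B' B C' C : Type u} [CommRing B'] [CommRing B] [CommRing C'] [CommRing C]
  [Algebra B' B] [Algebra B' C'] [Algebra B C] [Algebra C' C] [Algebra B' C]
  [IsScalarTower B' B C] [IsScalarTower B' C' C]

theorem finitePresentation_of_torCond
    (hB : Surjective (algebraMap B' B)) (hC : Surjective (algebraMap C' C))
    (hker : RingHom.ker (algebraMap C' C) ≤ (RingHom.ker (algebraMap B' B)).map (algebraMap B' C'))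
    (hJ : IsNilpotent (RingHom.ker (algebraMap B' B)))
    (hT : Injective ((RingHom.ker (algebraMap B' B)).subtype.rTensor C'))
    [Algebra.FinitePresentation B C] : Algebra.FinitePresentation B' C' := by
  classical
  set J := RingHom.ker (algebraMap B' B) with hJdef
  have hft : Algebra.FiniteType B' C' := by
    have h1 : ((algebraMap C' C).comp (algebraMap B' C')).FiniteType := by
      have : (algebraMap C' C).comp (algebraMap B' C') = (algebraMap B C).comp (algebraMap B' B) := by
        ext b
        simp only [RingHom.comp_apply]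
        rw [← IsScalarTower.algebraMap_apply, ← IsScalarTower.algebraMap_apply]
      rw [this]
      have h2 : (algebraMap B C).FiniteType :=
        (RingHom.finiteType_algebraMap (A := B) (B := C)).mpr inferInstance
      exact h2.comp (RingHom.FiniteType.of_surjective _ hB)
    exact (RingHom.finiteType_algebraMap (A := B') (B := C')).mp
      (Thick.finiteType_of_comp_surjective (algebraMap B' C') (algebraMap C' C) hC J hJ hker h1)
  obtain ⟨n, π, hπ⟩ := Algebra.FiniteType.iff_quotient_mvPolynomial''.mp hft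
  let m : MvPolynomial (Fin n) B' →+* MvPolynomial (Fin n) B := MvPolynomial.map (algebraMap B' B)
  have hm : Surjective m := MvPolynomial.map_surjective _ hB
  have hkm : RingHom.ker m = J.map (MvPolynomial.C : B' →+* MvPolynomial (Fin n) B') :=
    MvPolynomial.ker_map _
  let πb : MvPolynomial (Fin n) B →ₐ[B] C :=
    MvPolynomial.aeval (fun i => algebraMap C' C (π (MvPolynomial.X i)))
  have hcomm : ∀ p, πb (m p) = algebraMap C' C (π p) := by
    intro p
    have : (πb : MvPolynomial (Fin n) B →+* C).comp m = (algebraMap C' C).comp (π : MvPolynomial (Fin n) B' →+* C') := by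
      apply MvPolynomial.ringHom_ext
      · intro b
        simp only [RingHom.comp_apply, m, MvPolynomial.map_C, RingHom.coe_coe, πb,
          MvPolynomial.aeval_C]
        rw [← MvPolynomial.algebraMap_eq, AlgHom.commutes, ← IsScalarTower.algebraMap_apply,
          ← IsScalarTower.algebraMap_apply]
      · intro i
        simp only [RingHom.comp_apply, m, MvPolynomial.map_X, RingHom.coe_coe, πb,
          MvPolynomial.aeval_X]
    exact congrFun (congrArg DFunLike.coe this) p
  have hπb : Surjective πb := by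
    intro c
    obtain ⟨c', rfl⟩ := hC c
    obtain ⟨p, rfl⟩ := hπ c'
    exact ⟨m p, hcomm p⟩
  have hfg : (RingHom.ker πb.toRingHom).FG := Algebra.FinitePresentation.ker_fG_of_surjective πb hπb
  obtain ⟨s, hs⟩ := hfg
  -- lifting elements of the kernel
  have hlift : ∀ gb ∈ RingHom.ker πb.toRingHom, ∃ g, π g = 0 ∧ m g = gb := by
    intro gb hgb
    obtain ⟨g₀, rfl⟩ := hm gb
    have h1 : π g₀ ∈ RingHom.ker (algebraMap C' C) := by
      rw [RingHom.mem_ker, ← hcomm]
      exact hgb
    have h2 : π g₀ ∈ (J.map (MvPolynomial.C : B' →+* MvPolynomial (Fin n) B')).map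
        (π : MvPolynomial (Fin n) B' →+* C') := by
      rw [Ideal.map_map]
      have : (π : MvPolynomial (Fin n) B' →+* C').comp MvPolynomial.C = algebraMap B' C' := by
        ext b
        simp only [RingHom.comp_apply, RingHom.coe_coe]
        rw [← MvPolynomial.algebraMap_eq, AlgHom.commutes]
      rw [this]
      exact hker h1
    obtain ⟨q, hq, hq'⟩ := (Ideal.mem_map_iff_of_surjective _ hπ).mp h2
    refine ⟨g₀ - q, ?_, ?_⟩
    · rw [map_sub]
      have : π q = π g₀ := hq'
      rw [this, sub_self]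
    · rw [map_sub]
      have : m q = 0 := by
        rw [← RingHom.mem_ker, hkm]; exact hq
      rw [this, sub_zero]
  choose! lift hlift1 hlift2 using hlift
  let t : Finset (MvPolynomial (Fin n) B') := s.image lift
  have hsk : ∀ gb ∈ s, gb ∈ RingHom.ker πb.toRingHom := fun gb hgb => hs ▸ Ideal.subset_span hgb
  have htK : Ideal.span (t : Set (MvPolynomial (Fin n) B')) ≤ RingHom.ker π.toRingHom := by
    rw [Ideal.span_le]
    intro g hg
    simp only [t, Finset.coe_image, Set.mem_image, Finset.mem_coe] at hg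
    obtain ⟨gb, hgb, rfl⟩ := hg
    exact hlift1 gb (hsk gb hgb)
  have hmt : Ideal.map m (Ideal.span (t : Set (MvPolynomial (Fin n) B'))) = RingHom.ker πb.toRingHom := by
    rw [Ideal.map_span, ← hs]
    congr 1
    ext y
    simp only [t, Finset.coe_image, Set.mem_image, Finset.mem_coe]
    constructor
    · rintro ⟨_, ⟨gb, hgb, rfl⟩, rfl⟩
      rw [hlift2 gb (hsk gb hgb)]; exact hgb
    · intro hy
      exact ⟨lift y, ⟨y, hy, rfl⟩, hlift2 y (hsk y hy)⟩
  -- the key inclusion
  have hle : (RingHom.ker π.toRingHom).restrictScalars B' ≤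
      (Ideal.span (t : Set (MvPolynomial (Fin n) B'))).restrictScalars B' := by
    apply le_of_le_sup_smul J hJ
    intro k hk
    have hk' : π k = 0 := hk
    have h1 : m k ∈ Ideal.map m (Ideal.span (t : Set (MvPolynomial (Fin n) B'))) := by
      rw [hmt]
      show πb (m k) = 0
      rw [hcomm, hk', map_zero]
    obtain ⟨k'', hk'', hk''m⟩ := (Ideal.mem_map_iff_of_surjective m hm).mp h1
    have hr : π (k - k'') = 0 := by
      rw [map_sub, hk', zero_sub, neg_eq_zero]
      exact htK hk''
    have hrJ : k - k'' ∈ J • (⊤ : Submodule B' (MvPolynomial (Fin n) B')) := by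
      rw [Ideal.smul_top_eq_map, Submodule.restrictScalars_mem, MvPolynomial.algebraMap_eq, ← hkm,
        RingHom.mem_ker, map_sub, hk''m, sub_self]
    have h2 := mem_smul_ker_of_torCond J π.toLinearMap hπ hT (k - k'') hr hrJ
    have : k = k'' + (k - k'') := by ring
    rw [this]
    refine Submodule.add_mem_sup hk'' ?_
    exact h2
  have hKfg : (RingHom.ker π.toRingHom).FG := by
    have : RingHom.ker π.toRingHom = Ideal.span (t : Set (MvPolynomial (Fin n) B')) :=
      le_antisymm hle htK
    rw [this]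
    exact ⟨t, rfl⟩
  exact Algebra.FinitePresentation.of_surjective hπ hKfg

end fp


open CategoryTheory CategoryTheory.Limits

/-- `Tor₁(B'/J, C') = 0` for a ring map `φ : B' → C'`. -/
def TorCondHom {B' C' : Type u} [CommRing B'] [CommRing C'] (φ : B' →+* C') (J : Ideal B') : Prop :=
  letI := φ.toAlgebra
  Injective (J.subtype.rTensor C')

theorem torCondHom_of_flat {A' B' C' : Type u} [CommRing A'] [CommRing B'] [CommRing C']
    (α : A' →+* B') (φ : B' →+* C') (hfl : (φ.comp α).Flat) (I : Ideal A') :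
    TorCondHom φ (I.map α) := by
  letI := α.toAlgebra
  letI := φ.toAlgebra
  letI := (φ.comp α).toAlgebra
  haveI : IsScalarTower A' B' C' := IsScalarTower.of_algebraMap_eq (fun _ => rfl)
  haveI : Module.Flat A' C' := hfl
  exact torCond_of_flat (B' := B') (C' := C') I

set_option backward.isDefEq.respectTransparency.types false

section ring2

variable {A B A₀ B₀ : CommRingCat.{u}} {φ : A ⟶ B} {ψ : A ⟶ A₀} {ψ' : B ⟶ B₀} {φ₀ : A₀ ⟶ B₀}

theorem flat_of_isPushout (h : IsPushout φ ψ ψ' φ₀) (hψ : Function.Surjective ψ.hom)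
    (hnil : IsNilpotent (RingHom.ker ψ.hom)) (hT : TorCondHom φ.hom (RingHom.ker ψ.hom))
    (hQ : φ₀.hom.Flat) : φ.hom.Flat := by
  algebraize [φ.hom, ψ.hom, ψ'.hom, φ₀.hom, ψ'.hom.comp φ.hom]
  have : IsScalarTower A A₀ B₀ := .of_algebraMap_eq' (congrArg (fun k => k.hom) h.w)
  have hpo : Algebra.IsPushout A B A₀ B₀ := CommRingCat.isPushout_iff_isPushout.mp h
  have hpo' : Algebra.IsPushout A A₀ B B₀ := hpo.symm
  have hQ' : Module.Flat A₀ B₀ := hQ
  haveI : Module.Flat A₀ (A₀ ⊗[A] B) :=
    Module.Flat.of_linearEquiv (Algebra.IsPushout.equiv A A₀ B B₀).toLinearEquiv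
  exact Groth.Agent.Lib.Helper17.LocalFlat.flat_of_nilpotent_surj (A' := A) (A := A₀) hψ hnil B hT

theorem finitePresentation_of_isPushout (h : IsPushout φ ψ ψ' φ₀) (hψ : Function.Surjective ψ.hom)
    (hnil : IsNilpotent (RingHom.ker ψ.hom)) (hT : TorCondHom φ.hom (RingHom.ker ψ.hom))
    (hQ : φ₀.hom.FinitePresentation) : φ.hom.FinitePresentation := by
  have hsurj := Thick.surjective_of_isPushout h hψ
  have hker := Thick.ker_le_of_isPushout h hψ
  algebraize [φ.hom, ψ.hom, ψ'.hom, φ₀.hom, ψ'.hom.comp φ.hom]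
  have : IsScalarTower A A₀ B₀ := .of_algebraMap_eq' (congrArg (fun k => k.hom) h.w)
  have hQ' : Algebra.FinitePresentation A₀ B₀ := hQ
  exact finitePresentation_of_torCond (B' := A) (B := A₀) (C' := B) (C := B₀) hψ hsurj hker hnil hT

theorem smooth_of_isPushout (h : IsPushout φ ψ ψ' φ₀) (hψ : Function.Surjective ψ.hom)
    (hnil : IsNilpotent (RingHom.ker ψ.hom)) (hT : TorCondHom φ.hom (RingHom.ker ψ.hom))
    (hQ : φ₀.hom.Smooth) : φ.hom.Smooth := by
  have hfl : φ.hom.Flat := flat_of_isPushout h hψ hnil hT hQ.flat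
  have hfp : φ.hom.FinitePresentation := finitePresentation_of_isPushout h hψ hnil hT hQ.finitePresentation
  have hnil' : RingHom.ker ψ.hom ≤ nilradical A := by
    obtain ⟨n, hn⟩ := hnil
    intro x hx
    refine ⟨n, ?_⟩
    have : x ^ n ∈ RingHom.ker ψ.hom ^ n := Ideal.pow_mem_pow hx n
    rw [hn] at this
    exact this
  algebraize [φ.hom, ψ.hom, ψ'.hom, φ₀.hom, ψ'.hom.comp φ.hom]
  have : IsScalarTower A A₀ B₀ := .of_algebraMap_eq' (congrArg (fun k => k.hom) h.w)
  have hpo : Algebra.IsPushout A B A₀ B₀ := CommRingCat.isPushout_iff_isPushout.mp h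
  have hpo' : Algebra.IsPushout A A₀ B B₀ := hpo.symm
  have hQ' : Algebra.Smooth A₀ B₀ := hQ
  haveI : Algebra.FormallySmooth A₀ B₀ := hQ'.1
  exact ThickSmooth.smooth_of_flat_of_isPushout (A := A) (A₀ := A₀) (B := B) (B₀ := B₀) hψ hnil'

theorem etale_of_isPushout (h : IsPushout φ ψ ψ' φ₀) (hψ : Function.Surjective ψ.hom)
    (hnil : IsNilpotent (RingHom.ker ψ.hom)) (hT : TorCondHom φ.hom (RingHom.ker ψ.hom))
    (hQ : φ₀.hom.Etale) : φ.hom.Etale := by
  rw [RingHom.Etale.iff_flat_and_formallyUnramified] at hQ ⊢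
  exact ⟨flat_of_isPushout h hψ hnil hT hQ.1,
    Thick.formallyUnramified_of_isPushout' h hψ hnil hQ.2.1,
    finitePresentation_of_isPushout h hψ hnil hT hQ.2.2⟩

end ring2

end Groth.Agent.Lib.Helper15.Deform
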