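import Mathlib
import Groth.Agent.Lib.Helper15.Deform
import Groth.Agent.Lib.Helper21.FlatDescI

universe u

open TensorProduct Function

namespace Groth.Agent.Lib.Helper15.DeformNil

open Groth.Agent.Lib.Helper21.FlatDesc

attribute [local instance] MvPolynomial.algebraMvPolynomial

section stage

variable {S₁ S : Type u} [CommRing S₁] [CommRing S] [Algebra S₁ S] {n : ℕ}
  {M₁ : Type u} [AddCommGroup M₁] [Module (MvPolynomial (Fin n) S₁) M₁]
  {M : Type u} [AddCommGroup M] [Module (MvPolynomial (Fin n) S) M] [Module S M]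
  [IsScalarTower S (MvPolynomial (Fin n) S) M]

/-- the stage module over an `S`-algebra `T` is `T ⊗[S] M`. -/
noncomputable def stEquiv (T : Type u) [CommRing T] [Algebra S T] [Algebra S₁ T] [IsScalarTower S₁ S T]
    (e : (MvPolynomial (Fin n) S ⊗[MvPolynomial (Fin n) S₁] M₁) ≃ₗ[MvPolynomial (Fin n) S] M) :
    (St S₁ n M₁ T) ≃ₗ[T] T ⊗[S] M :=
  ((AlgebraTensorModule.cancelBaseChange (MvPolynomial (Fin n) S₁) (MvPolynomial (Fin n) S)
    (MvPolynomial (Fin n) T) (MvPolynomial (Fin n) T) M₁).symm.restrictScalars T) ≪≫ₗ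
  ((AlgebraTensorModule.congr (LinearEquiv.refl (MvPolynomial (Fin n) T) (MvPolynomial (Fin n) T)) e).restrictScalars T) ≪≫ₗ
  (Algebra.IsPushout.cancelBaseChange S T (MvPolynomial (Fin n) S) (MvPolynomial (Fin n) T) M)

/-- base change between stages. -/
noncomputable def stBaseChange (T' T : Type u) [CommRing T'] [CommRing T] [Algebra S₁ T'] [Algebra S₁ T]
    [Algebra T' T] [IsScalarTower S₁ T' T] :
    (St S₁ n M₁ T) ≃ₗ[T] T ⊗[T'] (St S₁ n M₁ T') :=
  ((AlgebraTensorModule.cancelBaseChange (MvPolynomial (Fin n) S₁) (MvPolynomial (Fin n) T')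
    (MvPolynomial (Fin n) T) (MvPolynomial (Fin n) T) M₁).symm.restrictScalars T) ≪≫ₗ
  (Algebra.IsPushout.cancelBaseChange T' T (MvPolynomial (Fin n) T') (MvPolynomial (Fin n) T)
    (St S₁ n M₁ T'))

end stage

section descent

set_option synthInstance.maxHeartbeats 200000 in
set_option maxHeartbeats 1600000 in
/-- **Descent of flatness to a finitely generated sub-ideal.** -/
theorem exists_fg_le_flat {S : Type u} [CommRing S] (n : ℕ) (M : Type u) [AddCommGroup M]
    [Module (MvPolynomial (Fin n) S) M] [Module S M] [IsScalarTower S (MvPolynomial (Fin n) S) M]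
    [Module.FinitePresentation (MvPolynomial (Fin n) S) M] (𝔍 : Ideal S)
    [Module.Flat (S ⧸ 𝔍) ((S ⧸ 𝔍) ⊗[S] M)] :
    ∃ 𝔫 : Ideal S, 𝔫.FG ∧ 𝔫 ≤ 𝔍 ∧ Module.Flat (S ⧸ 𝔫) ((S ⧸ 𝔫) ⊗[S] M) := by
  classical
  obtain ⟨S₁, m, b, v', hfg, -, ⟨e⟩⟩ := exists_fg_model_pol S n M ∅
  haveI := noetherian_of_fg_int S₁ hfg
  haveI : Module.Flat (S ⧸ 𝔍) (St S₁ n (PresMod v') (S ⧸ 𝔍)) :=
    Module.Flat.of_linearEquiv (stEquiv (S ⧸ 𝔍) e)
  obtain ⟨A', hA'fg, hA'flat⟩ := exists_fg_flat_St (R₀ := S₁) (n := n) (PresMod v') (S ⧸ 𝔍)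
  obtain ⟨tb, htb⟩ := hA'fg
  let q : S →ₐ[S₁] (S ⧸ 𝔍) := Ideal.Quotient.mkₐ S₁ 𝔍
  have hq : Surjective q := Ideal.Quotient.mkₐ_surjective S₁ 𝔍
  let t : Finset S := tb.image (Function.surjInv hq)
  have hqt : q '' (t : Set S) = (tb : Set (S ⧸ 𝔍)) := by
    ext y
    simp only [t, Finset.coe_image, Set.mem_image, Finset.mem_coe]
    constructor
    · rintro ⟨_, ⟨z, hz, rfl⟩, rfl⟩
      rw [Function.surjInv_eq hq z]; exact hz
    · intro hy
      exact ⟨_, ⟨y, hy, rfl⟩, Function.surjInv_eq hq y⟩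
  let S₂ : Subalgebra S₁ S := Algebra.adjoin S₁ (t : Set S)
  haveI : Algebra.FiniteType S₁ S₂ := (Subalgebra.fg_iff_finiteType S₂).1 ⟨t, rfl⟩
  haveI : IsNoetherianRing S₂ := Algebra.FiniteType.isNoetherianRing S₁ S₂
  have hmap : S₂.map q = A' := by
    rw [AlgHom.map_adjoin, hqt, htb]
  let q₂ : S₂ →ₐ[S₁] A' := (q.comp S₂.val).codRestrict A' (fun x => by
    rw [← hmap]; exact ⟨x, x.2, rfl⟩)
  have hq₂ : Surjective q₂ := by
    rintro ⟨y, hy⟩
    rw [← hmap] at hy
    obtain ⟨x, hx, rfl⟩ := hy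
    exact ⟨⟨x, hx⟩, Subtype.ext rfl⟩
  let 𝔫₂ : Ideal S₂ := RingHom.ker (q₂ : S₂ →+* A')
  have h𝔫₂ : 𝔫₂.FG := IsNoetherian.noetherian _
  let 𝔫 : Ideal S := 𝔫₂.map (algebraMap S₂ S)
  have h𝔫fg : 𝔫.FG := h𝔫₂.map _
  have h𝔫le : 𝔫 ≤ 𝔍 := by
    rw [Ideal.map_le_iff_le_comap]
    intro x hx
    rw [Ideal.mem_comap]
    have h1 : q₂ x = 0 := hx
    have h2 : ((q₂ x : A') : S ⧸ 𝔍) = 0 := by rw [h1]; rfl
    exact Ideal.Quotient.eq_zero_iff_mem.mp h2
  refine ⟨𝔫, h𝔫fg, h𝔫le, ?_⟩
  -- the map A' → S ⧸ 𝔫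
  let ρ : A' →+* (S ⧸ 𝔫) :=
    (Ideal.quotientMap 𝔫 (algebraMap S₂ S) Ideal.le_comap_map).comp
      (RingHom.quotientKerEquivOfSurjective hq₂).symm.toRingHom
  letI : Algebra A' (S ⧸ 𝔫) := ρ.toAlgebra
  haveI : IsScalarTower S₁ A' (S ⧸ 𝔫) := IsScalarTower.of_algebraMap_eq (fun s => by
    show _ = ρ (algebraMap S₁ A' s)
    have h1 : algebraMap S₁ A' s = q₂ (algebraMap S₁ S₂ s) := (q₂.commutes s).symm
    have h2 : (RingHom.quotientKerEquivOfSurjective hq₂).symm (q₂ (algebraMap S₁ S₂ s)) =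
        Ideal.Quotient.mk 𝔫₂ (algebraMap S₁ S₂ s) := by
      exact (RingEquiv.symm_apply_eq _).mpr rfl
    rw [h1]
    show _ = Ideal.quotientMap 𝔫 (algebraMap S₂ S) Ideal.le_comap_map
      ((RingHom.quotientKerEquivOfSurjective hq₂).symm (q₂ (algebraMap S₁ S₂ s)))
    rw [h2, Ideal.quotientMap_mk]
    rfl)
  haveI : Module.Flat (S ⧸ 𝔫) (St S₁ n (PresMod v') (S ⧸ 𝔫)) :=
    Module.Flat.of_linearEquiv (stBaseChange A' (S ⧸ 𝔫))
  exact Module.Flat.of_linearEquiv (stEquiv (S ⧸ 𝔫) e).symm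

end descent

section main

theorem rTensor_injective_of_flat {A' B' : Type*} [CommRing A'] [CommRing B'] [Algebra A' B']
    (C' : Type*) [AddCommGroup C'] [Module A' C'] [Module B' C']
    [IsScalarTower A' B' C'] [Module.Flat A' C'] (I : Ideal A') :
    Injective ((I.map (algebraMap A' B')).subtype.rTensor C') := by
  set J := I.map (algebraMap A' B') with hJ
  -- the comparison map
  let f : I →+ C' →+ (J ⊗[B'] C') :=
    { toFun := fun i =>
        { toFun := fun c => (⟨algebraMap A' B' i, Ideal.mem_map_of_mem _ i.2⟩ : J) ⊗ₜ[B'] c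
          map_zero' := by simp
          map_add' := fun c c' => by rw [TensorProduct.tmul_add] }
      map_zero' := by
        ext c
        simp only [AddMonoidHom.coe_mk, ZeroMemClass.coe_zero, map_zero, ZeroHom.coe_mk,
          AddMonoidHom.zero_apply]
        have : (⟨0, J.zero_mem⟩ : J) = 0 := rfl
        rw [this, TensorProduct.zero_tmul]
      map_add' := fun i i' => by
        ext c
        simp only [AddMonoidHom.coe_mk, ZeroHom.coe_mk, AddMonoidHom.add_apply]
        rw [← TensorProduct.add_tmul]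
        congr 1
        ext
        simp }
  let θ : (I ⊗[A'] C') →+ (J ⊗[B'] C') := TensorProduct.liftAddHom f (by
    intro a i c
    show (⟨algebraMap A' B' (a • i : I), _⟩ : J) ⊗ₜ[B'] c = (⟨algebraMap A' B' i, _⟩ : J) ⊗ₜ[B'] (a • c)
    have h1 : (⟨algebraMap A' B' (a • i : I), Ideal.mem_map_of_mem _ (a • i).2⟩ : J) =
        (algebraMap A' B' a) • (⟨algebraMap A' B' i, Ideal.mem_map_of_mem _ i.2⟩ : J) := by
      ext
      simp [Algebra.smul_def]
    rw [h1, TensorProduct.smul_tmul, algebraMap_smul])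
  have hθ : ∀ (i : I) (c : C'), θ (i ⊗ₜ c) = (⟨algebraMap A' B' i, Ideal.mem_map_of_mem _ i.2⟩ : J) ⊗ₜ[B'] c :=
    fun i c => rfl
  -- multiplication maps
  let μI : (I ⊗[A'] C') →ₗ[A'] C' := (TensorProduct.lid A' C').toLinearMap ∘ₗ I.subtype.rTensor C'
  let μJ : (J ⊗[B'] C') →ₗ[B'] C' := (TensorProduct.lid B' C').toLinearMap ∘ₗ J.subtype.rTensor C'
  have hμI : Injective μI := (TensorProduct.lid A' C').injective.comp
    (Module.Flat.rTensor_preserves_injective_linearMap _ I.injective_subtype)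
  have hcomp : ∀ z, μJ (θ z) = μI z := by
    intro z
    induction z using TensorProduct.induction_on with
    | zero => simp
    | tmul i c =>
      rw [hθ]
      simp only [μJ, μI, LinearMap.coe_comp, LinearEquiv.coe_coe, Function.comp_apply,
        LinearMap.rTensor_tmul, Submodule.subtype_apply, TensorProduct.lid_tmul]
      rw [algebraMap_smul]
    | add x y hx hy => rw [map_add, map_add, map_add, hx, hy]
  have hsurj : Surjective θ := by
    intro w
    induction w using TensorProduct.induction_on with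
    | zero => exact ⟨0, map_zero _⟩
    | tmul j c =>
      obtain ⟨j, hj⟩ := j
      revert c
      have hj' : j ∈ Submodule.span B' (algebraMap A' B' '' (I : Set A')) := hj
      induction hj' using Submodule.span_induction with
      | mem x hx =>
        intro c
        obtain ⟨i, hi, rfl⟩ := hx
        exact ⟨(⟨i, hi⟩ : I) ⊗ₜ c, rfl⟩
      | zero =>
        intro c
        refine ⟨0, ?_⟩
        rw [map_zero]
        have : (⟨0, hj⟩ : J) = 0 := rfl
        rw [this, TensorProduct.zero_tmul]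
      | add x y hx hy ihx ihy =>
        intro c
        obtain ⟨z1, h1⟩ := ihx (Ideal.span_le.mpr (by rintro _ ⟨i, hi, rfl⟩; exact Ideal.mem_map_of_mem _ hi) hx) c
        obtain ⟨z2, h2⟩ := ihy (Ideal.span_le.mpr (by rintro _ ⟨i, hi, rfl⟩; exact Ideal.mem_map_of_mem _ hi) hy) c
        refine ⟨z1 + z2, ?_⟩
        rw [map_add, h1, h2, ← TensorProduct.add_tmul]
        rfl
      | smul b x hx ihx =>
        intro c
        obtain ⟨z1, h1⟩ := ihx (Ideal.span_le.mpr (by rintro _ ⟨i, hi, rfl⟩; exact Ideal.mem_map_of_mem _ hi) hx) (b • c)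
        refine ⟨z1, ?_⟩
        rw [h1, ← TensorProduct.smul_tmul]
        rfl
    | add x y hx hy =>
      obtain ⟨z1, h1⟩ := hx
      obtain ⟨z2, h2⟩ := hy
      exact ⟨z1 + z2, by rw [map_add, h1, h2]⟩
  have hμJ : Injective μJ := by
    rw [injective_iff_map_eq_zero]
    intro w hw
    obtain ⟨z, rfl⟩ := hsurj w
    rw [hcomp] at hw
    have : z = 0 := hμI (by rw [hw, map_zero])
    rw [this, map_zero]
  exact Injective.of_comp hμJ


/-- a finitely generated subideal of an extended ideal is contained in the extension of a finitely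
generated subideal. -/
theorem exists_fg_le_map {R S : Type*} [CommRing R] [CommRing S] (f : R →+* S) (I : Ideal R)
    (𝔫 : Ideal S) (h𝔫 : 𝔫.FG) (hle : 𝔫 ≤ I.map f) :
    ∃ I₀ : Ideal R, I₀.FG ∧ I₀ ≤ I ∧ 𝔫 ≤ I₀.map f := by
  classical
  have key : ∀ x ∈ I.map f, ∃ I₀ : Ideal R, I₀.FG ∧ I₀ ≤ I ∧ x ∈ I₀.map f := by
    intro x hx
    have hx' : x ∈ Submodule.span S (f '' (I : Set R)) := hx
    clear hx
    induction hx' using Submodule.span_induction with
    | mem x hx =>
      obtain ⟨a, ha, rfl⟩ := hx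
      exact ⟨Ideal.span {a}, ⟨{a}, by simp⟩, (Ideal.span_singleton_le_iff_mem _).mpr ha,
        Ideal.mem_map_of_mem _ (Ideal.mem_span_singleton_self a)⟩
    | zero => exact ⟨⊥, Submodule.fg_bot, bot_le, Ideal.zero_mem _⟩
    | add x y hx hy ihx ihy =>
      obtain ⟨I1, h1, h1', h1''⟩ := ihx
      obtain ⟨I2, h2, h2', h2''⟩ := ihy
      exact ⟨I1 ⊔ I2, Submodule.FG.sup (N₁ := I1) (N₂ := I2) h1 h2, sup_le h1' h2', Ideal.add_mem _
        (Ideal.map_mono le_sup_left h1'') (Ideal.map_mono le_sup_right h2'')⟩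
    | smul b x hx ihx =>
      obtain ⟨I1, h1, h1', h1''⟩ := ihx
      exact ⟨I1, h1, h1', Ideal.mul_mem_left _ b h1''⟩
  obtain ⟨t, rfl⟩ := h𝔫
  induction t using Finset.induction_on with
  | empty => exact ⟨⊥, Submodule.fg_bot, bot_le, by simp⟩
  | insert a t ha ih =>
    have hle' : Ideal.span (t : Set S) ≤ I.map f :=
      le_trans (Ideal.span_mono (by simp)) hle
    obtain ⟨I1, h1, h1', h1''⟩ := ih hle'
    obtain ⟨I2, h2, h2', h2''⟩ := key a (hle (Ideal.subset_span (by simp)))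
    refine ⟨I1 ⊔ I2, Submodule.FG.sup (N₁ := I1) (N₂ := I2) h1 h2, sup_le h1' h2', ?_⟩
    rw [Finset.coe_insert, Ideal.span_insert]
    refine sup_le ?_ (le_trans h1'' (Ideal.map_mono le_sup_left))
    rw [Ideal.span_singleton_le_iff_mem]
    exact Ideal.map_mono le_sup_right h2''

open Groth.Agent.Lib.Helper17 in
/-- **Fibre criterion of flatness modulo a locally nilpotent ideal, finitely presented case.** -/
theorem flat_of_fibre_nil {R S S' M : Type u} [CommRing R] [CommRing S] [CommRing S'] [Algebra R S]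
    [Algebra S S'] [Algebra R S'] [IsScalarTower R S S']
    [Algebra.FiniteType R S] [Algebra.FinitePresentation R S'] (I : Ideal R)
    (hI : ∀ a ∈ I, IsNilpotent a)
    [AddCommGroup M] [Module S' M] [Module S M] [Module R M] [IsScalarTower S S' M]
    [IsScalarTower R S M] [Module.FinitePresentation S' M] [Module.Flat R M]
    (h : Module.Flat (S ⧸ I.map (algebraMap R S)) ((S ⧸ I.map (algebraMap R S)) ⊗[S] M)) :
    Module.Flat S M := by
  haveI : Algebra.FinitePresentation S S' :=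
    Algebra.FinitePresentation.of_restrict_scalars_finitePresentation R S S'
  obtain ⟨n, f, hf, hker⟩ := Algebra.FinitePresentation.out (R := S) (A := S')
  letI : Algebra (MvPolynomial (Fin n) S) S' := f.toRingHom.toAlgebra
  letI : Module (MvPolynomial (Fin n) S) M := Module.compHom M f.toRingHom
  haveI : IsScalarTower (MvPolynomial (Fin n) S) S' M :=
    IsScalarTower.of_algebraMap_smul fun _ _ => rfl
  haveI : IsScalarTower S (MvPolynomial (Fin n) S) S' :=
    IsScalarTower.of_algebraMap_eq fun r => (f.commutes r).symm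
  haveI : IsScalarTower S (MvPolynomial (Fin n) S) M := ⟨fun r p m => by
    show f (r • p) • m = r • (f p • m)
    rw [map_smul, smul_assoc]⟩
  haveI : Module.FinitePresentation (MvPolynomial (Fin n) S) S' := by
    refine Module.finitePresentation_of_surjective
      (Algebra.linearMap (MvPolynomial (Fin n) S) S') hf ?_
    have : LinearMap.ker (Algebra.linearMap (MvPolynomial (Fin n) S) S') =
        RingHom.ker f.toRingHom := by
      ext x; rfl
    rw [this]; exact hker
  haveI : Module.FinitePresentation (MvPolynomial (Fin n) S) M :=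
    Module.FinitePresentation.trans (MvPolynomial (Fin n) S) M S'
  haveI := h
  obtain ⟨𝔫, h𝔫fg, h𝔫le, h𝔫flat⟩ := exists_fg_le_flat n M (I.map (algebraMap R S))
  obtain ⟨I₀, hI₀fg, hI₀le, h𝔫I₀⟩ := exists_fg_le_map (algebraMap R S) I 𝔫 h𝔫fg h𝔫le
  have hI₀nil : IsNilpotent I₀ := (Ideal.FG.isNilpotent_iff_le_nilradical hI₀fg).mpr
    (fun a ha => mem_nilradical.mpr (hI a (hI₀le ha)))
  have hJ₀nil : IsNilpotent (I₀.map (algebraMap R S)) := by
    obtain ⟨k, hk⟩ := hI₀nil
    refine ⟨k, ?_⟩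
    rw [← Ideal.map_pow, hk]
    exact Ideal.map_bot
  letI : Algebra (S ⧸ 𝔫) (S ⧸ I₀.map (algebraMap R S)) := (Ideal.Quotient.factor h𝔫I₀).toAlgebra
  haveI : IsScalarTower S (S ⧸ 𝔫) (S ⧸ I₀.map (algebraMap R S)) :=
    IsScalarTower.of_algebraMap_eq (fun s => rfl)
  haveI : Module.Flat (S ⧸ I₀.map (algebraMap R S)) ((S ⧸ I₀.map (algebraMap R S)) ⊗[S] M) :=
    Module.Flat.of_linearEquiv (AlgebraTensorModule.cancelBaseChange S (S ⧸ 𝔫)
      (S ⧸ I₀.map (algebraMap R S)) (S ⧸ I₀.map (algebraMap R S)) M).symm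
  exact LocalFlat.flat_of_nilpotent M hJ₀nil (rTensor_injective_of_flat M I₀)

end main

end Groth.Agent.Lib.Helper15.DeformNil
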