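import Groth.Agent.Lib.Helper15.Thick
import Groth.Prelude.Def_MoreMor
set_option autoImplicit false
universe u
open CategoryTheory CategoryTheory.Limits AlgebraicGeometry

namespace Groth.Agent.Lib.Helper15.Thick
set_option backward.isDefEq.respectTransparency.types false

theorem isNilpotent_ker_app_of_isFiniteOrderThickening {S S' : Scheme.{u}} (iS : S ⟶ S')
    (hS : MoreMor.IsFiniteOrderThickening iS) :
    IsClosedImmersion iS ∧ ∀ U : S'.affineOpens, IsNilpotent (RingHom.ker (iS.app U.1).hom) := by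
  obtain ⟨⟨h1, h2⟩, n, hn⟩ := hS
  refine ⟨h1, fun U => ⟨n, ?_⟩⟩
  have h3 : (iS.ker ^ n).ideal U = (0 : Scheme.IdealSheafData S').ideal U := by rw [hn]
  rw [Scheme.IdealSheafData.ideal_pow, Pi.pow_apply, Scheme.Hom.ker_apply] at h3
  rw [h3]
  rfl

theorem base_change_closedImmersion {X X' S S' : Scheme.{u}} {iX : X ⟶ X'} {iS : S ⟶ S'}
    {f : X ⟶ S} {f' : X' ⟶ S'} (hc : IsPullback iX f f' iS)
    {P : MorphismProperty Scheme.{u}} [P.IsStableUnderBaseChange] (h : P f') : P f :=
  MorphismProperty.of_isPullback hc h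

end Groth.Agent.Lib.Helper15.Thick
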