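import Mathlib
import Groth.Agent.Lib.Helper15.Deform
import Groth.Agent.Lib.Helper15.ThickMore

/-!
# Helper15 — DeformSch: relative deformation across nilpotent thickenings of the base

`deform_of_ring`: for a morphism `f' : X' ⟶ Y'` over `S'` with `X'` flat over `S'`, and
`iS : S ⟶ S'` a closed immersion with affine-locally nilpotent kernel, a source-local property
of the base change `f : X ⟶ Y` lifts to `f'` provided the ring-level statement holds.
-/

universe u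

open CategoryTheory CategoryTheory.Limits AlgebraicGeometry TensorProduct

namespace Groth.Agent.Lib.Helper15.Deform

set_option backward.isDefEq.respectTransparency.types false

theorem isPullback_left {X X' Y Y' S S' : Scheme.{u}} {iX : X ⟶ X'} {iY : Y ⟶ Y'} {iS : S ⟶ S'}
    {f : X ⟶ Y} {f' : X' ⟶ Y'} {g : Y ⟶ S} {g' : Y' ⟶ S'}
    (hcX : IsPullback iX (f ≫ g) (f' ≫ g') iS) (hcY : IsPullback iY g g' iS)
    (w : iX ≫ f' = f ≫ iY) : IsPullback iX f f' iY :=
  IsPullback.of_bot hcX w hcY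

theorem deform_of_ring {P : MorphismProperty Scheme.{u}}
    {Q : ∀ {R S : Type u} [CommRing R] [CommRing S], (R →+* S) → Prop} [HasRingHomProperty P Q]
    (hQs : RingHom.StableUnderCompositionWithLocalizationAwaySource Q)
    (hQ : ∀ {A B A₀ B₀ : CommRingCat.{u}} (φ : A ⟶ B) (ψ : A ⟶ A₀) (ψ' : B ⟶ B₀) (φ₀ : A₀ ⟶ B₀),
      IsPushout φ ψ ψ' φ₀ → Function.Surjective ψ.hom → IsNilpotent (RingHom.ker ψ.hom) →
        TorCondHom φ.hom (RingHom.ker ψ.hom) → Q φ₀.hom → Q φ.hom)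
    {X X' Y Y' S S' : Scheme.{u}} (iX : X ⟶ X') (iY : Y ⟶ Y') (iS : S ⟶ S')
    (f : X ⟶ Y) (f' : X' ⟶ Y') (g : Y ⟶ S) (g' : Y' ⟶ S')
    [IsClosedImmersion iS]
    (hnil : ∀ U : S'.affineOpens, IsNilpotent (RingHom.ker (iS.app U.1).hom))
    (hcX : IsPullback iX (f ≫ g) (f' ≫ g') iS) (hcY : IsPullback iY g g' iS)
    (w : iX ≫ f' = f ≫ iY) [Flat (f' ≫ g')] (hf : P f) : P f' := by
  have hL : IsPullback iX f f' iY := isPullback_left hcX hcY w
  haveI : IsClosedImmersion iY := MorphismProperty.of_isPullback (P := @IsClosedImmersion) hcY.flip inferInstance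
  haveI : IsClosedImmersion iX := MorphismProperty.of_isPullback (P := @IsClosedImmersion) hL.flip inferInstance
  rw [HasRingHomProperty.iff_exists_appLE (P := P) hQs]
  intro x'
  obtain ⟨U, hU, hxU, _⟩ := TopologicalSpace.Opens.isBasis_iff_nbhd.mp S'.isBasis_affineOpens
    (TopologicalSpace.Opens.mem_top (g' (f' x')))
  obtain ⟨V, hV, hxV, eV⟩ := TopologicalSpace.Opens.isBasis_iff_nbhd.mp Y'.isBasis_affineOpens
    (show f' x' ∈ g' ⁻¹ᵁ U from hxU)
  obtain ⟨W, hW, hxW, eW⟩ := TopologicalSpace.Opens.isBasis_iff_nbhd.mp X'.isBasis_affineOpens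
    (show x' ∈ f' ⁻¹ᵁ V from hxV)
  refine ⟨⟨V, hV⟩, ⟨W, hW⟩, hxW, eW, ?_⟩
  have hU₀ : IsAffineOpen (iS ⁻¹ᵁ U) := hU.preimage iS
  have hV₀ : IsAffineOpen (iY ⁻¹ᵁ V) := hV.preimage iY
  have hW₀ : IsAffineOpen (iX ⁻¹ᵁ W) := hW.preimage iX
  -- the two pushout squares
  have hVU₀ : iY ⁻¹ᵁ V = iY ⁻¹ᵁ V ⊓ g ⁻¹ᵁ (iS ⁻¹ᵁ U) := by
    refine (inf_eq_left.mpr ?_).symm
    intro y hy
    show iS (g y) ∈ U
    have : iS (g y) = g' (iY y) := by
      rw [← Scheme.Hom.comp_apply, ← Scheme.Hom.comp_apply, hcY.w]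
    rw [this]
    exact eV hy
  have hWV₀ : iX ⁻¹ᵁ W = iX ⁻¹ᵁ W ⊓ f ⁻¹ᵁ (iY ⁻¹ᵁ V) := by
    refine (inf_eq_left.mpr ?_).symm
    intro x hx
    show iY (f x) ∈ V
    have : iY (f x) = f' (iX x) := by
      rw [← Scheme.Hom.comp_apply, ← Scheme.Hom.comp_apply, w]
    rw [this]
    exact eW hx
  have hpoY := (isIso_pushoutSection_iff hcY (US := U) (UT := iS ⁻¹ᵁ U) (UX := V)
    le_rfl eV (UY := iY ⁻¹ᵁ V) hVU₀).mp
    (isIso_pushoutSection_of_isAffineOpen hcY (US := U) (UT := iS ⁻¹ᵁ U) (UX := V)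
    le_rfl eV (UY := iY ⁻¹ᵁ V) hVU₀ hU hU₀ hV)
  have hpoX := (isIso_pushoutSection_iff hL (US := V) (UT := iY ⁻¹ᵁ V) (UX := W)
    le_rfl eW (UY := iX ⁻¹ᵁ W) hWV₀).mp
    (isIso_pushoutSection_of_isAffineOpen hL (US := V) (UT := iY ⁻¹ᵁ V) (UX := W)
    le_rfl eW (UY := iX ⁻¹ᵁ W) hWV₀ hV hV₀ hW)
  have hψS : Function.Surjective (iS.appLE U (iS ⁻¹ᵁ U) le_rfl).hom := by
    rw [Scheme.Hom.appLE_eq_app]
    exact iS.app_surjective U hU
  have hnilS : IsNilpotent (RingHom.ker (iS.appLE U (iS ⁻¹ᵁ U) le_rfl).hom) := by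
    rw [Scheme.Hom.appLE_eq_app]
    exact hnil ⟨U, hU⟩
  have hψY := Thick.surjective_of_isPushout hpoY hψS
  have hnilY := Thick.isNilpotent_ker_of_isPushout hpoY hψS hnilS
  have hkerY : RingHom.ker (iY.appLE V (iY ⁻¹ᵁ V) le_rfl).hom =
      Ideal.map (g'.appLE U V eV).hom (RingHom.ker (iS.appLE U (iS ⁻¹ᵁ U) le_rfl).hom) := by
    refine le_antisymm (Thick.ker_le_of_isPushout hpoY hψS) ?_
    rw [Ideal.map_le_iff_le_comap]
    intro a ha
    rw [Ideal.mem_comap, RingHom.mem_ker]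
    have h1 := congrArg (fun k => k.hom a) hpoY.w
    simp only [CommRingCat.hom_comp, RingHom.comp_apply] at h1
    rw [h1, (RingHom.mem_ker).mp ha, map_zero]
  have hflat : ((f'.appLE V W eW).hom.comp (g'.appLE U V eV).hom).Flat := by
    have h1 := HasRingHomProperty.appLE (P := @Flat) (f' ≫ g') inferInstance ⟨U, hU⟩ ⟨W, hW⟩
      (eW.trans (fun x hx => eV hx))
    have h2 : (f' ≫ g').appLE U W (eW.trans (fun x hx => eV hx)) =
        g'.appLE U V eV ≫ f'.appLE V W eW := by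
      rw [Scheme.Hom.appLE_comp_appLE]
    rw [h2] at h1
    exact h1
  have hT : TorCondHom (f'.appLE V W eW).hom (RingHom.ker (iY.appLE V (iY ⁻¹ᵁ V) le_rfl).hom) := by
    rw [hkerY]
    exact torCondHom_of_flat _ _ hflat _
  exact hQ _ _ _ _ hpoX hψY hnilY hT
    (HasRingHomProperty.appLE P f hf ⟨_, hV₀⟩ ⟨_, hW₀⟩ _)

section iff

variable {X X' Y Y' S S' : Scheme.{u}} (iX : X ⟶ X') (iY : Y ⟶ Y') (iS : S ⟶ S')
    (f : X ⟶ Y) (f' : X' ⟶ Y') (g : Y ⟶ S) (g' : Y' ⟶ S')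

theorem flat_of_flat (hS : MoreMor.IsFiniteOrderThickening iS)
    (hcX : IsPullback iX (f ≫ g) (f' ≫ g') iS) (hcY : IsPullback iY g g' iS)
    (w : iX ≫ f' = f ≫ iY) [Flat (f' ≫ g')] (hf : Flat f) : Flat f' := by
  obtain ⟨h1, h2⟩ := Thick.isNilpotent_ker_app_of_isFiniteOrderThickening iS hS
  haveI := h1
  exact deform_of_ring (P := @Flat) (Q := RingHom.Flat)
    (RingHom.Flat.stableUnderComposition.stableUnderCompositionWithLocalizationAway
      RingHom.Flat.holdsForLocalizationAway).left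
    (fun φ ψ ψ' φ₀ h hs hn hT hq => flat_of_isPushout h hs hn hT hq) iX iY iS f f' g g' h2 hcX hcY w hf

theorem lfp_of_lfp (hS : MoreMor.IsFiniteOrderThickening iS)
    (hcX : IsPullback iX (f ≫ g) (f' ≫ g') iS) (hcY : IsPullback iY g g' iS)
    (w : iX ≫ f' = f ≫ iY) [Flat (f' ≫ g')] (hf : LocallyOfFinitePresentation f) :
    LocallyOfFinitePresentation f' := by
  obtain ⟨h1, h2⟩ := Thick.isNilpotent_ker_app_of_isFiniteOrderThickening iS hS
  haveI := h1
  exact deform_of_ring (P := @LocallyOfFinitePresentation) (Q := RingHom.FinitePresentation)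
    (RingHom.finitePresentation_stableUnderComposition.stableUnderCompositionWithLocalizationAway
      RingHom.finitePresentation_holdsForLocalizationAway).left
    (fun φ ψ ψ' φ₀ h hs hn hT hq => finitePresentation_of_isPushout h hs hn hT hq)
    iX iY iS f f' g g' h2 hcX hcY w hf

theorem smooth_of_smooth (hS : MoreMor.IsFiniteOrderThickening iS)
    (hcX : IsPullback iX (f ≫ g) (f' ≫ g') iS) (hcY : IsPullback iY g g' iS)
    (w : iX ≫ f' = f ≫ iY) [Flat (f' ≫ g')] (hf : Smooth f) : Smooth f' := by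
  obtain ⟨h1, h2⟩ := Thick.isNilpotent_ker_app_of_isFiniteOrderThickening iS hS
  haveI := h1
  exact deform_of_ring (P := @Smooth) (Q := RingHom.Smooth)
    (RingHom.Smooth.stableUnderComposition.stableUnderCompositionWithLocalizationAway
      RingHom.Smooth.holdsForLocalizationAway).left
    (fun φ ψ ψ' φ₀ h hs hn hT hq => smooth_of_isPushout h hs hn hT hq)
    iX iY iS f f' g g' h2 hcX hcY w hf

theorem etale_of_etale (hS : MoreMor.IsFiniteOrderThickening iS)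
    (hcX : IsPullback iX (f ≫ g) (f' ≫ g') iS) (hcY : IsPullback iY g g' iS)
    (w : iX ≫ f' = f ≫ iY) [Flat (f' ≫ g')] (hf : Etale f) : Etale f' := by
  obtain ⟨h1, h2⟩ := Thick.isNilpotent_ker_app_of_isFiniteOrderThickening iS hS
  haveI := h1
  refine deform_of_ring (P := @Etale) (Q := RingHom.Etale) ?_
    (fun φ ψ ψ' φ₀ h hs hn hT hq => etale_of_isPushout h hs hn hT hq)
    iX iY iS f f' g g' h2 hcX hcY w hf
  intro R S T _ _ _ _ r _ f hf
  exact RingHom.Etale.stableUnderComposition _ _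
    (RingHom.etale_algebraMap.mpr (Algebra.Etale.of_isLocalizationAway r)) hf

end iff

end Groth.Agent.Lib.Helper15.Deform
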