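import Mathlib
import Groth.Agent.Lib.Helper15.DeformSch
import Groth.Agent.S1305
import Groth.Agent.S1315
import Groth.Prelude.Def_Mor2

universe u

open CategoryTheory CategoryTheory.Limits AlgebraicGeometry TensorProduct MorphismProperty

namespace Groth.Agent.Lib.Helper15.Deform

set_option backward.isDefEq.respectTransparency.types false

section iff2

variable {X X' Y Y' S S' : Scheme.{u}} (iX : X ⟶ X') (iY : Y ⟶ Y') (iS : S ⟶ S')
    (f : X ⟶ Y) (f' : X' ⟶ Y') (g : Y ⟶ S) (g' : Y' ⟶ S')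

theorem isThickening_left (hS : MoreMor.IsThickening iS)
    (hcX : IsPullback iX (f ≫ g) (f' ≫ g') iS) (hcY : IsPullback iY g g' iS)
    (w : iX ≫ f' = f ≫ iY) : MoreMor.IsThickening iX ∧ MoreMor.IsThickening iY := by
  obtain ⟨h1, h2⟩ := hS
  have hL := isPullback_left hcX hcY w
  have hY1 : IsClosedImmersion iY := of_isPullback (P := @IsClosedImmersion) hcY.flip h1
  have hY2 : Surjective iY := of_isPullback (P := @Surjective) hcY.flip h2
  have hX1 : IsClosedImmersion iX := of_isPullback (P := @IsClosedImmersion) hL.flip hY1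
  have hX2 : Surjective iX := of_isPullback (P := @Surjective) hL.flip hY2
  exact ⟨⟨hX1, hX2⟩, ⟨hY1, hY2⟩⟩

theorem isOpenImmersion_of_isOpenImmersion (hS : MoreMor.IsFiniteOrderThickening iS)
    (hcX : IsPullback iX (f ≫ g) (f' ≫ g') iS) (hcY : IsPullback iY g g' iS)
    (w : iX ≫ f' = f ≫ iY) [Flat (f' ≫ g')] (hf : IsOpenImmersion f) : IsOpenImmersion f' := by
  have hL := isPullback_left hcX hcY w
  obtain ⟨-, ⟨hY1, hY2⟩⟩ := isThickening_left iX iY iS f f' g g' hS.1 hcX hcY w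
  haveI : Etale f' := etale_of_etale iX iY iS f f' g g' hS hcX hcY w inferInstance
  haveI : UniversallyInjective f' :=
    of_isPullback_of_descendsAlong (P := @UniversallyInjective) (Q := @Surjective) hL.flip
      hY2 inferInstance
  haveI : Mono f' := Groth.Agent.S1315.mono_of_unramified_of_universallyInjective f'
  exact IsOpenImmersion.of_flat_of_mono f'

theorem isIso_of_isIso (hS : MoreMor.IsFiniteOrderThickening iS)
    (hcX : IsPullback iX (f ≫ g) (f' ≫ g') iS) (hcY : IsPullback iY g g' iS)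
    (w : iX ≫ f' = f ≫ iY) [Flat (f' ≫ g')] (hf : IsIso f) : IsIso f' := by
  obtain ⟨-, ⟨hY1, hY2⟩⟩ := isThickening_left iX iY iS f f' g g' hS.1 hcX hcY w
  haveI : IsOpenImmersion f' :=
    isOpenImmersion_of_isOpenImmersion iX iY iS f f' g g' hS hcX hcY w inferInstance
  haveI : Surjective f' := by
    constructor
    intro y'
    obtain ⟨y, rfl⟩ := hY2.surj y'
    obtain ⟨x, rfl⟩ := (inferInstance : Surjective f).surj y
    refine ⟨iX x, ?_⟩
    rw [← Scheme.Hom.comp_apply, w, Scheme.Hom.comp_apply]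
  exact (isIso_iff_isOpenImmersion_and_surjective _).mpr ⟨inferInstance, inferInstance⟩

theorem isFinLocFreeOfDeg_of (d : ℕ) (hS : MoreMor.IsFiniteOrderThickening iS)
    (hcX : IsPullback iX (f ≫ g) (f' ≫ g') iS) (hcY : IsPullback iY g g' iS)
    (w : iX ≫ f' = f ≫ iY) [Flat (f' ≫ g')] (hf : Mor2.IsFinLocFreeOfDeg d f) :
    Mor2.IsFinLocFreeOfDeg d f' := by
  have hL := isPullback_left hcX hcY w
  obtain ⟨hXt, hYt⟩ := isThickening_left iX iY iS f f' g g' hS.1 hcX hcY w
  obtain ⟨⟨hfin, hfl, hfp⟩, hrank⟩ := hf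
  haveI : Flat f' := flat_of_flat iX iY iS f f' g g' hS hcX hcY w hfl
  haveI : LocallyOfFinitePresentation f' := lfp_of_lfp iX iY iS f f' g g' hS hcX hcY w hfp
  haveI : IsIntegralHom f' := (Groth.Agent.S1305.result iX iY f f' hXt hYt w).mp inferInstance
  haveI : IsFinite f' := (IsFinite.iff_isIntegralHom_and_locallyOfFiniteType f').mpr
    ⟨inferInstance, inferInstance⟩
  refine ⟨⟨inferInstance, inferInstance, inferInstance⟩, ?_⟩
  intro y'
  obtain ⟨y, rfl⟩ := hYt.2.surj y'
  rw [← Scheme.Hom.finrank_of_isPullback iX f f' iY hL y]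
  exact hrank y

theorem isFinLocFreeOfDeg_of' (d : ℕ)
    (hcX : IsPullback iX (f ≫ g) (f' ≫ g') iS) (hcY : IsPullback iY g g' iS)
    (w : iX ≫ f' = f ≫ iY) (hf' : Mor2.IsFinLocFreeOfDeg d f') :
    Mor2.IsFinLocFreeOfDeg d f := by
  have hL := isPullback_left hcX hcY w
  obtain ⟨⟨hfin, hfl, hfp⟩, hrank⟩ := hf'
  refine ⟨⟨of_isPullback (P := @IsFinite) hL hfin, of_isPullback (P := @Flat) hL hfl,
    of_isPullback (P := @LocallyOfFinitePresentation) hL hfp⟩, ?_⟩
  intro y
  rw [Scheme.Hom.finrank_of_isPullback iX f f' iY hL y]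
  exact hrank _

end iff2

end Groth.Agent.Lib.Helper15.Deform
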