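import Groth.Agent.Lib.Helper15.Thick
set_option autoImplicit false
universe u
open CategoryTheory CategoryTheory.Limits AlgebraicGeometry TensorProduct

namespace Groth.Agent.Lib.Helper15.Thick

theorem formallyUnramified_of_isPushout_nil {A A₀ B B₀ : Type u} [CommRing A] [CommRing A₀]
    [CommRing B] [CommRing B₀] [Algebra A A₀] [Algebra A B] [Algebra A₀ B₀] [Algebra B B₀]
    [Algebra A B₀] [IsScalarTower A A₀ B₀] [IsScalarTower A B B₀] [Algebra.IsPushout A A₀ B B₀]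
    [Algebra.FiniteType A B]
    (hsurj : Function.Surjective (algebraMap B B₀))
    (hnil : RingHom.ker (algebraMap B B₀) ≤ nilradical B)
    [Algebra.FormallyUnramified A₀ B₀] : Algebra.FormallyUnramified A B := by
  constructor
  let M := Ω[B⁄A]
  let K : Ideal B := RingHom.ker (algebraMap B B₀)
  have e1 : B₀ ⊗[B] M ≃ₗ[B₀] Ω[B₀⁄A₀] := KaehlerDifferential.tensorKaehlerEquiv A A₀ B B₀
  have hsub : Subsingleton (B₀ ⊗[B] M) := e1.toEquiv.subsingleton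
  let e2 : (B ⧸ K) ≃ₐ[B] B₀ :=
    Ideal.quotientKerAlgEquivOfSurjective (f := Algebra.ofId B B₀) hsurj
  have e3 : (B ⧸ K) ⊗[B] M ≃ₗ[B] B₀ ⊗[B] M := LinearEquiv.rTensor M e2.toLinearEquiv
  have e4 : (B ⧸ K) ⊗[B] M ≃ₗ[B] M ⧸ (K • (⊤ : Submodule B M)) :=
    TensorProduct.quotTensorEquivQuotSMul M K
  have hsub2 : Subsingleton (M ⧸ (K • (⊤ : Submodule B M))) :=
    (e4.symm.trans e3).toEquiv.subsingleton
  have htop : K • (⊤ : Submodule B M) = ⊤ := Submodule.Quotient.subsingleton_iff.mp hsub2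
  have hfin : Module.Finite B M := inferInstance
  have hbot : (⊤ : Submodule B M) = ⊥ :=
    Submodule.eq_bot_of_le_smul_of_le_jacobson_bot K ⊤ hfin.fg_top (by rw [htop])
      (by rw [Ideal.jacobson_bot]; exact hnil.trans (nilradical_le_jacobson B))
  exact (Submodule.subsingleton_iff B).mp (subsingleton_iff_bot_eq_top.mp hbot.symm)

section ring3

variable {A B A₀ B₀ : CommRingCat.{u}} {φ : A ⟶ B} {ψ : A ⟶ A₀} {ψ' : B ⟶ B₀} {φ₀ : A₀ ⟶ B₀}

theorem formallyUnramified_of_isPushout_nil' (h : IsPushout φ ψ ψ' φ₀)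
    (hψ : Function.Surjective ψ.hom)
    (hnil : RingHom.ker ψ.hom ≤ nilradical A) (hft : φ.hom.FiniteType)
    (hQ : φ₀.hom.FormallyUnramified) :
    φ.hom.FormallyUnramified := by
  have hsurj := surjective_of_isPushout h hψ
  have hnil' : RingHom.ker ψ'.hom ≤ nilradical B := by
    refine (ker_le_of_isPushout h hψ).trans ?_
    rw [Ideal.map_le_iff_le_comap]
    intro a ha
    have : IsNilpotent a := hnil ha
    exact this.map φ.hom
  algebraize [φ.hom, ψ.hom, ψ'.hom, φ₀.hom, ψ'.hom.comp φ.hom]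
  have : IsScalarTower A A₀ B₀ := .of_algebraMap_eq' (congrArg (fun k => k.hom) h.w)
  have hpo : Algebra.IsPushout A B A₀ B₀ := CommRingCat.isPushout_iff_isPushout.mp h
  have hpo' : Algebra.IsPushout A A₀ B B₀ := hpo.symm
  have hQ' : Algebra.FormallyUnramified A₀ B₀ := hQ
  exact formallyUnramified_of_isPushout_nil (A := A) (A₀ := A₀) (B := B) (B₀ := B₀) hsurj hnil'

end ring3

section scheme
set_option backward.isDefEq.respectTransparency.types false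

theorem descend_along_nil {P P' : MorphismProperty Scheme.{u}}
    {Q Q' : ∀ {R S : Type u} [CommRing R] [CommRing S], (R →+* S) → Prop}
    [HasRingHomProperty P Q] [HasRingHomProperty P' Q']
    (hQ : ∀ {A B A₀ B₀ : CommRingCat.{u}} (φ : A ⟶ B) (ψ : A ⟶ A₀) (ψ' : B ⟶ B₀) (φ₀ : A₀ ⟶ B₀),
      IsPushout φ ψ ψ' φ₀ → Function.Surjective ψ.hom → RingHom.ker ψ.hom ≤ nilradical A →
        Q' φ.hom → Q φ₀.hom → Q φ.hom)
    {X X' S S' : Scheme.{u}} (iX : X ⟶ X') (iS : S ⟶ S') (f : X ⟶ S) (f' : X' ⟶ S')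
    [IsClosedImmersion iS]
    (hnil : ∀ U : S'.affineOpens, RingHom.ker (iS.app U.1).hom ≤ nilradical Γ(S', U.1))
    (hc : IsPullback iX f f' iS) (hf' : P' f') (hf : P f) : P f' := by
  rw [HasRingHomProperty.iff_appLE (P := P)]
  intro U V e
  have hU₀ : IsAffineOpen (iS ⁻¹ᵁ U.1) := U.2.preimage iS
  have hiso := isIso_pushoutSection_of_isAffineOpen hc (US := U.1) (UT := iS ⁻¹ᵁ U.1) (UX := V.1)
    le_rfl e (UY := iX ⁻¹ᵁ V.1 ⊓ f ⁻¹ᵁ (iS ⁻¹ᵁ U.1)) rfl U.2 hU₀ V.2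
  have hpo := (isIso_pushoutSection_iff hc (US := U.1) (UT := iS ⁻¹ᵁ U.1) (UX := V.1)
    le_rfl e (UY := iX ⁻¹ᵁ V.1 ⊓ f ⁻¹ᵁ (iS ⁻¹ᵁ U.1)) rfl).mp hiso
  have hW : IsAffineOpen (iX ⁻¹ᵁ V.1 ⊓ f ⁻¹ᵁ (iS ⁻¹ᵁ U.1)) := by
    have : IsAffine _ := U.2
    have : IsAffine _ := hU₀
    have : IsAffine _ := V.2
    exact .of_isIso (Scheme.Hom.isPullback_resLE hc (US := U.1) (UT := iS ⁻¹ᵁ U.1) (UX := V.1)
      le_rfl e (UY := iX ⁻¹ᵁ V.1 ⊓ f ⁻¹ᵁ (iS ⁻¹ᵁ U.1)) rfl).isoPullback.hom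
  refine hQ _ _ _ _ hpo ?_ ?_ ?_ ?_
  · rw [Scheme.Hom.appLE_eq_app]
    exact iS.app_surjective U.1 U.2
  · rw [Scheme.Hom.appLE_eq_app]
    exact hnil U
  · exact HasRingHomProperty.appLE P' f' hf' U V e
  · exact HasRingHomProperty.appLE P f hf ⟨_, hU₀⟩ ⟨_, hW⟩ _

/-- kernel of a surjective closed immersion on affine opens is nil -/
theorem ker_app_le_nilradical {Y Y₀ : Scheme.{u}} (i : Y₀ ⟶ Y) [Surjective i]
    (U : Y.affineOpens) : RingHom.ker (i.app U.1).hom ≤ nilradical Γ(Y, U.1) := by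
  intro a ha
  rw [mem_nilradical, Scheme.isNilpotent_iff_basicOpen_eq_bot_of_isCompact U.2.isCompact]
  rw [← le_bot_iff]
  intro y hy
  obtain ⟨y₀, rfl⟩ := i.surjective y
  have h1 : y₀ ∈ i ⁻¹ᵁ (Y.basicOpen a) := hy
  rw [Scheme.preimage_basicOpen] at h1
  rw [RingHom.mem_ker] at ha
  have h2 : Y₀.basicOpen ((i.app U.1).hom a) = ⊥ := by rw [ha]; exact Scheme.basicOpen_zero _ _
  rw [h2] at h1
  exact h1

end scheme

end Groth.Agent.Lib.Helper15.Thick
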