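import Mathlib
import Groth.Agent.Lib.Helper15.DeformSch2
import Groth.Agent.Lib.Helper15.DeformNil
import Groth.Agent.Lib.Helper15.Thick2
import Groth.Agent.Lib.Helper15.ThickSmooth

/-!
# Helper15 — DeformSch3: relative deformation across arbitrary thickenings of the base (f.p. case)

For `f' : X' ⟶ Y'` over `S'` with `X'` flat and locally of finite presentation over `S'`, `Y'` locally of
finite type over `S'`, and `iS : S ⟶ S'` a thickening, properties of the base change `f : X ⟶ Y` lift to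
`f'`.
-/

universe u

open CategoryTheory CategoryTheory.Limits AlgebraicGeometry TensorProduct MorphismProperty

namespace Groth.Agent.Lib.Helper15.Deform3

open Groth.Agent.Lib.Helper15.Deform

section ringAlg

open Function

/-- `flat_of_fibre_nil` with the quotient `S ⧸ I S` replaced by any surjection with that kernel. -/
theorem flat_of_fibre_nil_surj {R S S' M : Type u} [CommRing R] [CommRing S] [CommRing S'] [Algebra R S]
    [Algebra S S'] [Algebra R S'] [IsScalarTower R S S']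
    [Algebra.FiniteType R S] [Algebra.FinitePresentation R S'] (I : Ideal R)
    (hI : ∀ a ∈ I, IsNilpotent a)
    [AddCommGroup M] [Module S' M] [Module S M] [Module R M] [IsScalarTower S S' M]
    [IsScalarTower R S M] [Module.FinitePresentation S' M] [Module.Flat R M]
    (S₀ : Type u) [CommRing S₀] [Algebra S S₀] (hsurj : Surjective (algebraMap S S₀))
    (hker : RingHom.ker (algebraMap S S₀) = I.map (algebraMap R S))
    [Module.Flat S₀ (S₀ ⊗[S] M)] : Module.Flat S M := by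
  let e : (S ⧸ I.map (algebraMap R S)) ≃+* S₀ :=
    (Ideal.quotEquivOfEq hker.symm).trans (RingHom.quotientKerEquivOfSurjective hsurj)
  letI : Algebra S₀ (S ⧸ I.map (algebraMap R S)) := e.symm.toRingHom.toAlgebra
  haveI : IsScalarTower S S₀ (S ⧸ I.map (algebraMap R S)) :=
    IsScalarTower.of_algebraMap_eq (fun a => by
      show _ = e.symm (algebraMap S S₀ a)
      rw [RingEquiv.eq_symm_apply]
      rfl)
  have h : Module.Flat (S ⧸ I.map (algebraMap R S)) ((S ⧸ I.map (algebraMap R S)) ⊗[S] M) :=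
    Module.Flat.of_linearEquiv (AlgebraTensorModule.cancelBaseChange S S₀
      (S ⧸ I.map (algebraMap R S)) (S ⧸ I.map (algebraMap R S)) M).symm
  exact DeformNil.flat_of_fibre_nil (S' := S') I hI h

end ringAlg

section ring3

set_option backward.isDefEq.respectTransparency.types false

variable {A' B' C' A B C : CommRingCat.{u}} {α : A' ⟶ B'} {φ : B' ⟶ C'} {ψA : A' ⟶ A}
  {ψB : B' ⟶ B} {ψC : C' ⟶ C} {α₀ : A ⟶ B} {φ₀ : B ⟶ C}

theorem ker_eq_of_isPushout (hY : IsPushout α ψA ψB α₀) (hψ : Function.Surjective ψA.hom) :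
    RingHom.ker ψB.hom = (RingHom.ker ψA.hom).map α.hom := by
  refine le_antisymm (Thick.ker_le_of_isPushout hY hψ) ?_
  rw [Ideal.map_le_iff_le_comap]
  intro a ha
  rw [Ideal.mem_comap, RingHom.mem_ker]
  have h1 := congrArg (fun k => k.hom a) hY.w
  simp only [CommRingCat.hom_comp, RingHom.comp_apply] at h1
  rw [h1, (RingHom.mem_ker).mp ha, map_zero]

theorem ker_le_nilradical_of_isPushout (hY : IsPushout α ψA ψB α₀)
    (hψ : Function.Surjective ψA.hom) (hnil : RingHom.ker ψA.hom ≤ nilradical A') :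
    RingHom.ker ψB.hom ≤ nilradical B' := by
  rw [ker_eq_of_isPushout hY hψ, Ideal.map_le_iff_le_comap]
  intro a ha
  have : IsNilpotent a := hnil ha
  exact this.map α.hom

theorem flat3 (hY : IsPushout α ψA ψB α₀) (hX : IsPushout φ ψB ψC φ₀)
    (hψ : Function.Surjective ψA.hom) (hnil : RingHom.ker ψA.hom ≤ nilradical A')
    (hfl : (α ≫ φ).hom.Flat) (hfp : (α ≫ φ).hom.FinitePresentation) (hft : α.hom.FiniteType)
    (hQ : φ₀.hom.Flat) : φ.hom.Flat := by
  have hψB := Thick.surjective_of_isPushout hY hψ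
  have hker := ker_eq_of_isPushout hY hψ
  algebraize [α.hom, φ.hom, (α ≫ φ).hom, ψB.hom, φ₀.hom, ψC.hom, ψC.hom.comp φ.hom]
  haveI : IsScalarTower A' B' C' := .of_algebraMap_eq' rfl
  haveI : IsScalarTower B' B C := .of_algebraMap_eq' (congrArg (fun k => k.hom) hX.w)
  have hpo : Algebra.IsPushout B' C' B C := CommRingCat.isPushout_iff_isPushout.mp hX
  have hpo' : Algebra.IsPushout B' B C' C := hpo.symm
  have hQ' : Module.Flat B C := hQ
  haveI : Module.Flat B (B ⊗[B'] C') :=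
    Module.Flat.of_linearEquiv (Algebra.IsPushout.equiv B' B C' C).toLinearEquiv
  haveI : Module.Flat A' C' := hfl
  haveI : Algebra.FinitePresentation A' C' := hfp
  haveI : Algebra.FiniteType A' B' := hft
  exact flat_of_fibre_nil_surj (R := A') (S := B') (S' := C') (M := C') (RingHom.ker ψA.hom)
    (fun a ha => hnil ha) B hψB hker

theorem fp3 (hfp : (α ≫ φ).hom.FinitePresentation) (hft : α.hom.FiniteType) :
    φ.hom.FinitePresentation := by
  algebraize [α.hom, φ.hom, (α ≫ φ).hom]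
  haveI : IsScalarTower A' B' C' := .of_algebraMap_eq' rfl
  haveI : Algebra.FinitePresentation A' C' := hfp
  haveI : Algebra.FiniteType A' B' := hft
  exact Algebra.FinitePresentation.of_restrict_scalars_finitePresentation A' B' C'

theorem smooth3 (hY : IsPushout α ψA ψB α₀) (hX : IsPushout φ ψB ψC φ₀)
    (hψ : Function.Surjective ψA.hom) (hnil : RingHom.ker ψA.hom ≤ nilradical A')
    (hfl : (α ≫ φ).hom.Flat) (hfp : (α ≫ φ).hom.FinitePresentation) (hft : α.hom.FiniteType)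
    (hQ : φ₀.hom.Smooth) : φ.hom.Smooth := by
  have hψB := Thick.surjective_of_isPushout hY hψ
  have hnilB := ker_le_nilradical_of_isPushout hY hψ hnil
  have hflat : φ.hom.Flat := flat3 hY hX hψ hnil hfl hfp hft hQ.flat
  have hfp' : φ.hom.FinitePresentation := fp3 hfp hft
  algebraize [φ.hom, ψB.hom, ψC.hom, φ₀.hom, ψC.hom.comp φ.hom]
  have : IsScalarTower B' B C := .of_algebraMap_eq' (congrArg (fun k => k.hom) hX.w)
  have hpo : Algebra.IsPushout B' C' B C := CommRingCat.isPushout_iff_isPushout.mp hX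
  have hpo' : Algebra.IsPushout B' B C' C := hpo.symm
  have hQ' : Algebra.Smooth B C := hQ
  haveI : Algebra.FormallySmooth B C := hQ'.1
  exact ThickSmooth.smooth_of_flat_of_isPushout (A := B') (A₀ := B) (B := C') (B₀ := C) hψB hnilB

theorem etale3 (hY : IsPushout α ψA ψB α₀) (hX : IsPushout φ ψB ψC φ₀)
    (hψ : Function.Surjective ψA.hom) (hnil : RingHom.ker ψA.hom ≤ nilradical A')
    (hfl : (α ≫ φ).hom.Flat) (hfp : (α ≫ φ).hom.FinitePresentation) (hft : α.hom.FiniteType)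
    (hQ : φ₀.hom.Etale) : φ.hom.Etale := by
  have hψB := Thick.surjective_of_isPushout hY hψ
  have hnilB := ker_le_nilradical_of_isPushout hY hψ hnil
  have hfp' : φ.hom.FinitePresentation := fp3 hfp hft
  rw [RingHom.Etale.iff_flat_and_formallyUnramified] at hQ ⊢
  exact ⟨flat3 hY hX hψ hnil hfl hfp hft hQ.1,
    Thick.formallyUnramified_of_isPushout_nil' hX hψB hnilB
      (RingHom.FiniteType.of_finitePresentation hfp') hQ.2.1, hfp'⟩

end ring3

section scheme

set_option backward.isDefEq.respectTransparency.types false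

theorem deform3_of_ring {P : MorphismProperty Scheme.{u}}
    {Q : ∀ {R S : Type u} [CommRing R] [CommRing S], (R →+* S) → Prop} [HasRingHomProperty P Q]
    (hQs : RingHom.StableUnderCompositionWithLocalizationAwaySource Q)
    (hQ : ∀ {A' B' C' A B C : CommRingCat.{u}} (α : A' ⟶ B') (φ : B' ⟶ C') (ψA : A' ⟶ A)
      (ψB : B' ⟶ B) (ψC : C' ⟶ C) (α₀ : A ⟶ B) (φ₀ : B ⟶ C),
      IsPushout α ψA ψB α₀ → IsPushout φ ψB ψC φ₀ → Function.Surjective ψA.hom →
        RingHom.ker ψA.hom ≤ nilradical A' → (α ≫ φ).hom.Flat → (α ≫ φ).hom.FinitePresentation →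
        α.hom.FiniteType → Q φ₀.hom → Q φ.hom)
    {X X' Y Y' S S' : Scheme.{u}} (iX : X ⟶ X') (iY : Y ⟶ Y') (iS : S ⟶ S')
    (f : X ⟶ Y) (f' : X' ⟶ Y') (g : Y ⟶ S) (g' : Y' ⟶ S')
    [IsClosedImmersion iS] [Surjective iS]
    (hcX : IsPullback iX (f ≫ g) (f' ≫ g') iS) (hcY : IsPullback iY g g' iS)
    (w : iX ≫ f' = f ≫ iY) [Flat (f' ≫ g')] [LocallyOfFinitePresentation (f' ≫ g')]
    [LocallyOfFiniteType g'] (hf : P f) : P f' := by
  have hL : IsPullback iX f f' iY := isPullback_left hcX hcY w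
  haveI : IsClosedImmersion iY := MorphismProperty.of_isPullback (P := @IsClosedImmersion) hcY.flip inferInstance
  haveI : IsClosedImmersion iX := MorphismProperty.of_isPullback (P := @IsClosedImmersion) hL.flip inferInstance
  rw [HasRingHomProperty.iff_exists_appLE (P := P) hQs]
  intro x'
  obtain ⟨U, hU, hxU, _⟩ := TopologicalSpace.Opens.isBasis_iff_nbhd.mp S'.isBasis_affineOpens
    (TopologicalSpace.Opens.mem_top (g' (f' x')))
  obtain ⟨V, hV, hxV, eV⟩ := TopologicalSpace.Opens.isBasis_iff_nbhd.mp Y'.isBasis_affineOpens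
    (show f' x' ∈ g' ⁻¹ᵁ U from hxU)
  obtain ⟨W, hW, hxW, eW⟩ := TopologicalSpace.Opens.isBasis_iff_nbhd.mp X'.isBasis_affineOpens
    (show x' ∈ f' ⁻¹ᵁ V from hxV)
  refine ⟨⟨V, hV⟩, ⟨W, hW⟩, hxW, eW, ?_⟩
  have hU₀ : IsAffineOpen (iS ⁻¹ᵁ U) := hU.preimage iS
  have hV₀ : IsAffineOpen (iY ⁻¹ᵁ V) := hV.preimage iY
  have hW₀ : IsAffineOpen (iX ⁻¹ᵁ W) := hW.preimage iX
  -- the two pushout squares
  have hVU₀ : iY ⁻¹ᵁ V = iY ⁻¹ᵁ V ⊓ g ⁻¹ᵁ (iS ⁻¹ᵁ U) := by
    refine (inf_eq_left.mpr ?_).symm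
    intro y hy
    show iS (g y) ∈ U
    have : iS (g y) = g' (iY y) := by
      rw [← Scheme.Hom.comp_apply, ← Scheme.Hom.comp_apply, hcY.w]
    rw [this]
    exact eV hy
  have hWV₀ : iX ⁻¹ᵁ W = iX ⁻¹ᵁ W ⊓ f ⁻¹ᵁ (iY ⁻¹ᵁ V) := by
    refine (inf_eq_left.mpr ?_).symm
    intro x hx
    show iY (f x) ∈ V
    have : iY (f x) = f' (iX x) := by
      rw [← Scheme.Hom.comp_apply, ← Scheme.Hom.comp_apply, w]
    rw [this]
    exact eW hx
  have hpoY := (isIso_pushoutSection_iff hcY (US := U) (UT := iS ⁻¹ᵁ U) (UX := V)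
    le_rfl eV (UY := iY ⁻¹ᵁ V) hVU₀).mp
    (isIso_pushoutSection_of_isAffineOpen hcY (US := U) (UT := iS ⁻¹ᵁ U) (UX := V)
    le_rfl eV (UY := iY ⁻¹ᵁ V) hVU₀ hU hU₀ hV)
  have hpoX := (isIso_pushoutSection_iff hL (US := V) (UT := iY ⁻¹ᵁ V) (UX := W)
    le_rfl eW (UY := iX ⁻¹ᵁ W) hWV₀).mp
    (isIso_pushoutSection_of_isAffineOpen hL (US := V) (UT := iY ⁻¹ᵁ V) (UX := W)
    le_rfl eW (UY := iX ⁻¹ᵁ W) hWV₀ hV hV₀ hW)
  have hψS : Function.Surjective (iS.appLE U (iS ⁻¹ᵁ U) le_rfl).hom := by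
    rw [Scheme.Hom.appLE_eq_app]
    exact iS.app_surjective U hU
  have hnilS : RingHom.ker (iS.appLE U (iS ⁻¹ᵁ U) le_rfl).hom ≤ nilradical Γ(S', U) := by
    rw [Scheme.Hom.appLE_eq_app]
    exact Thick.ker_app_le_nilradical iS ⟨U, hU⟩
  have h2 : (f' ≫ g').appLE U W (eW.trans (fun x hx => eV hx)) =
      g'.appLE U V eV ≫ f'.appLE V W eW := by
    rw [Scheme.Hom.appLE_comp_appLE]
  have hflat : (g'.appLE U V eV ≫ f'.appLE V W eW).hom.Flat := by
    have h1 := HasRingHomProperty.appLE (P := @Flat) (f' ≫ g') inferInstance ⟨U, hU⟩ ⟨W, hW⟩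
      (eW.trans (fun x hx => eV hx))
    rw [h2] at h1
    exact h1
  have hfp : (g'.appLE U V eV ≫ f'.appLE V W eW).hom.FinitePresentation := by
    have h1 := HasRingHomProperty.appLE (P := @LocallyOfFinitePresentation) (f' ≫ g') inferInstance
      ⟨U, hU⟩ ⟨W, hW⟩ (eW.trans (fun x hx => eV hx))
    rw [h2] at h1
    exact h1
  have hft : (g'.appLE U V eV).hom.FiniteType :=
    HasRingHomProperty.appLE (P := @LocallyOfFiniteType) g' inferInstance ⟨U, hU⟩ ⟨V, hV⟩ eV
  exact hQ _ _ _ _ _ _ _ hpoY hpoX hψS hnilS hflat hfp hft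
    (HasRingHomProperty.appLE P f hf ⟨_, hV₀⟩ ⟨_, hW₀⟩ _)

section iff

variable {X X' Y Y' S S' : Scheme.{u}} (iX : X ⟶ X') (iY : Y ⟶ Y') (iS : S ⟶ S')
    (f : X ⟶ Y) (f' : X' ⟶ Y') (g : Y ⟶ S) (g' : Y' ⟶ S')

theorem flat_of_flat (hS : MoreMor.IsThickening iS)
    (hcX : IsPullback iX (f ≫ g) (f' ≫ g') iS) (hcY : IsPullback iY g g' iS)
    (w : iX ≫ f' = f ≫ iY) [Flat (f' ≫ g')] [LocallyOfFinitePresentation (f' ≫ g')]
    [LocallyOfFiniteType g'] (hf : Flat f) : Flat f' := by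
  obtain ⟨h1, h2⟩ := hS
  exact deform3_of_ring (P := @Flat) (Q := RingHom.Flat)
    (RingHom.Flat.stableUnderComposition.stableUnderCompositionWithLocalizationAway
      RingHom.Flat.holdsForLocalizationAway).left
    (fun α φ ψA ψB ψC α₀ φ₀ hY hX hs hn hfl hfp hft hq => flat3 hY hX hs hn hfl hfp hft hq)
    iX iY iS f f' g g' hcX hcY w hf

theorem smooth_of_smooth (hS : MoreMor.IsThickening iS)
    (hcX : IsPullback iX (f ≫ g) (f' ≫ g') iS) (hcY : IsPullback iY g g' iS)
    (w : iX ≫ f' = f ≫ iY) [Flat (f' ≫ g')] [LocallyOfFinitePresentation (f' ≫ g')]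
    [LocallyOfFiniteType g'] (hf : Smooth f) : Smooth f' := by
  obtain ⟨h1, h2⟩ := hS
  exact deform3_of_ring (P := @Smooth) (Q := RingHom.Smooth)
    (RingHom.Smooth.stableUnderComposition.stableUnderCompositionWithLocalizationAway
      RingHom.Smooth.holdsForLocalizationAway).left
    (fun α φ ψA ψB ψC α₀ φ₀ hY hX hs hn hfl hfp hft hq => smooth3 hY hX hs hn hfl hfp hft hq)
    iX iY iS f f' g g' hcX hcY w hf

theorem etale_of_etale (hS : MoreMor.IsThickening iS)
    (hcX : IsPullback iX (f ≫ g) (f' ≫ g') iS) (hcY : IsPullback iY g g' iS)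
    (w : iX ≫ f' = f ≫ iY) [Flat (f' ≫ g')] [LocallyOfFinitePresentation (f' ≫ g')]
    [LocallyOfFiniteType g'] (hf : Etale f) : Etale f' := by
  obtain ⟨h1, h2⟩ := hS
  refine deform3_of_ring (P := @Etale) (Q := RingHom.Etale) ?_
    (fun α φ ψA ψB ψC α₀ φ₀ hY hX hs hn hfl hfp hft hq => etale3 hY hX hs hn hfl hfp hft hq)
    iX iY iS f f' g g' hcX hcY w hf
  intro R S T _ _ _ _ r _ f hf
  exact RingHom.Etale.stableUnderComposition _ _
    (RingHom.etale_algebraMap.mpr (Algebra.Etale.of_isLocalizationAway r)) hf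

theorem isOpenImmersion_of_isOpenImmersion (hS : MoreMor.IsThickening iS)
    (hcX : IsPullback iX (f ≫ g) (f' ≫ g') iS) (hcY : IsPullback iY g g' iS)
    (w : iX ≫ f' = f ≫ iY) [Flat (f' ≫ g')] [LocallyOfFinitePresentation (f' ≫ g')]
    [LocallyOfFiniteType g'] (hf : IsOpenImmersion f) : IsOpenImmersion f' := by
  have hL := isPullback_left hcX hcY w
  obtain ⟨-, ⟨hY1, hY2⟩⟩ := isThickening_left iX iY iS f f' g g' hS hcX hcY w
  haveI : Etale f' := etale_of_etale iX iY iS f f' g g' hS hcX hcY w inferInstance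
  haveI : UniversallyInjective f' :=
    of_isPullback_of_descendsAlong (P := @UniversallyInjective) (Q := @Surjective) hL.flip
      hY2 inferInstance
  haveI : Mono f' := Groth.Agent.S1315.mono_of_unramified_of_universallyInjective f'
  exact IsOpenImmersion.of_flat_of_mono f'

theorem isIso_of_isIso (hS : MoreMor.IsThickening iS)
    (hcX : IsPullback iX (f ≫ g) (f' ≫ g') iS) (hcY : IsPullback iY g g' iS)
    (w : iX ≫ f' = f ≫ iY) [Flat (f' ≫ g')] [LocallyOfFinitePresentation (f' ≫ g')]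
    [LocallyOfFiniteType g'] (hf : IsIso f) : IsIso f' := by
  obtain ⟨-, ⟨hY1, hY2⟩⟩ := isThickening_left iX iY iS f f' g g' hS hcX hcY w
  haveI : IsOpenImmersion f' :=
    isOpenImmersion_of_isOpenImmersion iX iY iS f f' g g' hS hcX hcY w inferInstance
  haveI : Surjective f' := by
    constructor
    intro y'
    obtain ⟨y, rfl⟩ := hY2.surj y'
    obtain ⟨x, rfl⟩ := (inferInstance : Surjective f).surj y
    refine ⟨iX x, ?_⟩
    rw [← Scheme.Hom.comp_apply, w, Scheme.Hom.comp_apply]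
  exact (isIso_iff_isOpenImmersion_and_surjective _).mpr ⟨inferInstance, inferInstance⟩

end iff

end scheme

end Groth.Agent.Lib.Helper15.Deform3
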