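import Groth.Prelude.Def_AlgSpInf
import Groth.Prelude.Def_AlgSpMor5
import Groth.Agent.Lib.Helper3.AlgSpLocP4
import Groth.Agent.Lib.Helper3.AlgSpLocP3
import Groth.Agent.Lib.Helper3.AlgSpHasAtMor
import Groth.Agent.Lib.Helper3.AlgSpPoints
import Groth.Agent.Lib.Helper15.AlgSpThick
import Groth.Agent.Lib.Helper15.DeformSch3
import Groth.Agent.Lib.Helper2.FibreCrit

/-!
# Helper15 — AlgSpDeform: relative deformation across thickenings of algebraic spaces

Three-level chart diagrams for `X' ⟶ Y' ⟶ B'` and their restriction along a thickening `B ⟶ B'`.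
-/

set_option autoImplicit false
universe u
open CategoryTheory CategoryTheory.Limits AlgebraicGeometry
open AlgSp

namespace Groth.Agent.Lib.Helper15.AlgSpDeform
open Groth.Agent.Lib.Helper3
set_option backward.isDefEq.respectTransparency.types false

variable {S : Scheme.{u}}

/-- Variant of `AlgSpThick.exists_thick_chart` in which the restriction of the target chart is given. -/
theorem exists_thick_chart' {X X' Y Y' : Sp S} (i : X ⟶ X') (j : Y ⟶ Y') (f : X ⟶ Y) (f' : X' ⟶ Y')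
    (hi : IsThickMor i) (hcart : IsPullback i f f' j)
    {U' V' V : Over S} (a' : (yon S).obj U' ⟶ X') (b' : (yon S).obj V' ⟶ Y') (h' : U' ⟶ V')
    (ha' : RepWith @Etale a') (w' : a' ≫ f' = (yon S).map h' ≫ b')
    (iV : V ⟶ V') (b : (yon S).obj V ⟶ Y) (sqV : IsPullback b ((yon S).map iV) j b') :
    ∃ (U : Over S) (iU : U ⟶ U') (h : U ⟶ V) (a : (yon S).obj U ⟶ X),
      RepWith @Etale a ∧ a ≫ f = (yon S).map h ≫ b ∧
      MoreMor.IsThickening iU.left ∧
      IsPullback iU.left h.left h'.left iV.left ∧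
      IsPullback a ((yon S).map iU) i a' := by
  have sqU := hi.rep.isPullback a'
  have hU : MoreMor.IsThickening (hi.rep.snd a').left := hi.property_snd a'
  have hae : RepWith @Etale (hi.rep.fst a') := MorphismProperty.of_isPullback sqU.flip ha'
  have big : IsPullback ((yon S).map (hi.rep.snd a')) (hi.rep.fst a' ≫ f) (a' ≫ f') j :=
    sqU.flip.paste_vert hcart
  have comm : (hi.rep.fst a' ≫ f) ≫ j = ((yon S).map (hi.rep.snd a') ≫ (yon S).map h') ≫ b' := by
    rw [Category.assoc, Category.assoc, ← w']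
    simpa only [Category.assoc] using big.w.symm
  obtain ⟨h, hh⟩ := (yon S).map_surjective (sqV.lift _ _ comm)
  have h1 : (yon S).map h ≫ b = hi.rep.fst a' ≫ f := by rw [hh, sqV.lift_fst]
  have h2 : (yon S).map h ≫ (yon S).map iV =
      (yon S).map (hi.rep.snd a') ≫ (yon S).map h' := by rw [hh, sqV.lift_snd]
  have big' : IsPullback ((yon S).map (hi.rep.snd a')) ((yon S).map h ≫ b)
      ((yon S).map h' ≫ b') j := by
    rw [h1, ← w']; exact big
  have top : IsPullback ((yon S).map (hi.rep.snd a')) ((yon S).map h) ((yon S).map h')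
      ((yon S).map iV) :=
    IsPullback.of_bot big' h2.symm sqV.flip
  have commO : hi.rep.snd a' ≫ h' = h ≫ iV := by
    apply (yon S).map_injective
    rw [Functor.map_comp, Functor.map_comp, h2]
  have topO : IsPullback (hi.rep.snd a') h h' iV :=
    IsPullback.of_map (yon S) commO top
  exact ⟨_, hi.rep.snd a', h, hi.rep.fst a', hae, h1.symm, hU, topO.map (Over.forget S), sqU⟩

section charts

variable {X X' Y Y' B B' : AlgSp.Space S} (iX : X ⟶ X') (iY : Y ⟶ Y') (iB : B ⟶ B')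
    (f : X ⟶ Y) (f' : X' ⟶ Y') (g : Y ⟶ B) (g' : Y' ⟶ B')

theorem isPullback_left (hcX : IsPullback iX.hom (f ≫ g).hom (f' ≫ g').hom iB.hom)
    (hcY : IsPullback iY.hom g.hom g'.hom iB.hom) (w : iX ≫ f' = f ≫ iY) :
    IsPullback iX.hom f.hom f'.hom iY.hom := by
  have hcX' : IsPullback iX.hom (f.hom ≫ g.hom) (f'.hom ≫ g'.hom) iB.hom := hcX
  have w' : iX.hom ≫ f'.hom = f.hom ≫ iY.hom := congrArg (fun k => k.hom) w
  exact IsPullback.of_bot hcX' w' hcY

/-- Restriction of a three-level chart diagram of `X' ⟶ Y' ⟶ B'` along the thickening. -/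
theorem exists_charts3_restrict (hcX : IsPullback iX.hom (f ≫ g).hom (f' ≫ g').hom iB.hom)
    (hcY : IsPullback iY.hom g.hom g'.hom iB.hom) (w : iX ≫ f' = f ≫ iY)
    (hB : IsThickMor iB.hom)
    {U' V' W' : Over S} (a' : (yon S).obj U' ⟶ X'.obj) (b' : (yon S).obj V' ⟶ Y'.obj)
    (c' : (yon S).obj W' ⟶ B'.obj) (h' : U' ⟶ V') (l' : V' ⟶ W')
    (ha' : RepWith @Etale a') (hb' : RepWith @Etale b') (hc' : RepWith @Etale c')
    (wh' : a' ≫ f'.hom = (yon S).map h' ≫ b') (wl' : b' ≫ g'.hom = (yon S).map l' ≫ c') :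
    ∃ (U V W : Over S) (iU : U ⟶ U') (iV : V ⟶ V') (iW : W ⟶ W') (h : U ⟶ V) (l : V ⟶ W)
      (a : (yon S).obj U ⟶ X.obj) (b : (yon S).obj V ⟶ Y.obj) (c : (yon S).obj W ⟶ B.obj),
      RepWith @Etale a ∧ RepWith @Etale b ∧ RepWith @Etale c ∧
      a ≫ f.hom = (yon S).map h ≫ b ∧ b ≫ g.hom = (yon S).map l ≫ c ∧
      MoreMor.IsThickening iW.left ∧
      IsPullback iU.left h.left h'.left iV.left ∧ IsPullback iV.left l.left l'.left iW.left ∧
      IsPullback a ((yon S).map iU) iX.hom a' ∧ IsPullback c ((yon S).map iW) iB.hom c' := by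
  have hiY : IsThickMor iY.hom := MorphismProperty.of_isPullback (P := RepWith AlgSp.thick) hcY.flip hB
  have hL := isPullback_left iX iY iB f f' g g' hcX hcY w
  have hiX : IsThickMor iX.hom := MorphismProperty.of_isPullback (P := RepWith AlgSp.thick) hL.flip hiY
  obtain ⟨V, W, iV, iW, l, b, c, hbe, hce, hwl, -, hW, sqVW, sqb, sqc⟩ :=
    AlgSpThick.exists_thick_chart iY.hom iB.hom g.hom g'.hom hiY hB hcY b' c' l' hb' hc' wl'
  obtain ⟨U, iU, h, a, hae, hwh, -, sqUV, sqa⟩ :=
    exists_thick_chart' iX.hom iY.hom f.hom f'.hom hiX hL a' b' h' ha' wh' iV b sqb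
  exact ⟨U, V, W, iU, iV, iW, h, l, a, b, c, hae, hbe, hce, hwh, hwl, hW, sqUV, sqVW, sqa, sqc⟩

/-- A three-level chart diagram of `X' ⟶ Y' ⟶ B'` with surjective top chart. -/
theorem exists_charts3 :
    ∃ (U' V' W' : Over S) (a' : (yon S).obj U' ⟶ X'.obj) (b' : (yon S).obj V' ⟶ Y'.obj)
      (c' : (yon S).obj W' ⟶ B'.obj) (h' : U' ⟶ V') (l' : V' ⟶ W'),
      RepWith @Etale a' ∧ RepWith @Surjective a' ∧ RepWith @Etale b' ∧ RepWith @Etale c' ∧
      a' ≫ f'.hom = (yon S).map h' ≫ b' ∧ b' ≫ g'.hom = (yon S).map l' ≫ c' := by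
  obtain ⟨W', c', hce, hcs⟩ := B'.property.atlas
  obtain ⟨V', v', l', -, -, hbe, hbs, -, hl⟩ :=
    exists_chart_over Y'.property B'.property g'.hom c' hce
  obtain ⟨U', u', h', -, -, hae, has, -, hh⟩ :=
    exists_chart_over X'.property Y'.property f'.hom _ hbe
  exact ⟨U', V', W', _, _, c', h', l', hae, has (hbs hcs), hbe, hce, hh, hl⟩

end charts

section flat

open TensorProduct in
/-- flatness descends along a faithfully flat extension of the target ring. -/
theorem flat_of_comp_faithfullyFlat {A B C : Type*} [CommRing A] [CommRing B] [CommRing C]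
    [Algebra A B] [Algebra B C] [Algebra A C] [IsScalarTower A B C] [Module.FaithfullyFlat B C]
    [Module.Flat A C] : Module.Flat A B := by
  rw [Module.Flat.iff_lTensor_injective']
  intro I
  exact Groth.Agent.Lib.Helper2.FibreCrit.lTensor_injective_of_faithfullyFlat B C I.subtype
    (Module.Flat.lTensor_preserves_injective_linearMap _ I.injective_subtype)

/-- for local homomorphisms `ψ : A → B`, `φ : B → C` with `φ` and `φ ∘ ψ` flat, `ψ` is flat. -/
theorem ringHom_flat_of_comp {A B C : Type u} [CommRing A] [CommRing B] [CommRing C]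
    [IsLocalRing B] [IsLocalRing C] (ψ : A →+* B) (φ : B →+* C) [IsLocalHom φ]
    (hφ : φ.Flat) (hc : (φ.comp ψ).Flat) : ψ.Flat := by
  algebraize [ψ, φ, φ.comp ψ]
  haveI : IsLocalHom (algebraMap B C) := ‹IsLocalHom φ›
  haveI : Module.FaithfullyFlat B C := Module.FaithfullyFlat.of_flat_of_isLocalHom
  exact flat_of_comp_faithfullyFlat (A := A) (B := B) (C := C)

variable {X' Y' B' : AlgSp.Space S} (f' : X' ⟶ Y') (g' : Y' ⟶ B')

/-- If `f'` and `f' ≫ g'` are flat then `g'` is flat at the points of the image of `f'`. -/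
theorem isFlatAtMor_of_flat_comp (hf' : LocP @Flat f'.hom) (hflat : LocP @Flat (f' ≫ g').hom)
    (x' : Points X'.obj) : IsFlatAtMor g'.hom (Points.map f'.hom x') := by
  intro V W b c l v hbe hce wl hv
  obtain ⟨U, u, h, -, hus, hae, -, hh, hw⟩ :=
    exists_chart_over X'.property Y'.property f'.hom b hbe
  have sq := IsPullback.of_hasPullback f'.hom b
  have hxy : Points.map f'.hom x' = Points.map b (Points.ofScheme V v) := by
    rw [← Points.ofPt_eq_map_ofScheme, hv]
  obtain ⟨z, hz1, hz2⟩ := Points.exists_of_isPullback sq x' (Points.ofScheme V v) hxy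
  obtain ⟨u₀, hu₀⟩ := exists_ofPt_eq u hus z
  have hhu : h.left u₀ = v := by
    have h1 : Points.ofPt ((yon S).map h) u₀ = Points.ofScheme V v := by
      rw [hh, ← Points.map_ofPt, hu₀, hz2]
    have h2 := congrArg (Points.toScheme V) h1
    rwa [Points.toScheme_ofPt, Points.toScheme_ofScheme] at h2
  have hF1 : Flat h.left := hf' _ b h hae hbe hw
  have wcomp : (u ≫ pullback.fst f'.hom b) ≫ (f' ≫ g').hom = (yon S).map (h ≫ l) ≫ c := by
    show (u ≫ pullback.fst f'.hom b) ≫ f'.hom ≫ g'.hom = _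
    rw [← Category.assoc, hw, Category.assoc, wl, Functor.map_comp, Category.assoc]
  have hF2 : Flat (h ≫ l).left := hflat _ c (h ≫ l) hae hce wcomp
  have hF2' : Flat (h.left ≫ l.left) := hF2
  have e1 := Flat.stalkMap h.left u₀
  have e2 := Flat.stalkMap (h.left ≫ l.left) u₀
  subst hhu
  rw [Scheme.Hom.stalkMap_comp] at e2
  exact ringHom_flat_of_comp (l.left.stalkMap (h.left u₀)).hom (h.left.stalkMap u₀).hom e1 e2

end flat

section main

variable {X X' Y Y' B B' : AlgSp.Space S} (iX : X ⟶ X') (iY : Y ⟶ Y') (iB : B ⟶ B')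
    (f : X ⟶ Y) (f' : X' ⟶ Y') (g : Y ⟶ B) (g' : Y' ⟶ B')

theorem locP_flat_fp (hcX : IsPullback iX.hom (f ≫ g).hom (f' ≫ g').hom iB.hom)
    (hcY : IsPullback iY.hom g.hom g'.hom iB.hom) (w : iX ≫ f' = f ≫ iY)
    (hB : IsThickMor iB.hom) (hg' : LocP @LocallyOfFiniteType g'.hom)
    (hflat : LocP @Flat (f' ≫ g').hom) (hfp : LocP @LocallyOfFinitePresentation (f' ≫ g').hom)
    (hf : LocP @Flat f.hom) : LocP @Flat f'.hom := by
  obtain ⟨U', V', W', a', b', c', h', l', ha'e, ha's, hb'e, hc'e, wh', wl'⟩ := exists_charts3 f' g'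
  obtain ⟨U, V, W, iU, iV, iW, h, l, a, b, c, hae, hbe, hce, hwh, hwl, hW, sqUV, sqVW, sqa, sqc⟩ :=
    exists_charts3_restrict iX iY iB f f' g g' hcX hcY w hB a' b' c' h' l' ha'e hb'e hc'e wh' wl'
  refine locP_of_chart isEtLocal_flat f'.hom a' ha'e ha's b' hb'e h' wh' ?_
  have wcomp : a' ≫ (f' ≫ g').hom = (yon S).map (h' ≫ l') ≫ c' := by
    show a' ≫ f'.hom ≫ g'.hom = _
    rw [← Category.assoc, wh', Category.assoc, wl', Functor.map_comp, Category.assoc]
  haveI : Flat (h'.left ≫ l'.left) := hflat a' c' (h' ≫ l') ha'e hc'e wcomp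
  haveI : LocallyOfFinitePresentation (h'.left ≫ l'.left) := hfp a' c' (h' ≫ l') ha'e hc'e wcomp
  haveI : LocallyOfFiniteType l'.left := hg' b' c' l' hb'e hc'e wl'
  have hfl : Flat h.left := hf a b h hae hbe hwh
  have hcX' : IsPullback iU.left (h.left ≫ l.left) (h'.left ≫ l'.left) iW.left :=
    sqUV.paste_vert sqVW
  exact Deform3.flat_of_flat iU.left iV.left iW.left h.left h'.left l.left l'.left hW hcX' sqVW
    sqUV.w hfl

end main

end Groth.Agent.Lib.Helper15.AlgSpDeform
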