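import Mathlib
import Groth.Prelude.Def_AlgSpInf
import Groth.Agent.Lib.Helper9.AlgSpFE
import Groth.Agent.Lib.Helper29.IdealComap
import Groth.Agent.S1489

set_option autoImplicit false
set_option backward.isDefEq.respectTransparency.types false
universe u
open CategoryTheory CategoryTheory.Limits AlgebraicGeometry Opposite
open AlgSp
open Groth.Agent.Lib.Helper9.AlgSpFU Groth.Agent.Lib.Helper9.AlgSpGlue Groth.Agent.Lib.Helper9.AlgSpFE

namespace Groth.Agent.Lib.Helper15.AlgSpFormal

variable {S : Scheme.{u}}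

/-- A representable etale map of sheaves is formally etale. -/
theorem isFormallyEtaleMor_of_repWith_etale {F G : Sp S} (a : F ⟶ G) (ha : RepWith @Etale a) :
    IsFormallyEtaleMor a := by
  intro sq
  have hrep : Representable a := ha.rep
  -- the pullback of `a` along `bot`
  let W : Over S := hrep.pullback sq.bot
  let w : W ⟶ sq.ptT' := hrep.snd sq.bot
  let fst : (yon S).obj W ⟶ F := hrep.fst sq.bot
  have hpb : IsPullback fst ((yon S).map w) a sq.bot := hrep.isPullback sq.bot
  have hwe : Etale w.left := ha.2 _ _ _ hpb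
  have hfe : MoreMor.IsFormallyEtaleHom w.left := ((Groth.Agent.S1489.result w.left).1 hwe).2
  -- the section over `T`
  let t0 : (yon S).obj sq.ptT ⟶ (yon S).obj W := hpb.lift sq.top ((yon S).map sq.j) sq.comm
  let t : sq.ptT ⟶ W := (yon S).preimage t0
  have ht : (yon S).map t = t0 := (yon S).map_preimage t0
  have ht1 : t0 ≫ fst = sq.top := hpb.lift_fst _ _ _
  have ht2 : t0 ≫ (yon S).map w = (yon S).map sq.j := hpb.lift_snd _ _ _
  have htw : t ≫ w = sq.j := by
    apply (yon S).map_injective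
    rw [Functor.map_comp, ht, ht2]
  have hcompat : Spec.map (CommRingCat.ofHom (Ideal.Quotient.mk sq.I)) ≫ 𝟙 (Spec (CommRingCat.of sq.A))
      = t.left ≫ w.left := by
    rw [Category.comp_id]
    exact (congrArg (fun φ => φ.left) htw).symm
  obtain ⟨ℓ, ⟨hℓ1, hℓ2⟩, hℓu⟩ := hfe sq.A sq.I sq.sq_zero t.left (𝟙 _) hcompat
  have hℓw : ℓ ≫ W.hom = sq.ptT'.hom := by
    have := Over.w w
    rw [← this, ← Category.assoc, hℓ2, Category.id_comp]
  let L : sq.ptT' ⟶ W := Over.homMk ℓ hℓw
  have hL1 : sq.j ≫ L = t := by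
    ext
    exact hℓ1
  have hL2 : L ≫ w = 𝟙 _ := by
    ext
    exact hℓ2
  refine ⟨(yon S).map L ≫ fst, ⟨?_, ?_⟩, ?_⟩
  · rw [← Category.assoc, ← Functor.map_comp, hL1, ht, ht1]
  · rw [Category.assoc, hpb.w, ← Category.assoc, ← Functor.map_comp, hL2]
    exact ((yon S).map_id _ ▸ Category.id_comp _ :)
  · rintro l₂ ⟨h1, h2⟩
    let u0 : (yon S).obj sq.ptT' ⟶ (yon S).obj W := hpb.lift l₂ (𝟙 _) (by rw [h2, Category.id_comp])
    let L₂ : sq.ptT' ⟶ W := (yon S).preimage u0
    have hL₂ : (yon S).map L₂ = u0 := (yon S).map_preimage u0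
    have hu1 : u0 ≫ fst = l₂ := hpb.lift_fst _ _ _
    have hu2 : u0 ≫ (yon S).map w = 𝟙 _ := hpb.lift_snd _ _ _
    have hL₂w : L₂ ≫ w = 𝟙 _ := by
      apply (yon S).map_injective
      rw [Functor.map_comp, hL₂, hu2]
      exact ((yon S).map_id _).symm
    have hjL₂ : sq.j ≫ L₂ = t := by
      apply (yon S).map_injective
      rw [Functor.map_comp, hL₂, ht]
      apply hpb.hom_ext
      · rw [Category.assoc, hu1, h1, ht1]
      · rw [Category.assoc, hu2, Category.comp_id, ht2]
    have hℓ₂ : L₂.left = ℓ := hℓu L₂.left ⟨congrArg (fun φ => φ.left) hjL₂,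
      congrArg (fun φ => φ.left) hL₂w⟩
    have hLL : L₂ = L := by
      ext
      exact hℓ₂
    rw [← hu1, ← hL₂, hLL]

/-- the kernel of `Spec A/I → Spec A` has square zero when `I` does -/
theorem ker_SpecMap_mk_sq {A : Type u} [CommRing A] (I : Ideal A) (hI : I ^ 2 = ⊥) :
    (Spec.map (CommRingCat.ofHom (Ideal.Quotient.mk I))).ker *
      (Spec.map (CommRingCat.ofHom (Ideal.Quotient.mk I))).ker = ⊥ := by
  apply Scheme.IdealSheafData.ext_of_isAffine
  rw [Scheme.IdealSheafData.ideal_mul, Pi.mul_apply, Scheme.IdealSheafData.ideal_bot, Pi.bot_apply,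
    eq_bot_iff, Ideal.mul_le]
  intro x hx y hy
  rw [Scheme.Hom.ker_apply, RingHom.mem_ker] at hx hy
  have key : ∀ z : Γ(Spec (CommRingCat.of A), ⊤),
      (Spec.map (CommRingCat.ofHom (Ideal.Quotient.mk I))).app ⊤ z = 0 →
      (Scheme.ΓSpecIso (CommRingCat.of A)).hom z ∈ I := by
    intro z hz
    have h1 := congrArg (fun φ => φ.hom z)
      (Scheme.ΓSpecIso_naturality (CommRingCat.ofHom (Ideal.Quotient.mk I)))
    simp only [CommRingCat.hom_comp, RingHom.coe_comp, Function.comp_apply,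
      CommRingCat.hom_ofHom] at h1
    have h2 : (Spec.map (CommRingCat.ofHom (Ideal.Quotient.mk I))).appTop z = 0 := hz
    rw [h2, map_zero] at h1
    exact Ideal.Quotient.eq_zero_iff_mem.mp h1.symm
  have hxy : (Scheme.ΓSpecIso (CommRingCat.of A)).hom (x * y) ∈ I ^ 2 := by
    rw [map_mul, pow_two]
    exact Ideal.mul_mem_mul (key x hx) (key y hy)
  rw [hI, Ideal.mem_bot] at hxy
  have hinj : Function.Injective (Scheme.ΓSpecIso (CommRingCat.of A)).hom :=
    (ConcreteCategory.bijective_of_isIso _).1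
  rw [Ideal.mem_bot]
  exact hinj (hxy.trans (map_zero _).symm)

/-- base change of a square-zero thickening `Spec A/I → Spec A` to an affine scheme -/
theorem exists_sqZero_pullback {A : Type u} [CommRing A] (I : Ideal A) (hI : I ^ 2 = ⊥)
    {X : Scheme.{u}} [IsAffine X] (v : X ⟶ Spec (CommRingCat.of A)) :
    ∃ (W₀ : Scheme.{u}) (s : W₀ ⟶ X) (pr : W₀ ⟶ Spec (CommRingCat.of (A ⧸ I))),
      IsClosedImmersion s ∧ sqZero s ∧
      IsPullback s pr v (Spec.map (CommRingCat.ofHom (Ideal.Quotient.mk I))) := by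
  let i := Spec.map (CommRingCat.ofHom (Ideal.Quotient.mk I))
  have hi : IsClosedImmersion i := IsClosedImmersion.spec_of_surjective _ Ideal.Quotient.mk_surjective
  refine ⟨pullback v i, pullback.fst v i, pullback.snd v i, inferInstance, ?_,
    IsPullback.of_hasPullback v i⟩
  -- kernel of the base change
  have hk : (pullback.fst v i).ker = i.ker.comap v :=
    Scheme.IdealSheafData.ker_fst_of_isClosedImmersion i v
  change (pullback.fst v i).ker * (pullback.fst v i).ker = ⊥
  rw [hk]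
  apply Scheme.IdealSheafData.ext_of_isAffine
  rw [Scheme.IdealSheafData.ideal_mul, Pi.mul_apply, Scheme.IdealSheafData.ideal_bot, Pi.bot_apply]
  rw [Groth.Agent.Lib.Helper29.EffCart.ideal_comap_eq_map i.ker v
    ⟨⊤, isAffineOpen_top _⟩ ⟨⊤, isAffineOpen_top X⟩ le_top]
  rw [← Ideal.map_mul]
  have := congrArg (fun K => K.ideal ⟨⊤, isAffineOpen_top _⟩) (ker_SpecMap_mk_sq I hI)
  simp only [Scheme.IdealSheafData.ideal_mul, Pi.mul_apply, Scheme.IdealSheafData.ideal_bot,
    Pi.bot_apply] at this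
  rw [this, Ideal.map_bot]

/-- `Over S` version: the base change of the thickening of an infinitesimal square to an affine
scheme over `T'`. -/
theorem exists_over_sqZero_pullback {F G : Sp S} {f : F ⟶ G} (sq : InfSq f) {V : Over S}
    (hV : IsAffine V.left) (v : V ⟶ sq.ptT') :
    ∃ (W₀ : Over S) (s : W₀ ⟶ V) (pr : W₀ ⟶ sq.ptT),
      IsClosedImmersion s.left ∧ sqZero s.left ∧ s ≫ v = pr ≫ sq.j ∧
      IsPullback ((yon S).map pr) ((yon S).map s) ((yon S).map sq.j) ((yon S).map v) := by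
  have := hV
  obtain ⟨W₀, s, pr, hs, hK, hpb⟩ := exists_sqZero_pullback sq.I sq.sq_zero v.left
  have hw : pr ≫ sq.ptT.hom = s ≫ V.hom := by
    have h1 : sq.ptT.hom = Spec.map (CommRingCat.ofHom (Ideal.Quotient.mk sq.I)) ≫ sq.str := rfl
    rw [h1, ← Category.assoc, ← hpb.w, Category.assoc]
    congr 1
    exact Over.w v
  let W : Over S := Over.mk (s ≫ V.hom)
  let s' : W ⟶ V := Over.homMk s rfl
  let pr' : W ⟶ sq.ptT := Over.homMk pr hw
  have hcomm : s' ≫ v = pr' ≫ sq.j := by
    ext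
    exact hpb.w
  refine ⟨W, s', pr', hs, hK, hcomm, ?_⟩
  have sqO : IsPullback s' pr' v sq.j := IsPullback.of_map (Over.forget S) hcomm hpb
  exact (sqO.map (yon S)).flip

/-- (4): if `a` is representable etale surjective and `a ≫ b` is formally unramified, so is `b`. -/
theorem isFormallyUnramifiedMor_of_comp {F G H : Sp S} (a : F ⟶ G) (b : G ⟶ H)
    (ha : RepWith @Etale a) (ha' : RepWith @Surjective a)
    (hab : IsFormallyUnramifiedMor (a ≫ b)) : IsFormallyUnramifiedMor b := by
  intro sq l l' hl1 hl2 hl'1 hl'2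
  have hA : IsFormallyEtaleMor a := isFormallyEtaleMor_of_repWith_etale a ha
  have hrep : Representable a := ha.rep
  let W : Over S := hrep.pullback l
  let w : W ⟶ sq.ptT' := hrep.snd l
  let fst : (yon S).obj W ⟶ F := hrep.fst l
  have hpb : IsPullback fst ((yon S).map w) a l := hrep.isPullback l
  have hwe : RepWith @Etale ((yon S).map w) := MorphismProperty.of_isPullback hpb ha
  have hws : RepWith @Surjective ((yon S).map w) := MorphismProperty.of_isPullback hpb ha'
  have hls : Sheaf.IsLocallySurjective ((yon S).map w) :=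
    Groth.Agent.S9883.isLocallySurjective_of_etale_surjective _ hwe hws
  have : Epi ((yon S).map w) := inferInstance
  rw [← cancel_epi ((yon S).map w)]
  apply hom_ext_of_openCover W.left.affineCover
  intro i
  let V : Over S := Over.mk (W.left.affineCover.f i ≫ W.hom)
  let ι : V ⟶ W := Over.homMk (W.left.affineCover.f i) rfl
  have hV : IsAffine V.left := inferInstanceAs (IsAffine (W.left.affineCover.X i))
  let v : V ⟶ sq.ptT' := ι ≫ w
  obtain ⟨W₀, s, pr, hs, hK, hcomm, -⟩ := exists_over_sqZero_pullback sq hV v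
  let m : (yon S).obj V ⟶ F := (yon S).map ι ≫ fst
  have hm : m ≫ a = (yon S).map v ≫ l := by
    change ((yon S).map ι ≫ fst) ≫ a = (yon S).map (ι ≫ w) ≫ l
    rw [Category.assoc, hpb.w, Functor.map_comp, Category.assoc]
  have e1 : (yon S).map s ≫ (yon S).map v ≫ l = (yon S).map pr ≫ sq.top := by
    rw [← Category.assoc, ← Functor.map_comp, hcomm, Functor.map_comp, Category.assoc, hl1]
  have e2 : (yon S).map s ≫ (yon S).map v ≫ l' = (yon S).map pr ≫ sq.top := by
    rw [← Category.assoc, ← Functor.map_comp, hcomm, Functor.map_comp, Category.assoc, hl'1]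
  obtain ⟨m', ⟨hm'1, hm'2⟩, -⟩ := existsUnique_of_affine_sqZero a hA hV s hs hK
    ((yon S).map s ≫ m) ((yon S).map v ≫ l') (by rw [Category.assoc, hm, e1, e2])
  have hmm : m = m' := by
    apply uniq_of_affine_sqZero (a ≫ b) hab hV s hs hK m m' hm'1.symm
    rw [← Category.assoc, ← Category.assoc, hm, hm'2, Category.assoc, Category.assoc, hl2, hl'2]
  change (yon S).map ι ≫ (yon S).map w ≫ l = (yon S).map ι ≫ (yon S).map w ≫ l'
  rw [← Category.assoc, ← Category.assoc, ← Functor.map_comp]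
  change (yon S).map v ≫ l = (yon S).map v ≫ l'
  rw [← hm, ← hm'2, hmm]

/-- any base change of a square-zero thickening `Spec A/I → Spec A` to an affine scheme is a
square-zero closed immersion -/
theorem sqZero_of_isPullback {A : Type u} [CommRing A] (I : Ideal A) (hI : I ^ 2 = ⊥)
    {X W₀ : Scheme.{u}} [IsAffine X] (v : X ⟶ Spec (CommRingCat.of A)) (s : W₀ ⟶ X)
    (pr : W₀ ⟶ Spec (CommRingCat.of (A ⧸ I)))
    (h : IsPullback s pr v (Spec.map (CommRingCat.ofHom (Ideal.Quotient.mk I)))) :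
    IsClosedImmersion s ∧ sqZero s := by
  obtain ⟨W₁, s₁, pr₁, hs₁, hK₁, h₁⟩ := exists_sqZero_pullback I hI v
  let e : W₀ ≅ W₁ := h.isoIsPullback _ _ h₁
  have he : e.hom ≫ s₁ = s := h.isoIsPullback_hom_fst _ _ h₁
  refine ⟨?_, ?_⟩
  · rw [← he]; infer_instance
  · change s.ker * s.ker = ⊥
    rw [← he, Scheme.Hom.ker_comp_of_isIso]
    exact hK₁

theorem isSheafFor_of_cover (F : Sp S) {V : Over S} {ι : Type u} (Z : ι → Over S)
    (g : ∀ i, Z i ⟶ V)
    (hsurj : ∀ y : V.left, ∃ i, y ∈ Set.range (g i).left)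
    (hflat : ∀ i, Flat (g i).left) (hlfp : ∀ i, LocallyOfFinitePresentation (g i).left) :
    Presieve.IsSheafFor F.obj (Presieve.ofArrows Z g) := by
  apply Groth.Agent.Lib.Helper9.VCov.isSheafFor_ofArrows_over S F.obj
    ((isSheaf_iff_isSheaf_of_type _ _).mp F.property)
  rw [Scheme.fppfPrecoverage, Scheme.ofArrows_mem_precoverage_iff]
  exact ⟨fun y => hsurj y, fun i => ⟨hflat i, hlfp i⟩⟩

/-- maps from a representable sheaf agree if they agree on an fppf covering family -/
theorem hom_ext_of_cover {F : Sp S} {V : Over S} {ι : Type u} (Z : ι → Over S)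
    (g : ∀ i, Z i ⟶ V)
    (hsurj : ∀ y : V.left, ∃ i, y ∈ Set.range (g i).left)
    (hflat : ∀ i, Flat (g i).left) (hlfp : ∀ i, LocallyOfFinitePresentation (g i).left)
    (x x' : (yon S).obj V ⟶ F)
    (h : ∀ i, (yon S).map (g i) ≫ x = (yon S).map (g i) ≫ x') : x = x' := by
  apply (AlgSp.J S).uliftYonedaEquiv.{u+1}.injective
  have hsh := isSheafFor_of_cover F Z g hsurj hflat hlfp
  apply hsh.isSeparatedFor.ext
  rintro Y f ⟨i⟩
  have := congrArg (AlgSp.J S).uliftYonedaEquiv.{u+1} (h i)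
  rw [← (AlgSp.J S).uliftYonedaEquiv_naturality, ← (AlgSp.J S).uliftYonedaEquiv_naturality] at this
  exact this

/-- gluing maps from a representable sheaf along an fppf covering family -/
theorem exists_glue_of_cover {F : Sp S} {V : Over S} {ι : Type u} (Z : ι → Over S)
    (g : ∀ i, Z i ⟶ V)
    (hsurj : ∀ y : V.left, ∃ i, y ∈ Set.range (g i).left)
    (hflat : ∀ i, Flat (g i).left) (hlfp : ∀ i, LocallyOfFinitePresentation (g i).left)
    (x : ∀ i, (yon S).obj (Z i) ⟶ F)
    (hx : ∀ i j (W : Over S) (gi : W ⟶ Z i) (gj : W ⟶ Z j), gi ≫ g i = gj ≫ g j →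
      (yon S).map gi ≫ x i = (yon S).map gj ≫ x j) :
    ∃ l : (yon S).obj V ⟶ F, ∀ i, (yon S).map (g i) ≫ l = x i := by
  have hsh := isSheafFor_of_cover F Z g hsurj hflat hlfp
  rw [Presieve.isSheafFor_arrows_iff] at hsh
  obtain ⟨t, ht, -⟩ := hsh (fun i => (AlgSp.J S).uliftYonedaEquiv.{u+1} (x i)) (by
    intro i j W gi gj hg
    have := congrArg (AlgSp.J S).uliftYonedaEquiv.{u+1} (hx i j W gi gj hg)
    rw [← (AlgSp.J S).uliftYonedaEquiv_naturality,
      ← (AlgSp.J S).uliftYonedaEquiv_naturality] at this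
    exact this)
  refine ⟨(AlgSp.J S).uliftYonedaEquiv.{u+1}.symm t, fun i => ?_⟩
  apply (AlgSp.J S).uliftYonedaEquiv.{u+1}.injective
  rw [← (AlgSp.J S).uliftYonedaEquiv_naturality, Equiv.apply_symm_apply]
  exact ht i

/-- uniqueness of local lifts for a formally unramified map -/
theorem isLift_unique_of_formallyUnramified {F G : Sp S} (f : F ⟶ G)
    (hf : IsFormallyUnramifiedMor f) (sq : InfSq f) {V : Over S} (v : V ⟶ sq.ptT')
    (l l' : (yon S).obj V ⟶ F)
    (hl : IsLift f ((yon S).map sq.j) sq.top sq.bot ((yon S).map v) l)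
    (hl' : IsLift f ((yon S).map sq.j) sq.top sq.bot ((yon S).map v) l') : l = l' := by
  apply hom_ext_of_openCover V.left.affineCover
  intro i
  let V' : Over S := Over.mk (V.left.affineCover.f i ≫ V.hom)
  let ι : V' ⟶ V := Over.homMk (V.left.affineCover.f i) rfl
  have hV' : IsAffine V'.left := inferInstanceAs (IsAffine (V.left.affineCover.X i))
  have h1 := hl.restrict ι
  have h2 := hl'.restrict ι
  rw [← Functor.map_comp] at h1 h2
  obtain ⟨W₀, s, pr, hs, hK, hcomm, -⟩ := exists_over_sqZero_pullback sq hV' (ι ≫ v)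
  apply uniq_of_affine_sqZero f hf hV' s hs hK
  · rw [h1.2 W₀ ((yon S).map pr) s (by rw [← Functor.map_comp, ← Functor.map_comp, hcomm]),
      h2.2 W₀ ((yon S).map pr) s (by rw [← Functor.map_comp, ← Functor.map_comp, hcomm])]
  · rw [h1.1, h2.1]

end Groth.Agent.Lib.Helper15.AlgSpFormal
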