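import Mathlib
import Groth.Prelude.Def_AlgSpInf
import Groth.Agent.Lib.Helper15.AlgSpFormal
import Groth.Agent.Lib.Helper29.IdealComap

set_option autoImplicit false
set_option backward.isDefEq.respectTransparency.types false
universe u
open CategoryTheory CategoryTheory.Limits AlgebraicGeometry Opposite
open AlgSp

namespace Groth.Agent.Lib.Helper15.FOThickBC

variable {S : Scheme.{u}}

/-- a global section vanishes if it vanishes after pullback along flat maps hitting every point -/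
theorem eq_zero_of_flat_cover {V : Scheme.{u}} (z : Γ(V, ⊤))
    (h : ∀ v : V, ∃ (Q : Scheme.{u}) (ρ : Q ⟶ V) (_ : Flat ρ) (q : Q), ρ q = v ∧ ρ.appTop z = 0) :
    z = 0 := by
  have key : ∀ (v : V) (hv : v ∈ (⊤ : V.Opens)),
      V.presheaf.germ ⊤ v hv z = V.presheaf.germ ⊤ v hv 0 := by
    intro v hv
    obtain ⟨Q, ρ, hρ, q, rfl, hz⟩ := h v
    have hinj : Function.Injective (ρ.stalkMap q) := by
      algebraize [(ρ.stalkMap q).hom]
      have : Module.FaithfullyFlat (V.presheaf.stalk (ρ q)) (Q.presheaf.stalk q) :=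
        @Module.FaithfullyFlat.of_flat_of_isLocalHom _ _ _ _ _ _ _
          (Flat.stalkMap ρ q) (ρ.toLRSHom.prop q)
      exact ‹RingHom.FaithfullyFlat _›.injective
    apply hinj
    have h1 := Scheme.Hom.germ_stalkMap_apply ρ ⊤ q hv z
    have hz' : ρ.app ⊤ z = 0 := hz
    rw [hz', map_zero] at h1
    rw [h1, map_zero, map_zero]
  exact TopCat.Presheaf.section_ext V.sheaf ⊤ z 0 key

/-- kernel of a base change of a closed immersion -/
theorem ker_eq_comap_of_isPullback {Z Y Z' Y' : Scheme.{u}} (s : Z ⟶ Y) [IsClosedImmersion s]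
    (t : Y' ⟶ Y) (s' : Z' ⟶ Y') (t' : Z' ⟶ Z) (h : IsPullback t' s' s t) :
    s'.ker = s.ker.comap t := by
  have e1 : h.flip.isoPullback.hom ≫ pullback.fst t s = s' := h.flip.isoPullback_hom_fst
  rw [← e1, Scheme.Hom.ker_comp_of_isIso]
  exact Scheme.IdealSheafData.ker_fst_of_isClosedImmersion s t

/-- kernels of represented pullbacks of a representable closed immersion along a composite -/
theorem ker_eq_comap_of_isPullback_sp {W W' : Sp S} (i : W ⟶ W') {V V₂ Wv W₂ : Over S}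
    (c : (yon S).obj V ⟶ W') (fst : (yon S).obj Wv ⟶ W) (snd : Wv ⟶ V)
    (sq : IsPullback fst ((yon S).map snd) i c) [IsClosedImmersion snd.left]
    (g : V₂ ⟶ V) (fst₂ : (yon S).obj W₂ ⟶ W) (snd₂ : W₂ ⟶ V₂)
    (sq₂ : IsPullback fst₂ ((yon S).map snd₂) i ((yon S).map g ≫ c)) :
    snd₂.left.ker = snd.left.ker.comap g.left := by
  have hw : fst₂ ≫ i = ((yon S).map snd₂ ≫ (yon S).map g) ≫ c := by
    rw [Category.assoc]; exact sq₂.w
  obtain ⟨μ, hμ⟩ := (yon S).map_surjective (sq.lift fst₂ ((yon S).map snd₂ ≫ (yon S).map g) hw)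
  have h1 : (yon S).map μ ≫ fst = fst₂ := by rw [hμ, sq.lift_fst]
  have h2 : (yon S).map μ ≫ (yon S).map snd = (yon S).map snd₂ ≫ (yon S).map g := by
    rw [hμ, sq.lift_snd]
  have big : IsPullback ((yon S).map μ ≫ fst) ((yon S).map snd₂) i ((yon S).map g ≫ c) := by
    rw [h1]; exact sq₂
  have left := IsPullback.of_right big h2 sq
  have hcomm : μ ≫ snd = snd₂ ≫ g := (yon S).map_injective (by
    rw [Functor.map_comp, Functor.map_comp, h2])
  have sqO : IsPullback μ snd₂ snd g := IsPullback.of_map (yon S) hcomm left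
  have sqL := sqO.map (Over.forget S)
  exact ker_eq_comap_of_isPullback snd.left g.left snd₂.left μ.left sqL

/-- base change of a first order thickening along an arbitrary map from an affine scheme has
square-zero kernel -/
theorem sqZero_of_isFOThickMor {W W' : Sp S} (i : W ⟶ W') (hi : IsFOThickMor i)
    (hW' : IsAlgSpace W') {V Wv : Over S} (hV : IsAffine V.left)
    (c : (yon S).obj V ⟶ W') (fst : (yon S).obj Wv ⟶ W) (snd : Wv ⟶ V)
    (sq : IsPullback fst ((yon S).map snd) i c) : sqZero snd.left := by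
  have hVaff : IsAffine V.left := hV
  have hthick : thick snd.left := hi.1.2 _ _ _ sq
  have hci : IsClosedImmersion snd.left := hthick.1
  obtain ⟨V', q, hqe, hqs⟩ := hW'.atlas
  let Q : Over S := hqe.rep.pullback c
  let π : Q ⟶ V := hqe.rep.snd c
  let γ₀ : (yon S).obj Q ⟶ (yon S).obj V' := hqe.rep.fst c
  have sqQ : IsPullback γ₀ ((yon S).map π) q c := hqe.rep.isPullback c
  obtain ⟨γ, hγ⟩ := (yon S).map_surjective γ₀
  have hπe : Etale π.left := hqe.2 _ _ _ sqQ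
  have hπs : Surjective π.left := hqs.2 _ _ _ sqQ
  change snd.left.ker * snd.left.ker = ⊥
  apply Scheme.IdealSheafData.ext_of_isAffine
  rw [Scheme.IdealSheafData.ideal_mul, Pi.mul_apply, Scheme.IdealSheafData.ideal_bot, Pi.bot_apply,
    eq_bot_iff, Ideal.mul_le]
  intro x hx y hy
  rw [Ideal.mem_bot]
  apply eq_zero_of_flat_cover
  intro v
  obtain ⟨q₀, hq₀⟩ := hπs.surj v
  -- affine opens around the point
  obtain ⟨_, ⟨Vm', hVm, rfl⟩, hqVm, -⟩ :=
    V'.left.isBasis_affineOpens.exists_subset_of_mem_open (Set.mem_univ (γ.left q₀)) isOpen_univ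
  let Vm : V'.left.Opens := Vm'
  obtain ⟨_, ⟨Qk', hQk, rfl⟩, hqQk, hQkle⟩ :=
    Q.left.isBasis_affineOpens.exists_subset_of_mem_open
      (show q₀ ∈ (γ.left ⁻¹ᵁ Vm : Set Q.left) from hqVm) (γ.left ⁻¹ᵁ Vm).isOpen
  let Qk : Q.left.Opens := Qk'
  let VmO : Over S := Over.mk (Vm.ι ≫ V'.hom)
  let ιm : VmO ⟶ V' := Over.homMk Vm.ι rfl
  let QkO : Over S := Over.mk (Qk.ι ≫ Q.hom)
  let ιk : QkO ⟶ Q := Over.homMk Qk.ι rfl
  have hVmaff : IsAffine VmO.left := hVm
  have hQkaff : IsAffine QkO.left := hQk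
  let γk₀ : Qk.toScheme ⟶ Vm.toScheme :=
    IsOpenImmersion.lift Vm.ι (Qk.ι ≫ γ.left) (by
      rw [Scheme.Opens.range_ι]
      rintro _ ⟨w, rfl⟩
      exact hQkle w.2)
  have hγk₀ : γk₀ ≫ Vm.ι = Qk.ι ≫ γ.left := IsOpenImmersion.lift_fac _ _ _
  let γk : QkO ⟶ VmO := Over.homMk γk₀ (by
    change γk₀ ≫ Vm.ι ≫ V'.hom = Qk.ι ≫ Q.hom
    rw [← Category.assoc, hγk₀, Category.assoc, Over.w γ])
  have hγk : γk ≫ ιm = ιk ≫ γ := by
    ext
    exact hγk₀
  -- the etale chart of `W'`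
  let bm : (yon S).obj VmO ⟶ W' := (yon S).map ιm ≫ q
  have hbme : RepWith @Etale bm :=
    (RepWith @Etale.{u}).comp_mem _ _
      ((repWith_yon_map_iff @Etale ιm).2 (inferInstanceAs (Etale Vm.ι))) hqe
  let Wm : Over S := hi.1.rep.pullback bm
  let σ : Wm ⟶ VmO := hi.1.rep.snd bm
  have sqm : IsPullback (hi.1.rep.fst bm) ((yon S).map σ) i bm := hi.1.rep.isPullback bm
  have hσK : sqZero σ.left := hi.2 bm _ σ hVmaff hbme sqm
  have hσci : IsClosedImmersion σ.left := (hi.1.2 _ _ _ sqm).1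
  -- the pullback of `i` to `Qk`
  let d : (yon S).obj QkO ⟶ W' := (yon S).map (ιk ≫ π) ≫ c
  have hd : d = (yon S).map γk ≫ bm := by
    change (yon S).map (ιk ≫ π) ≫ c = (yon S).map γk ≫ (yon S).map ιm ≫ q
    rw [← Category.assoc, ← Functor.map_comp, hγk, Functor.map_comp, Functor.map_comp,
      Category.assoc, Category.assoc, ← sqQ.w, hγ]
  let Wk : Over S := hi.1.rep.pullback d
  let τ : Wk ⟶ QkO := hi.1.rep.snd d
  have sqk : IsPullback (hi.1.rep.fst d) ((yon S).map τ) i d := hi.1.rep.isPullback d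
  have k1 : τ.left.ker = snd.left.ker.comap (ιk ≫ π).left :=
    ker_eq_comap_of_isPullback_sp i c fst snd sq (ιk ≫ π) _ τ sqk
  have sqk' : IsPullback (hi.1.rep.fst d) ((yon S).map τ) i ((yon S).map γk ≫ bm) := by
    rw [← hd]; exact sqk
  have k2 : τ.left.ker = σ.left.ker.comap γk.left :=
    ker_eq_comap_of_isPullback_sp i bm _ σ sqm γk _ τ sqk'
  refine ⟨QkO.left, (ιk ≫ π).left, ?_, ⟨q₀, hqQk⟩, ?_, ?_⟩
  · have : Etale (ιk ≫ π).left := inferInstanceAs (Etale (Qk.ι ≫ π.left))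
    infer_instance
  · change π.left (Qk.ι ⟨q₀, hqQk⟩) = v
    exact hq₀
  · -- the images of `x` and `y` lie in an ideal of square zero
    let ρ := (ιk ≫ π).left
    have hJ1 : (snd.left.ker.comap ρ).ideal ⟨⊤, isAffineOpen_top _⟩ =
        (snd.left.ker.ideal ⟨⊤, isAffineOpen_top _⟩).map (ρ.appLE ⊤ ⊤ le_top).hom :=
      Groth.Agent.Lib.Helper29.EffCart.ideal_comap_eq_map snd.left.ker ρ
        ⟨⊤, isAffineOpen_top _⟩ ⟨⊤, isAffineOpen_top _⟩ le_top
    have hJ2 : (σ.left.ker.comap γk.left).ideal ⟨⊤, isAffineOpen_top _⟩ =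
        (σ.left.ker.ideal ⟨⊤, isAffineOpen_top _⟩).map (γk.left.appLE ⊤ ⊤ le_top).hom :=
      Groth.Agent.Lib.Helper29.EffCart.ideal_comap_eq_map σ.left.ker γk.left
        ⟨⊤, isAffineOpen_top _⟩ ⟨⊤, isAffineOpen_top _⟩ le_top
    have hσ0 : σ.left.ker.ideal ⟨⊤, isAffineOpen_top _⟩ * σ.left.ker.ideal ⟨⊤, isAffineOpen_top _⟩
        = ⊥ := by
      have := congrArg (fun K => K.ideal ⟨⊤, isAffineOpen_top _⟩) hσK
      simpa only [Scheme.IdealSheafData.ideal_mul, Pi.mul_apply, Scheme.IdealSheafData.ideal_bot,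
        Pi.bot_apply] using this
    have happ : ρ.appTop = ρ.appLE ⊤ ⊤ le_top := by
      rw [Scheme.Hom.appTop, Scheme.Hom.app_eq_appLE]
      rfl
    have hxx : (ρ.appLE ⊤ ⊤ le_top).hom x ∈ (τ.left.ker).ideal ⟨⊤, isAffineOpen_top _⟩ := by
      rw [k1, hJ1]
      exact Ideal.mem_map_of_mem _ hx
    have hyy : (ρ.appLE ⊤ ⊤ le_top).hom y ∈ (τ.left.ker).ideal ⟨⊤, isAffineOpen_top _⟩ := by
      rw [k1, hJ1]
      exact Ideal.mem_map_of_mem _ hy
    have hprod : (ρ.appLE ⊤ ⊤ le_top).hom x * (ρ.appLE ⊤ ⊤ le_top).hom y ∈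
        (τ.left.ker).ideal ⟨⊤, isAffineOpen_top _⟩ * (τ.left.ker).ideal ⟨⊤, isAffineOpen_top _⟩ :=
      Ideal.mul_mem_mul hxx hyy
    rw [k2, hJ2, ← Ideal.map_mul, hσ0, Ideal.map_bot, Ideal.mem_bot] at hprod
    rw [happ]
    change (ρ.appLE ⊤ ⊤ le_top).hom (x * y) = 0
    rw [map_mul]
    exact hprod

/-- first order thickenings of an algebraic space are stable under arbitrary base change -/
theorem isFOThickMor_of_isPullback {Z P W W' : Sp S} (iW : W ⟶ W') (hi : IsFOThickMor iW)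
    (hW' : IsAlgSpace W') (iZ : Z ⟶ P) (f : Z ⟶ W) (g : P ⟶ W')
    (sq : IsPullback f iZ iW g) : IsFOThickMor iZ := by
  refine ⟨MorphismProperty.of_isPullback (P := RepWith AlgSp.thick) sq hi.1, ?_⟩
  intro V Wv b fst snd hV _ sqV
  exact sqZero_of_isFOThickMor iW hi hW' hV (b ≫ g) (fst ≫ f) snd (sqV.paste_horiz sq)

end Groth.Agent.Lib.Helper15.FOThickBC
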