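import Groth.Prelude.Def_AlgSpInf
import Groth.Prelude.Def_AlgSpMor5
import Groth.Agent.Lib.Helper15.AlgSpDeform
import Groth.Agent.Lib.Helper15.FOThickBC
import Groth.Agent.Lib.Helper15.DeformSch

set_option autoImplicit false
universe u
open CategoryTheory CategoryTheory.Limits AlgebraicGeometry
open AlgSp

namespace Groth.Agent.Lib.Helper15.AlgSpDeformFin
open Groth.Agent.Lib.Helper3 Groth.Agent.Lib.Helper15
set_option backward.isDefEq.respectTransparency.types false

variable {S : Scheme.{u}}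

/-- the represented pullback of an `n`th order thickening of algebraic spaces along an étale
scheme chart is a finite order thickening of schemes. -/
theorem isFiniteOrderThickening_of_isNThickMor {B B' : Sp S} (iB : B ⟶ B') (n : ℕ)
    (hB : IsNThickMor n iB) {W W' : Over S} (iW : W ⟶ W') (c : (yon S).obj W ⟶ B)
    (c' : (yon S).obj W' ⟶ B') (hc' : RepWith @Etale c')
    (sq : IsPullback c ((yon S).map iW) iB c') : MoreMor.IsFiniteOrderThickening iW.left := by
  have hthick : thick iW.left := hB.1.2 _ _ _ sq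
  haveI hci : IsClosedImmersion iW.left := hthick.1
  refine ⟨hthick, n + 1, ?_⟩
  apply Scheme.IdealSheafData.ext
  funext O
  rw [Scheme.IdealSheafData.ideal_pow, Pi.pow_apply]
  change _ = (⊥ : Scheme.IdealSheafData W'.left).ideal O
  rw [Scheme.IdealSheafData.ideal_bot, Pi.bot_apply]
  obtain ⟨O, hO⟩ := O
  let OO : Over S := Over.mk (O.ι ≫ W'.hom)
  let ιO : OO ⟶ W' := Over.homMk O.ι rfl
  have hOaff : IsAffine OO.left := hO
  haveI : IsAffine (O : Scheme.{u}) := hO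
  let bO : (yon S).obj OO ⟶ B' := (yon S).map ιO ≫ c'
  have hbOe : RepWith @Etale bO :=
    (RepWith @Etale.{u}).comp_mem _ _
      ((repWith_yon_map_iff @Etale ιO).2 (inferInstanceAs (Etale O.ι))) hc'
  let Wm : Over S := hB.1.rep.pullback bO
  let σ : Wm ⟶ OO := hB.1.rep.snd bO
  have sqm : IsPullback (hB.1.rep.fst bO) ((yon S).map σ) iB bO := hB.1.rep.isPullback bO
  have hσK : powZero n σ.left := hB.2 bO _ σ hOaff hbOe sqm
  have k1 : σ.left.ker = iW.left.ker.comap ιO.left :=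
    FOThickBC.ker_eq_comap_of_isPullback_sp iB c' c iW sq ιO _ σ sqm
  have hJ : (iW.left.ker.comap O.ι).ideal ⟨⊤, isAffineOpen_top _⟩ =
      (iW.left.ker.ideal ⟨O, hO⟩).map (O.ι.appLE O ⊤ O.ι_preimage_self.ge).hom :=
    Groth.Agent.Lib.Helper29.EffCart.ideal_comap_eq_map iW.left.ker O.ι ⟨O, hO⟩
      ⟨⊤, isAffineOpen_top _⟩ O.ι_preimage_self.ge
  have h0 : (σ.left.ker.ideal ⟨⊤, isAffineOpen_top _⟩) ^ (n + 1) = ⊥ := by
    have := congrArg (fun K => K.ideal ⟨⊤, isAffineOpen_top _⟩) hσK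
    simpa only [Scheme.IdealSheafData.ideal_pow, Pi.pow_apply, Scheme.IdealSheafData.ideal_bot,
      Pi.bot_apply] using this
  have k1' : σ.left.ker.ideal ⟨⊤, isAffineOpen_top _⟩ =
      (iW.left.ker.ideal ⟨O, hO⟩).map (O.ι.appLE O ⊤ O.ι_preimage_self.ge).hom := by
    rw [k1]; exact hJ
  rw [k1', ← Ideal.map_pow] at h0
  have hinj : Function.Injective (O.ι.appLE O ⊤ O.ι_preimage_self.ge).hom :=
    ((ConcreteCategory.isIso_iff_bijective _).mp inferInstance).1
  exact (Ideal.map_eq_bot_iff_of_injective hinj).mp h0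

variable {X X' Y Y' B B' : AlgSp.Space S} (iX : X ⟶ X') (iY : Y ⟶ Y') (iB : B ⟶ B')
    (f : X ⟶ Y) (f' : X' ⟶ Y') (g : Y ⟶ B) (g' : Y' ⟶ B')

theorem locP_flat_fin (hcX : IsPullback iX.hom (f ≫ g).hom (f' ≫ g').hom iB.hom)
    (hcY : IsPullback iY.hom g.hom g'.hom iB.hom) (w : iX ≫ f' = f ≫ iY)
    (hB : IsFinThickMor iB.hom)
    (hflat : LocP @Flat (f' ≫ g').hom)
    (hf : LocP @Flat f.hom) : LocP @Flat f'.hom := by
  obtain ⟨n, hBn⟩ := hB
  obtain ⟨U', V', W', a', b', c', h', l', ha'e, ha's, hb'e, hc'e, wh', wl'⟩ :=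
    AlgSpDeform.exists_charts3 f' g'
  obtain ⟨U, V, W, iU, iV, iW, h, l, a, b, c, hae, hbe, hce, hwh, hwl, hW, sqUV, sqVW, sqa, sqc⟩ :=
    AlgSpDeform.exists_charts3_restrict iX iY iB f f' g g' hcX hcY w hBn.1 a' b' c' h' l'
      ha'e hb'e hc'e wh' wl'
  refine locP_of_chart isEtLocal_flat f'.hom a' ha'e ha's b' hb'e h' wh' ?_
  have wcomp : a' ≫ (f' ≫ g').hom = (yon S).map (h' ≫ l') ≫ c' := by
    show a' ≫ f'.hom ≫ g'.hom = _
    rw [← Category.assoc, wh', Category.assoc, wl', Functor.map_comp, Category.assoc]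
  haveI : Flat (h'.left ≫ l'.left) := hflat a' c' (h' ≫ l') ha'e hc'e wcomp
  have hfl : Flat h.left := hf a b h hae hbe hwh
  have hcX' : IsPullback iU.left (h.left ≫ l.left) (h'.left ≫ l'.left) iW.left :=
    sqUV.paste_vert sqVW
  have hfin := isFiniteOrderThickening_of_isNThickMor iB.hom n hBn iW c c' hc'e sqc
  exact Deform.flat_of_flat iU.left iV.left iW.left h.left h'.left l.left l'.left hfin hcX' sqVW
    sqUV.w hfl

theorem main (hcX : IsPullback iX.hom (f ≫ g).hom (f' ≫ g').hom iB.hom)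
    (hcY : IsPullback iY.hom g.hom g'.hom iB.hom) (w : iX ≫ f' = f ≫ iY)
    (hB : IsFinThickMor iB.hom)
    (hflat : LocP @Flat (f' ≫ g').hom)
    (hf : LocP @Flat f.hom) : LocP @Flat f'.hom ∧
    ∀ x' : AlgSp.Points X'.obj, AlgSp.IsFlatAtMor g'.hom (AlgSp.Points.map f'.hom x') := by
  have h1 := locP_flat_fin iX iY iB f f' g g' hcX hcY w hB hflat hf
  exact ⟨h1, fun x' => AlgSpDeform.isFlatAtMor_of_flat_comp f' g' h1 hflat x'⟩

end Groth.Agent.Lib.Helper15.AlgSpDeformFin
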