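import Mathlib

set_option autoImplicit false
universe v u
open CategoryTheory CategoryTheory.Limits

namespace Groth.Agent.Lib.Helper15.DiagBC

variable {C : Type u} [Category.{v} C] [HasPullbacks C]

/-- `X' ×_{Y'} X' = XX ×_X X'` for a base change `f'` of `f`. -/
theorem isPullback_snd {X Y X' Y' XX : C} {f : X ⟶ Y} {gY : Y' ⟶ Y} {gX : X' ⟶ X} {f' : X' ⟶ Y'}
    (sq2 : IsPullback gX f' f gY) {pr0 pr1 : XX ⟶ X} (hXX : IsPullback pr0 pr1 f f)
    (m' : pullback f' f' ⟶ XX) (h0 : m' ≫ pr0 = pullback.fst f' f' ≫ gX)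
    (h1 : m' ≫ pr1 = pullback.snd f' f' ≫ gX) :
    IsPullback m' (pullback.snd f' f') pr1 gX := by
  have left : IsPullback (pullback.fst f' f') (pullback.snd f' f') f' f' :=
    IsPullback.of_hasPullback f' f'
  have outer : IsPullback (pullback.fst f' f' ≫ gX) (pullback.snd f' f') f (f' ≫ gY) :=
    left.paste_horiz sq2
  have outer' : IsPullback (m' ≫ pr0) (pullback.snd f' f') f (gX ≫ f) := by
    rw [h0, sq2.w]; exact outer
  exact IsPullback.of_right outer' h1 hXX

/-- The diagonal of a base change is the base change of the diagonal. -/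
theorem isPullback_diag {X Y X' Y' XX : C} {f : X ⟶ Y} {gY : Y' ⟶ Y} {gX : X' ⟶ X} {f' : X' ⟶ Y'}
    (sq2 : IsPullback gX f' f gY) {pr0 pr1 : XX ⟶ X} (hXX : IsPullback pr0 pr1 f f)
    (m' : pullback f' f' ⟶ XX) (h0 : m' ≫ pr0 = pullback.fst f' f' ≫ gX)
    (h1 : m' ≫ pr1 = pullback.snd f' f' ≫ gX) (Δ : X ⟶ XX) (hΔ0 : Δ ≫ pr0 = 𝟙 X)
    (hΔ1 : Δ ≫ pr1 = 𝟙 X) :
    IsPullback (pullback.diagonal f') gX m' Δ := by
  have right := isPullback_snd sq2 hXX m' h0 h1
  have outer : IsPullback (pullback.diagonal f' ≫ pullback.snd f' f') gX gX (Δ ≫ pr1) := by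
    rw [pullback.diagonal_snd, hΔ1]
    exact IsPullback.of_horiz_isIso ⟨by simp⟩
  refine (IsPullback.of_bot outer.flip ?_ right).flip
  apply hXX.hom_ext
  · rw [Category.assoc, hΔ0, Category.comp_id, Category.assoc, h0, ← Category.assoc, pullback.diagonal_fst,
      Category.id_comp]
  · rw [Category.assoc, hΔ1, Category.comp_id, Category.assoc, h1, ← Category.assoc, pullback.diagonal_snd,
      Category.id_comp]

end Groth.Agent.Lib.Helper15.DiagBC
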