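import Groth.Agent.Lib.Helper15.AlgSpLocus
import Groth.Agent.Lib.Helper15.DiagBC
import Groth.Agent.Lib.Helper3.AlgSpUnram
import Groth.Agent.Lib.Helper3.AlgSpHasAtMor2

set_option autoImplicit false
universe u
open CategoryTheory CategoryTheory.Limits AlgebraicGeometry Opposite MorphismProperty

namespace Groth.Agent.Lib.Helper15.AlgSpDiagOpen
set_option backward.isDefEq.respectTransparency.types false

open AlgSp Groth.Agent.Lib.Helper3

variable {S : Scheme.{u}}

section
variable {P : MorphismProperty Scheme.{u}} (hP : IsEtLocal P)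
include hP

/-- "`P` near a point" passes to open subspaces of the source. -/
theorem hasAtMor_comp_openImm {X₁ X Y : Sp S} (hX₁ : IsAlgSpace X₁) (hX : IsAlgSpace X)
    (hY : IsAlgSpace Y) (j : X₁ ⟶ X) (hj : RepWith @IsOpenImmersion j) (f : X ⟶ Y)
    (x₁ : Points X₁) (H : HasAtMor (NbhdQ P) f (Points.map j x₁)) :
    HasAtMor (NbhdQ P) (j ≫ f) x₁ := by
  obtain ⟨X', hX', j', hj', ⟨x', hx'⟩, hloc⟩ := exists_open_subspace_of_hasAtMor hP hX f _ H
  have sq := IsPullback.of_hasPullback j' j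
  have hPb : IsAlgSpace (pullback j' j) := isAlgSpace_of_isPullback' hX hX' hX₁ sq
  obtain ⟨z, -, hz2⟩ := Points.exists_of_isPullback sq x' x₁ hx'
  refine hasAtMor_of_open_subspace hP hPb hY (j ≫ f) x₁ (pullback.snd j' j)
    (MorphismProperty.of_isPullback sq hj') ⟨z, hz2⟩ ?_
  rw [← Category.assoc, ← pullback.condition, Category.assoc]
  exact locP_precomp_openImm (pullback.fst j' j) (j' ≫ f)
    (MorphismProperty.of_isPullback sq.flip hj) hloc

end

/-- If `f` is unramified near all points of the open set `Ω₀` of `|X|`, then the image of `Ω₀`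
under the diagonal `X ⟶ X ×_Y X` is open. -/
theorem isOpen_image_diag {X Y XX : Sp S} (hX : IsAlgSpace X) (hY : IsAlgSpace Y)
    (f : X ⟶ Y) {pr0 pr1 : XX ⟶ X} (hXX : IsPullback pr0 pr1 f f) (Δ : X ⟶ XX)
    (hΔ0 : Δ ≫ pr0 = 𝟙 X) (hΔ1 : Δ ≫ pr1 = 𝟙 X) (Ω₀ : Set (Points X)) (hΩ₀ : IsOpen Ω₀)
    (H : ∀ x ∈ Ω₀, HasAtMor (NbhdQ (@LocallyOfFiniteType ⊓ @FormallyUnramified)) f x) :
    IsOpen (Points.map Δ '' Ω₀) := by
  have hP := isEtLocal_unramified.{u}
  have hj := repWith_isOpenImmersion_openSubι X Ω₀ hΩ₀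
  have hX₁ : IsAlgSpace (openSub X Ω₀) := isAlgSpace_openSub hX Ω₀ hΩ₀
  set j := openSubι X Ω₀ with hjdef
  have hloc : LocP (@LocallyOfFiniteType ⊓ @FormallyUnramified) (j ≫ f) := by
    refine locP_of_forall_hasAtMor hP hX₁ hY (j ≫ f) fun x₁ => ?_
    refine hasAtMor_comp_openImm hP hX₁ hX hY j hj f x₁ (H _ ?_)
    have h1 : Points.map j x₁ ∈ Set.range (Points.map (openSubι X Ω₀)) := ⟨x₁, rfl⟩
    rwa [range_map_openSubι X Ω₀] at h1
  have hΔ₁ := repWith_isOpenImmersion_diagonal_of_locP_unramified hX₁ hY (j ≫ f) hloc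
  have hm : RepWith (S := S) @IsOpenImmersion
      (pullback.map (j ≫ f) (j ≫ f) f f j j (𝟙 _)
        ((Category.comp_id _).trans rfl) ((Category.comp_id _).trans rfl)) :=
    MorphismProperty.pullbackMap hj hj rfl rfl
  have hiso : RepWith (S := S) @IsOpenImmersion hXX.isoPullback.inv :=
    Groth.Agent.S9937.repWith_of_isIso @IsOpenImmersion
      (fun g hg => by have : IsIso g := hg; infer_instance) _
  have hcomp : RepWith (S := S) @IsOpenImmersion
      (pullback.diagonal (j ≫ f) ≫ pullback.map (j ≫ f) (j ≫ f) f f j j (𝟙 _)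
        ((Category.comp_id _).trans rfl) ((Category.comp_id _).trans rfl) ≫
          hXX.isoPullback.inv) :=
    MorphismProperty.comp_mem _ _ _ hΔ₁ (MorphismProperty.comp_mem _ _ _ hm hiso)
  have heq : pullback.diagonal (j ≫ f) ≫ pullback.map (j ≫ f) (j ≫ f) f f j j (𝟙 _)
        ((Category.comp_id _).trans rfl) ((Category.comp_id _).trans rfl) ≫
          hXX.isoPullback.inv = j ≫ Δ := by
    apply hXX.hom_ext
    · simp only [Category.assoc, IsPullback.isoPullback_inv_fst, pullback.lift_fst,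
        pullback.diagonal_fst_assoc, hΔ0, Category.comp_id, pullback.map]
    · simp only [Category.assoc, IsPullback.isoPullback_inv_snd, pullback.lift_snd,
        pullback.diagonal_snd_assoc, hΔ1, Category.comp_id, pullback.map]
  rw [heq] at hcomp
  have hopen := (isOpenMap_map_of_etale (repWith_mono isOpenImmersion_le_etale hcomp)).isOpen_range
  have : Set.range (Points.map (j ≫ Δ)) = Points.map Δ '' Ω₀ := by
    have h1 : Points.map (j ≫ Δ) = Points.map Δ ∘ Points.map j := by
      funext x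
      exact Points.map_comp _ _ _
    rw [h1, Set.range_comp, hjdef, range_map_openSubι X Ω₀]
  rwa [this] at hopen

end Groth.Agent.Lib.Helper15.AlgSpDiagOpen
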