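import Groth.Prelude.Def_AlgSp4
import Groth.Agent.Lib.Helper3.AlgSpLocP4
import Groth.Agent.Lib.Helper3.AlgSpHasAtMor
import Groth.Agent.Lib.Helper3.AlgSpDiag

set_option autoImplicit false
universe u
open CategoryTheory CategoryTheory.Limits AlgebraicGeometry
open AlgSp

namespace Groth.Agent.Lib.Helper15.AlgSpFT
open Groth.Agent.Lib.Helper3

variable {S : Scheme.{u}}

theorem ofPt_yon_map_comp {F : Sp S} {T T' : Over S} (φ : T ⟶ T') (g : (yon S).obj T' ⟶ F)
    (t : ↥T.left) : Points.ofPt ((yon S).map φ ≫ g) t = Points.ofPt g (φ.left t) := by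
  rw [Points.ofPt_eq_map_ofScheme, Points.map_comp]
  have := Points.map_yon_map_apply φ t
  change Points.map ((yon S).map φ) (Points.ofScheme T t) = Points.ofScheme T' (φ.left t) at this
  rw [this, ← Points.ofPt_eq_map_ofScheme]

/-- a nonempty locally closed subset of a scheme contains the image of a field point of finite
type -/
theorem exists_ft_field_point (W : Scheme.{u}) (Z : Set W) (hZ : IsLocallyClosed Z) (w₀ : W)
    (hw₀ : w₀ ∈ Z) :
    ∃ (K : Type u) (_ : Field K) (j : Spec (CommRingCat.of K) ⟶ W),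
      LocallyOfFiniteType j ∧ ∀ s, j s ∈ Z := by
  obtain ⟨O, C, hO, hC, rfl⟩ := hZ
  obtain ⟨_, ⟨U, hU : IsAffineOpen U, rfl⟩, hwU, hUO⟩ :=
    W.isBasis_affineOpens.exists_subset_of_mem_open hw₀.1 hO
  have hp := (hU.primeIdealOf ⟨w₀, hwU⟩).isPrime
  obtain ⟨m, hm, hle⟩ := Ideal.exists_le_maximal _ hp.ne_top
  let _ : Field (Γ(W, U) ⧸ m) := Ideal.Quotient.field m
  have hci : IsClosedImmersion (Spec.map (CommRingCat.ofHom (Ideal.Quotient.mk m))) :=
    IsClosedImmersion.spec_of_surjective _ Ideal.Quotient.mk_surjective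
  refine ⟨Γ(W, U) ⧸ m, inferInstance,
    Spec.map (CommRingCat.ofHom (Ideal.Quotient.mk m)) ≫ hU.fromSpec, inferInstance, fun s => ?_⟩
  -- the image point is `fromSpec m`, a specialization of `w₀`
  have hs : (Spec.map (CommRingCat.ofHom (Ideal.Quotient.mk m))) s = ⟨m, hm.isPrime⟩ := by
    apply PrimeSpectrum.ext
    change Ideal.comap (Ideal.Quotient.mk m) s.asIdeal = m
    have h1 : m ≤ Ideal.comap (Ideal.Quotient.mk m) s.asIdeal := by
      intro a ha
      change Ideal.Quotient.mk m a ∈ s.asIdeal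
      rw [Ideal.Quotient.eq_zero_iff_mem.2 ha]
      exact Ideal.zero_mem _
    exact (hm.eq_of_le (Ideal.comap_ne_top _ s.isPrime.ne_top) h1).symm
  have hspec : hU.primeIdealOf ⟨w₀, hwU⟩ ⤳ (⟨m, hm.isPrime⟩ : PrimeSpectrum Γ(W, U)) :=
    (PrimeSpectrum.le_iff_specializes _ _).1 hle
  have h2 : hU.fromSpec (hU.primeIdealOf ⟨w₀, hwU⟩) ⤳ hU.fromSpec ⟨m, hm.isPrime⟩ :=
    hspec.map hU.fromSpec.continuous
  rw [hU.fromSpec_primeIdealOf] at h2
  have h3 : (Spec.map (CommRingCat.ofHom (Ideal.Quotient.mk m)) ≫ hU.fromSpec) s =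
      hU.fromSpec ⟨m, hm.isPrime⟩ := by
    rw [Scheme.Hom.comp_apply, hs]
  rw [h3]
  refine ⟨hUO ?_, h2.mem_closed hC hw₀.2⟩
  have : hU.fromSpec ⟨m, hm.isPrime⟩ ∈ Set.range hU.fromSpec := ⟨_, rfl⟩
  rwa [hU.range_fromSpec] at this

/-- a finite type field point of an etale chart gives a finite type field point of the space -/
theorem locP_lft_chart_point {X : Sp S} (hX : IsAlgSpace X) {U : Over S}
    (a : (yon S).obj U ⟶ X) (ha : RepWith @Etale a) {K : Type u} [Field K]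
    (j : Spec (CommRingCat.of K) ⟶ U.left) (hj : LocallyOfFiniteType j) :
    LocP @LocallyOfFiniteType
      ((yon S).map (Over.homMk j rfl : Over.mk (j ≫ U.hom) ⟶ U) ≫ a) ∧
    ∀ s, Points.ofPt ((yon S).map (Over.homMk j rfl : Over.mk (j ≫ U.hom) ⟶ U) ≫ a) s =
      Points.ofPt a (j s) := by
  have hT := isEtLocal_locallyOfFiniteType.{u}
  refine ⟨?_, fun s => ofPt_yon_map_comp _ a s⟩
  have hι : LocP @LocallyOfFiniteType
      ((yon S).map (Over.homMk j rfl : Over.mk (j ≫ U.hom) ⟶ U)) :=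
    locP_of_repWith hT _ ((repWith_yon_map_iff _ _).2 hj)
  have hc : LocP @LocallyOfFiniteType a :=
    locP_of_repWith hT _
      (repWith_mono (fun _ _ f hf => by have : Etale f := hf; infer_instance) ha)
  exact locP_comp hT (IsAlgSpace.yon_obj _) (IsAlgSpace.yon_obj _) hX _ _ hι hc

end Groth.Agent.Lib.Helper15.AlgSpFT
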