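import Groth.Agent.Lib.Helper15.FibSec
import Groth.Agent.Lib.Helper15.AlgSpDeform
import Groth.Agent.Lib.Helper3.AlgSpFibreQF

set_option autoImplicit false
universe u
open CategoryTheory CategoryTheory.Limits AlgebraicGeometry Opposite MorphismProperty

namespace Groth.Agent.Lib.Helper15.AlgSpFibreCrit
set_option backward.isDefEq.respectTransparency.types false

open AlgSp Groth.Agent.Lib.Helper3

variable {S : Scheme.{u}}

/-- Variant of `exists_fibre_chart` with a prescribed pullback `K'` of the chart of the target. -/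
theorem fibre_chart_of {X Y F : Sp S} {K : Over S} (f : X ⟶ Y) (y : (yon S).obj K ⟶ Y)
    (p : F ⟶ X) (q : F ⟶ (yon S).obj K) (sq : IsPullback p q f y)
    {U V : Over S} (a : (yon S).obj U ⟶ X) (b : (yon S).obj V ⟶ Y) (h : U ⟶ V)
    (e : a ≫ f = (yon S).map h ≫ b) {K' : Over S} (pV : K' ⟶ V) (pK : K' ⟶ K)
    (sqK : IsPullback ((yon S).map pV) ((yon S).map pK) b y) :
    ∃ ψ : (yon S).obj (pullback h pV) ⟶ F,
      IsPullback ((yon S).map (pullback.fst h pV)) ψ a p ∧
      ψ ≫ p = (yon S).map (pullback.fst h pV) ≫ a ∧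
      ψ ≫ q = (yon S).map (pullback.snd h pV ≫ pK) := by
  have sqG0 := IsPullback.of_hasPullback h pV
  have sqG := sqG0.map (yon S)
  have outer := sqG.paste_vert sqK
  rw [← e] at outer
  have hw : ((yon S).map (pullback.fst h pV) ≫ a) ≫ f =
      ((yon S).map (pullback.snd h pV) ≫ (yon S).map pK) ≫ y := by
    rw [Category.assoc, outer.w]
  let ψ : (yon S).obj (pullback h pV) ⟶ F := sq.lift _ _ hw
  have hψ1 : ψ ≫ p = (yon S).map (pullback.fst h pV) ≫ a := sq.lift_fst _ _ _
  have hψ2 : ψ ≫ q = (yon S).map (pullback.snd h pV) ≫ (yon S).map pK := sq.lift_snd _ _ _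
  refine ⟨ψ, ?_, hψ1, ?_⟩
  · refine (IsPullback.of_right ?_ hψ1 sq.flip).flip
    rw [hψ2]
    exact outer.flip
  · rw [hψ2, Functor.map_comp]

/-- Scheme-level flatness of the maps of fibres of a chart triple, from the space-level
flatness of fibres over field-valued points. -/
theorem flat_fiberMap_of_chart {X Y Z : Sp S} (f : X ⟶ Y) (g : Y ⟶ Z)
    {U' V' W' : Over S} (a' : (yon S).obj U' ⟶ X) (b' : (yon S).obj V' ⟶ Y)
    (c' : (yon S).obj W' ⟶ Z) (h' : U' ⟶ V') (l' : V' ⟶ W')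
    (ha'e : RepWith @Etale a') (hb'e : RepWith @Etale b') (hc'e : RepWith @Etale c')
    (wh : a' ≫ f = (yon S).map h' ≫ b') (wl : b' ≫ g = (yon S).map l' ≫ c')
    (hfib : ∀ (K : Type u) [Field K] (sK : Spec (CommRingCat.of K) ⟶ S)
      (z : (yon S).obj (Over.mk sK) ⟶ Z) (Xz Yz : Sp S)
      (pX : Xz ⟶ X) (qX : Xz ⟶ (yon S).obj (Over.mk sK))
      (pY : Yz ⟶ Y) (qY : Yz ⟶ (yon S).obj (Over.mk sK)) (fz : Xz ⟶ Yz),
      IsPullback pX qX (f ≫ g) z → IsPullback pY qY g z → fz ≫ pY = pX ≫ f → fz ≫ qY = qX →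
      LocP @Flat fz) (w : W'.left) :
    Flat (MoreMor.fiberMap h'.left l'.left w) := by
  let K := W'.left.residueField w
  let ιw := W'.left.fromSpecResidueField w
  let sK : Spec (CommRingCat.of K) ⟶ S := ιw ≫ W'.hom
  let KO : Over S := Over.mk sK
  let wO : KO ⟶ W' := Over.homMk ιw rfl
  let z : (yon S).obj KO ⟶ Z := (yon S).map wO ≫ c'
  -- fibres
  have sqX := IsPullback.of_hasPullback (f ≫ g) z
  have sqY := IsPullback.of_hasPullback g z
  let fz : pullback (f ≫ g) z ⟶ pullback g z :=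
    pullback.lift (pullback.fst _ _ ≫ f) (pullback.snd _ _)
      (by rw [Category.assoc, pullback.condition])
  have hfz : LocP @Flat fz := hfib K sK z _ _ _ _ _ _ fz sqX sqY (pullback.lift_fst _ _ _)
    (pullback.lift_snd _ _ _)
  -- the pullback of the chart of `Z`
  obtain ⟨K', pW, pK, sqK⟩ := exists_pullback_charts c' hc'e.1 z
  obtain ⟨s, hs⟩ := (yon S).map_surjective (sqK.lift ((yon S).map wO) (𝟙 _) (by simp [z]))
  have hs1 : s ≫ pW = wO := (yon S).map_injective (by rw [Functor.map_comp, hs, sqK.lift_fst])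
  -- charts of the fibres
  obtain ⟨ψV, topV, hψV1, hψV2⟩ := fibre_chart_of g z _ _ sqY b' c' l' wl pW pK sqK
  have wcomp : a' ≫ (f ≫ g) = (yon S).map (h' ≫ l') ≫ c' := by
    rw [← Category.assoc, wh, Category.assoc, wl, Functor.map_comp, Category.assoc]
  obtain ⟨ψU, topU, hψU1, hψU2⟩ :=
    fibre_chart_of (f ≫ g) z _ _ sqX a' c' (h' ≫ l') wcomp pW pK sqK
  have hψVe : RepWith @Etale ψV := MorphismProperty.of_isPullback topV hb'e
  have hψUe : RepWith @Etale ψU := MorphismProperty.of_isPullback topU ha'e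
  -- the map between the charts
  let γ : pullback (h' ≫ l') pW ⟶ pullback l' pW :=
    pullback.lift (pullback.fst _ _ ≫ h') (pullback.snd _ _)
      (by rw [Category.assoc, pullback.condition])
  have hγ1 : γ ≫ pullback.fst l' pW = pullback.fst (h' ≫ l') pW ≫ h' := pullback.lift_fst _ _ _
  have hγ2 : γ ≫ pullback.snd l' pW = pullback.snd (h' ≫ l') pW := pullback.lift_snd _ _ _
  have hcomm : ψU ≫ fz = (yon S).map γ ≫ ψV := by
    apply sqY.hom_ext
    · rw [Category.assoc, pullback.lift_fst, ← Category.assoc, hψU1, Category.assoc, wh,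
        Category.assoc, hψV1]
      rw [← Category.assoc, ← Functor.map_comp, ← hγ1, Functor.map_comp, Category.assoc]
    · rw [Category.assoc, pullback.lift_snd, hψU2, Category.assoc, hψV2, ← Functor.map_comp,
        ← Category.assoc, hγ2]
  have hγf : Flat γ.left := hfz ψU ψV γ hψUe hψVe hcomm
  -- scheme level
  have sqU' := (IsPullback.of_hasPullback (h' ≫ l') pW).map (Over.forget S)
  have sqV' := (IsPullback.of_hasPullback l' pW).map (Over.forget S)
  exact @FibSec.flat_fiberMap_of_section _ _ _ _ h'.left l'.left w pW.left s.left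
    (congrArg CommaMorphism.left hs1) _ _ _ _ sqU' _ _ sqV' γ.left
    (congrArg CommaMorphism.left hγ1) (congrArg CommaMorphism.left hγ2) hγf

/-- A chart triple for `f`, `g`, with the top chart surjective onto `X ×_Y V'`. -/
theorem exists_charts_over {X Y Z : Sp S} (hX : IsAlgSpace X) (hY : IsAlgSpace Y)
    (hZ : IsAlgSpace Z) (f : X ⟶ Y) (g : Y ⟶ Z) :
    ∃ (U' V' W' : Over S) (a' : (yon S).obj U' ⟶ X) (b' : (yon S).obj V' ⟶ Y)
      (c' : (yon S).obj W' ⟶ Z) (h' : U' ⟶ V') (l' : V' ⟶ W'),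
      RepWith @Etale a' ∧ RepWith @Surjective a' ∧ RepWith @Etale b' ∧ RepWith @Surjective b' ∧
      RepWith @Etale c' ∧ a' ≫ f = (yon S).map h' ≫ b' ∧ b' ≫ g = (yon S).map l' ≫ c' ∧
      (IsSurjectiveMor f → Function.Surjective (fun u : U'.left => h'.left u)) := by
  obtain ⟨W', c', hc'e, hc's⟩ := hZ.atlas
  obtain ⟨V', v, l', -, -, hb'e, hb's, hl, wl⟩ := exists_chart_over hY hZ g c' hc'e
  obtain ⟨U', u, h', -, hus, ha'e, ha's, hh, wh⟩ := exists_chart_over hX hY f _ hb'e
  refine ⟨U', V', W', _, _, c', h', l', ha'e, ha's (hb's hc's), hb'e, hb's hc's, hc'e, wh, wl,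
    fun hf v' => ?_⟩
  obtain ⟨x, hx⟩ := hf (Points.ofPt (v ≫ pullback.fst g c') v')
  have sq := IsPullback.of_hasPullback f (v ≫ pullback.fst g c')
  obtain ⟨p, -, hp2⟩ := Points.exists_of_isPullback sq x (Points.ofScheme V' v')
    (by rw [hx, Points.map_ofPt, Category.id_comp])
  obtain ⟨u', hu'⟩ := exists_ofPt_eq u hus p
  refine ⟨u', ?_⟩
  have e1 : Points.ofScheme V' (h'.left u') = Points.ofScheme V' v' := by
    rw [← hp2, ← hu', Points.map_ofPt, ← hh]
    show Points.ofPt (𝟙 _) (h'.left u') = _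
    rw [← Points.ofPt_yon_map_comp, Category.comp_id]
  have := congrArg (Points.toScheme V') e1
  rwa [Points.toScheme_ofScheme, Points.toScheme_ofScheme] at this

end Groth.Agent.Lib.Helper15.AlgSpFibreCrit
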