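import Groth.Prelude.Def_AlgSp4
import Groth.Prelude.Def_AlgSpDec
import Groth.Agent.Lib.Helper3.AlgSpHasAtMor2
import Groth.Agent.Lib.Helper3.AlgSpLocP4
import Groth.Agent.Lib.Helper3.AlgSpLocP3
import Groth.Agent.Lib.Helper3.AlgSpPoints
import Groth.Agent.Lib.Helper3.AlgSpOpenSub
import Groth.Agent.Lib.Helper15.AlgSpDeform

set_option autoImplicit false
universe u
open CategoryTheory CategoryTheory.Limits AlgebraicGeometry
open AlgSp

namespace Groth.Agent.Lib.Helper15.AlgSpLocus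
open Groth.Agent.Lib.Helper3
set_option backward.isDefEq.respectTransparency.types false

variable {S : Scheme.{u}}

variable {P : MorphismProperty Scheme.{u}} (hP : IsEtLocal P)
include hP

/-- the locus where `f` has `P` near the point is open. -/
theorem isOpen_hasAtMor {X Y : Sp S} (hX : IsAlgSpace X) (hY : IsAlgSpace Y) (f : X ⟶ Y) :
    IsOpen {x : Points X | HasAtMor (NbhdQ P) f x} := by
  rw [isOpen_iff_forall_mem_open]
  intro x hx
  obtain ⟨X₁, hX₁, j, hj, hxj, hloc⟩ := exists_open_subspace_of_hasAtMor hP hX f x hx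
  have hje : RepWith @Etale j := MorphismProperty.relative_monotone
    (fun _ _ k hk => isOpenImmersion_le_etale _ hk) _ hj
  refine ⟨Set.range (Points.map j), ?_, (isOpenMap_map_of_etale hje).isOpen_range, hxj⟩
  rintro _ ⟨z, rfl⟩
  exact hasAtMor_of_open_subspace hP hX₁ hY f _ j hj ⟨z, rfl⟩ hloc

/-- the locus pulls back into the locus of a base change. -/
theorem hasAtMor_of_isPullback {X Y Y' X' : Sp S} (hX : IsAlgSpace X) (hY : IsAlgSpace Y)
    (hY' : IsAlgSpace Y') (hX' : IsAlgSpace X') (f : X ⟶ Y) (a : Y' ⟶ Y) (b : X' ⟶ X)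
    (f' : X' ⟶ Y') (sq : IsPullback b f' f a) (x' : Points X')
    (hx : HasAtMor (NbhdQ P) f (Points.map b x')) : HasAtMor (NbhdQ P) f' x' := by
  obtain ⟨X₁, hX₁, j, hj, hxj, hloc⟩ := exists_open_subspace_of_hasAtMor hP hX f _ hx
  have sqj := IsPullback.of_hasPullback b j
  have hj' : RepWith @IsOpenImmersion (pullback.fst b j) :=
    MorphismProperty.of_isPullback sqj.flip hj
  have hP₁ : IsAlgSpace (pullback b j) := isAlgSpace_of_isPullback' hX hX' hX₁ sqj
  obtain ⟨x₁, hx₁⟩ := hxj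
  obtain ⟨z, hz1, -⟩ := Points.exists_of_isPullback sqj x' x₁ hx₁.symm
  have big : IsPullback (pullback.snd b j) (pullback.fst b j ≫ f') (j ≫ f) a :=
    sqj.flip.paste_vert sq
  have hloc' : LocP P (pullback.fst b j ≫ f') :=
    locP_of_isPullback hP hX₁ hY hY' hP₁ (j ≫ f) a (pullback.snd b j) _ big hloc
  exact hasAtMor_of_open_subspace hP hP₁ hY' f' x' _ hj' ⟨z, hz1⟩ hloc'

/-- descent of the locus along a base change, given pointwise descent on scheme charts. -/
theorem hasAtMor_of_hasAtMor_baseChange {X Y Y' X' : Sp S} (hX : IsAlgSpace X) (hY : IsAlgSpace Y)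
    (hY' : IsAlgSpace Y') (hX' : IsAlgSpace X') (f : X ⟶ Y) (a : Y' ⟶ Y) (b : X' ⟶ X)
    (f' : X' ⟶ Y') (sq : IsPullback b f' f a)
    (Q : MorphismProperty Scheme.{u}) (hQ : LocP Q f)
    (hdesc : ∀ {U V V'' U'' : Scheme.{u}} (h : U ⟶ V) (k : V'' ⟶ V) (p₁ : U'' ⟶ U) (p₂ : U'' ⟶ V''),
      IsPullback p₁ p₂ h k → Q h → ∀ u'' : U'', (∃ W : U''.Opens, u'' ∈ W ∧ P (W.ι ≫ p₂)) →
        ∃ W : U.Opens, p₁ u'' ∈ W ∧ P (W.ι ≫ h))
    (x' : Points X') (hx' : HasAtMor (NbhdQ P) f' x') :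
    HasAtMor (NbhdQ P) f (Points.map b x') := by
  -- chart of `f`
  obtain ⟨V, b₀, hb₀e, hb₀s⟩ := hY.atlas
  obtain ⟨U, u₀, h, -, -, ha₀e, ha₀s, -, hw⟩ := exists_chart_over hX hY f b₀ hb₀e
  generalize u₀ ≫ pullback.fst f b₀ = a₀ at ha₀e ha₀s hw
  have ha₀s' := ha₀s hb₀s
  obtain ⟨u, hu⟩ := exists_ofPt_eq a₀ ha₀s' (Points.map b x')
  have hQh : Q h.left := hQ a₀ b₀ h ha₀e hb₀e hw
  -- sheaf pullbacks
  have sqU := IsPullback.of_hasPullback b a₀   -- fst : → X', snd : → yon U
  have sqV := IsPullback.of_hasPullback a b₀   -- fst : → Y', snd : → yon V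
  have hV' : IsAlgSpace (pullback a b₀) := isAlgSpace_of_isPullback' hY hY' (IsAlgSpace.yon_obj V) sqV
  have hjVe : RepWith @Etale (pullback.fst a b₀) := MorphismProperty.of_isPullback sqV.flip hb₀e
  have hjUe : RepWith @Etale (pullback.fst b a₀) := MorphismProperty.of_isPullback sqU.flip ha₀e
  -- induced map `h'`
  have hcomm : (pullback.fst b a₀ ≫ f') ≫ a = (pullback.snd b a₀ ≫ (yon S).map h) ≫ b₀ := by
    rw [Category.assoc, ← sq.w, ← Category.assoc, sqU.w, Category.assoc, Category.assoc, hw]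
  let h' : pullback b a₀ ⟶ pullback a b₀ := sqV.lift _ _ hcomm
  have hh'1 : h' ≫ pullback.fst a b₀ = pullback.fst b a₀ ≫ f' := sqV.lift_fst _ _ _
  have hh'2 : h' ≫ pullback.snd a b₀ = pullback.snd b a₀ ≫ (yon S).map h := sqV.lift_snd _ _ _
  have outer : IsPullback (h' ≫ pullback.fst a b₀) (pullback.snd b a₀) a ((yon S).map h ≫ b₀) := by
    rw [hh'1, ← hw]
    exact (sqU.flip.paste_vert sq).flip
  have sqh' : IsPullback h' (pullback.snd b a₀) (pullback.snd a b₀) ((yon S).map h) :=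
    IsPullback.of_right outer hh'2 sqV
  -- atlas of `V'`
  obtain ⟨V'', v'', hv''e, hv''s⟩ := hV'.atlas
  obtain ⟨k, hk⟩ := (yon S).map_surjective (v'' ≫ pullback.snd a b₀)
  have hb''e : RepWith @Etale (v'' ≫ pullback.fst a b₀) :=
    MorphismProperty.comp_mem _ _ _ hv''e hjVe
  -- scheme pullback
  have sqO := IsPullback.of_hasPullback h k
  have sqY : IsPullback ((yon S).map (pullback.fst h k)) ((yon S).map (pullback.snd h k))
      ((yon S).map h) ((yon S).map k) := sqO.map (yon S)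
  have hcomm2 : (yon S).map (pullback.snd h k) ≫ v'' ≫ pullback.snd a b₀ =
      (yon S).map (pullback.fst h k) ≫ (yon S).map h := by
    rw [← hk]; exact sqY.w.symm
  let u'' : (yon S).obj (pullback h k) ⟶ pullback b a₀ :=
    sqh'.lift ((yon S).map (pullback.snd h k) ≫ v'') ((yon S).map (pullback.fst h k))
      (by rw [Category.assoc]; exact hcomm2)
  have hu''1 : u'' ≫ h' = (yon S).map (pullback.snd h k) ≫ v'' := sqh'.lift_fst _ _ _
  have hu''2 : u'' ≫ pullback.snd b a₀ = (yon S).map (pullback.fst h k) := sqh'.lift_snd _ _ _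
  have sqL : IsPullback ((yon S).map (pullback.snd h k)) u'' v'' h' := by
    refine IsPullback.of_bot ?_ hu''1.symm sqh'
    rw [hu''2, ← hk]
    exact sqY.flip
  have hu''e : RepWith @Etale u'' := MorphismProperty.of_isPullback sqL hv''e
  have hu''s : RepWith @Surjective u'' := MorphismProperty.of_isPullback sqL hv''s
  have ha''e : RepWith @Etale (u'' ≫ pullback.fst b a₀) :=
    MorphismProperty.comp_mem _ _ _ hu''e hjUe
  have hw'' : (u'' ≫ pullback.fst b a₀) ≫ f' =
      (yon S).map (pullback.snd h k) ≫ (v'' ≫ pullback.fst a b₀) := by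
    rw [Category.assoc, ← hh'1, ← Category.assoc, hu''1, Category.assoc]
  -- points
  have hxy : Points.map b x' = Points.map a₀ (Points.ofScheme U u) := by
    rw [← Points.ofPt_eq_map_ofScheme, hu]
  obtain ⟨z, hz1, hz2⟩ := Points.exists_of_isPullback sqU x' (Points.ofScheme U u) hxy
  obtain ⟨w₀, hw₀⟩ := exists_ofPt_eq u'' hu''s z
  have hpt1 : Points.ofPt (u'' ≫ pullback.fst b a₀) w₀ = x' := by
    rw [← Points.map_ofPt, hw₀, hz1]
  have hpt2 : (pullback.fst h k).left w₀ = u := by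
    have h1 : Points.ofPt ((yon S).map (pullback.fst h k)) w₀ = Points.ofScheme U u := by
      rw [← hu''2, ← Points.map_ofPt, hw₀, hz2]
    have h2 := congrArg (Points.toScheme U) h1
    rwa [Points.toScheme_ofPt, Points.toScheme_ofScheme] at h2
  -- the open subspace on which `f'` has `P`
  obtain ⟨X₁, hX₁, j, hj, hxj, hloc⟩ := exists_open_subspace_of_hasAtMor hP hX' f' x' hx'
  haveI := mono_of_repWith_isOpenImmersion j hj
  have hje : RepWith @Etale j := MorphismProperty.relative_monotone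
    (fun _ _ k hk => isOpenImmersion_le_etale _ hk) _ hj
  have hΩ : IsOpen (Set.range (Points.map j)) := (isOpenMap_map_of_etale hje).isOpen_range
  let W₁ : (pullback h k).left.Opens :=
    ⟨Points.ofPt (u'' ≫ pullback.fst b a₀) ⁻¹' Set.range (Points.map j),
      hΩ.preimage (Points.continuous_ofPt _)⟩
  have hw₀W : w₀ ∈ W₁ := by
    show Points.ofPt (u'' ≫ pullback.fst b a₀) w₀ ∈ Set.range (Points.map j)
    rw [hpt1]; exact hxj
  let UW : Over S := Over.mk (W₁.ι ≫ (pullback h k).hom)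
  let jW : UW ⟶ pullback h k := Over.homMk W₁.ι rfl
  have hjW : RepWith @Etale ((yon S).map jW) :=
    (repWith_yon_map_iff _ _).2 (inferInstanceAs (Etale W₁.ι))
  have hge : RepWith @Etale ((yon S).map jW ≫ u'' ≫ pullback.fst b a₀) :=
    MorphismProperty.comp_mem _ _ _ hjW ha''e
  obtain ⟨t, ht⟩ := exists_factor_of_range_subset j hj ((yon S).map jW ≫ u'' ≫ pullback.fst b a₀) (by
    rw [range_map_eq_range_ofPt]
    rintro _ ⟨w, rfl⟩
    rw [Points.ofPt_yon_map_comp]
    exact w.2)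
  have sqt : IsPullback (𝟙 ((yon S).obj UW)) t ((yon S).map jW ≫ u'' ≫ pullback.fst b a₀) j :=
    IsPullback.of_horiz_isIso_mono ⟨by rw [Category.id_comp, ht]⟩
  have hte : RepWith @Etale t := MorphismProperty.of_isPullback sqt hge
  have hPW : P (W₁.ι ≫ (pullback.snd h k).left) := by
    refine hloc t (v'' ≫ pullback.fst a b₀) (jW ≫ pullback.snd h k) hte hb''e ?_
    rw [← Category.assoc, ht, Category.assoc, Category.assoc, ← Category.assoc u'', hw'',
      Functor.map_comp, Category.assoc]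
  -- descend
  have sqS : IsPullback (pullback.fst h k).left (pullback.snd h k).left h.left k.left :=
    sqO.map (Over.forget S)
  obtain ⟨W, hW1, hW2⟩ := hdesc h.left k.left _ _ sqS hQh w₀ ⟨W₁, hw₀W, hPW⟩
  rw [hpt2] at hW1
  exact ⟨U, V, a₀, b₀, h, u, ha₀e, hb₀e, hw, hu, W, hW1, hW2⟩

end Groth.Agent.Lib.Helper15.AlgSpLocus
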