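import Groth.Agent.Lib.Helper15.FlatAtSch
import Groth.Agent.Lib.Helper15.AlgSpFibreCrit
import Groth.Agent.Lib.Helper15.AlgSpLocus
import Groth.Agent.Lib.Helper3.AlgSpImmersionPts
import Groth.Prelude.Def_AlgSpMor5
import Groth.Agent.Lib.Helper3.AlgSpUnram
import Groth.Agent.Lib.Helper3.AlgSpLargestOpen

set_option autoImplicit false
universe u
open CategoryTheory CategoryTheory.Limits AlgebraicGeometry Opposite MorphismProperty

namespace Groth.Agent.Lib.Helper15.AlgSpFlatAt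
set_option backward.isDefEq.respectTransparency.types false

open AlgSp Groth.Agent.Lib.Helper3 FlatAtSch

variable {S : Scheme.{u}}

/-- One chart diagram suffices for flatness at a point. -/
theorem isFlatAtMor_of_chart {X Y : Sp S} (f : X ⟶ Y) {U V : Over S} (a : (yon S).obj U ⟶ X)
    (b : (yon S).obj V ⟶ Y) (k : U ⟶ V) (u : ↥U.left) (ha : RepWith @Etale a)
    (hb : RepWith @Etale b) (w : a ≫ f = (yon S).map k ≫ b) (hk : FlatAt k.left u) :
    IsFlatAtMor f (Points.ofPt a u) := by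
  intro U₂ V₂ a₂ b₂ k₂ u₂ ha₂ hb₂ w₂ hu₂
  obtain ⟨U₁₂, p₁, p₂, sqU⟩ := exists_pullback_charts a ha.1 a₂
  have hp₂ : Etale p₂.left := ha.2 a₂ ((yon S).map p₁) p₂ sqU
  have hp₁ : Etale p₁.left := ha₂.2 a ((yon S).map p₂) p₁ sqU.flip
  obtain ⟨v, hv1, hv2⟩ := exists_of_isPullback_chart sqU (Points.ofScheme U u) u₂
    (by rw [← Points.ofPt_eq_map_ofScheme, hu₂])
  have hv1' : p₁.left v = u := by
    have e1 : Points.ofScheme U (p₁.left v) = Points.ofScheme U u := by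
      rw [← hv1]
      show Points.ofPt (𝟙 _) (p₁.left v) = _
      rw [← Points.ofPt_yon_map_comp, Category.comp_id]
    have := congrArg (Points.toScheme U) e1
    rwa [Points.toScheme_ofScheme, Points.toScheme_ofScheme] at this
  obtain ⟨V₁₂, q₁, q₂, sqV⟩ := exists_pullback_charts b hb.1 b₂
  have hq₂ : Etale q₂.left := hb.2 b₂ ((yon S).map q₁) q₂ sqV
  have hq₁ : Etale q₁.left := hb₂.2 b ((yon S).map q₂) q₁ sqV.flip
  have hcomm : (yon S).map (p₁ ≫ k) ≫ b = (yon S).map (p₂ ≫ k₂) ≫ b₂ := by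
    rw [Functor.map_comp, Functor.map_comp, Category.assoc, Category.assoc, ← w, ← w₂,
      ← Category.assoc, ← Category.assoc, sqU.w]
  obtain ⟨k₁₂, hk₁₂⟩ := (yon S).map_surjective (sqV.lift _ _ hcomm)
  have hk1 : k₁₂ ≫ q₁ = p₁ ≫ k :=
    (yon S).map_injective (by rw [Functor.map_comp, hk₁₂, sqV.lift_fst])
  have hk2 : k₁₂ ≫ q₂ = p₂ ≫ k₂ :=
    (yon S).map_injective (by rw [Functor.map_comp, hk₁₂, sqV.lift_snd])
  have hk1' : k₁₂.left ≫ q₁.left = p₁.left ≫ k.left := congrArg CommaMorphism.left hk1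
  have hk2' : k₁₂.left ≫ q₂.left = p₂.left ≫ k₂.left := congrArg CommaMorphism.left hk2
  have s1 : FlatAt (p₁.left ≫ k.left) v :=
    flatAt_comp p₁.left k.left v (flatAt_of_flat p₁.left v) (flatAt_congr_pt _ hv1'.symm hk)
  have s2 : FlatAt k₁₂.left v := flatAt_of_comp_etale k₁₂.left q₁.left v (flatAt_congr hk1'.symm v s1)
  have s3 : FlatAt (k₁₂.left ≫ q₂.left) v :=
    flatAt_comp k₁₂.left q₂.left v s2 (flatAt_of_flat q₂.left _)
  have s4 : FlatAt k₂.left (p₂.left v) :=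
    flatAt_of_comp_source p₂.left k₂.left v (flatAt_of_flat p₂.left v) (flatAt_congr hk2' v s3)
  exact flatAt_congr_pt _ hv2 s4

/-- One step of base change of chart diagrams: given a chart `(a₀, b₀, h)` of `f` and an etale
`v'' : V'' ⟶ Y' ×_Y V`, the scheme `U ×_V V''` is etale over `X' ×_X U`. -/
theorem chart_step {X Y Y' X' : Sp S} (f : X ⟶ Y) (a : Y' ⟶ Y) (b : X' ⟶ X) (f' : X' ⟶ Y')
    (sq : IsPullback b f' f a) {U V V'' : Over S} (a₀ : (yon S).obj U ⟶ X)
    (b₀ : (yon S).obj V ⟶ Y) (h : U ⟶ V) (hw : a₀ ≫ f = (yon S).map h ≫ b₀)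
    (v'' : (yon S).obj V'' ⟶ pullback a b₀) (hv''e : RepWith @Etale v'') (k : V'' ⟶ V)
    (hk : (yon S).map k = v'' ≫ pullback.snd a b₀) :
    ∃ u'' : (yon S).obj (pullback h k) ⟶ pullback b a₀, RepWith @Etale u'' ∧
      (RepWith @Surjective v'' → RepWith @Surjective u'') ∧
      u'' ≫ pullback.snd b a₀ = (yon S).map (pullback.fst h k) ∧
      (u'' ≫ pullback.fst b a₀) ≫ f' = (yon S).map (pullback.snd h k) ≫ (v'' ≫ pullback.fst a b₀) := by
  have sqU := IsPullback.of_hasPullback b a₀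
  have sqV := IsPullback.of_hasPullback a b₀
  have hcomm : (pullback.fst b a₀ ≫ f') ≫ a = (pullback.snd b a₀ ≫ (yon S).map h) ≫ b₀ := by
    rw [Category.assoc, ← sq.w, ← Category.assoc, sqU.w, Category.assoc, Category.assoc, hw]
  let h' : pullback b a₀ ⟶ pullback a b₀ := sqV.lift _ _ hcomm
  have hh'1 : h' ≫ pullback.fst a b₀ = pullback.fst b a₀ ≫ f' := sqV.lift_fst _ _ _
  have hh'2 : h' ≫ pullback.snd a b₀ = pullback.snd b a₀ ≫ (yon S).map h := sqV.lift_snd _ _ _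
  have outer : IsPullback (h' ≫ pullback.fst a b₀) (pullback.snd b a₀) a ((yon S).map h ≫ b₀) := by
    rw [hh'1, ← hw]
    exact (sqU.flip.paste_vert sq).flip
  have sqh' : IsPullback h' (pullback.snd b a₀) (pullback.snd a b₀) ((yon S).map h) :=
    IsPullback.of_right outer hh'2 sqV
  have sqO := IsPullback.of_hasPullback h k
  have sqY : IsPullback ((yon S).map (pullback.fst h k)) ((yon S).map (pullback.snd h k))
      ((yon S).map h) ((yon S).map k) := sqO.map (yon S)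
  have hcomm2 : (yon S).map (pullback.snd h k) ≫ v'' ≫ pullback.snd a b₀ =
      (yon S).map (pullback.fst h k) ≫ (yon S).map h := by
    rw [← hk]; exact sqY.w.symm
  let u'' : (yon S).obj (pullback h k) ⟶ pullback b a₀ :=
    sqh'.lift ((yon S).map (pullback.snd h k) ≫ v'') ((yon S).map (pullback.fst h k))
      (by rw [Category.assoc]; exact hcomm2)
  have hu''1 : u'' ≫ h' = (yon S).map (pullback.snd h k) ≫ v'' := sqh'.lift_fst _ _ _
  have hu''2 : u'' ≫ pullback.snd b a₀ = (yon S).map (pullback.fst h k) := sqh'.lift_snd _ _ _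
  have sqL : IsPullback ((yon S).map (pullback.snd h k)) u'' v'' h' := by
    refine IsPullback.of_bot ?_ hu''1.symm sqh'
    rw [hu''2, ← hk]
    exact sqY.flip
  refine ⟨u'', MorphismProperty.of_isPullback sqL hv''e,
    fun hs => MorphismProperty.of_isPullback sqL hs, hu''2, ?_⟩
  rw [Category.assoc, ← hh'1, ← Category.assoc, hu''1, Category.assoc]

/-- Chart triples of `X ⟶ Y ⟶ Z` and of its base change along `Z' ⟶ Z`, the latter being the base
change (as schemes) of the former along a morphism of charts `W'' ⟶ W`, through a given point. -/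
theorem exists_baseChange_chart2 {X Y Z X' Y' Z' : Sp S} (hX : IsAlgSpace X) (hY : IsAlgSpace Y)
    (hZ : IsAlgSpace Z) (hZ' : IsAlgSpace Z') (f : X ⟶ Y) (h : Y ⟶ Z) (g : Z' ⟶ Z)
    (pY : Y' ⟶ Y) (h' : Y' ⟶ Z') (sqY : IsPullback pY h' h g) (pX : X' ⟶ X) (f' : X' ⟶ Y')
    (sqX : IsPullback pX f' f pY) (x' : Points X') :
    ∃ (U V W U'' V'' W'' : Over S) (a₀ : (yon S).obj U ⟶ X) (b₀ : (yon S).obj V ⟶ Y)
      (c₀ : (yon S).obj W ⟶ Z) (kUV : U ⟶ V) (kVW : V ⟶ W)
      (a'' : (yon S).obj U'' ⟶ X') (b'' : (yon S).obj V'' ⟶ Y') (c'' : (yon S).obj W'' ⟶ Z')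
      (kUV'' : U'' ⟶ V'') (kVW'' : V'' ⟶ W'') (mU : U'' ⟶ U) (mV : V'' ⟶ V) (mW : W'' ⟶ W)
      (w₀ : ↥U''.left),
      RepWith @Etale a₀ ∧ RepWith @Etale b₀ ∧ RepWith @Etale c₀ ∧
      RepWith @Etale a'' ∧ RepWith @Etale b'' ∧ RepWith @Etale c'' ∧
      a₀ ≫ f = (yon S).map kUV ≫ b₀ ∧ b₀ ≫ h = (yon S).map kVW ≫ c₀ ∧
      a'' ≫ f' = (yon S).map kUV'' ≫ b'' ∧ b'' ≫ h' = (yon S).map kVW'' ≫ c'' ∧
      IsPullback mV.left kVW''.left kVW.left mW.left ∧
      IsPullback mU.left kUV''.left kUV.left mV.left ∧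
      a'' ≫ pX = (yon S).map mU ≫ a₀ ∧ Points.ofPt a'' w₀ = x' := by
  -- level Z
  obtain ⟨W, c₀, hc₀e, hc₀s⟩ := hZ.atlas
  have sqZ := IsPullback.of_hasPullback g c₀
  have hPZ : IsAlgSpace (pullback g c₀) :=
    isAlgSpace_of_isPullback' hZ hZ' (IsAlgSpace.yon_obj W) sqZ
  obtain ⟨W'', vW, hvWe, hvWs⟩ := hPZ.atlas
  obtain ⟨mW, hmW⟩ := (yon S).map_surjective (vW ≫ pullback.snd g c₀)
  have hc''e : RepWith @Etale (vW ≫ pullback.fst g c₀) :=
    MorphismProperty.comp_mem _ _ _ hvWe (MorphismProperty.of_isPullback sqZ.flip hc₀e)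
  -- level Y
  obtain ⟨V, v, kVW, -, -, hb₀e, hb₀s, -, hwVW⟩ := exists_chart_over hY hZ h c₀ hc₀e
  generalize v ≫ pullback.fst h c₀ = b₀ at hb₀e hb₀s hwVW
  obtain ⟨uV, huVe, huVs, huV2, huV3⟩ :=
    chart_step h g pY h' sqY b₀ c₀ kVW hwVW vW hvWe mW hmW
  have sqPY := IsPullback.of_hasPullback pY b₀
  have hb''e : RepWith @Etale (uV ≫ pullback.fst pY b₀) :=
    MorphismProperty.comp_mem _ _ _ huVe (MorphismProperty.of_isPullback sqPY.flip hb₀e)
  -- level X
  obtain ⟨U, u, kUV, -, -, ha₀e, ha₀s, -, hwUV⟩ := exists_chart_over hX hY f b₀ hb₀e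
  generalize u ≫ pullback.fst f b₀ = a₀ at ha₀e ha₀s hwUV
  obtain ⟨uU, huUe, huUs, huU2, huU3⟩ :=
    chart_step f pY pX f' sqX a₀ b₀ kUV hwUV uV huVe (pullback.fst kVW mW) huV2.symm
  have sqPX := IsPullback.of_hasPullback pX a₀
  have ha''e : RepWith @Etale (uU ≫ pullback.fst pX a₀) :=
    MorphismProperty.comp_mem _ _ _ huUe (MorphismProperty.of_isPullback sqPX.flip ha₀e)
  -- the point
  have ha₀s' := ha₀s (hb₀s hc₀s)
  obtain ⟨u₀, hu₀⟩ := exists_ofPt_eq a₀ ha₀s' (Points.map pX x')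
  have hxy : Points.map pX x' = Points.map a₀ (Points.ofScheme U u₀) := by
    rw [← Points.ofPt_eq_map_ofScheme, hu₀]
  obtain ⟨z, hz1, -⟩ := Points.exists_of_isPullback sqPX x' (Points.ofScheme U u₀) hxy
  obtain ⟨w₀, hw₀⟩ := exists_ofPt_eq uU (huUs (huVs hvWs)) z
  refine ⟨U, V, W, pullback kUV (pullback.fst kVW mW), pullback kVW mW, W'', a₀, b₀, c₀, kUV, kVW,
    uU ≫ pullback.fst pX a₀, uV ≫ pullback.fst pY b₀, vW ≫ pullback.fst g c₀,
    pullback.snd kUV (pullback.fst kVW mW), pullback.snd kVW mW,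
    pullback.fst kUV (pullback.fst kVW mW), pullback.fst kVW mW, mW, w₀,
    ha₀e, hb₀e, hc₀e, ha''e, hb''e, hc''e, hwUV, hwVW, huU3, huV3,
    (IsPullback.of_hasPullback kVW mW).map (Over.forget S),
    (IsPullback.of_hasPullback kUV (pullback.fst kVW mW)).map (Over.forget S), ?_, ?_⟩
  · rw [Category.assoc, sqPX.w, ← Category.assoc, huU2]
  · rw [← Points.map_ofPt, hw₀, hz1]

/-- The scheme-level fibre criterion (the statement of S1386) as a hypothesis. -/
def CritHyp : Prop :=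
  ∀ {U V W : Scheme.{u}} (h : U ⟶ V) (l : V ⟶ W) [LocallyOfFinitePresentation (h ≫ l)]
    [LocallyOfFiniteType l], Crit h l

section Main

variable {X Y Z : Sp S} (hX : IsAlgSpace X) (hY : IsAlgSpace Y) (hZ : IsAlgSpace Z)
  (f : X ⟶ Y) (h : Y ⟶ Z)

include hX hY hZ in
/-- Under the hypotheses of the fibre criterion, the flat locus of `f` is open. -/
theorem isOpen_isFlatAtMor (hcrit : CritHyp.{u})
    (hfp : LocP @LocallyOfFinitePresentation (f ≫ h)) (hfl : LocP @Flat (f ≫ h))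
    (hft : LocP @LocallyOfFiniteType h) : IsOpen {x : Points X | IsFlatAtMor f x} := by
  obtain ⟨U', V', W', a', b', c', h', l', ha'e, ha's, hb'e, hb's, hc'e, wh, wl, -⟩ :=
    AlgSpFibreCrit.exists_charts_over hX hY hZ f h
  have wcomp : a' ≫ (f ≫ h) = (yon S).map (h' ≫ l') ≫ c' := by
    rw [← Category.assoc, wh, Category.assoc, wl, Functor.map_comp, Category.assoc]
  haveI : LocallyOfFinitePresentation (h'.left ≫ l'.left) := hfp a' c' (h' ≫ l') ha'e hc'e wcomp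
  haveI : Flat (h'.left ≫ l'.left) := hfl a' c' (h' ≫ l') ha'e hc'e wcomp
  haveI : LocallyOfFiniteType l'.left := hft b' c' l' hb'e hc'e wl
  have hc := hcrit h'.left l'.left
  have hset : {x : Points X | IsFlatAtMor f x} =
      Points.ofPt a' '' {u : ↥U'.left | FlatAt l'.left (h'.left u) ∧ FlatAt h'.left u} := by
    ext x
    constructor
    · intro hx
      obtain ⟨u, rfl⟩ := exists_ofPt_eq a' ha's x
      have h1 : FlatAt h'.left u := hx a' b' h' u ha'e hb'e wh rfl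
      exact ⟨u, ⟨flatAt_of_comp_source h'.left l'.left u h1 (flatAt_of_flat _ u), h1⟩, rfl⟩
    · rintro ⟨u, ⟨-, h1⟩, rfl⟩
      exact isFlatAtMor_of_chart f a' b' h' u ha'e hb'e wh h1
  rw [hset]
  exact isOpenMap_ofPt a' ha'e _ hc.2

include hX hY hZ in
/-- Under the hypotheses of the fibre criterion, the image of the flat locus of `f` is open. -/
theorem isOpen_image_flatLocus (hcrit : CritHyp.{u})
    (hfp : LocP @LocallyOfFinitePresentation (f ≫ h)) (hfl : LocP @Flat (f ≫ h))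
    (hft : LocP @LocallyOfFiniteType h) :
    IsOpen (Points.map f '' {x : Points X | IsFlatAtMor f x}) := by
  set 𝒰 : Set (Points X) := {x | IsFlatAtMor f x} with h𝒰
  have h𝒰o : IsOpen 𝒰 := isOpen_isFlatAtMor hX hY hZ f h hcrit hfp hfl hft
  have hj := repWith_isOpenImmersion_openSubι X 𝒰 h𝒰o
  have hX₁ : IsAlgSpace (openSub X 𝒰) := isAlgSpace_openSub hX 𝒰 h𝒰o
  have hje : RepWith @Etale (openSubι X 𝒰) := repWith_mono isOpenImmersion_le_etale hj
  have hflat₁ : LocP @Flat (openSubι X 𝒰 ≫ f) := by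
    intro U V a b k ha hb w
    refine Flat.of_stalkMap _ fun u => ?_
    have hmem : IsFlatAtMor f (Points.map (openSubι X 𝒰) (Points.ofPt a u)) := by
      have h1 : Points.map (openSubι X 𝒰) (Points.ofPt a u) ∈
          Set.range (Points.map (openSubι X 𝒰)) := ⟨_, rfl⟩
      rwa [range_map_openSubι] at h1
    exact hmem (a ≫ openSubι X 𝒰) b k u (MorphismProperty.comp_mem _ _ _ ha hje) hb
      (by rw [Category.assoc, w]) (by rw [Points.map_ofPt])
  have hlfp : LocP @LocallyOfFinitePresentation f :=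
    locP_of_postcomp isEtLocal_locallyOfFinitePresentation
      (fun a b hab hb => locallyOfFinitePresentation_of_comp a b hab hb) hX hY hZ f h hfp hft
  have hlfp₁ : LocP @LocallyOfFinitePresentation (openSubι X 𝒰 ≫ f) :=
    locP_precomp_openImm (openSubι X 𝒰) f hj hlfp
  have hopen := (isOpenMor_of_isUnivOpenMor hY
    (isUnivOpenMor_of_flat_lfp hX₁ hY (openSubι X 𝒰 ≫ f) hflat₁ hlfp₁)).isOpen_range
  have e : Set.range (Points.map (openSubι X 𝒰 ≫ f)) = Points.map f '' 𝒰 := by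
    have h1 : Points.map (openSubι X 𝒰 ≫ f) = Points.map f ∘ Points.map (openSubι X 𝒰) := by
      funext x
      exact Points.map_comp _ _ _
    rw [h1, Set.range_comp, range_map_openSubι X 𝒰]
  rwa [e] at hopen

variable {X' Y' Z' : Sp S} (hZ' : IsAlgSpace Z') (g : Z' ⟶ Z) (pY : Y' ⟶ Y) (h' : Y' ⟶ Z')
  (sqY : IsPullback pY h' h g) (pX : X' ⟶ X) (f' : X' ⟶ Y') (sqX : IsPullback pX f' f pY)

include hX hY hZ hZ' sqY sqX in
/-- Flatness at a point passes to base changes. -/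
theorem isFlatAtMor_baseChange (x' : Points X') (hx : IsFlatAtMor f (Points.map pX x')) :
    IsFlatAtMor f' x' := by
  obtain ⟨U, V, W, U'', V'', W'', a₀, b₀, c₀, kUV, kVW, a'', b'', c'', kUV'', kVW'', mU, mV, mW, w₀,
    ha₀e, hb₀e, hc₀e, ha''e, hb''e, hc''e, hwUV, hwVW, hwUV'', hwVW'', sqV, sqU, hpX, hpt⟩ :=
    exists_baseChange_chart2 hX hY hZ hZ' f h g pY h' sqY pX f' sqX x'
  have hpt2 : Points.ofPt a₀ (mU.left w₀) = Points.map pX x' := by
    rw [← Points.ofPt_yon_map_comp, ← hpX, ← Points.map_ofPt, hpt]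
  have h1 : FlatAt kUV.left (mU.left w₀) := hx a₀ b₀ kUV (mU.left w₀) ha₀e hb₀e hwUV hpt2
  have h2 : FlatAt kUV''.left w₀ := flatAt_baseChange sqU w₀ h1
  rw [← hpt]
  exact isFlatAtMor_of_chart f' a'' b'' kUV'' w₀ ha''e hb''e hwUV'' h2

include hX hY hZ hZ' sqY sqX in
/-- Under the hypotheses of the fibre criterion, flatness at a point descends along base
changes `Z' ⟶ Z`. -/
theorem isFlatAtMor_of_baseChange (hcrit : CritHyp.{u})
    (hfp : LocP @LocallyOfFinitePresentation (f ≫ h)) (hfl : LocP @Flat (f ≫ h))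
    (hft : LocP @LocallyOfFiniteType h) (x' : Points X') (hx' : IsFlatAtMor f' x') :
    IsFlatAtMor f (Points.map pX x') := by
  obtain ⟨U, V, W, U'', V'', W'', a₀, b₀, c₀, kUV, kVW, a'', b'', c'', kUV'', kVW'', mU, mV, mW, w₀,
    ha₀e, hb₀e, hc₀e, ha''e, hb''e, hc''e, hwUV, hwVW, hwUV'', hwVW'', sqV, sqU, hpX, hpt⟩ :=
    exists_baseChange_chart2 hX hY hZ hZ' f h g pY h' sqY pX f' sqX x'
  have hpt2 : Points.ofPt a₀ (mU.left w₀) = Points.map pX x' := by
    rw [← Points.ofPt_yon_map_comp, ← hpX, ← Points.map_ofPt, hpt]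
  have wcomp : a₀ ≫ (f ≫ h) = (yon S).map (kUV ≫ kVW) ≫ c₀ := by
    rw [← Category.assoc, hwUV, Category.assoc, hwVW, Functor.map_comp, Category.assoc]
  haveI : LocallyOfFinitePresentation (kUV.left ≫ kVW.left) :=
    hfp a₀ c₀ (kUV ≫ kVW) ha₀e hc₀e wcomp
  haveI : Flat (kUV.left ≫ kVW.left) := hfl a₀ c₀ (kUV ≫ kVW) ha₀e hc₀e wcomp
  haveI : LocallyOfFiniteType kVW.left := hft b₀ c₀ kVW hb₀e hc₀e hwVW
  have big : IsPullback mU.left (kUV''.left ≫ kVW''.left) (kUV.left ≫ kVW.left) mW.left :=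
    sqU.paste_vert sqV
  haveI : LocallyOfFinitePresentation (kUV''.left ≫ kVW''.left) :=
    MorphismProperty.of_isPullback big inferInstance
  haveI : Flat (kUV''.left ≫ kVW''.left) := MorphismProperty.of_isPullback big inferInstance
  haveI : LocallyOfFiniteType kVW''.left := MorphismProperty.of_isPullback sqV inferInstance
  have hc := hcrit kUV.left kVW.left
  have hc₁ := hcrit kUV''.left kVW''.left
  have h1 : FlatAt kUV''.left w₀ := hx' a'' b'' kUV'' w₀ ha''e hb''e hwUV'' hpt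
  have h2 : FlatAt kVW''.left (kUV''.left w₀) :=
    flatAt_of_comp_source kUV''.left kVW''.left w₀ h1 (flatAt_of_flat _ w₀)
  have h3 := (flatAt_of_baseChange hc hc₁ sqV sqU w₀ (flatAt_of_flat _ _) h1 h2).2
  rw [← hpt2]
  exact isFlatAtMor_of_chart f a₀ b₀ kUV (mU.left w₀) ha₀e hb₀e hwUV h3

end Main

end Groth.Agent.Lib.Helper15.AlgSpFlatAt
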