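import Mathlib

set_option autoImplicit false
universe u
open Polynomial

namespace Groth.Agent.Lib.Helper15.EtaleLiftRing

/-- a standard etale pair over `A ⧸ I` with `I ^ 2 = 0` lifts to `A` -/
theorem exists_lift_standardEtalePair {A : Type u} [CommRing A] (I : Ideal A) (hI : I ^ 2 = ⊥)
    (Q : StandardEtalePair (A ⧸ I)) :
    ∃ P : StandardEtalePair A, (P.map (Ideal.Quotient.mk I)).f = Q.f ∧
      (P.map (Ideal.Quotient.mk I)).g = Q.g := by
  have hsurj : Function.Surjective (Ideal.Quotient.mk I) := Ideal.Quotient.mk_surjective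
  have hmsurj : Function.Surjective (Polynomial.map (Ideal.Quotient.mk I)) :=
    Polynomial.map_surjective _ hsurj
  obtain ⟨f, hf, -, hfm⟩ := Polynomial.lifts_and_natDegree_eq_and_monic
    (f := Ideal.Quotient.mk I) (p := Q.f)
    ((Polynomial.mem_lifts _).2 (hmsurj Q.f)) Q.monic_f
  obtain ⟨g, hg⟩ := hmsurj Q.g
  obtain ⟨q₁, q₂, n, hq⟩ := Q.cond
  obtain ⟨p₁, hp₁⟩ := hmsurj q₁
  obtain ⟨p₂, hp₂⟩ := hmsurj q₂
  set ε : A[X] := derivative f * p₁ + f * p₂ - g ^ n with hε
  have hεmap : Polynomial.map (Ideal.Quotient.mk I) ε = 0 := by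
    rw [hε, Polynomial.map_sub, Polynomial.map_add, Polynomial.map_mul, Polynomial.map_mul,
      Polynomial.map_pow, ← Polynomial.derivative_map, hf, hg, hp₁, hp₂, hq, sub_self]
  have hεmem : ε ∈ Ideal.map (C : A →+* A[X]) I := by
    rw [Ideal.mem_map_C_iff]
    intro k
    have := congrArg (fun p => p.coeff k) hεmap
    simp only [Polynomial.coeff_map, Polynomial.coeff_zero] at this
    exact Ideal.Quotient.eq_zero_iff_mem.mp this
  have hε2 : ε * ε = 0 := by
    have h1 : ε * ε ∈ Ideal.map (C : A →+* A[X]) I * Ideal.map (C : A →+* A[X]) I :=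
      Ideal.mul_mem_mul hεmem hεmem
    rw [← Ideal.map_mul, ← pow_two, hI, Ideal.map_bot] at h1
    exact h1
  refine ⟨⟨f, hfm, g, p₁ * (g ^ n - ε), p₂ * (g ^ n - ε), 2 * n, ?_⟩, hf, hg⟩
  have h2 : derivative f * p₁ + f * p₂ = g ^ n + ε := by rw [hε]; ring
  calc derivative f * (p₁ * (g ^ n - ε)) + f * (p₂ * (g ^ n - ε))
      = (derivative f * p₁ + f * p₂) * (g ^ n - ε) := by ring
    _ = (g ^ n + ε) * (g ^ n - ε) := by rw [h2]
    _ = g ^ (2 * n) - ε * ε := by ring
    _ = g ^ (2 * n) := by rw [hε2, sub_zero]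

end Groth.Agent.Lib.Helper15.EtaleLiftRing

namespace Groth.Agent.Lib.Helper15.EtaleLiftRing
open CategoryTheory CategoryTheory.Limits TensorProduct

theorem exists_lift_standardEtalePair' {A : Type u} [CommRing A] (I : Ideal A) (hI : I ^ 2 = ⊥)
    (Q : StandardEtalePair (A ⧸ I)) :
    ∃ P : StandardEtalePair A, P.map (algebraMap A (A ⧸ I)) = Q := by
  obtain ⟨P, hf, hg⟩ := exists_lift_standardEtalePair I hI Q
  refine ⟨P, ?_⟩
  obtain ⟨Qf, Qm, Qg, Qc⟩ := Q
  simp only [StandardEtalePair.map_f, StandardEtalePair.map_g] at hf hg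
  subst hf hg
  rfl

set_option backward.isDefEq.respectTransparency.types false in
/-- lifting a standard etale algebra along a square-zero quotient, as a pushout square of rings -/
theorem exists_etale_lift_isPushout {A : Type u} [CommRing A] (I : Ideal A) (hI : I ^ 2 = ⊥)
    (B₀ : Type u) [CommRing B₀] [Algebra (A ⧸ I) B₀] [Algebra.IsStandardEtale (A ⧸ I) B₀] :
    ∃ (B : Type u) (_ : CommRing B) (_ : Algebra A B) (_ : Algebra.Etale A B) (φ : B →+* B₀),
      IsPushout (CommRingCat.ofHom (algebraMap A B)) (CommRingCat.ofHom (Ideal.Quotient.mk I))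
        (CommRingCat.ofHom φ) (CommRingCat.ofHom (algebraMap (A ⧸ I) B₀)) := by
  let pres : StandardEtalePresentation (A ⧸ I) B₀ :=
    Algebra.IsStandardEtale.nonempty_standardEtalePresentation.some
  obtain ⟨P, hP⟩ := exists_lift_standardEtalePair' I hI pres.P
  let presP : StandardEtalePresentation A P.Ring :=
    ⟨P, P.X, P.hasMap_X, by simpa [StandardEtalePair.lift_X_left] using Function.bijective_id⟩
  let presBC : StandardEtalePresentation (A ⧸ I) ((A ⧸ I) ⊗[A] P.Ring) := presP.baseChange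
  have hbc : presBC.P = pres.P := hP
  let e1 : ((A ⧸ I) ⊗[A] P.Ring) ≃ₐ[A ⧸ I] presBC.P.Ring := presBC.equivRing
  let e2 : presBC.P.Ring ≃ₐ[A ⧸ I] pres.P.Ring := hbc ▸ AlgEquiv.refl
  let e : ((A ⧸ I) ⊗[A] P.Ring) ≃ₐ[A ⧸ I] B₀ := (e1.trans e2).trans pres.equivRing.symm
  refine ⟨P.Ring, inferInstance, inferInstance, inferInstance,
    e.toRingEquiv.toRingHom.comp Algebra.TensorProduct.includeRight.toRingHom, ?_⟩
  have h0 := (CommRingCat.isPushout_tensorProduct A (A ⧸ I) P.Ring).flip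
  refine h0.of_iso (Iso.refl _) (Iso.refl _) (Iso.refl _) e.toRingEquiv.toCommRingCatIso ?_ ?_ ?_ ?_
  · simp
  · simp
  · ext x
    simp
  · ext x
    simp
    exact e.commutes x

end Groth.Agent.Lib.Helper15.EtaleLiftRing
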