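import Mathlib
import Groth.Agent.Lib.Helper15.EtaleLiftRing

set_option autoImplicit false
set_option backward.isDefEq.respectTransparency.types false
universe u
open CategoryTheory CategoryTheory.Limits AlgebraicGeometry Opposite

namespace Groth.Agent.Lib.Helper15.EtaleLiftSch

/-- local lifting of etale schemes along a square-zero thickening of affine schemes -/
theorem exists_etale_lift_nhd {A : Type u} [CommRing A] (I : Ideal A) (hI : I ^ 2 = ⊥)
    {P₀ : Scheme.{u}} (p₀ : P₀ ⟶ Spec (CommRingCat.of (A ⧸ I))) [Etale p₀] (x : P₀) :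
    ∃ (U : Scheme.{u}) (u : U ⟶ Spec (CommRingCat.of A)) (W₀ : Scheme.{u}) (s : W₀ ⟶ U)
      (c : W₀ ⟶ P₀), IsAffine U ∧ Etale u ∧ IsOpenImmersion c ∧
      IsPullback s (c ≫ p₀) u (Spec.map (CommRingCat.ofHom (Ideal.Quotient.mk I))) ∧
      x ∈ Set.range c := by
  obtain ⟨_, ⟨U₁', hU₁', rfl⟩, hxU₁, -⟩ :=
    P₀.isBasis_affineOpens.exists_subset_of_mem_open (Set.mem_univ x) isOpen_univ
  let U₁ : P₀.affineOpens := ⟨U₁', hU₁'⟩
  have hU₁ : IsAffineOpen U₁.1 := hU₁'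
  let Rb := A ⧸ I
  let B₁ := Γ(P₀, U₁.1)
  let ψ : Rb →+* B₁ := (p₀.appLE ⊤ U₁.1 le_top).hom.comp
    (Scheme.ΓSpecIso (CommRingCat.of Rb)).inv.hom
  have hφ₁ : (p₀.appLE ⊤ U₁.1 le_top).hom.Etale :=
    HasRingHomProperty.appLE (P := @Etale) p₀ inferInstance ⟨⊤, isAffineOpen_top _⟩ U₁ le_top
  have hψ : ψ.Etale :=
    RingHom.Etale.respectsIso.2 _ (Scheme.ΓSpecIso (CommRingCat.of Rb)).symm.commRingCatIsoToRingEquiv hφ₁
  let algRbB₁ : Algebra Rb B₁ := ψ.toAlgebra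
  have hEt : Algebra.Etale Rb B₁ := hψ
  let q : PrimeSpectrum B₁ := hU₁.primeIdealOf ⟨x, hxU₁⟩
  have hEtAt : Algebra.IsEtaleAt Rb q.asIdeal := inferInstance
  obtain ⟨f, hfq, hstd⟩ := Algebra.IsEtaleAt.exists_isStandardEtale (R := Rb) q.asIdeal
  let U₀ : P₀.Opens := P₀.basicOpen f
  have hU₀ : IsAffineOpen U₀ := hU₁.basicOpen f
  let B₀ := Γ(P₀, U₀)
  have hloc : IsLocalization.Away f B₀ := hU₁.isLocalization_basicOpen f
  let algRbB₀ : Algebra Rb B₀ := ((algebraMap B₁ B₀).comp ψ).toAlgebra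
  have hst : IsScalarTower Rb B₁ B₀ := IsScalarTower.of_algebraMap_eq' rfl
  let e : Localization.Away f ≃ₐ[B₁] B₀ := IsLocalization.algEquiv (Submonoid.powers f) _ _
  have hstdB₀ : Algebra.IsStandardEtale Rb B₀ := Algebra.IsStandardEtale.of_equiv (e.restrictScalars Rb)
  obtain ⟨B, _, _, hBet, φ, hpo⟩ :=
    Groth.Agent.Lib.Helper15.EtaleLiftRing.exists_etale_lift_isPushout I hI B₀
  have hpb := isPullback_SpecMap_of_isPushout _ _ _ _ hpo
  have hxU₀ : x ∈ U₀ := by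
    have h1 : hU₁.fromSpec q = x := hU₁.fromSpec_primeIdealOf ⟨x, hxU₁⟩
    have h2 : q ∈ hU₁.fromSpec ⁻¹ᵁ P₀.basicOpen f := by
      rw [hU₁.fromSpec_preimage_basicOpen]
      exact hfq
    rw [← h1]
    exact h2
  have hcomp : hU₀.fromSpec ≫ p₀ = Spec.map (CommRingCat.ofHom (algebraMap Rb B₀)) := by
    rw [← IsAffineOpen.SpecMap_appLE_fromSpec p₀ (isAffineOpen_top _) hU₀ le_top,
      IsAffineOpen.fromSpec_top, Scheme.isoSpec_Spec_inv, ← Spec.map_comp]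
    congr 1
    have h1 : p₀.appLE ⊤ U₀ le_top =
        p₀.appLE ⊤ U₁.1 le_top ≫ P₀.presheaf.map (homOfLE (P₀.basicOpen_le f)).op :=
      (Scheme.Hom.appLE_map _ _ _).symm
    rw [h1]
    rfl
  refine ⟨Spec (CommRingCat.of B), Spec.map (CommRingCat.ofHom (algebraMap A B)),
    Spec (CommRingCat.of B₀), Spec.map (CommRingCat.ofHom φ), hU₀.fromSpec, inferInstance, ?_,
    inferInstance, ?_, ?_⟩
  · rw [HasRingHomProperty.Spec_iff (P := @Etale), CommRingCat.hom_ofHom,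
      RingHom.etale_algebraMap]
    exact hBet
  · rw [hcomp]
    exact hpb
  · rw [hU₀.range_fromSpec]
    exact hxU₀

end Groth.Agent.Lib.Helper15.EtaleLiftSch
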