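import Mathlib
import Groth.Prelude.Def_AlgSpInf
import Groth.Agent.Lib.Helper15.AlgSpFormal
import Groth.Agent.Lib.Helper15.EtaleLiftSch

set_option autoImplicit false
set_option backward.isDefEq.respectTransparency.types false
universe u
open CategoryTheory CategoryTheory.Limits AlgebraicGeometry Opposite
open AlgSp
open Groth.Agent.Lib.Helper9.AlgSpFU Groth.Agent.Lib.Helper9.AlgSpGlue Groth.Agent.Lib.Helper9.AlgSpFE
open Groth.Agent.Lib.Helper15.AlgSpFormal

namespace Groth.Agent.Lib.Helper15.AlgSpFormal2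

variable {S : Scheme.{u}}

/-- (5), existence part -/
theorem hasLift_of_comp {F G H : Sp S} (a : F ⟶ G) (b : G ⟶ H)
    (ha : RepWith @Etale a) (ha' : RepWith @Surjective a)
    (hab : IsFormallyEtaleMor (a ≫ b)) (hb : IsFormallyUnramifiedMor b) (sq : InfSq b) :
    sq.HasLift := by
  have hrep : Representable a := ha.rep
  let P₀ : Over S := hrep.pullback sq.top
  let p₀ : P₀ ⟶ sq.ptT := hrep.snd sq.top
  let q₀ : (yon S).obj P₀ ⟶ F := hrep.fst sq.top
  have hpb₀ : IsPullback q₀ ((yon S).map p₀) a sq.top := hrep.isPullback sq.top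
  have hp₀e : Etale p₀.left := ha.2 _ _ _ hpb₀
  have hp₀s : Surjective p₀.left := ha'.2 _ _ _ hpb₀
  have key := fun x : P₀.left =>
    Groth.Agent.Lib.Helper15.EtaleLiftSch.exists_etale_lift_nhd sq.I sq.sq_zero p₀.left x
  choose U u W₀ s c hUaff hue hc hpb hx using key
  -- objects over `S`
  let UO : P₀.left → Over S := fun x => Over.mk (u x ≫ sq.str)
  let uO : ∀ x, UO x ⟶ sq.ptT' := fun x => Over.homMk (u x) rfl
  let WO : P₀.left → Over S := fun x => Over.mk (c x ≫ P₀.hom)
  let cO : ∀ x, WO x ⟶ P₀ := fun x => Over.homMk (c x) rfl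
  have hsw : ∀ x, s x ≫ (UO x).hom = (WO x).hom := by
    intro x
    change s x ≫ u x ≫ sq.str = c x ≫ P₀.hom
    rw [← Category.assoc, (hpb x).w, Category.assoc, Category.assoc]
    congr 1
    exact Over.w p₀
  let sO : ∀ x, WO x ⟶ UO x := fun x => Over.homMk (s x) (hsw x)
  have hcommO : ∀ x, sO x ≫ uO x = (cO x ≫ p₀) ≫ sq.j := by
    intro x
    ext
    exact (hpb x).w
  have hpbO : ∀ x, IsPullback (sO x) (cO x ≫ p₀) (uO x) sq.j := fun x =>
    IsPullback.of_map (Over.forget S) (hcommO x) (hpb x)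
  have hpbY : ∀ x, IsPullback ((yon S).map (cO x ≫ p₀)) ((yon S).map (sO x))
      ((yon S).map sq.j) ((yon S).map (uO x)) := fun x => ((hpbO x).map (yon S)).flip
  have hUO : ∀ x, IsAffine (UO x).left := fun x => hUaff x
  have hsK : ∀ x, IsClosedImmersion (sO x).left ∧ sqZero (sO x).left := fun x => by
    have := hUaff x
    exact sqZero_of_isPullback sq.I sq.sq_zero (u x) (s x) (c x ≫ p₀.left) (hpb x)
  -- local lifts
  have hloc : ∀ x, ∃ g : (yon S).obj (UO x) ⟶ G,
      IsLift b ((yon S).map sq.j) sq.top sq.bot ((yon S).map (uO x)) g := by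
    intro x
    have w : ((yon S).map (cO x) ≫ q₀) ≫ (a ≫ b) =
        (yon S).map (sO x) ≫ ((yon S).map (uO x) ≫ sq.bot) := by
      rw [Category.assoc, ← Category.assoc q₀, hpb₀.w, Category.assoc, sq.comm,
        ← Category.assoc, ← Category.assoc, ← Functor.map_comp, ← Functor.map_comp,
        ← Category.assoc, ← Functor.map_comp, hcommO x]
    obtain ⟨m, ⟨hm1, hm2⟩, -⟩ := existsUnique_of_affine_sqZero (a ≫ b) hab (hUO x) (sO x)
      (hsK x).1 (hsK x).2 ((yon S).map (cO x) ≫ q₀) ((yon S).map (uO x) ≫ sq.bot) w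
    refine ⟨m ≫ a, (isLift_iff_of_isPullback (hpbY x) (m ≫ a)).2 ⟨?_, ?_⟩⟩
    · rw [← Category.assoc, hm1, Category.assoc, hpb₀.w, Functor.map_comp, Category.assoc]
    · rw [Category.assoc, hm2]
  choose g hg using hloc
  -- covering properties
  have hsurjU : ∀ y : sq.ptT'.left, ∃ x, y ∈ Set.range (uO x).left := by
    intro y
    obtain ⟨y₀, hy₀⟩ := Groth.Agent.S1487.surjective_SpecMap_mk sq.I sq.sq_zero y
    obtain ⟨x, hxy⟩ := hp₀s.surj y₀
    obtain ⟨w, hw⟩ := hx x
    refine ⟨x, s x w, ?_⟩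
    change (s x ≫ u x) w = y
    rw [(hpb x).w]
    change Spec.map _ (p₀.left (c x w)) = y
    rw [hw, hxy, hy₀]
  have hflatU : ∀ x, Flat (uO x).left := fun x => by
    have := hue x
    exact inferInstanceAs (Flat (u x))
  have hlfpU : ∀ x, LocallyOfFinitePresentation (uO x).left := fun x => by
    have := hue x
    exact inferInstanceAs (LocallyOfFinitePresentation (u x))
  -- glue
  obtain ⟨l, hl⟩ := exists_glue_of_cover UO uO hsurjU hflatU hlfpU g (by
    intro x x' W gi gj hgg
    have h1 := (hg x).restrict gi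
    have h2 := (hg x').restrict gj
    rw [← Functor.map_comp] at h1 h2
    rw [← hgg] at h2
    exact isLift_unique_of_formallyUnramified b hb sq (gi ≫ uO x) _ _ h1 h2)
  refine ⟨l, ?_, ?_⟩
  · -- restriction to `T`
    have hsurjW : ∀ y : sq.ptT.left, ∃ x, y ∈ Set.range (cO x ≫ p₀).left := by
      intro y
      obtain ⟨x, hxy⟩ := hp₀s.surj y
      obtain ⟨w, hw⟩ := hx x
      refine ⟨x, w, ?_⟩
      change p₀.left (c x w) = y
      rw [hw, hxy]
    have hflatW : ∀ x, Flat (cO x ≫ p₀).left := fun x => by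
      have := hc x
      exact inferInstanceAs (Flat (c x ≫ p₀.left))
    have hlfpW : ∀ x, LocallyOfFinitePresentation (cO x ≫ p₀).left := fun x => by
      have := hc x
      exact inferInstanceAs (LocallyOfFinitePresentation (c x ≫ p₀.left))
    apply hom_ext_of_cover WO (fun x => cO x ≫ p₀) hsurjW hflatW hlfpW
    intro x
    rw [← Category.assoc, ← Functor.map_comp, ← hcommO x, Functor.map_comp, Category.assoc, hl x]
    exact (hg x).2 (WO x) ((yon S).map (cO x ≫ p₀)) (sO x)
      (by rw [← Functor.map_comp, ← Functor.map_comp, hcommO x])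
  · apply hom_ext_of_cover UO uO hsurjU hflatU hlfpU
    intro x
    rw [← Category.assoc, hl x]
    exact (hg x).1

end Groth.Agent.Lib.Helper15.AlgSpFormal2

namespace Groth.Agent.Lib.Helper15.AlgSpFormal2

variable {S : Scheme.{u}}

theorem isFormallyUnramifiedMor_of_isFormallyEtaleMor {F G : Sp S} {f : F ⟶ G}
    (hf : IsFormallyEtaleMor f) : IsFormallyUnramifiedMor f :=
  fun sq l l' h1 h2 h3 h4 => (hf sq).unique ⟨h1, h2⟩ ⟨h3, h4⟩

theorem isFormallySmoothMor_of_isFormallyEtaleMor {F G : Sp S} {f : F ⟶ G}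
    (hf : IsFormallyEtaleMor f) : IsFormallySmoothMor f :=
  fun sq => (hf sq).exists

/-- (5): if `a` is representable etale surjective and `a ≫ b` is formally etale, so is `b`. -/
theorem isFormallyEtaleMor_of_comp {F G H : Sp S} (a : F ⟶ G) (b : G ⟶ H)
    (ha : RepWith @Etale a) (ha' : RepWith @Surjective a)
    (hab : IsFormallyEtaleMor (a ≫ b)) : IsFormallyEtaleMor b := by
  have hb := isFormallyUnramifiedMor_of_comp a b ha ha'
    (isFormallyUnramifiedMor_of_isFormallyEtaleMor hab)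
  intro sq
  obtain ⟨l, h1, h2⟩ := hasLift_of_comp a b ha ha' hab hb sq
  exact ⟨l, ⟨h1, h2⟩, fun l' h' => hb sq l' l h'.1 h'.2 h1 h2⟩

end Groth.Agent.Lib.Helper15.AlgSpFormal2
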