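import Mathlib
import Groth.Prelude.Def_AlgSpInf
import Groth.Agent.Lib.Helper15.AlgSpFormal2

set_option autoImplicit false
set_option backward.isDefEq.respectTransparency.types false
universe u
open CategoryTheory CategoryTheory.Limits AlgebraicGeometry Opposite
open AlgSp

namespace Groth.Agent.Lib.Helper15.AlgSpFormal3

variable {S : Scheme.{u}}

/-- the square of an affine lifting problem for a morphism of schemes over `S` -/
noncomputable def infSqOfScheme {U V : Over S} (h : U ⟶ V) (A : Type u) [CommRing A] (I : Ideal A)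
    (hI : I ^ 2 = ⊥) (a₀ : Spec (CommRingCat.of (A ⧸ I)) ⟶ U.left)
    (b₀ : Spec (CommRingCat.of A) ⟶ V.left)
    (w : Spec.map (CommRingCat.ofHom (Ideal.Quotient.mk I)) ≫ b₀ = a₀ ≫ h.left) :
    InfSq ((yon S).map h) where
  A := A
  I := I
  sq_zero := hI
  str := b₀ ≫ V.hom
  top := (yon S).map (Over.homMk a₀ (by
    change a₀ ≫ U.hom = Spec.map (CommRingCat.ofHom (Ideal.Quotient.mk I)) ≫ b₀ ≫ V.hom
    rw [← Category.assoc, w, Category.assoc, Over.w h]))
  bot := (yon S).map (Over.homMk b₀ rfl)
  comm := by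
    rw [← Functor.map_comp, ← Functor.map_comp]
    congr 1
    ext
    exact w.symm

theorem isFormallyEtaleMor_yon_map_iff {U V : Over S} (h : U ⟶ V) :
    IsFormallyEtaleMor ((yon S).map h) ↔ MoreMor.IsFormallyEtaleHom h.left := by
  constructor
  · intro hh A _ I hI a₀ b₀ w
    let sq := infSqOfScheme h A I hI a₀ b₀ w
    obtain ⟨l, ⟨hl1, hl2⟩, hlu⟩ := hh sq
    obtain ⟨L, rfl⟩ := (yon S).map_surjective l
    have hL1 : sq.j ≫ L = Over.homMk a₀ _ := (yon S).map_injective (by rw [Functor.map_comp]; exact hl1)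
    have hL2 : L ≫ h = Over.homMk b₀ rfl := (yon S).map_injective (by rw [Functor.map_comp]; exact hl2)
    refine ⟨L.left, ⟨congrArg (fun φ => φ.left) hL1, congrArg (fun φ => φ.left) hL2⟩, ?_⟩
    rintro l' ⟨h1, h2⟩
    have hw' : l' ≫ U.hom = sq.ptT'.hom := by
      change l' ≫ U.hom = b₀ ≫ V.hom
      rw [← Over.w h, ← Category.assoc, h2]
    let L' : sq.ptT' ⟶ U := Over.homMk l' hw'
    have := hlu ((yon S).map L') ⟨by
      rw [← Functor.map_comp]
      congr 1
      ext
      exact h1, by
      rw [← Functor.map_comp]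
      congr 1
      ext
      exact h2⟩
    exact congrArg (fun φ => φ.left) ((yon S).map_injective this)
  · intro hh sq
    obtain ⟨t, ht⟩ := (yon S).map_surjective sq.top
    obtain ⟨b', hb'⟩ := (yon S).map_surjective sq.bot
    have hcomm : sq.j ≫ b' = t ≫ h := by
      apply (yon S).map_injective
      rw [Functor.map_comp, Functor.map_comp, ht, hb', sq.comm]
    obtain ⟨l, ⟨hl1, hl2⟩, hlu⟩ := hh sq.A sq.I sq.sq_zero t.left b'.left
      (congrArg (fun φ => φ.left) hcomm)
    have hw : l ≫ U.hom = sq.ptT'.hom := by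
      rw [← Over.w h, ← Category.assoc, hl2]
      exact Over.w b'
    let L : sq.ptT' ⟶ U := Over.homMk l hw
    refine ⟨(yon S).map L, ⟨?_, ?_⟩, ?_⟩
    · rw [← ht, ← Functor.map_comp]
      congr 1
      ext
      exact hl1
    · rw [← hb', ← Functor.map_comp]
      congr 1
      ext
      exact hl2
    · rintro l' ⟨h1, h2⟩
      obtain ⟨L', rfl⟩ := (yon S).map_surjective l'
      congr 1
      ext
      apply hlu
      refine ⟨?_, ?_⟩
      · have : sq.j ≫ L' = t := (yon S).map_injective (by rw [Functor.map_comp, h1, ht])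
        exact congrArg (fun φ => φ.left) this
      · have : L' ≫ h = b' := (yon S).map_injective (by rw [Functor.map_comp, h2, hb'])
        exact congrArg (fun φ => φ.left) this

end Groth.Agent.Lib.Helper15.AlgSpFormal3
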