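import Mathlib
import Groth.Prelude.Def_AlgSpInf
import Groth.Agent.Lib.Helper15.AlgSpFormal3

set_option autoImplicit false
set_option backward.isDefEq.respectTransparency.types false
universe u
open CategoryTheory CategoryTheory.Limits AlgebraicGeometry Opposite
open AlgSp
open Groth.Agent.Lib.Helper15.AlgSpFormal

namespace Groth.Agent.Lib.Helper15.AlgSpFormal4

variable {S : Scheme.{u}}

theorem isFormallyUnramifiedMor_yon_map_iff {U V : Over S} (h : U ⟶ V) :
    IsFormallyUnramifiedMor ((yon S).map h) ↔ FormallyUnramified h.left := by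
  constructor
  · intro hh
    apply FormallyUnramified.of_hom_ext
    intro R T φ hφ hker g₁ g₂ hg hgh
    let I : Ideal R := RingHom.ker φ.hom
    let e : (R ⧸ I) ≃+* T := RingHom.quotientKerEquivOfSurjective hφ
    have hmk : CommRingCat.ofHom (Ideal.Quotient.mk I) = φ ≫ CommRingCat.ofHom e.symm.toRingHom := by
      ext x
      change Ideal.Quotient.mk I x = e.symm (φ.hom x)
      rw [RingEquiv.eq_symm_apply]
      rfl
    have hg' : Spec.map (CommRingCat.ofHom (Ideal.Quotient.mk I)) ≫ g₁ =
        Spec.map (CommRingCat.ofHom (Ideal.Quotient.mk I)) ≫ g₂ := by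
      rw [hmk, Spec.map_comp, Category.assoc, Category.assoc, hg]
    have hstr : g₂ ≫ U.hom = g₁ ≫ U.hom := by
      rw [← Over.w h, ← Category.assoc, ← Category.assoc, hgh]
    let sq : InfSq ((yon S).map h) :=
      { A := R
        I := I
        sq_zero := hker
        str := g₁ ≫ U.hom
        top := (yon S).map (Over.homMk (Spec.map (CommRingCat.ofHom (Ideal.Quotient.mk I)) ≫ g₁)
          (by simp))
        bot := (yon S).map (Over.homMk (g₁ ≫ h.left) (by simp))
        comm := by
          rw [← Functor.map_comp, ← Functor.map_comp]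
          congr 1 }
    let L₁ : sq.ptT' ⟶ U := Over.homMk g₁ rfl
    let L₂ : sq.ptT' ⟶ U := Over.homMk g₂ hstr
    have key := hh sq ((yon S).map L₁) ((yon S).map L₂)
      (by rw [← Functor.map_comp]; congr 1)
      (by rw [← Functor.map_comp]; congr 1)
      (by rw [← Functor.map_comp]; congr 1; ext; exact hg'.symm)
      (by rw [← Functor.map_comp]; congr 1; ext; exact hgh.symm)
    exact congrArg (fun φ => φ.left) ((yon S).map_injective key)
  · intro hh sq l l' h1 h2 h3 h4
    obtain ⟨L, rfl⟩ := (yon S).map_surjective l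
    obtain ⟨L', rfl⟩ := (yon S).map_surjective l'
    congr 1
    have e1 : sq.j ≫ L = sq.j ≫ L' := (yon S).map_injective (by
      rw [Functor.map_comp, Functor.map_comp, h1, h3])
    have e2 : L ≫ h = L' ≫ h := (yon S).map_injective (by
      rw [Functor.map_comp, Functor.map_comp, h2, h4])
    ext
    have hci : IsClosedImmersion (Spec.map (CommRingCat.ofHom (Ideal.Quotient.mk sq.I))) :=
      IsClosedImmersion.spec_of_surjective _ Ideal.Quotient.mk_surjective
    refine FormallyUnramified.hom_ext (Spec.map (CommRingCat.ofHom (Ideal.Quotient.mk sq.I)))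
      ⟨2, ?_⟩ h.left (congrArg (fun φ => φ.left) e1) (congrArg (fun φ => φ.left) e2)
    rw [pow_two]
    exact ker_SpecMap_mk_sq sq.I sq.sq_zero

end Groth.Agent.Lib.Helper15.AlgSpFormal4
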