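import Groth.Agent.S0114
import Groth.Agent.Lib.Helper15.FppfFT
import Groth.Agent.Lib.Helper15.AlgSpFibreCrit

/-!
# Helper15 — descent of lfp / lft along fppf coverings of the source, for algebraic spaces.
-/

set_option autoImplicit false
universe u
open CategoryTheory CategoryTheory.Limits AlgebraicGeometry
open AlgSp

namespace Groth.Agent.Lib.Helper15.AlgSpFppfSrc

open Groth.Agent.Lib.Helper3 Groth.Agent.Lib.Helper15
set_option backward.isDefEq.respectTransparency.types false

section Sch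

/-- A property of scheme morphisms descends along jointly surjective flat lfp families on the source. -/
def FamDesc (P : MorphismProperty Scheme.{u}) : Prop :=
  ∀ {ι : Type u} {Y T : Scheme.{u}} (Xi : ι → Scheme.{u}) (f : ∀ i, Xi i ⟶ Y) (q : Y ⟶ T),
    (∀ i, Flat (f i)) → (∀ i, LocallyOfFinitePresentation (f i)) →
    (∀ y : Y, ∃ i, y ∈ Set.range (f i)) → (∀ i, P (f i ≫ q)) → P q

theorem surjective_sigmaDesc {ι : Type u} {Y : Scheme.{u}} (Xi : ι → Scheme.{u})
    (f : ∀ i, Xi i ⟶ Y) (hs : ∀ y : Y, ∃ i, y ∈ Set.range (f i)) :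
    Surjective (Sigma.desc f) := by
  refine ⟨fun y => ?_⟩
  obtain ⟨i, x, rfl⟩ := hs y
  refine ⟨Sigma.ι Xi i x, ?_⟩
  rw [← Scheme.Hom.comp_apply, Sigma.ι_desc]

theorem famDesc_lfp : FamDesc.{u} @LocallyOfFinitePresentation := by
  intro ι Y T Xi f q hfl hfp hs hc
  haveI : Surjective (Sigma.desc f) := surjective_sigmaDesc Xi f hs
  haveI : Flat (Sigma.desc f) := IsZariskiLocalAtSource.sigmaDesc hfl
  haveI : LocallyOfFinitePresentation (Sigma.desc f) := IsZariskiLocalAtSource.sigmaDesc hfp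
  haveI : LocallyOfFinitePresentation (Sigma.desc f ≫ q) := by
    have e : Sigma.desc f ≫ q = Sigma.desc fun i => f i ≫ q := by
      apply Sigma.hom_ext
      intro i
      rw [Sigma.ι_desc_assoc, Sigma.ι_desc]
    rw [e]
    exact IsZariskiLocalAtSource.sigmaDesc hc
  exact Groth.Agent.S0114.result (Sigma.desc f) q

theorem famDesc_lft : FamDesc.{u} @LocallyOfFiniteType := by
  intro ι Y T Xi f q hfl hfp hs hc
  haveI : Surjective (Sigma.desc f) := surjective_sigmaDesc Xi f hs
  haveI : Flat (Sigma.desc f) := IsZariskiLocalAtSource.sigmaDesc hfl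
  haveI : LocallyOfFinitePresentation (Sigma.desc f) := IsZariskiLocalAtSource.sigmaDesc hfp
  haveI : LocallyOfFiniteType (Sigma.desc f ≫ q) := by
    have e : Sigma.desc f ≫ q = Sigma.desc fun i => f i ≫ q := by
      apply Sigma.hom_ext
      intro i
      rw [Sigma.ι_desc_assoc, Sigma.ι_desc]
    rw [e]
    exact IsZariskiLocalAtSource.sigmaDesc hc
  exact FppfFT.locallyOfFiniteType_of_fppf_comp (Sigma.desc f) q

end Sch

variable {S : Scheme.{u}}

/-- Descent along an fppf covering of the source, for algebraic spaces. -/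
theorem locP_of_fppf_cover {P : MorphismProperty Scheme.{u}} (hP : FamDesc P)
    {ι : Type u} {X Y : Sp S} (Xi : ι → Sp S) (g : ∀ i, Xi i ⟶ X) (hX : IsAlgSpace X)
    (hXi : ∀ i, IsAlgSpace (Xi i)) (hgfl : ∀ i, LocP @Flat (g i))
    (hgfp : ∀ i, LocP @LocallyOfFinitePresentation (g i))
    (hs : ∀ x : Points X, ∃ i, x ∈ Set.range (Points.map (g i)))
    (f : X ⟶ Y) (hc : ∀ i, LocP P (g i ≫ f)) : LocP P f := by
  intro U V a b k ha hb w
  have hch : ∀ u : U.left, ∃ (i : ι) (U' : Over S) (a' : (yon S).obj U' ⟶ Xi i) (h' : U' ⟶ U),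
      RepWith @Etale a' ∧ a' ≫ g i = (yon S).map h' ≫ a ∧ u ∈ Set.range h'.left := by
    intro u
    obtain ⟨i, xi, hxi⟩ := hs (Points.ofPt a u)
    obtain ⟨U', c, h', -, hcs, hae, -, hh, wh⟩ := exists_chart_over (hXi i) hX (g i) a ha
    refine ⟨i, U', _, h', hae, wh, ?_⟩
    have sq := IsPullback.of_hasPullback (g i) a
    obtain ⟨p, -, hp2⟩ := Points.exists_of_isPullback sq xi (Points.ofScheme U u)
      (by rw [hxi, Points.map_ofPt, Category.id_comp])
    obtain ⟨u', hu'⟩ := exists_ofPt_eq c hcs p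
    refine ⟨u', ?_⟩
    have e1 : Points.ofScheme U (h'.left u') = Points.ofScheme U u := by
      rw [← hp2, ← hu', Points.map_ofPt, ← hh]
      show Points.ofPt (𝟙 _) (h'.left u') = _
      rw [← Points.ofPt_yon_map_comp, Category.comp_id]
    have := congrArg (Points.toScheme U) e1
    rwa [Points.toScheme_ofScheme, Points.toScheme_ofScheme] at this
  choose i U' a' h' ha'e wa' hu using hch
  refine hP (fun u => (U' u).left) (fun u => (h' u).left) k.left
    (fun u => hgfl (i u) (a' u) a (h' u) (ha'e u) ha (wa' u))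
    (fun u => hgfp (i u) (a' u) a (h' u) (ha'e u) ha (wa' u))
    (fun u => ⟨u, hu u⟩) (fun u => ?_)
  have := hc (i u) (a' u) b (h' u ≫ k) (ha'e u) hb (by
    rw [← Category.assoc, wa' u, Category.assoc, w, Functor.map_comp, Category.assoc])
  rwa [Over.comp_left] at this

end Groth.Agent.Lib.Helper15.AlgSpFppfSrc
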