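import Groth.Agent.S0115
import Groth.Agent.S1180
import Groth.Agent.Lib.Helper15.AlgSpFppfSrc

/-!
# Helper15 — descent of smooth / etale along fppf coverings of the source.
-/

set_option autoImplicit false
universe u
open CategoryTheory CategoryTheory.Limits AlgebraicGeometry
open AlgSp

namespace Groth.Agent.Lib.Helper15.AlgSpFppfSrc

open Groth.Agent.Lib.Helper3 Groth.Agent.Lib.Helper15
set_option backward.isDefEq.respectTransparency.types false

theorem famDesc_smooth : FamDesc.{u} @Smooth := by
  intro ι Y T Xi f q hfl hfp hs hc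
  haveI : Surjective (Sigma.desc f) := surjective_sigmaDesc Xi f hs
  haveI : Flat (Sigma.desc f) := IsZariskiLocalAtSource.sigmaDesc hfl
  haveI : LocallyOfFinitePresentation (Sigma.desc f) := IsZariskiLocalAtSource.sigmaDesc hfp
  haveI : Smooth (Sigma.desc f ≫ q) := by
    have e : Sigma.desc f ≫ q = Sigma.desc fun i => f i ≫ q := by
      apply Sigma.hom_ext
      intro i
      rw [Sigma.ι_desc_assoc, Sigma.ι_desc]
    rw [e]
    exact IsZariskiLocalAtSource.sigmaDesc hc
  exact Groth.Agent.S0115.result (Sigma.desc f) q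

theorem etale_of_fppf_comp {X Y T : Scheme.{u}} (f : X ⟶ Y) (q : Y ⟶ T) [Surjective f] [Flat f]
    [LocallyOfFinitePresentation f] [Etale (f ≫ q)] : Etale q := by
  haveI : FormallyUnramified f := FormallyUnramified.of_comp f q
  haveI : Etale f := Etale.of_formallyUnramified_of_flat f
  haveI : Smooth q := Groth.Agent.S0115.result f q
  haveI : FormallyUnramified q := (Groth.Agent.S1180.result f q).1
  exact Etale.of_formallyUnramified_of_flat q

theorem famDesc_etale : FamDesc.{u} @Etale := by
  intro ι Y T Xi f q hfl hfp hs hc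
  haveI : Surjective (Sigma.desc f) := surjective_sigmaDesc Xi f hs
  haveI : Flat (Sigma.desc f) := IsZariskiLocalAtSource.sigmaDesc hfl
  haveI : LocallyOfFinitePresentation (Sigma.desc f) := IsZariskiLocalAtSource.sigmaDesc hfp
  haveI : Etale (Sigma.desc f ≫ q) := by
    have e : Sigma.desc f ≫ q = Sigma.desc fun i => f i ≫ q := by
      apply Sigma.hom_ext
      intro i
      rw [Sigma.ι_desc_assoc, Sigma.ι_desc]
    rw [e]
    exact IsZariskiLocalAtSource.sigmaDesc hc
  exact etale_of_fppf_comp (Sigma.desc f) q

end Groth.Agent.Lib.Helper15.AlgSpFppfSrc
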