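import Groth.Prelude.Def_AlgSpModX
import Groth.Prelude.Def_AlgSpSub
import Mathlib.AlgebraicGeometry.IdealSheaf.Subscheme
import Mathlib.AlgebraicGeometry.Morphisms.ClosedImmersion

set_option autoImplicit false
universe u
open CategoryTheory CategoryTheory.Limits AlgebraicGeometry Topology TopologicalSpace
open AlgSp

namespace Groth.Agent.Lib.Helper15.IdealChart

set_option backward.isDefEq.respectTransparency false

variable {S : Scheme.{u}}

/-- The kernel ideal of `idealOfRep` on an affine object does not depend on the pullback chosen. -/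
theorem idealOfRep_eq_ker_of_isPullback {X Z : Sp S} {j : Z ⟶ X} (hj : Representable j)
    (E : EtOver X) (hE : IsAffine E.obj.left.left) {T : Over S} (ρ : T ⟶ E.obj.left)
    (fstT : (yon S).obj T ⟶ Z) (sq : IsPullback fstT ((yon S).map ρ) j E.obj.hom) :
    (idealOfRep hj).ideal E hE = RingHom.ker ρ.left.appTop.hom := by
  have sq0 := EtOver.isPullback_bcObj hj E
  let e' := sq.isoIsPullback _ _ sq0
  have he' : e'.hom ≫ (yon S).map (EtOver.bcπ hj E) = (yon S).map ρ :=
    IsPullback.isoIsPullback_hom_snd _ _ sq sq0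
  let e₀ : T ≅ (EtOver.bcObj hj E).obj.left := (yon S).preimageIso e'
  have he₀ : e₀.hom ≫ EtOver.bcπ hj E = ρ := by
    apply (yon S).map_injective
    rw [Functor.map_comp]
    simpa [e₀] using he'
  have hl : e₀.hom.left ≫ (EtOver.bcπ hj E).left = ρ.left := by
    rw [← Over.comp_left, he₀]
  have : IsIso e₀.hom.left := inferInstanceAs (IsIso ((Over.forget S).map e₀.hom))
  have happ : ρ.left.appTop = (EtOver.bcπ hj E).left.appTop ≫ e₀.hom.left.appTop := by
    rw [← Scheme.Hom.comp_appTop, hl]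
  ext a
  change (EtOver.bcπ hj E).left.appTop.hom a = 0 ↔ ρ.left.appTop.hom a = 0
  rw [happ, CommRingCat.hom_comp, RingHom.comp_apply]
  have hinj : Function.Injective e₀.hom.left.appTop.hom :=
    (ConcreteCategory.bijective_of_isIso e₀.hom.left.appTop).1
  exact (map_eq_zero_iff _ hinj).symm

/-- The object of the small etale site given by an open of a chart. -/
noncomputable abbrev chartObj {X : Sp S} {V : Over S} (φ : (yon S).obj V ⟶ X) (hφ : RepWith @Etale φ)
    (U : V.left.Opens) : EtOver X :=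
  EtOver.mk ((yon S).map (Over.homMk U.ι rfl : Over.mk (U.ι ≫ V.hom) ⟶ V) ≫ φ)
    ((RepWith @Etale).comp_mem _ _
      ((repWith_yon_map_iff _ _).2 (show Etale U.ι from inferInstance)) hφ)

/-- `idealOfRep` on an affine open of a chart is the kernel ideal sheaf of the pulled back morphism on that open. -/
theorem idealOfRep_chart_open {X Z : Sp S} {j : Z ⟶ X} (hj : Representable j)
    {V : Over S} (φ : (yon S).obj V ⟶ X) (hφ : RepWith @Etale φ) {Z' : Over S} (ι : Z' ⟶ V)
    [QuasiCompact ι.left] (fstZ : (yon S).obj Z' ⟶ Z) (sq : IsPullback fstZ ((yon S).map ι) j φ)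
    (U : V.left.Opens) (hU : IsAffineOpen U) :
    (idealOfRep hj).ideal (chartObj φ hφ U) hU =
      (ι.left.ker.ideal ⟨U.ι ''ᵁ ⊤,
        (@isAffineOpen_top U.toScheme hU).image_of_isOpenImmersion U.ι⟩).comap
        (U.ι.appIso ⊤).inv.hom := by
  have : IsAffine U.toScheme := hU
  let f' := pullback.snd ι.left U.ι
  let iU := pullback.fst ι.left U.ι
  have H : IsPullback f' iU U.ι ι.left := (IsPullback.of_hasPullback ι.left U.ι).flip
  have hqc : QuasiCompact f' := MorphismProperty.of_isPullback H.flip inferInstance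
  have hk := Scheme.ker_ideal_of_isPullback_of_isOpenImmersion ι.left f' iU U.ι H
    ⟨⊤, isAffineOpen_top _⟩
  rw [← hk, Scheme.Hom.ker_apply]
  let T : Over S := Over.mk (f' ≫ U.ι ≫ V.hom)
  let ρ : T ⟶ Over.mk (U.ι ≫ V.hom) := Over.homMk f' rfl
  let iO : T ⟶ Z' := Over.homMk iU (by
    change iU ≫ Z'.hom = f' ≫ U.ι ≫ V.hom
    rw [← Over.w ι, ← Category.assoc, ← Category.assoc, pullback.condition])
  have comm : iO ≫ ι = ρ ≫ (Over.homMk U.ι rfl : Over.mk (U.ι ≫ V.hom) ⟶ V) := by
    apply Over.OverMorphism.ext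
    exact pullback.condition
  have sqO : IsPullback iO ρ ι (Over.homMk U.ι rfl : Over.mk (U.ι ≫ V.hom) ⟶ V) :=
    IsPullback.of_map (Over.forget S) comm (IsPullback.of_hasPullback ι.left U.ι)
  have big := (sqO.map (yon S)).paste_horiz sq
  exact idealOfRep_eq_ker_of_isPullback hj (chartObj φ hφ U) hU ρ _ big

theorem eq_mul_of_comap_iso {A B : CommRingCat.{u}} (e : A ≅ B) (J J₁ J₂ : Ideal A)
    (h : J.comap e.inv.hom = J₁.comap e.inv.hom * J₂.comap e.inv.hom) : J = J₁ * J₂ := by
  have key : ∀ K : Ideal A, K.comap e.inv.hom = K.map e.hom.hom := fun K =>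
    Ideal.comap_symm (I := K) e.commRingCatIsoToRingEquiv
  have hbij : Function.Bijective e.hom.hom := ConcreteCategory.bijective_of_isIso e.hom
  rw [key, key, key, ← Ideal.map_mul] at h
  have := congrArg (Ideal.comap e.hom.hom) h
  rwa [Ideal.comap_map_of_bijective _ hbij, Ideal.comap_map_of_bijective _ hbij] at this

/-- If the kernel ideal of `i` is the product of those of `i₁` and `i₂` on affine etale objects, the same holds for
the kernel ideal sheaves of their pullbacks to a chart. -/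
theorem ker_eq_mul {X D D₁ D₂ : Sp S} {i : D ⟶ X} {i₁ : D₁ ⟶ X} {i₂ : D₂ ⟶ X}
    (hi : Representable i) (hi₁ : Representable i₁) (hi₂ : Representable i₂)
    (hI : idealOfRep hi = idealOfRep hi₁ * idealOfRep hi₂)
    {V : Over S} (φ : (yon S).obj V ⟶ X) (hφ : RepWith @Etale φ)
    {P P₁ P₂ : Over S} (ι : P ⟶ V) (ι₁ : P₁ ⟶ V) (ι₂ : P₂ ⟶ V)
    [QuasiCompact ι.left] [QuasiCompact ι₁.left] [QuasiCompact ι₂.left]
    (fst : (yon S).obj P ⟶ D) (fst₁ : (yon S).obj P₁ ⟶ D₁) (fst₂ : (yon S).obj P₂ ⟶ D₂)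
    (sq : IsPullback fst ((yon S).map ι) i φ) (sq₁ : IsPullback fst₁ ((yon S).map ι₁) i₁ φ)
    (sq₂ : IsPullback fst₂ ((yon S).map ι₂) i₂ φ) :
    ι.left.ker = ι₁.left.ker * ι₂.left.ker := by
  apply Scheme.IdealSheafData.ext
  funext U
  have hU' : (⟨U.1.ι ''ᵁ ⊤, (@isAffineOpen_top U.1.toScheme U.2).image_of_isOpenImmersion U.1.ι⟩ :
      V.left.affineOpens) = U := Subtype.ext (Scheme.Opens.ι_image_top U.1)
  rw [← hU', Scheme.IdealSheafData.ideal_mul, Pi.mul_apply]
  have h0 := idealOfRep_chart_open hi φ hφ ι fst sq U.1 U.2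
  have h1 := idealOfRep_chart_open hi₁ φ hφ ι₁ fst₁ sq₁ U.1 U.2
  have h2 := idealOfRep_chart_open hi₂ φ hφ ι₂ fst₂ sq₂ U.1 U.2
  have hE : (idealOfRep hi).ideal (chartObj φ hφ U.1) U.2 =
      (idealOfRep hi₁).ideal (chartObj φ hφ U.1) U.2 * (idealOfRep hi₂).ideal (chartObj φ hφ U.1) U.2 := by
    rw [hI]; rfl
  rw [h0, h1, h2] at hE
  exact eq_mul_of_comap_iso (U.1.ι.appIso ⊤) _ _ _ hE

/-- A closed immersion into a chart which is a pullback of `i` may be replaced by the closed subscheme of its kernel. -/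
theorem isPullback_ker_subscheme {X D : Sp S} {i : D ⟶ X} {V P : Over S} (φ : (yon S).obj V ⟶ X)
    (ι : P ⟶ V) [IsClosedImmersion ι.left] (fst : (yon S).obj P ⟶ D)
    (sq : IsPullback fst ((yon S).map ι) i φ) :
    ∃ fst' : (yon S).obj (Over.mk (ι.left.ker.subschemeι ≫ V.hom)) ⟶ D,
      IsPullback fst' ((yon S).map (Over.homMk ι.left.ker.subschemeι rfl :
        Over.mk (ι.left.ker.subschemeι ≫ V.hom) ⟶ V)) i φ := by
  have ht : ι.left.toImage ≫ ι.left.ker.subschemeι = ι.left := ι.left.toImage_imageι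
  let eO : Over.mk (ι.left.ker.subschemeι ≫ V.hom) ⟶ P := Over.homMk (inv ι.left.toImage) (by
    change inv ι.left.toImage ≫ P.hom = ι.left.ker.subschemeι ≫ V.hom
    rw [IsIso.inv_comp_eq, ← Over.w ι, ← Category.assoc, ht])
  have hcomm : eO ≫ ι = (Over.homMk ι.left.ker.subschemeι rfl :
      Over.mk (ι.left.ker.subschemeι ≫ V.hom) ⟶ V) := by
    apply Over.OverMorphism.ext
    change inv ι.left.toImage ≫ ι.left = ι.left.ker.subschemeι
    rw [IsIso.inv_comp_eq, ht]
  have : IsIso eO := by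
    have : IsIso ((Over.forget S).map eO) := by
      change IsIso (inv ι.left.toImage)
      infer_instance
    exact isIso_of_reflects_iso eO (Over.forget S)
  have sq1 : IsPullback ((yon S).map eO) ((yon S).map (Over.homMk ι.left.ker.subschemeι rfl :
      Over.mk (ι.left.ker.subschemeι ≫ V.hom) ⟶ V)) ((yon S).map ι) (𝟙 _) :=
    IsPullback.of_horiz_isIso ⟨by rw [Category.comp_id, ← Functor.map_comp, hcomm]⟩
  have big := sq1.paste_horiz sq
  rw [Category.id_comp] at big
  exact ⟨_, big⟩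

end Groth.Agent.Lib.Helper15.IdealChart
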