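import Groth.Prelude.Def_AlgSpInf
import Groth.Prelude.Def_AlgSpMor5
import Groth.Prelude.Def_AlgSpDec
import Groth.Prelude.Def_Flat
import Groth.Agent.Lib.Helper15.AlgSpDeform
import Groth.Agent.Lib.lead.FlatRelDimSp
import Groth.Agent.Lib.lead.FibreDimBCLocal

/-!
# Helper15 — AlgSpRelDimThick: relative dimension `d` across a cartesian square of thickenings
-/

set_option autoImplicit false
universe u
open CategoryTheory CategoryTheory.Limits AlgebraicGeometry
open AlgSp

namespace Groth.Agent.Lib.Helper15.AlgSpRelDimThick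
open Groth.Agent.Lib.Helper3 Groth.Agent.Lib.Helper15.AlgSpThick
set_option backward.isDefEq.respectTransparency.types false

variable {S : Scheme.{u}}

theorem relDim_iff {X X' Y Y' : AlgSp.Space S} (i : X ⟶ X') (j : Y ⟶ Y') (f : X ⟶ Y) (f' : X' ⟶ Y')
    (hi : IsThickMor i.hom) (hj : IsThickMor j.hom) (hcart : IsPullback i.hom f.hom f'.hom j.hom)
    (hlft : LocP @LocallyOfFiniteType f.hom → LocP @LocallyOfFiniteType f'.hom) (d : ℕ) :
    (LocP @LocallyOfFiniteType f.hom ∧
      ∀ x, HasAtMor (fun _ _ h u => FlatMor.fibreDimAt h u = (d : WithBot ℕ∞)) f.hom x) ↔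
    (LocP @LocallyOfFiniteType f'.hom ∧
      ∀ x', HasAtMor (fun _ _ h u => FlatMor.fibreDimAt h u = (d : WithBot ℕ∞)) f'.hom x') := by
  constructor
  · rintro ⟨hft, hd⟩
    have hft' := hlft hft
    refine ⟨hft', fun x' => ?_⟩
    obtain ⟨V', b', hb'e, hb's⟩ := Y'.property.atlas
    obtain ⟨U', a', h', -, -, ha'e, ha's, -, wh'⟩ :=
      exists_chart_over X'.property Y'.property f'.hom b' hb'e
    obtain ⟨u', hu'⟩ := exists_ofPt_eq _ (ha's hb's) x'
    obtain ⟨U, V, iU, iV, h, a, b, hae, hbe, hw, hU, hV, sq, sqa, sqb⟩ :=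
      exists_thick_chart i.hom j.hom f.hom f'.hom hi hj hcart _ b' h' ha'e hb'e wh'
    obtain ⟨u, rfl⟩ := hU.2.surj u'
    obtain ⟨U₂, V₂, a₂, b₂, h₂, u₂, ha₂, hb₂, w₂, hu₂, hd₂⟩ := hd (Points.ofPt a u)
    haveI : LocallyOfFiniteType h.left := hft a b h hae hbe hw
    haveI : LocallyOfFiniteType h₂.left := hft a₂ b₂ h₂ ha₂ hb₂ w₂
    haveI : LocallyOfFiniteType h'.left := hft' _ b' h' ha'e hb'e wh'
    have e1 := Groth.Agent.Lib.lead.FlatRelDimSp.fibreDimAt_eq_of_charts f.hom a b h a₂ b₂ h₂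
      hae hbe ha₂ hb₂ hw w₂ u u₂ hu₂.symm
    have e2 := Groth.Agent.Lib.lead.FibreDimBCLocal.fibreDimAt_baseChange h'.left iV.left iU.left
      h.left sq u
    refine ⟨U', V', _, b', h', iU.left u, ha'e, hb'e, wh', hu', ?_⟩
    show FlatMor.fibreDimAt h'.left (iU.left u) = _
    rw [← e2, e1, hd₂]
  · rintro ⟨hft', hd'⟩
    have hft : LocP @LocallyOfFiniteType f.hom :=
      locP_of_isPullback isEtLocal_locallyOfFiniteType X'.property Y'.property Y.property
        X.property f'.hom j.hom i.hom f.hom hcart hft'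
    refine ⟨hft, fun x => ?_⟩
    obtain ⟨U', V', a', b', h', u', ha'e, hb'e, wh', hu', hd₁⟩ := hd' (Points.map i.hom x)
    obtain ⟨U, V, iU, iV, h, a, b, hae, hbe, hw, hU, hV, sq, sqa, sqb⟩ :=
      exists_thick_chart i.hom j.hom f.hom f'.hom hi hj hcart a' b' h' ha'e hb'e wh'
    have hxy : Points.map i.hom x = Points.map a' (Points.ofScheme U' u') := by
      rw [← Points.ofPt_eq_map_ofScheme, hu']
    obtain ⟨z, hz1, hz2⟩ := Points.exists_of_isPullback sqa x (Points.ofScheme U' u') hxy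
    have hz : Points.ofScheme U (Points.toScheme U z) = z := Points.ofScheme_toScheme U z
    have hx : Points.ofPt a (Points.toScheme U z) = x := by
      rw [Points.ofPt_eq_map_ofScheme, hz, hz1]
    have hiu : iU.left (Points.toScheme U z) = u' := by
      rw [← Points.toScheme_ofPt, Points.ofPt_eq_map_ofScheme, hz, hz2, Points.toScheme_ofScheme]
    haveI : LocallyOfFiniteType h'.left := hft' a' b' h' ha'e hb'e wh'
    have e2 := Groth.Agent.Lib.lead.FibreDimBCLocal.fibreDimAt_baseChange h'.left iV.left iU.left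
      h.left sq (Points.toScheme U z)
    refine ⟨U, V, a, b, h, Points.toScheme U z, hae, hbe, hw, hx, ?_⟩
    show FlatMor.fibreDimAt h.left (Points.toScheme U z) = _
    rw [e2, hiu, hd₁]

end Groth.Agent.Lib.Helper15.AlgSpRelDimThick
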