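import Groth.Agent.Lib.Helper15.EtaleLiftAlg
import Mathlib.AlgebraicGeometry.Morphisms.Etale
import Mathlib.AlgebraicGeometry.Morphisms.ClosedImmersion
import Mathlib.AlgebraicGeometry.Pullbacks
import Mathlib.Algebra.Category.Ring.Constructions

set_option autoImplicit false

universe u

namespace Groth.Agent.Lib.Helper15.EtaleLiftThick

open CategoryTheory CategoryTheory.Limits AlgebraicGeometry TensorProduct

theorem exists_etale_lift_ring {B' B C : CommRingCat.{u}} (φ : B' ⟶ B)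
    (hφ : Function.Surjective φ.hom) (ψ : B ⟶ C) (hψ : ψ.hom.Etale) :
    ∃ (C' : CommRingCat.{u}) (α : B' ⟶ C') (π : C' ⟶ C), α.hom.Etale ∧ IsPushout φ α ψ π := by
  algebraize [φ.hom, ψ.hom, (φ ≫ ψ).hom]
  have : IsScalarTower B' B C := IsScalarTower.of_algebraMap_eq' rfl
  have hE : Algebra.Etale B C := hψ
  obtain ⟨C', _, _, hEt, ⟨e⟩⟩ := EtaleLiftAlg.exists_etale_lift (B' := B') (B := B) (C := C) hφ
  refine ⟨CommRingCat.of C', CommRingCat.ofHom (algebraMap B' C'),
    CommRingCat.ofHom (e.toAlgHom.toRingHom.comp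
      (Algebra.TensorProduct.includeRight : C' →ₐ[B'] B ⊗[B'] C').toRingHom), ?_, ?_⟩
  · exact RingHom.etale_algebraMap.2 hEt
  · have h0 := CommRingCat.isPushout_tensorProduct B' B C'
    refine h0.of_iso (Iso.refl _) (Iso.refl _) (Iso.refl _) e.toRingEquiv.toCommRingCatIso
      ?_ ?_ ?_ ?_
    · ext b
      rfl
    · ext b
      rfl
    · ext b
      change e (b ⊗ₜ[B'] (1 : C')) = ψ.hom b
      have : b ⊗ₜ[B'] (1 : C') = algebraMap B (B ⊗[B'] C') b := rfl
      rw [this, AlgEquiv.commutes]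
      rfl
    · ext c
      rfl

theorem exists_etale_lift_affine {T T' W : Scheme.{u}} [IsAffine T'] [IsAffine W] (j : T ⟶ T')
    [IsClosedImmersion j] (g : W ⟶ T) [Etale g] :
    ∃ (W' : Scheme.{u}) (g' : W' ⟶ T') (jW : W ⟶ W'),
      IsAffine W' ∧ Etale g' ∧ IsPullback jW g g' j := by
  obtain ⟨hT, hsurj⟩ := IsClosedImmersion.isAffine_surjective_of_isAffine j
  have hg : (g.appTop).hom.Etale := (HasRingHomProperty.iff_of_isAffine (P := @Etale)).1 inferInstance
  obtain ⟨C', α, π, hα, hpo⟩ := exists_etale_lift_ring j.appTop hsurj g.appTop hg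
  have sq0 := (isPullback_SpecMap_of_isPushout _ _ _ _ hpo).flip
  refine ⟨Spec C', Spec.map α ≫ T'.isoSpec.inv, W.isoSpec.hom ≫ Spec.map π, inferInstance, ?_, ?_⟩
  · have : Etale (Spec.map α) := (HasRingHomProperty.Spec_iff (P := @Etale)).2 hα
    infer_instance
  · refine sq0.of_iso W.isoSpec.symm (Iso.refl _) T.isoSpec.symm T'.isoSpec.symm ?_ ?_ ?_ ?_
    · simp
    · simp [Scheme.isoSpec_inv_naturality]
    · simp
    · simp [Scheme.isoSpec_inv_naturality]

end Groth.Agent.Lib.Helper15.EtaleLiftThick
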