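import Mathlib
import Groth.Agent.Lib.Helper15.EtaleLiftThick
import Groth.Agent.Lib.Helper3.AlgSpEtNbhdCofilt

set_option autoImplicit false
open CategoryTheory CategoryTheory.Limits AlgebraicGeometry
universe u

namespace Groth.Agent.Lib.Helper15.ClImmEt

/-- an open subscheme of a closed subscheme is cut out by an open subscheme of the ambient scheme -/
theorem exists_open_extension {Y P E : Scheme.{u}} (j : Y ⟶ P) [IsClosedImmersion j] (σ : E ⟶ Y)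
    [IsOpenImmersion σ] :
    ∃ (W : Scheme.{u}) (ι : W ⟶ P) (k : E ⟶ W), IsOpenImmersion ι ∧ IsPullback k σ ι j := by
  let O : Y.Opens := σ.opensRange
  have hC : IsClosed (j '' (O : Set Y)ᶜ) :=
    j.isClosedEmbedding.isClosedMap _ O.isOpen.isClosed_compl
  let W : P.Opens := ⟨(j '' (O : Set Y)ᶜ)ᶜ, hC.isOpen_compl⟩
  have hW : j ⁻¹ᵁ W = O := by
    ext y
    change j y ∈ (j '' (O : Set Y)ᶜ)ᶜ ↔ y ∈ O
    rw [Set.mem_compl_iff, j.isClosedEmbedding.injective.mem_set_image, Set.mem_compl_iff, not_not]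
    rfl
  have sq := isPullback_morphismRestrict j W
  have hr : Set.range σ = Set.range (j ⁻¹ᵁ W).ι := by
    rw [hW]; simp [O]
  let e : E ≅ (j ⁻¹ᵁ W : Scheme) := IsOpenImmersion.isoOfRangeEq σ (j ⁻¹ᵁ W).ι hr
  have he : e.hom ≫ (j ⁻¹ᵁ W).ι = σ := IsOpenImmersion.isoOfRangeEq_hom_fac _ _ _
  refine ⟨W, W.ι, e.hom ≫ (j ∣_ W), inferInstance, ?_⟩
  refine IsPullback.of_iso sq e.symm (Iso.refl _) (Iso.refl _) (Iso.refl _) ?_ ?_ ?_ ?_
  · simp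
  · simp only [Iso.symm_hom, Iso.refl_hom, Category.comp_id]
    rw [← he, Iso.inv_hom_id_assoc]
  · simp
  · simp

/-- extension of a section over a closed subscheme of an etale morphism to an open subscheme -/
theorem exists_open_of_section {B₁ A₁ P : Scheme.{u}} (π₁ : B₁ ⟶ A₁) [IsClosedImmersion π₁]
    (p₁ : P ⟶ A₁) [Etale p₁] (Γ : B₁ ⟶ P) (hΓ : Γ ≫ p₁ = π₁) :
    ∃ (W : Scheme.{u}) (ι : W ⟶ P) (k : B₁ ⟶ W), IsOpenImmersion ι ∧ k ≫ ι = Γ ∧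
      IsPullback k (𝟙 B₁) (ι ≫ p₁) π₁ := by
  let σ : B₁ ⟶ pullback p₁ π₁ := pullback.lift Γ (𝟙 B₁) (by rw [hΓ, Category.id_comp])
  have hσ : σ ≫ pullback.snd p₁ π₁ = 𝟙 B₁ := pullback.lift_snd _ _ _
  haveI : IsOpenImmersion σ :=
    Groth.Agent.Lib.Helper3.isOpenImmersion_of_section_of_etale (pullback.snd p₁ π₁) σ hσ
  obtain ⟨W, ι, k, hι, sq⟩ := exists_open_extension (pullback.fst p₁ π₁) σ
  refine ⟨W, ι, k, hι, ?_, ?_⟩
  · rw [sq.w]; exact pullback.lift_fst _ _ _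
  · have := sq.paste_vert (IsPullback.of_hasPullback p₁ π₁)
    rwa [hσ] at this

/-- local lifting of etale morphisms along a closed immersion -/
theorem exists_etale_lift_nbhd {Z0 X0 C0 : Scheme.{u}} (j : Z0 ⟶ X0) [IsClosedImmersion j]
    (w : C0 ⟶ Z0) [Etale w] (x0 : C0) :
    ∃ (U : Scheme.{u}) (p : U ⟶ X0), IsAffine U ∧ Etale p ∧ ∀ ⦃B : Scheme.{u}⦄ (r : B ⟶ Z0) (s : B ⟶ U),
      IsPullback r s j p → ∃ e' : B ⟶ C0, IsOpenImmersion e' ∧ e' ≫ w = r ∧ x0 ∈ Set.range e' := by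
  obtain ⟨T', hT', hxT', -⟩ := exists_isAffineOpen_mem_and_subset (X := X0) (x := j (w x0))
    (U := ⊤) trivial
  have hT : IsAffineOpen (j ⁻¹ᵁ T') := hT'.preimage j
  have hx0 : x0 ∈ w ⁻¹ᵁ (j ⁻¹ᵁ T') := hxT'
  obtain ⟨W0, hW0, hxW0, hW0T⟩ := exists_isAffineOpen_mem_and_subset hx0
  haveI : IsAffine (T' : Scheme.{u}) := hT'
  haveI : IsAffine (W0 : Scheme.{u}) := hW0
  have hrange : Set.range (W0.ι ≫ w) ⊆ Set.range (j ⁻¹ᵁ T').ι := by
    rintro _ ⟨y, rfl⟩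
    rw [Scheme.Opens.range_ι]
    exact hW0T y.2
  let g : (W0 : Scheme.{u}) ⟶ (j ⁻¹ᵁ T' : Scheme.{u}) := IsOpenImmersion.lift (j ⁻¹ᵁ T').ι (W0.ι ≫ w) hrange
  have hg : g ≫ (j ⁻¹ᵁ T').ι = W0.ι ≫ w := IsOpenImmersion.lift_fac _ _ _
  haveI : Etale g := by
    apply MorphismProperty.of_postcomp (W := @Etale) (W' := @Etale) g (j ⁻¹ᵁ T').ι inferInstance
    rw [hg]
    infer_instance
  have sqB := isPullback_morphismRestrict j T'
  haveI : IsClosedImmersion (j ∣_ T') := MorphismProperty.of_isPullback sqB.flip inferInstance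
  obtain ⟨W', g', jW, hW'aff, hg', sqA⟩ := EtaleLiftThick.exists_etale_lift_affine (j ∣_ T') g
  have big := sqA.paste_vert sqB
  rw [hg] at big
  refine ⟨W', g' ≫ T'.ι, hW'aff, inferInstance, ?_⟩
  intro B r s sq
  let θ : B ≅ (W0 : Scheme.{u}) := sq.isoIsPullback _ _ big.flip
  have h1 : θ.hom ≫ (W0.ι ≫ w) = r := sq.isoIsPullback_hom_fst _ _ big.flip
  refine ⟨θ.hom ≫ W0.ι, inferInstance, by rw [Category.assoc]; exact h1, ?_⟩
  refine ⟨θ.inv ⟨x0, hxW0⟩, ?_⟩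
  rw [← Scheme.Hom.comp_apply, Iso.inv_hom_id_assoc]
  rfl

end Groth.Agent.Lib.Helper15.ClImmEt
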