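import Mathlib
import Groth.Agent.Lib.Helper15.ClImmEt

universe u
open CategoryTheory CategoryTheory.Limits AlgebraicGeometry Opposite

namespace Groth.Agent.Lib.Helper15.AlmCo

open AlgebraicGeometry.AffineSpace MvPolynomial in
set_option backward.isDefEq.respectTransparency.types false in
theorem smooth_affineSpace (n : Type u) [Finite n] (S : Scheme.{u}) : Smooth (𝔸(n; S) ↘ S) :=
  MorphismProperty.pullback_fst _ _ <| by
  have := isIso_of_isTerminal specULiftZIsTerminal.{u} terminalIsTerminal (terminal.from _)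
  rw [← terminal.comp_from (Spec.map (CommRingCat.ofHom C)),
    MorphismProperty.cancel_right_of_respectsIso (P := @Smooth),
    HasRingHomProperty.Spec_iff (P := @Smooth)]
  have h : Algebra.Smooth (ULift.{u} ℤ) (MvPolynomial n (ULift.{u} ℤ)) := {}
  have h2 := (RingHom.smooth_algebraMap (R := ULift.{u} ℤ) (S := MvPolynomial n (ULift.{u} ℤ))).mpr h
  convert! h2

/-- the lifting property along closed immersions -/
def HasLift (P : MorphismProperty Scheme.{u}) : Prop :=
  ∀ ⦃Z V C : Scheme.{u}⦄ (j : Z ⟶ V) [IsClosedImmersion j] (w : C ⟶ Z), P w → ∀ c : C,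
    ∃ (U : Scheme.{u}) (p : U ⟶ V), P p ∧ ∀ ⦃B : Scheme.{u}⦄ (r : B ⟶ Z) (s : B ⟶ U),
      IsPullback r s j p → ∃ e : B ⟶ C, e ≫ w = r ∧ c ∈ Set.range e

theorem hasLift_etale : HasLift (@Etale.{u}) := by
  intro Z V C j _ w hw c
  haveI : Etale w := hw
  obtain ⟨U, p, -, hp, h⟩ := ClImmEt.exists_etale_lift_nbhd j w c
  exact ⟨U, p, hp, fun B r s sq => by
    obtain ⟨e, -, h1, h2⟩ := h r s sq
    exact ⟨e, h1, h2⟩⟩

set_option backward.isDefEq.respectTransparency false in
theorem hasLift_smooth : HasLift (@Smooth.{u}) := by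
  intro Z V C j _ w hw c
  haveI : Smooth w := hw
  obtain ⟨U, hU, V', hV', hc, e, hφ⟩ := Smooth.exists_isStandardSmooth w c
  obtain ⟨n₀, χ, hχC, hχe⟩ := RingHom.IsStandardSmooth.exists_etale_mvPolynomial hφ
  let n : Type u := ULift.{u} (Fin n₀)
  let A : CommRingCat.{u} := Γ(Z, U)
  let ρ : MvPolynomial n A ≃ₐ[A] MvPolynomial (Fin n₀) A := MvPolynomial.renameEquiv A Equiv.ulift
  let χ' : MvPolynomial n A →+* Γ(C, V') := χ.comp (ρ : MvPolynomial n A →+* MvPolynomial (Fin n₀) A)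
  have hχ'e : χ'.Etale :=
    RingHom.Etale.stableUnderComposition _ _ (RingHom.Etale.of_bijective ρ.bijective) hχe
  have hχ'C : χ'.comp (MvPolynomial.C : A →+* MvPolynomial n A) = (w.appLE U V' e).hom := by
    rw [← hχC]
    ext a
    have : ρ (MvPolynomial.C a) = MvPolynomial.C a := by
      change MvPolynomial.rename _ (MvPolynomial.C a) = _
      exact MvPolynomial.rename_C _ _
    change χ (ρ (MvPolynomial.C a)) = χ (MvPolynomial.C a)
    rw [this]
  let w' : (V' : Scheme.{u}) ⟶ AffineSpace n Z :=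
    hV'.isoSpec.hom ≫ Spec.map (CommRingCat.ofHom χ') ≫ (AffineSpace.SpecIso n A).inv ≫
      AffineSpace.map n hU.fromSpec
  have hw' : w' ≫ (AffineSpace n Z ↘ Z) = V'.ι ≫ w := by
    change (hV'.isoSpec.hom ≫ Spec.map (CommRingCat.ofHom χ') ≫ (AffineSpace.SpecIso n A).inv ≫
      AffineSpace.map n hU.fromSpec) ≫ (AffineSpace n Z ↘ Z) = _
    simp only [Category.assoc, AffineSpace.map_over, AffineSpace.SpecIso_inv_over_assoc]
    rw [← Spec.map_comp_assoc, ← CommRingCat.ofHom_comp, hχ'C, CommRingCat.ofHom_hom,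
      IsAffineOpen.SpecMap_appLE_fromSpec w hU hV' e, IsAffineOpen.isoSpec_hom_fromSpec_assoc]
  haveI hopen : IsOpenImmersion (AffineSpace.map n hU.fromSpec) :=
    MorphismProperty.of_isPullback (P := @IsOpenImmersion)
      (AffineSpace.isPullback_map (n := n) hU.fromSpec).flip inferInstance
  haveI hSp : Etale (Spec.map (CommRingCat.ofHom χ')) := by
    rw [HasRingHomProperty.Spec_iff (P := @Etale)]
    exact hχ'e
  haveI hw'e : Etale w' := by
    change Etale (hV'.isoSpec.hom ≫ Spec.map (CommRingCat.ofHom χ') ≫ (AffineSpace.SpecIso n A).inv ≫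
      AffineSpace.map n hU.fromSpec)
    infer_instance
  let j' : AffineSpace n Z ⟶ AffineSpace n V := AffineSpace.map n j
  have sqj : IsPullback j' (AffineSpace n Z ↘ Z) (AffineSpace n V ↘ V) j :=
    AffineSpace.isPullback_map (n := n) j
  haveI hj' : IsClosedImmersion j' :=
    MorphismProperty.of_isPullback (P := @IsClosedImmersion) sqj.flip inferInstance
  obtain ⟨U0, p0, -, hp0, h0⟩ := ClImmEt.exists_etale_lift_nbhd j' w' (⟨c, hc⟩ : V')
  haveI := hp0
  haveI : Smooth (AffineSpace n V ↘ V) := smooth_affineSpace n V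
  refine ⟨U0, p0 ≫ (AffineSpace n V ↘ V), inferInstance, ?_⟩
  intro B r s sq
  let r1 : B ⟶ AffineSpace n Z := sqj.lift (s ≫ p0) r (by rw [Category.assoc, sq.w])
  have hr1a : r1 ≫ j' = s ≫ p0 := sqj.lift_fst _ _ _
  have hr1b : r1 ≫ (AffineSpace n Z ↘ Z) = r := sqj.lift_snd _ _ _
  have sq1 : IsPullback r1 s j' p0 := by
    have h1 : IsPullback s (r1 ≫ (AffineSpace n Z ↘ Z)) (p0 ≫ (AffineSpace n V ↘ V)) j := by
      rw [hr1b]; exact sq.flip
    exact (IsPullback.of_bot h1 hr1a.symm sqj).flip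
  obtain ⟨e', -, he'1, he'2⟩ := h0 r1 s sq1
  refine ⟨e' ≫ V'.ι, ?_, ?_⟩
  · rw [Category.assoc, ← hw', reassoc_of% he'1, hr1b]
  · obtain ⟨b, hb⟩ := he'2
    refine ⟨b, ?_⟩
    rw [Scheme.Hom.comp_apply, hb]
    rfl

end Groth.Agent.Lib.Helper15.AlmCo
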