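import Mathlib
import Groth.Prelude.Def_BigSite
import Groth.Agent.Lib.Helper15.SmLift

universe u
open CategoryTheory CategoryTheory.Limits AlgebraicGeometry Opposite

namespace Groth.Agent.Lib.Helper15.AlmCo

set_option backward.isDefEq.respectTransparency false in
theorem almost (P : MorphismProperty Scheme.{u}) [P.IsMultiplicative] [P.IsStableUnderBaseChange]
    (hopen : ∀ {A B : Scheme.{u}} (i : A ⟶ B) [IsOpenImmersion i], P i)
    (hP : HasLift P) {X Y : Scheme.{u}} (f : X ⟶ Y) [IsClosedImmersion f] :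
    BigSite.IsAlmostCocontinuous (Over.pullback f) (QuotSh.J (Scheme.precoverage P) Y)
      (QuotSh.J (Scheme.precoverage P) X) := by
  intro V R hR
  let Zo : Over X := (Over.pullback f).obj V
  let Z : Scheme.{u} := Zo.left
  let j : Z ⟶ V.left := pullback.fst V.hom f
  haveI : IsClosedImmersion j := inferInstance
  rw [GrothendieckTopology.mem_over_iff, Scheme.mem_grothendieckTopology_iff] at hR
  obtain ⟨𝒰, h𝒰⟩ := hR
  have key : ∀ z : Z, ∃ (U : Scheme.{u}) (p : U ⟶ V.left), P p ∧ (∃ u : U, p u = j z) ∧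
      R ((Over.pullback f).map (Over.homMk p : Over.mk (p ≫ V.hom) ⟶ V)) := by
    intro z
    obtain ⟨i, c, hc⟩ := 𝒰.exists_eq z
    obtain ⟨U, p, hp, h⟩ := hP j (𝒰.f i) (𝒰.map_prop i) c
    refine ⟨U, p, hp, ?_, ?_⟩
    · obtain ⟨e, he1, b, hb⟩ := h (pullback.fst j p) (pullback.snd j p) (IsPullback.of_hasPullback j p)
      refine ⟨pullback.snd j p b, ?_⟩
      rw [← Scheme.Hom.comp_apply, ← pullback.condition, Scheme.Hom.comp_apply, ← he1,
        Scheme.Hom.comp_apply, hb, hc]
    · let g : Over.mk (p ≫ V.hom) ⟶ V := Over.homMk p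
      let r : ((Over.pullback f).obj (Over.mk (p ≫ V.hom))).left ⟶ Z := ((Over.pullback f).map g).left
      let s : ((Over.pullback f).obj (Over.mk (p ≫ V.hom))).left ⟶ U := pullback.fst (p ≫ V.hom) f
      have hr1 : r ≫ pullback.snd V.hom f = pullback.snd (p ≫ V.hom) f := by
        change (pullback.lift _ _ _) ≫ _ = _
        exact pullback.lift_snd _ _ _
      have hr2 : r ≫ j = s ≫ p := by
        change (pullback.lift _ _ _) ≫ _ = _
        exact pullback.lift_fst _ _ _
      have sq : IsPullback r s j p := by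
        have h1 : IsPullback (r ≫ pullback.snd V.hom f) s f (p ≫ V.hom) := by
          rw [hr1]; exact (IsPullback.of_hasPullback (p ≫ V.hom) f).flip
        exact IsPullback.of_right h1 hr2 (IsPullback.of_hasPullback V.hom f).flip
      obtain ⟨e, he1, -⟩ := h r s sq
      have hR1 : R (Over.homMk (𝒰.f i) : Over.mk (𝒰.f i ≫ Zo.hom) ⟶ Zo) :=
        (Sieve.overEquiv_iff _ _).mp (h𝒰 _ _ (Presieve.ofArrows.mk i))
      have heq : (Over.pullback f).map g =
          (Over.homMk e (by change e ≫ 𝒰.f i ≫ Zo.hom = _; rw [← Category.assoc, he1]; exact Over.w ((Over.pullback f).map g)) :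
            (Over.pullback f).obj (Over.mk (p ≫ V.hom)) ⟶ Over.mk (𝒰.f i ≫ Zo.hom)) ≫
          (Over.homMk (𝒰.f i) : Over.mk (𝒰.f i ≫ Zo.hom) ⟶ Zo) := by
        ext
        exact he1.symm
      rw [heq]
      exact R.downward_closed hR1 _
  choose U p hp hu hRp using key
  let O : V.left.Opens := ⟨(Set.range j)ᶜ, j.isClosedEmbedding.isClosed_range.isOpen_compl⟩
  let F : Option Z → Σ W : Over Y, (W ⟶ V) := fun i =>
    Option.elim i ⟨Over.mk (O.ι ≫ V.hom), Over.homMk O.ι⟩
      (fun z => ⟨Over.mk (p z ≫ V.hom), Over.homMk (p z)⟩)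
  refine ⟨Sieve.ofArrows (fun i => (F i).1) (fun i => (F i).2), ?_, ?_⟩
  · rw [GrothendieckTopology.mem_over_iff, Sieve.overEquiv_ofArrows]
    apply Precoverage.generate_mem_toGrothendieck
    rw [Scheme.ofArrows_mem_precoverage_iff]
    refine ⟨fun v => ?_, fun i => ?_⟩
    · by_cases hv : v ∈ Set.range j
      · obtain ⟨z, rfl⟩ := hv
        obtain ⟨u, hu'⟩ := hu z
        exact ⟨some z, u, hu'⟩
      · exact ⟨none, (⟨v, hv⟩ : O), rfl⟩
    · cases i with
      | none => exact hopen O.ι
      | some z => exact hp z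
  · intro V' g hg
    obtain ⟨i, a, rfl⟩ := (Sieve.mem_ofArrows_iff _ _ _).mp hg
    cases i with
    | none =>
      left
      have hemp : IsEmpty ((Over.pullback f).obj V').left := by
        refine ⟨fun b => ?_⟩
        let q : ((Over.pullback f).obj V').left ⟶ Z :=
          ((Over.pullback f).map (a ≫ (F none).2)).left
        have hq : q ≫ j = pullback.fst V'.hom f ≫ a.left ≫ O.ι := by
          change (pullback.lift _ _ _) ≫ _ = _
          rw [pullback.lift_fst]
          rfl
        have h1 : j (q b) ∈ (O : Set V.left) := by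
          rw [← Scheme.Hom.comp_apply, hq, Scheme.Hom.comp_apply, Scheme.Hom.comp_apply]
          exact (a.left (pullback.fst V'.hom f b)).2
        exact h1 ⟨q b, rfl⟩
      rw [GrothendieckTopology.mem_over_iff, map_bot]
      exact Scheme.bot_mem_grothendieckTopology _
    | some z =>
      right
      rw [Functor.map_comp]
      exact R.downward_closed (hRp z) _

end Groth.Agent.Lib.Helper15.AlmCo
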