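import Mathlib
import Groth.Prelude.Def_BigSite
import Groth.Agent.Lib.Helper15.AlmCoColim

set_option autoImplicit false
open CategoryTheory CategoryTheory.Limits Opposite
universe w v₁ v₂ u₁ u₂

namespace Groth.Agent.Lib.Helper15.AlmCoColim

variable {C : Type u₁} [Category.{v₁} C] {D : Type u₂} [Category.{v₂} D]
  (J : GrothendieckTopology C) (K : GrothendieckTopology D)

lemma subsingleton_ab_of_bot_mem [K.HasSheafCompose (forget AddCommGrpCat.{w})]
    (F : Sheaf K AddCommGrpCat.{w}) (V : D) (hV : (⊥ : Sieve V) ∈ K V) :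
    Subsingleton (F.obj.obj (op V)) :=
  subsingleton_of_bot_mem K ((sheafCompose K (forget AddCommGrpCat.{w})).obj F) V hV

theorem isLocallySurjective_push [K.HasSheafCompose (forget AddCommGrpCat.{w})]
    (u : C ⥤ D) [u.IsContinuous J K]
    (hu : BigSite.IsAlmostCocontinuous u J K) {F G : Sheaf K AddCommGrpCat.{w}} (φ : F ⟶ G)
    [Sheaf.IsLocallySurjective φ] :
    Sheaf.IsLocallySurjective ((u.sheafPushforwardContinuous AddCommGrpCat.{w} J K).map φ) := by
  constructor
  intro U s
  have hR : Presheaf.imageSieve φ.hom (U := u.obj U) s ∈ K (u.obj U) :=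
    Presheaf.imageSieve_mem K φ.hom (U := op (u.obj U)) s
  obtain ⟨R', hR', hR''⟩ := hu U _ hR
  refine J.superset_covering ?_ hR'
  intro V g hg
  rcases hR'' g hg with h1 | h1
  · haveI : Subsingleton (G.obj.obj (op (u.obj V))) := subsingleton_ab_of_bot_mem K G _ h1
    exact ⟨(0 : F.obj.obj (op (u.obj V))), Subsingleton.elim (α := G.obj.obj (op (u.obj V))) _ _⟩
  · exact h1

open AlgebraicGeometry in
theorem preservesFiniteColimits_pushBig {X Y : Scheme.{u₁}} (f : X ⟶ Y) (K : Precoverage Scheme.{u₁})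
    (hu : BigSite.IsAlmostCocontinuous (Over.pullback f) (QuotSh.J K Y) (QuotSh.J K X)) :
    PreservesFiniteColimits (BigSite.pushBig K f AddCommGrpCat.{u₁ + 1}) := by
  let F := BigSite.pushBig K f AddCommGrpCat.{u₁ + 1}
  have hlim : PreservesFiniteLimits F := by
    haveI : PreservesLimitsOfSize.{0, 0} F :=
      (BigSite.bigAdj K f AddCommGrpCat.{u₁ + 1}).rightAdjoint_preservesLimits
    exact PreservesLimitsOfSize.preservesFiniteLimits F
  have h30 : PreservesFiniteLimits F →
      ∀ (S : ShortComplex (Sheaf (QuotSh.J K X) AddCommGrpCat.{u₁ + 1})), S.ShortExact →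
        (S.map F).Exact ∧ Mono (F.map S.f) := ((F.preservesFiniteLimits_tfae).out 3 0).mp
  have h03 : (∀ (S : ShortComplex (Sheaf (QuotSh.J K X) AddCommGrpCat.{u₁ + 1})), S.ShortExact →
        (S.map F).Exact ∧ Epi (F.map S.g)) → PreservesFiniteColimits F :=
    ((F.preservesFiniteColimits_tfae).out 3 0).mpr
  refine h03 ?_
  intro S hS
  refine ⟨(h30 hlim S hS).1, ?_⟩
  have hepi := hS.epi_g
  rw [← Sheaf.isLocallySurjective_iff_epi'] at hepi ⊢
  exact isLocallySurjective_push _ _ _ hu S.g

end Groth.Agent.Lib.Helper15.AlmCoColim
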