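import Groth.Agent.Lib.Helper15.UnivQuot
import Groth.Agent.Lib.Helper3.AlgSpQC7

set_option autoImplicit false
set_option backward.isDefEq.respectTransparency.types false
universe u
open CategoryTheory CategoryTheory.Limits AlgebraicGeometry Opposite MorphismProperty

namespace Groth.Agent.Lib.Helper15.BaseChangeSp

open AlgSp Groth.Agent.Lib.Helper15.UnivQuot Groth.Agent.Lib.Helper3

variable {S S' : Scheme.{u}} (g : S ⟶ S')

/-- restriction of sheaves from schemes over `S'` to schemes over `S`. -/
noncomputable abbrev jInv : Sp S' ⥤ Sp S := Scheme.fppfTopology.overMapPullback (Type (u + 1)) g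

/-- the structure map of `T` viewed as a morphism over `S'` to `S`. -/
def σ (T : Over S) : (Over.map g).obj T ⟶ Over.mk g := Over.homMk T.hom rfl

@[simp] theorem σ_left (T : Over S) : (σ g T).left = T.hom := rfl

theorem map_σ {T U : Over S} (φ : T ⟶ U) : (Over.map g).map φ ≫ σ g U = σ g T := by
  ext
  simp

/-- Yoneda translation of points. -/
noncomputable def tr {T : Over S} (F' : Sp S') :
    ((yon S).obj T ⟶ (jInv g).obj F') ≃ ((yon S').obj ((Over.map g).obj T) ⟶ F') :=
  ((J S).uliftYonedaEquiv.{u+1}).trans ((J S').uliftYonedaEquiv.{u+1}).symm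

theorem tr_naturality {T W : Over S} (F' : Sp S') (φ : W ⟶ T)
    (a : (yon S).obj T ⟶ (jInv g).obj F') :
    tr g F' ((yon S).map φ ≫ a) = (yon S').map ((Over.map g).map φ) ≫ tr g F' a := by
  let x : F'.obj.obj (op ((Over.map g).obj T)) := (J S).uliftYonedaEquiv.{u+1} a
  have h1 : (J S).uliftYonedaEquiv.{u+1} ((yon S).map φ ≫ a) =
      ((jInv g).obj F').obj.map φ.op ((J S).uliftYonedaEquiv.{u+1} a) :=
    ((J S).uliftYonedaEquiv_naturality.{u+1} a φ).symm
  have h3 := (J S').uliftYonedaEquiv_symm_naturality_left.{u+1} ((Over.map g).map φ) F' x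
  have h4 : tr g F' ((yon S).map φ ≫ a) =
      ((J S').uliftYonedaEquiv.{u+1}).symm (F'.obj.map ((Over.map g).map φ).op x) :=
    congrArg ((J S').uliftYonedaEquiv.{u+1}).symm h1
  exact h4.trans h3.symm


variable {g}
variable {F' : Sp S'}

/-- the point of `h_S × F'` attached to a point of `j⁻¹F'`. -/
noncomputable def dag {T : Over S} (a : (yon S).obj T ⟶ (jInv g).obj F') :
    (yon S').obj ((Over.map g).obj T) ⟶ (yon S').obj (Over.mk g) ⨯ F' :=
  prod.lift ((yon S').map (σ g T)) (tr g F' a)

theorem dag_naturality {T W : Over S} (φ : W ⟶ T) (a : (yon S).obj T ⟶ (jInv g).obj F') :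
    dag ((yon S).map φ ≫ a) = (yon S').map ((Over.map g).map φ) ≫ dag a := by
  unfold dag
  apply Limits.prod.hom_ext
  · rw [prod.lift_fst, Category.assoc, prod.lift_fst, ← Functor.map_comp, map_σ]
  · rw [prod.lift_snd, Category.assoc, prod.lift_snd, tr_naturality]

theorem dag_injective {T : Over S} {a b : (yon S).obj T ⟶ (jInv g).obj F'} (h : dag a = dag b) :
    a = b := by
  apply (tr g F').injective
  have := congrArg (fun m => m ≫ prod.snd) h
  simp only [dag, prod.lift_snd] at this
  exact this

theorem map_injective {T U : Over S} {x y : T ⟶ U} (h : (Over.map g).map x = (Over.map g).map y) :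
    x = y := by
  ext
  exact congrArg (fun m => m.left) h

/-- pullback squares over `S'` give pullback squares over `S`. -/
theorem isPullback_of_dag {T U V : Over S} (pV : V ⟶ T) (qV : V ⟶ U)
    (a : (yon S).obj T ⟶ (jInv g).obj F') (b : (yon S).obj U ⟶ (jInv g).obj F')
    (h : IsPullback ((yon S').map ((Over.map g).map pV)) ((yon S').map ((Over.map g).map qV))
      (dag a) (dag b)) :
    IsPullback ((yon S).map pV) ((yon S).map qV) a b := by
  have w : (yon S).map pV ≫ a = (yon S).map qV ≫ b := by
    apply dag_injective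
    rw [dag_naturality, dag_naturality, h.w]
  refine isPullback_of_points _ _ _ _ w ?_ ?_
  · intro W x y h1 h2
    obtain ⟨x₀, rfl⟩ := (yon S).map_surjective x
    obtain ⟨y₀, rfl⟩ := (yon S).map_surjective y
    rw [← Functor.map_comp, ← Functor.map_comp] at h1 h2
    have h1' := (yon S).map_injective h1
    have h2' := (yon S).map_injective h2
    congr 1
    apply map_injective (g := g)
    apply (yon S').map_injective
    apply h.hom_ext
    · rw [← Functor.map_comp, ← Functor.map_comp, ← Functor.map_comp, ← Functor.map_comp, h1']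
    · rw [← Functor.map_comp, ← Functor.map_comp, ← Functor.map_comp, ← Functor.map_comp, h2']
  · intro W x₂ x₃ hx
    obtain ⟨t, rfl⟩ := (yon S).map_surjective x₂
    obtain ⟨u, rfl⟩ := (yon S).map_surjective x₃
    have hx' : (yon S').map ((Over.map g).map t) ≫ dag a =
        (yon S').map ((Over.map g).map u) ≫ dag b := by
      rw [← dag_naturality, ← dag_naturality, hx]
    obtain ⟨v, hv⟩ := (yon S').map_surjective (h.lift _ _ hx')
    have hv1 : v ≫ (Over.map g).map pV = (Over.map g).map t := by
      apply (yon S').map_injective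
      rw [Functor.map_comp, hv]
      exact h.lift_fst _ _ hx'
    have hv2 : v ≫ (Over.map g).map qV = (Over.map g).map u := by
      apply (yon S').map_injective
      rw [Functor.map_comp, hv]
      exact h.lift_snd _ _ hx'
    have hv1l : v.left ≫ pV.left = t.left := congrArg (fun m => m.left) hv1
    have hv2l : v.left ≫ qV.left = u.left := congrArg (fun m => m.left) hv2
    have hvw : v.left ≫ V.hom = W.hom := by
      rw [← Over.w pV, ← Category.assoc, hv1l, Over.w t]
    refine ⟨(yon S).map (Over.homMk v.left hvw), ?_, ?_⟩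
    · rw [← Functor.map_comp]
      congr 1
      ext
      exact hv1l
    · rw [← Functor.map_comp]
      congr 1
      ext
      exact hv2l


/-- An `S'`-scheme with a map to `S` viewed as an `S`-scheme. -/
def overOf {W' : Over S'} (ψ : W' ⟶ Over.mk g) : Over S := Over.mk ψ.left

/-- `j (overOf ψ) ≅ W'`. -/
def overOfIso {W' : Over S'} (ψ : W' ⟶ Over.mk g) : (Over.map g).obj (overOf ψ) ≅ W' :=
  CategoryTheory.Over.isoMk (Iso.refl _) (by
    change 𝟙 _ ≫ W'.hom = ψ.left ≫ g
    rw [Category.id_comp]
    exact (CategoryTheory.Over.w ψ).symm)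

@[simp] theorem overOfIso_hom_left {W' : Over S'} (ψ : W' ⟶ Over.mk g) :
    (overOfIso ψ).hom.left = 𝟙 _ := by
  simp [overOfIso]

@[simp] theorem overOfIso_inv_left {W' : Over S'} (ψ : W' ⟶ Over.mk g) :
    (overOfIso ψ).inv.left = 𝟙 _ := by
  simp [overOfIso]
  rfl

theorem overOfIso_hom_σ {W' : Over S'} (ψ : W' ⟶ Over.mk g) :
    (overOfIso ψ).hom ≫ ψ = σ g (overOf ψ) := by
  ext
  simp [overOf]

/-- pullback squares over `S` give pullback squares over `S'`. -/
theorem isPullback_dag {T U V : Over S} (pV : V ⟶ T) (qV : V ⟶ U)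
    (a : (yon S).obj T ⟶ (jInv g).obj F') (b : (yon S).obj U ⟶ (jInv g).obj F')
    (h : IsPullback ((yon S).map pV) ((yon S).map qV) a b) :
    IsPullback ((yon S').map ((Over.map g).map pV)) ((yon S').map ((Over.map g).map qV))
      (dag a) (dag b) := by
  have w : (yon S').map ((Over.map g).map pV) ≫ dag a =
      (yon S').map ((Over.map g).map qV) ≫ dag b := by
    rw [← dag_naturality, ← dag_naturality, h.w]
  refine isPullback_of_points _ _ _ _ w ?_ ?_
  · intro W' x y h1 h2
    obtain ⟨x₀, rfl⟩ := (yon S').map_surjective x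
    obtain ⟨y₀, rfl⟩ := (yon S').map_surjective y
    rw [← Functor.map_comp, ← Functor.map_comp] at h1 h2
    have h1' := (yon S').map_injective h1
    have h2' := (yon S').map_injective h2
    have h1l : x₀.left ≫ pV.left = y₀.left ≫ pV.left := congrArg (fun m => m.left) h1'
    have h2l : x₀.left ≫ qV.left = y₀.left ≫ qV.left := congrArg (fun m => m.left) h2'
    let ψ : W' ⟶ Over.mk g := x₀ ≫ σ g V
    have hy : y₀.left ≫ V.hom = ψ.left := by
      change y₀.left ≫ V.hom = x₀.left ≫ V.hom
      rw [← Over.w pV, ← Category.assoc, ← h1l, Category.assoc]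
    let xh : overOf ψ ⟶ V := Over.homMk x₀.left rfl
    let yh : overOf ψ ⟶ V := Over.homMk y₀.left hy
    have e : (yon S).map xh = (yon S).map yh := by
      apply h.hom_ext
      · rw [← Functor.map_comp, ← Functor.map_comp]
        congr 1
        ext
        exact h1l
      · rw [← Functor.map_comp, ← Functor.map_comp]
        congr 1
        ext
        exact h2l
    have e' : x₀.left = y₀.left := congrArg (fun m => m.left) ((yon S).map_injective e)
    congr 1
    ext
    exact e'
  · intro W' x₂ x₃ hx
    obtain ⟨t', rfl⟩ := (yon S').map_surjective x₂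
    obtain ⟨u', rfl⟩ := (yon S').map_surjective x₃
    have hfst := congrArg (fun m => m ≫ prod.fst) hx
    simp only [dag, Category.assoc, prod.lift_fst, ← Functor.map_comp] at hfst
    have hfst' : t' ≫ σ g T = u' ≫ σ g U := (yon S').map_injective hfst
    have hsnd := congrArg (fun m => m ≫ prod.snd) hx
    simp only [dag, Category.assoc, prod.lift_snd] at hsnd
    let ψ : W' ⟶ Over.mk g := t' ≫ σ g T
    have hu : u'.left ≫ U.hom = ψ.left := (congrArg (fun m => m.left) hfst').symm
    let th : overOf ψ ⟶ T := Over.homMk t'.left rfl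
    let uh : overOf ψ ⟶ U := Over.homMk u'.left hu
    have hth : (Over.map g).map th = (overOfIso ψ).hom ≫ t' := by
      ext
      simp [th]
      exact (Category.id_comp _).symm
    have huh : (Over.map g).map uh = (overOfIso ψ).hom ≫ u' := by
      ext
      simp [uh]
      exact (Category.id_comp _).symm
    have hab : (yon S).map th ≫ a = (yon S).map uh ≫ b := by
      apply (tr g F').injective
      rw [tr_naturality, tr_naturality, hth, huh, Functor.map_comp, Functor.map_comp,
        Category.assoc, Category.assoc, hsnd]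
    obtain ⟨v, hv⟩ := (yon S).map_surjective (h.lift _ _ hab)
    have hv1 : v ≫ pV = th := by
      apply (yon S).map_injective
      rw [Functor.map_comp, hv]
      exact h.lift_fst _ _ hab
    have hv2 : v ≫ qV = uh := by
      apply (yon S).map_injective
      rw [Functor.map_comp, hv]
      exact h.lift_snd _ _ hab
    refine ⟨(yon S').map ((overOfIso ψ).inv ≫ (Over.map g).map v), ?_, ?_⟩
    · rw [← Functor.map_comp, Category.assoc, ← Functor.map_comp, hv1, hth, Iso.inv_hom_id_assoc]
    · rw [← Functor.map_comp, Category.assoc, ← Functor.map_comp, hv2, huh, Iso.inv_hom_id_assoc]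


/-- transfer a represented fibre product over `S'` to one over `S`. -/
theorem exists_isPullback_of_dag {T U : Over S} {V' : Over S'}
    (a : (yon S).obj T ⟶ (jInv g).obj F') (b : (yon S).obj U ⟶ (jInv g).obj F')
    (p' : V' ⟶ (Over.map g).obj T) (q' : V' ⟶ (Over.map g).obj U)
    (h : IsPullback ((yon S').map p') ((yon S').map q') (dag a) (dag b)) :
    ∃ (pV : overOf (p' ≫ σ g T) ⟶ T) (qV : overOf (p' ≫ σ g T) ⟶ U),
      pV.left = p'.left ∧ qV.left = q'.left ∧ IsPullback ((yon S).map pV) ((yon S).map qV) a b := by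
  have hfst := congrArg (fun m => m ≫ prod.fst) h.w
  simp only [dag, Category.assoc, prod.lift_fst, ← Functor.map_comp] at hfst
  have hfst' : p' ≫ σ g T = q' ≫ σ g U := (yon S').map_injective hfst
  have hq : q'.left ≫ U.hom = (p' ≫ σ g T).left := (congrArg (fun m => m.left) hfst').symm
  let pV : overOf (p' ≫ σ g T) ⟶ T := Over.homMk p'.left rfl
  let qV : overOf (p' ≫ σ g T) ⟶ U := Over.homMk q'.left hq
  have hpV : (Over.map g).map pV = (overOfIso (p' ≫ σ g T)).hom ≫ p' := by
    ext
    simp [pV]
    exact (Category.id_comp _).symm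
  have hqV : (Over.map g).map qV = (overOfIso (p' ≫ σ g T)).hom ≫ q' := by
    ext
    simp [qV]
    exact (Category.id_comp _).symm
  refine ⟨pV, qV, rfl, rfl, isPullback_of_dag pV qV a b ?_⟩
  rw [hpV, hqV, Functor.map_comp, Functor.map_comp]
  exact IsPullback.of_iso h ((yon S').mapIso (overOfIso (p' ≫ σ g T))).symm (Iso.refl _)
    (Iso.refl _) (Iso.refl _) (by simp) (by simp) (by simp) (by simp)

/-- representability with a property passes from `dag p` to `p`. -/
theorem repWith_of_dag (Q : MorphismProperty Scheme.{u}) [Q.IsStableUnderBaseChange] {U : Over S}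
    (p : (yon S).obj U ⟶ (jInv g).obj F') (h : RepWith Q (dag p)) : RepWith Q p := by
  refine MorphismProperty.relative.of_exists fun T ξ => ?_
  obtain ⟨V'', snd'', fst'', sq⟩ := h.rep (dag ξ)
  obtain ⟨f₀, rfl⟩ := (yon S').map_surjective fst''
  have hQ : Q snd''.left := h.property (dag ξ) _ _ sq
  obtain ⟨pV, qV, hp, hq, sqV⟩ := exists_isPullback_of_dag ξ p snd'' f₀ sq.flip
  refine ⟨_, (yon S).map qV, pV, sqV.flip, ?_⟩
  change Q pV.left
  rw [hp]
  exact hQ


/-- If `h_S × F'` is an algebraic space over `S'`, the restriction of `F'` to schemes over `S` is an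
algebraic space over `S`. -/
theorem isAlgSpace_jInv_of_prod (hP : IsAlgSpace ((yon S').obj (Over.mk g) ⨯ F')) :
    IsAlgSpace ((jInv g).obj F') := by
  refine ⟨Functor.relativelyRepresentable.diag_iff.2 ?_, ?_⟩
  · intro T a U b
    obtain ⟨V', snd', fst', sq⟩ := (Functor.relativelyRepresentable.of_diag hP.diag (dag a)) (dag b)
    obtain ⟨p', rfl⟩ := (yon S').map_surjective fst'
    obtain ⟨pV, qV, -, -, sqV⟩ := exists_isPullback_of_dag a b p' snd' sq
    exact ⟨_, qV, (yon S).map pV, sqV⟩
  · obtain ⟨U', p', hpe, hps⟩ := hP.atlas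
    let φ : U' ⟶ Over.mk g := (yon S').preimage (p' ≫ prod.fst)
    have hφ : (yon S').map φ = p' ≫ prod.fst := Functor.map_preimage _ _
    let p : (yon S).obj (overOf φ) ⟶ (jInv g).obj F' :=
      (tr g F').symm ((yon S').map (overOfIso φ).hom ≫ p' ≫ prod.snd)
    have hdag : dag p = (yon S').map (overOfIso φ).hom ≫ p' := by
      apply Limits.prod.hom_ext
      · rw [dag, prod.lift_fst, Category.assoc, ← hφ, ← Functor.map_comp, overOfIso_hom_σ]
      · rw [dag, prod.lift_snd, Category.assoc]
        exact Equiv.apply_symm_apply _ _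
    refine ⟨overOf φ, p, repWith_of_dag _ p ?_, repWith_of_dag _ p ?_⟩
    · rw [hdag]
      exact (MorphismProperty.cancel_left_of_respectsIso (RepWith @Etale)
        ((yon S').map (overOfIso φ).hom) p').2 hpe
    · rw [hdag]
      exact (MorphismProperty.cancel_left_of_respectsIso (RepWith @Surjective)
        ((yon S').map (overOfIso φ).hom) p').2 hps


/-- the map to `S` underlying a point of `h_S × F'`. -/
noncomputable def φof {T' : Over S'} (a' : (yon S').obj T' ⟶ (yon S').obj (Over.mk g) ⨯ F') :
    T' ⟶ Over.mk g := (yon S').preimage (a' ≫ prod.fst)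

theorem map_φof {T' : Over S'} (a' : (yon S').obj T' ⟶ (yon S').obj (Over.mk g) ⨯ F') :
    (yon S').map (φof a') = a' ≫ prod.fst := Functor.map_preimage _ _

/-- the point of `j⁻¹F'` underlying a point of `h_S × F'`. -/
noncomputable def und {T' : Over S'} (a' : (yon S').obj T' ⟶ (yon S').obj (Over.mk g) ⨯ F') :
    (yon S).obj (overOf (φof a')) ⟶ (jInv g).obj F' :=
  (tr g F').symm ((yon S').map (overOfIso (φof a')).hom ≫ a' ≫ prod.snd)

theorem dag_und {T' : Over S'} (a' : (yon S').obj T' ⟶ (yon S').obj (Over.mk g) ⨯ F') :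
    dag (und a') = (yon S').map (overOfIso (φof a')).hom ≫ a' := by
  apply Limits.prod.hom_ext
  · rw [dag, prod.lift_fst, Category.assoc, ← map_φof, ← Functor.map_comp, overOfIso_hom_σ]
  · rw [dag, prod.lift_snd, Category.assoc]
    exact Equiv.apply_symm_apply _ _

/-- transfer a represented fibre product over `S` to one over `S'`. -/
theorem isPullback_of_und {T' U' : Over S'} {V : Over S}
    (a' : (yon S').obj T' ⟶ (yon S').obj (Over.mk g) ⨯ F')
    (b' : (yon S').obj U' ⟶ (yon S').obj (Over.mk g) ⨯ F')
    (pV : V ⟶ overOf (φof a')) (qV : V ⟶ overOf (φof b'))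
    (h : IsPullback ((yon S).map pV) ((yon S).map qV) (und a') (und b')) :
    IsPullback ((yon S').map ((Over.map g).map pV ≫ (overOfIso (φof a')).hom))
      ((yon S').map ((Over.map g).map qV ≫ (overOfIso (φof b')).hom)) a' b' := by
  have h' := isPullback_dag pV qV (und a') (und b') h
  rw [dag_und, dag_und] at h'
  rw [Functor.map_comp, Functor.map_comp]
  exact IsPullback.of_iso h' (Iso.refl _) ((yon S').mapIso (overOfIso (φof a')))
    ((yon S').mapIso (overOfIso (φof b'))) (Iso.refl _) (by simp) (by simp) (by simp) (by simp)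

/-- representability with a property passes from `p` to `dag p`. -/
theorem repWith_dag (Q : MorphismProperty Scheme.{u}) [Q.IsStableUnderBaseChange] {U : Over S}
    (p : (yon S).obj U ⟶ (jInv g).obj F') (h : RepWith Q p) : RepWith Q (dag p) := by
  refine MorphismProperty.relative.of_exists fun T' ξ' => ?_
  obtain ⟨V, snd, fst, sq⟩ := h.rep (und ξ')
  obtain ⟨f₀, rfl⟩ := (yon S).map_surjective fst
  have hQ : Q snd.left := h.property (und ξ') _ _ sq
  have h' := isPullback_dag f₀ snd p (und ξ') sq
  rw [dag_und] at h'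
  have h'' : IsPullback ((yon S').map ((Over.map g).map f₀))
      ((yon S').map ((Over.map g).map snd ≫ (overOfIso (φof ξ')).hom)) (dag p) ξ' := by
    rw [Functor.map_comp]
    exact IsPullback.of_iso h' (Iso.refl _) (Iso.refl _)
      ((yon S').mapIso (overOfIso (φof ξ'))) (Iso.refl _) (by simp) (by simp) (by simp) (by simp)
  refine ⟨_, (yon S').map ((Over.map g).map f₀), _, h'', ?_⟩
  change Q ((Over.map g).map snd ≫ (overOfIso (φof ξ')).hom).left
  rw [Over.comp_left, overOfIso_hom_left]
  have : ((Over.map g).map snd).left = snd.left := rfl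
  rw [this]
  exact (Q.cancel_right_of_respectsIso snd.left (𝟙 _)).2 hQ

/-- If the restriction of `F'` to schemes over `S` is an algebraic space over `S`, then `h_S × F'` is
an algebraic space over `S'`. -/
theorem isAlgSpace_prod_of_jInv (hG : IsAlgSpace ((jInv g).obj F')) :
    IsAlgSpace ((yon S').obj (Over.mk g) ⨯ F') := by
  refine ⟨Functor.relativelyRepresentable.diag_iff.2 ?_, ?_⟩
  · intro T' a' U' b'
    obtain ⟨V, snd, fst, sq⟩ := (Functor.relativelyRepresentable.of_diag hG.diag (und a')) (und b')
    obtain ⟨pV, rfl⟩ := (yon S).map_surjective fst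
    exact ⟨_, _, _, isPullback_of_und a' b' pV snd sq⟩
  · obtain ⟨U, p, hpe, hps⟩ := hG.atlas
    exact ⟨_, dag p, repWith_dag _ p hpe, repWith_dag _ p hps⟩

end Groth.Agent.Lib.Helper15.BaseChangeSp
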