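import Mathlib
import Groth.Prelude.Def_Omega3
import Groth.Agent.Lib.Helper15.FOThickBC
import Groth.Agent.Lib.Helper29.IdealComap

set_option autoImplicit false
set_option backward.isDefEq.respectTransparency.types false
universe u
open CategoryTheory CategoryTheory.Limits AlgebraicGeometry Opposite

namespace Groth.Agent.Lib.Helper15.UnivThick

/-- the inverse image of a square-zero ideal sheaf has square zero -/
theorem sq_comap_eq_bot {X Y : Scheme.{u}} (K : Y.IdealSheafData) (g : X ⟶ Y)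
    (h : K * K = ⊥) : K.comap g * K.comap g = ⊥ := by
  let ι := { U : X.affineOpens // ∃ V : Y.affineOpens, U.1 ≤ g ⁻¹ᵁ V.1 }
  have hcov : ⨆ i : ι, (i.1 : X.affineOpens).1 = ⊤ := by
    rw [eq_top_iff]
    intro x _
    obtain ⟨_, ⟨V, hV : IsAffineOpen V, rfl⟩, hxV, -⟩ :=
      Y.isBasis_affineOpens.exists_subset_of_mem_open (Set.mem_univ (g x)) isOpen_univ
    obtain ⟨_, ⟨U, hU : IsAffineOpen U, rfl⟩, hxU, hUV⟩ :=
      X.isBasis_affineOpens.exists_subset_of_mem_open (show x ∈ (g ⁻¹ᵁ V : Set X) from hxV)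
        (g ⁻¹ᵁ V).2
    exact TopologicalSpace.Opens.mem_iSup.2 ⟨⟨⟨U, hU⟩, ⟨V, hV⟩, hUV⟩, hxU⟩
  refine Scheme.IdealSheafData.ext_of_iSup_eq_top (fun i : ι => i.1) hcov ?_
  rintro ⟨U, V, e⟩
  have h1 := Groth.Agent.Lib.Helper29.EffCart.ideal_comap_eq_map K g V U e
  have h2 : K.ideal V * K.ideal V = ⊥ := by
    have := congrArg (fun J : Y.IdealSheafData => J.ideal V) h
    simpa using this
  change (K.comap g).ideal U * (K.comap g).ideal U = ⊥
  rw [h1, ← Ideal.map_mul, h2, Ideal.map_bot]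

/-- first-order thickenings are stable under base change -/
theorem isFirstOrderThickening_of_isPullback {Z Z' W W' : Scheme.{u}} (j : W ⟶ W')
    (hj : MoreMor.IsFirstOrderThickening j) (i : Z ⟶ Z') (f : Z ⟶ W) (g : Z' ⟶ W')
    (sq : IsPullback f i j g) : MoreMor.IsFirstOrderThickening i := by
  obtain ⟨⟨hj1, hj2⟩, hj3⟩ := hj
  refine ⟨⟨MorphismProperty.of_isPullback sq hj1, MorphismProperty.of_isPullback sq hj2⟩, ?_⟩
  have hk : i.ker = j.ker.comap g := FOThickBC.ker_eq_comap_of_isPullback j g i f sq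
  rw [hk]
  exact sq_comap_eq_bot _ _ hj3

/-- an ideal sheaf on a closed subscheme has square zero if its direct image does -/
theorem sq_eq_bot_of_map_closedImmersion {Q Z' : Scheme.{u}} (K : Q.IdealSheafData) (s : Q ⟶ Z')
    [IsClosedImmersion s] (h : K.map s * K.map s = ⊥) : K * K = ⊥ := by
  have hcov : ⨆ i : Z'.affineOpens, (⟨s ⁻¹ᵁ i.1, i.2.preimage s⟩ : Q.affineOpens).1 = ⊤ := by
    rw [eq_top_iff]
    intro x _
    obtain ⟨_, ⟨V, hV : IsAffineOpen V, rfl⟩, hxV, -⟩ :=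
      Z'.isBasis_affineOpens.exists_subset_of_mem_open (Set.mem_univ (s x)) isOpen_univ
    exact TopologicalSpace.Opens.mem_iSup.2 ⟨⟨V, hV⟩, hxV⟩
  refine Scheme.IdealSheafData.ext_of_iSup_eq_top
    (fun i : Z'.affineOpens => (⟨s ⁻¹ᵁ i.1, i.2.preimage s⟩ : Q.affineOpens)) hcov ?_
  intro U'
  have h1 := Scheme.IdealSheafData.ideal_map_of_isAffineHom K s U'
  have hsurj : Function.Surjective (s.app U'.1).hom := s.app_surjective U'.1 U'.2
  have h2 : (K.map s).ideal U' * (K.map s).ideal U' = ⊥ := by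
    have := congrArg (fun J : Z'.IdealSheafData => J.ideal U') h
    simpa using this
  have h3 : K.ideal ⟨s ⁻¹ᵁ U'.1, U'.2.preimage s⟩ = ((K.map s).ideal U').map (s.app U'.1).hom := by
    rw [h1, Ideal.map_comap_of_surjective _ hsurj]
  change K.ideal _ * K.ideal _ = ⊥
  rw [h3, ← Ideal.map_mul, h2, Ideal.map_bot]

/-- if `f ≫ s` is a first-order thickening and `s` is a closed immersion, `f` is a first-order thickening -/
theorem isFirstOrderThickening_of_comp {Z Q Z' : Scheme.{u}} (f : Z ⟶ Q) (s : Q ⟶ Z')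
    [IsClosedImmersion s] (h : MoreMor.IsFirstOrderThickening (f ≫ s)) :
    MoreMor.IsFirstOrderThickening f := by
  obtain ⟨⟨h1, h2⟩, h3⟩ := h
  refine ⟨⟨IsClosedImmersion.of_comp f s, ⟨?_⟩⟩, ?_⟩
  · intro q
    obtain ⟨z, hz⟩ := h2.surj (s q)
    refine ⟨z, ?_⟩
    apply s.isEmbedding.injective
    rw [← hz]; rfl
  · apply sq_eq_bot_of_map_closedImmersion f.ker s
    rw [Scheme.IdealSheafData.map_ker]
    exact h3

/-- an ideal sheaf on a closed subscheme has square zero if the square of its direct image is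
contained in the ideal of the closed subscheme -/
theorem sq_eq_bot_of_map_closedImmersion' {Q Z' : Scheme.{u}} (K : Q.IdealSheafData) (s : Q ⟶ Z')
    [IsClosedImmersion s] (h : K.map s * K.map s ≤ s.ker) : K * K = ⊥ := by
  have hcov : ⨆ i : Z'.affineOpens, (⟨s ⁻¹ᵁ i.1, i.2.preimage s⟩ : Q.affineOpens).1 = ⊤ := by
    rw [eq_top_iff]
    intro x _
    obtain ⟨_, ⟨V, hV : IsAffineOpen V, rfl⟩, hxV, -⟩ :=
      Z'.isBasis_affineOpens.exists_subset_of_mem_open (Set.mem_univ (s x)) isOpen_univ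
    exact TopologicalSpace.Opens.mem_iSup.2 ⟨⟨V, hV⟩, hxV⟩
  refine Scheme.IdealSheafData.ext_of_iSup_eq_top
    (fun i : Z'.affineOpens => (⟨s ⁻¹ᵁ i.1, i.2.preimage s⟩ : Q.affineOpens)) hcov ?_
  intro U'
  have h1 := Scheme.IdealSheafData.ideal_map_of_isAffineHom K s U'
  have hsurj : Function.Surjective (s.app U'.1).hom := s.app_surjective U'.1 U'.2
  have h2 : (K.map s).ideal U' * (K.map s).ideal U' ≤ RingHom.ker (s.app U'.1).hom := by
    rw [← Scheme.Hom.ker_apply]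
    exact h U'
  have h3 : K.ideal ⟨s ⁻¹ᵁ U'.1, U'.2.preimage s⟩ = ((K.map s).ideal U').map (s.app U'.1).hom := by
    rw [h1, Ideal.map_comap_of_surjective _ hsurj]
  change K.ideal _ * K.ideal _ = ⊥
  rw [h3, ← Ideal.map_mul, Ideal.map_eq_bot_iff_le_ker]
  exact h2

theorem mul_self_le {T : Scheme.{u}} (K : T.IdealSheafData) : K * K ≤ K :=
  fun _ => Ideal.mul_le_right

/-- `V(K) ⊆ V(K²)` is a first-order thickening -/
theorem isFirstOrderThickening_inclusion {T : Scheme.{u}} (K : T.IdealSheafData) :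
    MoreMor.IsFirstOrderThickening (Scheme.IdealSheafData.inclusion (mul_self_le K)) := by
  have hfac : Scheme.IdealSheafData.inclusion (mul_self_le K) ≫ (K * K).subschemeι =
      K.subschemeι := Scheme.IdealSheafData.inclusion_subschemeι _
  have hcl : IsClosedImmersion (Scheme.IdealSheafData.inclusion (mul_self_le K)) := by
    have : IsClosedImmersion (Scheme.IdealSheafData.inclusion (mul_self_le K) ≫
        (K * K).subschemeι) := by rw [hfac]; infer_instance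
    exact IsClosedImmersion.of_comp _ (K * K).subschemeι
  refine ⟨⟨hcl, ⟨?_⟩⟩, ?_⟩
  · intro q
    have hq : (K * K).subschemeι q ∈ Set.range K.subschemeι := by
      rw [Scheme.IdealSheafData.range_subschemeι]
      have := Set.mem_range_self (f := (K * K).subschemeι) q
      rw [Scheme.IdealSheafData.range_subschemeι, Scheme.IdealSheafData.support_mul] at this
      simpa using this
    obtain ⟨z, hz⟩ := hq
    refine ⟨z, ?_⟩
    apply (K * K).subschemeι.isEmbedding.injective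
    rw [← hz, ← hfac]; rfl
  · apply sq_eq_bot_of_map_closedImmersion' _ (K * K).subschemeι
    rw [Scheme.IdealSheafData.map_ker, hfac, Scheme.IdealSheafData.ker_subschemeι,
      Scheme.IdealSheafData.ker_subschemeι]

/-- one step of the unramifiedness argument -/
theorem equalizer_step {Z Z' X : Scheme.{u}} (h : Z ⟶ X) (i : Z ⟶ Z') (h' : Z' ⟶ X)
    (hu : OmegaSh.IsUnivThickening h i h') {T' : Scheme.{u}} (I : T'.IdealSheafData)
    (g₁ g₂ : T' ⟶ Z') (hI : I.subschemeι ≫ g₁ = I.subschemeι ≫ g₂) (hg : g₁ ≫ h' = g₂ ≫ h') :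
    ((i.ker.comap g₁ ⊔ I) * (i.ker.comap g₁ ⊔ I)).subschemeι ≫ g₁ =
      ((i.ker.comap g₁ ⊔ I) * (i.ker.comap g₁ ⊔ I)).subschemeι ≫ g₂ := by
  obtain ⟨hi, hih, huniv⟩ := hu
  have : IsClosedImmersion i := hi.1.1
  set K := i.ker.comap g₁ ⊔ I with hK
  have H : i.ker ≤ (K.subschemeι ≫ g₁).ker := by
    rw [Scheme.Hom.ker_comp, Scheme.IdealSheafData.ker_subschemeι,
      Scheme.IdealSheafData.le_map_iff_comap_le]
    exact le_sup_left
  have hα : IsClosedImmersion.lift i (K.subschemeι ≫ g₁) H ≫ i = K.subschemeι ≫ g₁ :=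
    IsClosedImmersion.lift_fac _ _ _
  have hK12 : K.subschemeι ≫ g₁ = K.subschemeι ≫ g₂ := by
    rw [← Scheme.IdealSheafData.inclusion_subschemeι (le_sup_right : I ≤ K), Category.assoc, hI,
      Category.assoc]
  have hfac : Scheme.IdealSheafData.inclusion (mul_self_le K) ≫ (K * K).subschemeι =
      K.subschemeι := Scheme.IdealSheafData.inclusion_subschemeι _
  have hpre : Scheme.IdealSheafData.inclusion (mul_self_le K) ≫ ((K * K).subschemeι ≫ g₁ ≫ h') =
      IsClosedImmersion.lift i (K.subschemeι ≫ g₁) H ≫ h := by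
    rw [← Category.assoc, hfac, ← hih, ← Category.assoc, ← Category.assoc, hα]
  obtain ⟨c, -, hcu⟩ := huniv _ _ (Scheme.IdealSheafData.inclusion (mul_self_le K))
    ((K * K).subschemeι ≫ g₁ ≫ h') (IsClosedImmersion.lift i (K.subschemeι ≫ g₁) H)
    (isFirstOrderThickening_inclusion K) hpre
  have e1 : (K * K).subschemeι ≫ g₁ = c := by
    apply hcu
    refine ⟨?_, by rw [Category.assoc]⟩
    rw [← Category.assoc, hfac, hα]
  have e2 : (K * K).subschemeι ≫ g₂ = c := by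
    apply hcu
    refine ⟨?_, by rw [Category.assoc, hg]⟩
    rw [← Category.assoc, hfac, hα, hK12]
  rw [e1, e2]

theorem ker_SpecMap_sq {R S : CommRingCat.{u}} (φ : R ⟶ S) (h : RingHom.ker φ.hom ^ 2 = ⊥) :
    (Spec.map φ).ker * (Spec.map φ).ker = ⊥ := by
  apply Scheme.IdealSheafData.ext_of_isAffine
  rw [Scheme.IdealSheafData.ideal_mul, Pi.mul_apply, Scheme.IdealSheafData.ideal_bot, Pi.bot_apply,
    eq_bot_iff, Ideal.mul_le]
  intro x hx y hy
  rw [Scheme.Hom.ker_apply, RingHom.mem_ker] at hx hy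
  have key : ∀ z : Γ(Spec R, ⊤), (Spec.map φ).app ⊤ z = 0 →
      (Scheme.ΓSpecIso R).hom z ∈ RingHom.ker φ.hom := by
    intro z hz
    have h1 := congrArg (fun ψ => ψ.hom z) (Scheme.ΓSpecIso_naturality φ)
    simp only [CommRingCat.hom_comp, RingHom.coe_comp, Function.comp_apply] at h1
    have h2 : (Spec.map φ).appTop z = 0 := hz
    rw [h2, map_zero] at h1
    exact h1.symm
  have hxy : (Scheme.ΓSpecIso R).hom (x * y) ∈ RingHom.ker φ.hom ^ 2 := by
    rw [map_mul, pow_two]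
    exact Ideal.mul_mem_mul (key x hx) (key y hy)
  rw [h, Ideal.mem_bot] at hxy
  have hinj : Function.Injective (Scheme.ΓSpecIso R).hom :=
    (ConcreteCategory.bijective_of_isIso _).1
  rw [Ideal.mem_bot]
  exact hinj (by rw [hxy, map_zero])

/-- the structure morphism of a universal first order thickening is formally unramified -/
theorem formallyUnramified_of_isUnivThickening {Z Z' X : Scheme.{u}} (h : Z ⟶ X)
    (i : Z ⟶ Z') (h' : Z' ⟶ X) (hu : OmegaSh.IsUnivThickening h i h') : FormallyUnramified h' := by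
  apply FormallyUnramified.of_hom_ext
  intro R S φ hφ hker g₁ g₂ h12 hg
  have : IsClosedImmersion (Spec.map φ) := IsClosedImmersion.spec_of_surjective φ hφ
  set I := (Spec.map φ).ker with hI
  have hII : I * I = ⊥ := ker_SpecMap_sq φ hker
  have hI12 : I.subschemeι ≫ g₁ = I.subschemeι ≫ g₂ := by
    have hfac : IsClosedImmersion.lift (Spec.map φ) I.subschemeι
        (by rw [Scheme.IdealSheafData.ker_subschemeι]) ≫ Spec.map φ = I.subschemeι :=
      IsClosedImmersion.lift_fac _ _ _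
    rw [← hfac, Category.assoc, h12, Category.assoc]
  set J := i.ker.comap g₁ with hJ
  have hJJ : J * J = ⊥ := sq_comap_eq_bot _ _ hu.1.2
  have s1 := equalizer_step h i h' hu I g₁ g₂ hI12 hg
  have s2 := equalizer_step h i h' hu _ g₁ g₂ s1 hg
  have hzero : (J ⊔ (J ⊔ I) * (J ⊔ I)) * (J ⊔ (J ⊔ I) * (J ⊔ I)) = ⊥ := by
    have e0 : (J + I) * (J + I) = J * (I + I) := by
      have : (J + I) * (J + I) = J * J + J * (I + I) + I * I := by ring
      rw [this]
      change (J * J ⊔ J * (I + I)) ⊔ I * I = _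
      rw [hJJ, hII, bot_sup_eq, sup_bot_eq]
    change (J + (J + I) * (J + I)) * (J + (J + I) * (J + I)) = ⊥
    rw [e0]
    have : (J + J * (I + I)) * (J + J * (I + I)) = (J * J) * ((1 + (I + I)) * (1 + (I + I))) := by
      ring
    rw [this, hJJ]
    exact Scheme.IdealSheafData.bot_mul _
  have hgen : ∀ L : (Spec R).IdealSheafData, L = ⊥ →
      L.subschemeι ≫ g₁ = L.subschemeι ≫ g₂ → g₁ = g₂ := by
    intro L hL hL12
    subst hL
    exact (cancel_epi _).1 hL12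
  exact hgen _ hzero s2

/-- a thickening is a homeomorphism: every open of the source is the preimage of an open -/
theorem exists_opens_preimage_eq {Z Z' : Scheme.{u}} (i : Z ⟶ Z') (hi : MoreMor.IsThickening i)
    (U : Z.Opens) : ∃ V' : Z'.Opens, i ⁻¹ᵁ V' = U := by
  have : IsClosedImmersion i := hi.1
  have hcl : IsClosedMap i := i.isClosedEmbedding.isClosedMap
  have hinj : Function.Injective i := i.isClosedEmbedding.injective
  refine ⟨⟨(i '' (U : Set Z)ᶜ)ᶜ, (hcl _ U.2.isClosed_compl).isOpen_compl⟩, ?_⟩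
  ext z
  change i z ∈ (i '' (U : Set Z)ᶜ)ᶜ ↔ z ∈ U
  rw [Set.mem_compl_iff, hinj.mem_set_image]
  exact not_not

/-- restriction of a universal first-order thickening along an open immersion -/
theorem isUnivThickening_of_openImmersion {W₀ TW X V₀ : Scheme.{u}} (g : W₀ ⟶ X) (iW : W₀ ⟶ TW)
    (hW : TW ⟶ X) (hu : OmegaSh.IsUnivThickening g iW hW) (v : V₀ ⟶ W₀) [IsOpenImmersion v]
    (V' : TW.Opens) (hV' : iW ⁻¹ᵁ V' = v.opensRange) (i₀ : V₀ ⟶ V'.toScheme)
    (hi₀ : i₀ ≫ V'.ι = v ≫ iW) : OmegaSh.IsUnivThickening (v ≫ g) i₀ (V'.ι ≫ hW) := by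
  obtain ⟨hi, hih, huniv⟩ := hu
  refine ⟨?_, ?_, ?_⟩
  · have sq : IsPullback i₀ v V'.ι iW :=
      IsOpenImmersion.isPullback i₀ v V'.ι iW hi₀.symm (by rw [Scheme.Opens.opensRange_ι, hV'])
    exact isFirstOrderThickening_of_isPullback iW hi i₀ v V'.ι sq.flip
  · rw [← Category.assoc, hi₀, Category.assoc, hih]
  · intro T T' jT b a hjT hcomm
    have hcomm' : jT ≫ b = (a ≫ v) ≫ g := by rw [hcomm, Category.assoc]
    obtain ⟨c, ⟨hc1, hc2⟩, hcu⟩ := huniv T T' jT b (a ≫ v) hjT hcomm'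
    have hrange : Set.range c ⊆ Set.range V'.ι := by
      rintro _ ⟨t', rfl⟩
      obtain ⟨t, rfl⟩ := hjT.1.2.surj t'
      rw [Scheme.Opens.range_ι]
      have h1 : c (jT t) = iW (v (a t)) := by
        rw [← Scheme.Hom.comp_apply, hc1]; rfl
      rw [h1]
      have h2 : v (a t) ∈ iW ⁻¹ᵁ V' := by
        rw [hV']; exact ⟨a t, rfl⟩
      exact h2
    refine ⟨IsOpenImmersion.lift V'.ι c hrange, ⟨?_, ?_⟩, ?_⟩
    · rw [← cancel_mono V'.ι, Category.assoc, IsOpenImmersion.lift_fac, hc1, Category.assoc,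
        Category.assoc, hi₀]
    · rw [IsOpenImmersion.lift_fac_assoc, hc2]
    · rintro a'' ⟨ha1, ha2⟩
      rw [← cancel_mono V'.ι, IsOpenImmersion.lift_fac]
      apply hcu
      refine ⟨?_, ?_⟩
      · rw [← Category.assoc, ha1, Category.assoc, hi₀, Category.assoc]
      · rw [Category.assoc, ha2]

/-- existence form of the restriction -/
theorem exists_isUnivThickening_of_openImmersion {W₀ TW X V₀ : Scheme.{u}} (g : W₀ ⟶ X)
    (iW : W₀ ⟶ TW) (hW : TW ⟶ X) (hu : OmegaSh.IsUnivThickening g iW hW) (v : V₀ ⟶ W₀)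
    [IsOpenImmersion v] :
    ∃ (V' : TW.Opens) (i₀ : V₀ ⟶ V'.toScheme), iW ⁻¹ᵁ V' = v.opensRange ∧ i₀ ≫ V'.ι = v ≫ iW ∧
      OmegaSh.IsUnivThickening (v ≫ g) i₀ (V'.ι ≫ hW) := by
  obtain ⟨V', hV'⟩ := exists_opens_preimage_eq iW hu.1.1 v.opensRange
  have hrange : Set.range (v ≫ iW) ⊆ Set.range V'.ι := by
    rintro _ ⟨t, rfl⟩
    rw [Scheme.Opens.range_ι]
    have h2 : v t ∈ iW ⁻¹ᵁ V' := by
      rw [hV']; exact ⟨t, rfl⟩
    exact h2
  refine ⟨V', IsOpenImmersion.lift V'.ι (v ≫ iW) hrange, hV', IsOpenImmersion.lift_fac _ _ _, ?_⟩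
  exact isUnivThickening_of_openImmersion g iW hW hu v V' hV' _ (IsOpenImmersion.lift_fac _ _ _)

/-- comparison map between two universal thickenings of the same morphism is an isomorphism -/
theorem isIso_of_isUnivThickening {W₀ X T₁ T₂ : Scheme.{u}} (g : W₀ ⟶ X)
    (i₁ : W₀ ⟶ T₁) (h₁ : T₁ ⟶ X) (hu₁ : OmegaSh.IsUnivThickening g i₁ h₁)
    (i₂ : W₀ ⟶ T₂) (h₂ : T₂ ⟶ X) (hu₂ : OmegaSh.IsUnivThickening g i₂ h₂)
    (t : T₁ ⟶ T₂) (ht1 : i₁ ≫ t = i₂) (ht2 : t ≫ h₂ = h₁) : IsIso t := by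
  obtain ⟨s, ⟨hs1, hs2⟩, -⟩ := hu₁.2.2 W₀ T₂ i₂ h₂ (𝟙 W₀) hu₂.1 (by rw [hu₂.2.1, Category.id_comp])
  rw [Category.id_comp] at hs1
  obtain ⟨c₁, -, hc₁⟩ := hu₁.2.2 W₀ T₁ i₁ h₁ (𝟙 W₀) hu₁.1 (by rw [hu₁.2.1, Category.id_comp])
  obtain ⟨c₂, -, hc₂⟩ := hu₂.2.2 W₀ T₂ i₂ h₂ (𝟙 W₀) hu₂.1 (by rw [hu₂.2.1, Category.id_comp])
  refine ⟨s, ?_, ?_⟩
  · have e1 : t ≫ s = c₁ := hc₁ _ ⟨by rw [← Category.assoc, ht1, hs1, Category.id_comp],
      by rw [Category.assoc, hs2, ht2]⟩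
    have e2 : 𝟙 T₁ = c₁ := hc₁ _ ⟨by rw [Category.comp_id, Category.id_comp],
      by rw [Category.id_comp]⟩
    rw [e1, e2]
  · have e1 : s ≫ t = c₂ := hc₂ _ ⟨by rw [← Category.assoc, hs1, ht1, Category.id_comp],
      by rw [Category.assoc, ht2, hs2]⟩
    have e2 : 𝟙 T₂ = c₂ := hc₂ _ ⟨by rw [Category.comp_id, Category.id_comp],
      by rw [Category.id_comp]⟩
    rw [e1, e2]

/-- the transition map between universal thickenings along an open immersion is an open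
immersion -/
theorem isOpenImmersion_of_isUnivThickening {W₀ X V₀ TV TW : Scheme.{u}} (g : W₀ ⟶ X)
    (iW : W₀ ⟶ TW) (hW : TW ⟶ X) (huW : OmegaSh.IsUnivThickening g iW hW)
    (v : V₀ ⟶ W₀) [IsOpenImmersion v]
    (iV : V₀ ⟶ TV) (hV : TV ⟶ X) (huV : OmegaSh.IsUnivThickening (v ≫ g) iV hV)
    (t : TV ⟶ TW) (ht1 : iV ≫ t = v ≫ iW) (ht2 : t ≫ hW = hV) : IsOpenImmersion t := by
  obtain ⟨V', i₀, hV', hi₀, hu₀⟩ := exists_isUnivThickening_of_openImmersion g iW hW huW v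
  obtain ⟨φ, ⟨hφ1, hφ2⟩, -⟩ := hu₀.2.2 V₀ TV iV hV (𝟙 V₀) huV.1
    (by rw [huV.2.1, Category.id_comp])
  rw [Category.id_comp] at hφ1
  have : IsIso φ := isIso_of_isUnivThickening (v ≫ g) iV hV huV i₀ (V'.ι ≫ hW) hu₀ φ hφ1 hφ2
  obtain ⟨c, -, hc⟩ := huW.2.2 V₀ TV iV hV v huV.1 (by rw [huV.2.1])
  have e1 : t = c := hc _ ⟨ht1, ht2⟩
  have e2 : φ ≫ V'.ι = c := hc _ ⟨by rw [← Category.assoc, hφ1, hi₀],
    by rw [Category.assoc, hφ2]⟩
  rw [e1, ← e2]
  infer_instance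

/-- the universal property of a universal first-order thickening can be tested on affine `T'` -/
theorem isUnivThickening_of_affine_tests {Z Z' X : Scheme.{u}} (h : Z ⟶ X) (i : Z ⟶ Z')
    (h' : Z' ⟶ X) (hi : MoreMor.IsFirstOrderThickening i) (hih : i ≫ h' = h)
    (H : ∀ (T T' : Scheme.{u}) (j : T ⟶ T') (b : T' ⟶ X) (a : T ⟶ Z), IsAffine T' →
      MoreMor.IsFirstOrderThickening j → j ≫ b = a ≫ h →
        ∃! a' : T' ⟶ Z', j ≫ a' = a ≫ i ∧ a' ≫ h' = b) :
    OmegaSh.IsUnivThickening h i h' := by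
  refine ⟨hi, hih, ?_⟩
  intro T T' j b a hj hcomm
  -- local data
  have hloc : ∀ W : T'.affineOpens, ∃! a' : W.1.toScheme ⟶ Z',
      (j ∣_ W.1) ≫ a' = ((j ⁻¹ᵁ W.1).ι ≫ a) ≫ i ∧ a' ≫ h' = W.1.ι ≫ b := by
    intro W
    have sq : IsPullback (j ∣_ W.1) (j ⁻¹ᵁ W.1).ι W.1.ι j := isPullback_morphismRestrict j W.1
    refine H _ _ (j ∣_ W.1) (W.1.ι ≫ b) ((j ⁻¹ᵁ W.1).ι ≫ a) W.2
      (isFirstOrderThickening_of_isPullback j hj _ _ _ sq.flip) ?_
    rw [← Category.assoc, morphismRestrict_ι, Category.assoc, hcomm, Category.assoc]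
  choose aW haW haWu using hloc
  have hres : ∀ (W₁ W₂ : T'.affineOpens) (hle : W₁ ≤ W₂),
      T'.homOfLE hle ≫ aW W₂ = aW W₁ := by
    intro W₁ W₂ hle
    apply haWu W₁
    have hle' : j ⁻¹ᵁ W₁.1 ≤ j ⁻¹ᵁ W₂.1 := fun x hx => hle hx
    have hnat : (j ∣_ W₁.1) ≫ T'.homOfLE hle = T.homOfLE hle' ≫ (j ∣_ W₂.1) := by
      rw [← cancel_mono W₂.1.ι]
      simp only [Category.assoc, Scheme.homOfLE_ι, morphismRestrict_ι, Scheme.homOfLE_ι_assoc]
    refine ⟨?_, ?_⟩
    · rw [← Category.assoc, hnat, Category.assoc, (haW W₂).1]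
      simp only [← Category.assoc, Scheme.homOfLE_ι]
    · rw [Category.assoc, (haW W₂).2, ← Category.assoc, Scheme.homOfLE_ι]
  let 𝒰 := T'.directedAffineCover
  let a' : T' ⟶ Z' := 𝒰.glueMorphismsOfLocallyDirected (fun W => aW W) (by
    intro W₁ W₂ f
    have hf : f = homOfLE (leOfHom f) := Subsingleton.elim _ _
    rw [hf]
    exact hres W₁ W₂ (leOfHom f))
  have ha' : ∀ W : T'.affineOpens, W.1.ι ≫ a' = aW W := fun W =>
    𝒰.map_glueMorphismsOfLocallyDirected _ _ W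
  have hcov : TopologicalSpace.IsOpenCover (fun W : T'.affineOpens => j ⁻¹ᵁ W.1) := by
    apply TopologicalSpace.IsOpenCover.mk
    rw [eq_top_iff]
    intro t _
    obtain ⟨_, ⟨V, hV : IsAffineOpen V, rfl⟩, htV, -⟩ :=
      T'.isBasis_affineOpens.exists_subset_of_mem_open (Set.mem_univ (j t)) isOpen_univ
    exact TopologicalSpace.Opens.mem_iSup.2 ⟨⟨V, hV⟩, htV⟩
  refine ⟨a', ⟨?_, ?_⟩, ?_⟩
  · apply (T.openCoverOfIsOpenCover _ hcov).hom_ext
    intro W
    change (j ⁻¹ᵁ W.1).ι ≫ j ≫ a' = (j ⁻¹ᵁ W.1).ι ≫ a ≫ i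
    rw [← Category.assoc, ← morphismRestrict_ι, Category.assoc, ha', (haW W).1, Category.assoc]
  · apply 𝒰.hom_ext
    intro W
    change W.1.ι ≫ a' ≫ h' = W.1.ι ≫ b
    rw [← Category.assoc, ha', (haW W).2]
  · rintro a'' ⟨h1, h2⟩
    apply 𝒰.hom_ext
    intro W
    change W.1.ι ≫ a'' = W.1.ι ≫ a'
    rw [ha']
    apply haWu W
    refine ⟨?_, ?_⟩
    · rw [← Category.assoc, morphismRestrict_ι, Category.assoc, h1, Category.assoc]
    · rw [Category.assoc, h2]

/-- A first-order thickening of an affine scheme is isomorphic to a standard pair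
`Spec (A ⧸ I) ⟶ Spec A` with `I ^ 2 = ⊥`. -/
theorem exists_standard_of_affine {T T' : Scheme.{u}} (hT' : IsAffine T') (j : T ⟶ T')
    (hj : MoreMor.IsFirstOrderThickening j) :
    ∃ (A : Type u) (_ : CommRing A) (I : Ideal A) (_ : I ^ 2 = ⊥) (e' : T' ≅ Spec (.of A))
      (e : T ≅ Spec (.of (A ⧸ I))),
      e.hom ≫ Spec.map (CommRingCat.ofHom (Ideal.Quotient.mk I)) = j ≫ e'.hom := by
  have : IsClosedImmersion j := hj.1.1
  let e' : T' ≅ Spec Γ(T', ⊤) := T'.isoSpec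
  have hci : IsClosedImmersion (j ≫ e'.hom) := inferInstance
  obtain ⟨I, e, hg⟩ := (IsClosedImmersion.Spec_iff (f := j ≫ e'.hom)).mp hci
  have hKK : ∀ x y : Γ(T', ⊤), j.appTop x = 0 → j.appTop y = 0 → x * y = 0 := by
    intro x y hx hy
    have hker : j.ker * j.ker = ⊥ := hj.2
    have h1 := congrArg (fun I => I.ideal ⟨⊤, isAffineOpen_top T'⟩) hker
    simp only [Scheme.IdealSheafData.ideal_mul, Pi.mul_apply, Scheme.Hom.ker_apply,
      Scheme.IdealSheafData.ideal_bot, Pi.bot_apply] at h1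
    have h2 : x * y ∈ RingHom.ker (j.app ⊤).hom * RingHom.ker (j.app ⊤).hom :=
      Ideal.mul_mem_mul hx hy
    rw [h1] at h2
    exact h2
  have hI : I ^ 2 = ⊥ := by
    rw [pow_two, eq_bot_iff, Ideal.mul_le]
    intro x hx y hy
    have key : ∀ z ∈ I, j.appTop z = 0 := by
      intro z hz
      have h1 : (j ≫ e'.hom).appTop ((Scheme.ΓSpecIso Γ(T', ⊤)).inv z) =
          j.appTop z := by
        rw [Scheme.Hom.comp_appTop]
        change j.appTop (T'.toSpecΓ.appTop ((Scheme.ΓSpecIso Γ(T', ⊤)).inv z)) = _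
        rw [Scheme.toSpecΓ_appTop]
        simp
      rw [← h1, hg, Scheme.Hom.comp_appTop]
      have h2 : (Spec.map (CommRingCat.ofHom (Ideal.Quotient.mk I))).appTop
          ((Scheme.ΓSpecIso Γ(T', ⊤)).inv z) = 0 := by
        have := congrArg (fun φ => φ z) (congrArg (fun φ => φ.hom)
          (Scheme.ΓSpecIso_inv_naturality (CommRingCat.ofHom (Ideal.Quotient.mk I))))
        simp only [CommRingCat.hom_comp, RingHom.coe_comp, Function.comp_apply,
          CommRingCat.hom_ofHom] at this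
        exact this.symm.trans (by rw [Ideal.Quotient.eq_zero_iff_mem.mpr hz, map_zero])
      change e.hom.appTop ((Spec.map (CommRingCat.ofHom (Ideal.Quotient.mk I))).appTop
        ((Scheme.ΓSpecIso Γ(T', ⊤)).inv z)) = 0
      rw [h2, map_zero]
    have := hKK x y (key x hx) (key y hy)
    rw [this]
    exact Ideal.zero_mem _
  exact ⟨Γ(T', ⊤), inferInstance, I, hI, e', e, hg.symm⟩

/-- the universal property of a universal first-order thickening can be tested on standard pairs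
`Spec (A ⧸ I) ⟶ Spec A` -/
theorem isUnivThickening_of_standard_tests {Z Z' X : Scheme.{u}} (h : Z ⟶ X) (i : Z ⟶ Z')
    (h' : Z' ⟶ X) (hi : MoreMor.IsFirstOrderThickening i) (hih : i ≫ h' = h)
    (H : ∀ (A : Type u) [CommRing A] (I : Ideal A), I ^ 2 = ⊥ → ∀ (b : Spec (.of A) ⟶ X)
      (a : Spec (.of (A ⧸ I)) ⟶ Z),
      Spec.map (CommRingCat.ofHom (Ideal.Quotient.mk I)) ≫ b = a ≫ h →
        ∃! a' : Spec (.of A) ⟶ Z',
          Spec.map (CommRingCat.ofHom (Ideal.Quotient.mk I)) ≫ a' = a ≫ i ∧ a' ≫ h' = b) :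
    OmegaSh.IsUnivThickening h i h' := by
  apply isUnivThickening_of_affine_tests h i h' hi hih
  intro T T' j b a hT' hj hcomm
  obtain ⟨A, _, I, hI, e', e, he⟩ := exists_standard_of_affine hT' j hj
  have he' : Spec.map (CommRingCat.ofHom (Ideal.Quotient.mk I)) ≫ e'.inv = e.inv ≫ j := by
    rw [Iso.comp_inv_eq, Category.assoc, ← he, Iso.inv_hom_id_assoc]
  obtain ⟨a₀, ⟨h1, h2⟩, hu⟩ := H A I hI (e'.inv ≫ b) (e.inv ≫ a) (by
    rw [← Category.assoc, he', Category.assoc, hcomm, Category.assoc])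
  refine ⟨e'.hom ≫ a₀, ⟨?_, ?_⟩, ?_⟩
  · rw [← Category.assoc, ← he, Category.assoc, h1, Category.assoc, Iso.hom_inv_id_assoc]
  · rw [Category.assoc, h2, Iso.hom_inv_id_assoc]
  · rintro a'' ⟨k1, k2⟩
    have : e'.inv ≫ a'' = a₀ := by
      apply hu
      refine ⟨?_, ?_⟩
      · rw [← Category.assoc, he', Category.assoc, k1, Category.assoc]
      · rw [Category.assoc, k2]
    rw [← this, Iso.hom_inv_id_assoc]

/-- gluing morphisms along a family of opens, with compatibility on intersections -/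
theorem exists_glue_opens {Y Y' : Scheme.{u}} {ι : Type u} (U : ι → Y.Opens)
    (hU : TopologicalSpace.IsOpenCover U) (g : ∀ i, (U i).toScheme ⟶ Y')
    (hg : ∀ i j, Y.homOfLE (inf_le_left : U i ⊓ U j ≤ U i) ≫ g i =
      Y.homOfLE (inf_le_right : U i ⊓ U j ≤ U j) ≫ g j) :
    ∃ G : Y ⟶ Y', ∀ i, (U i).ι ≫ G = g i := by
  let 𝒰 := Y.openCoverOfIsOpenCover U hU
  have hcompat : ∀ i j : ι, pullback.fst (𝒰.f i) (𝒰.f j) ≫ g i = pullback.snd _ _ ≫ g j := by
    intro i j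
    have sq := isPullback_opens_inf (U i) (U j)
    have e1 : sq.isoPullback.hom ≫ pullback.fst (U i).ι (U j).ι = Y.homOfLE inf_le_left :=
      sq.isoPullback_hom_fst
    have e2 : sq.isoPullback.hom ≫ pullback.snd (U i).ι (U j).ι = Y.homOfLE inf_le_right :=
      sq.isoPullback_hom_snd
    change pullback.fst (U i).ι (U j).ι ≫ g i = pullback.snd (U i).ι (U j).ι ≫ g j
    rw [← cancel_epi sq.isoPullback.hom, ← Category.assoc, e1, ← Category.assoc, e2]
    exact hg i j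
  exact ⟨𝒰.glueMorphisms g hcompat, fun i => 𝒰.ι_glueMorphisms g hcompat i⟩

theorem hom_ext_opens {Y Y' : Scheme.{u}} {ι : Type u} (U : ι → Y.Opens)
    (hU : TopologicalSpace.IsOpenCover U) (f₁ f₂ : Y ⟶ Y')
    (hf : ∀ i, (U i).ι ≫ f₁ = (U i).ι ≫ f₂) : f₁ = f₂ :=
  (Y.openCoverOfIsOpenCover U hU).hom_ext f₁ f₂ hf

/-- square-zero is local on an open cover -/
theorem sq_eq_bot_of_openCover {Y : Scheme.{u}} (K : Y.IdealSheafData) (𝒰 : Y.OpenCover)
    (H : ∀ j, K.comap (𝒰.f j) * K.comap (𝒰.f j) = ⊥) : K * K = ⊥ := by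
  let ι := Σ j : 𝒰.I₀, (𝒰.X j).affineOpens
  let U : ι → Y.affineOpens := fun p =>
    ⟨𝒰.f p.1 ''ᵁ p.2.1, p.2.2.image_of_isOpenImmersion (𝒰.f p.1)⟩
  have hcov : ⨆ p : ι, (U p).1 = ⊤ := by
    rw [eq_top_iff]
    intro y _
    obtain ⟨j, x, rfl⟩ := 𝒰.exists_eq y
    obtain ⟨_, ⟨W, hW : IsAffineOpen W, rfl⟩, hxW, -⟩ :=
      (𝒰.X j).isBasis_affineOpens.exists_subset_of_mem_open (Set.mem_univ x) isOpen_univ
    exact TopologicalSpace.Opens.mem_iSup.2 ⟨⟨j, ⟨W, hW⟩⟩, ⟨x, hxW, rfl⟩⟩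
  refine Scheme.IdealSheafData.ext_of_iSup_eq_top U hcov ?_
  rintro ⟨j, W⟩
  have h1 := Scheme.IdealSheafData.ideal_comap_of_isOpenImmersion K (𝒰.f j) W
  have h2 : (K.comap (𝒰.f j)).ideal W * (K.comap (𝒰.f j)).ideal W = ⊥ := by
    have := congrArg (fun L : (𝒰.X j).IdealSheafData => L.ideal W) (H j)
    simpa using this
  have hsurj : Function.Surjective ((𝒰.f j).appIso W.1).inv.hom :=
    (ConcreteCategory.bijective_of_isIso ((𝒰.f j).appIso W.1).inv).2
  change K.ideal (U ⟨j, W⟩) * K.ideal (U ⟨j, W⟩) = ⊥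
  rw [← Ideal.map_comap_of_surjective _ hsurj (K.ideal (U ⟨j, W⟩)), ← Ideal.map_mul]
  rw [h1] at h2
  rw [h2, Ideal.map_bot]

/-- inverse image of ideal sheaves commutes with products -/
theorem comap_mul {X Y : Scheme.{u}} (P Q : Y.IdealSheafData) (g : X ⟶ Y) :
    (P * Q).comap g = P.comap g * Q.comap g := by
  let ι := { U : X.affineOpens // ∃ V : Y.affineOpens, U.1 ≤ g ⁻¹ᵁ V.1 }
  have hcov : ⨆ i : ι, (i.1 : X.affineOpens).1 = ⊤ := by
    rw [eq_top_iff]
    intro x _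
    obtain ⟨_, ⟨V, hV : IsAffineOpen V, rfl⟩, hxV, -⟩ :=
      Y.isBasis_affineOpens.exists_subset_of_mem_open (Set.mem_univ (g x)) isOpen_univ
    obtain ⟨_, ⟨U, hU : IsAffineOpen U, rfl⟩, hxU, hUV⟩ :=
      X.isBasis_affineOpens.exists_subset_of_mem_open (show x ∈ (g ⁻¹ᵁ V : Set X) from hxV)
        (g ⁻¹ᵁ V).2
    exact TopologicalSpace.Opens.mem_iSup.2 ⟨⟨⟨U, hU⟩, ⟨V, hV⟩, hUV⟩, hxU⟩
  refine Scheme.IdealSheafData.ext_of_iSup_eq_top (fun i : ι => i.1) hcov ?_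
  rintro ⟨U, V, e⟩
  have h1 := Groth.Agent.Lib.Helper29.EffCart.ideal_comap_eq_map P g V U e
  have h2 := Groth.Agent.Lib.Helper29.EffCart.ideal_comap_eq_map Q g V U e
  have h3 := Groth.Agent.Lib.Helper29.EffCart.ideal_comap_eq_map (P * Q) g V U e
  change ((P * Q).comap g).ideal U = (P.comap g).ideal U * (Q.comap g).ideal U
  rw [h1, h2, h3, ← Ideal.map_mul]
  rfl

theorem mul_mono' {X : Scheme.{u}} {A A' B B' : X.IdealSheafData} (hA : A ≤ A') (hB : B ≤ B') :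
    A * B ≤ A' * B' := fun U => Ideal.mul_mono (hA U) (hB U)

/-- direct image of ideal sheaves is lax multiplicative -/
theorem map_mul_le {X Y : Scheme.{u}} (A B : X.IdealSheafData) (f : X ⟶ Y) :
    A.map f * B.map f ≤ (A * B).map f := by
  rw [Scheme.IdealSheafData.le_map_iff_comap_le, comap_mul]
  exact mul_mono' (Scheme.IdealSheafData.comap_map_le _ _) (Scheme.IdealSheafData.comap_map_le _ _)

end Groth.Agent.Lib.Helper15.UnivThick
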