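import Mathlib
import Groth.Prelude.Def_AlgSpInf
import Groth.Prelude.Def_Omega3
import Groth.Agent.Lib.Helper15.UnivThick
import Groth.Agent.Lib.Helper15.FOThickBC
import Groth.Agent.Lib.Helper15.AlgSpFormal

set_option autoImplicit false
set_option backward.isDefEq.respectTransparency.types false
universe u
open CategoryTheory CategoryTheory.Limits AlgebraicGeometry Opposite
open AlgSp

namespace Groth.Agent.Lib.Helper15.UnivThickSp
open Groth.Agent.Lib.Helper15.UnivThick

variable {S : Scheme.{u}}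

/-- arithmetic in the idempotent semiring of ideal sheaves -/
theorem sq_zero_arith {Y : Scheme.{u}} (J I : Y.IdealSheafData) (hJJ : J * J = ⊥) (hII : I * I = ⊥) :
    (J ⊔ (J ⊔ I) * (J ⊔ I)) * (J ⊔ (J ⊔ I) * (J ⊔ I)) = ⊥ := by
  have e0 : (J + I) * (J + I) = J * (I + I) := by
    have : (J + I) * (J + I) = J * J + J * (I + I) + I * I := by ring
    rw [this]
    change (J * J ⊔ J * (I + I)) ⊔ I * I = _
    rw [hJJ, hII, bot_sup_eq, sup_bot_eq]
  change (J + (J + I) * (J + I)) * (J + (J + I) * (J + I)) = ⊥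
  rw [e0]
  have : (J + J * (I + I)) * (J + J * (I + I)) = (J * J) * ((1 + (I + I)) * (1 + (I + I))) := by
    ring
  rw [this, hJJ]
  exact Scheme.IdealSheafData.bot_mul _

/-- a first-order thickening of schemes over `S` gives a first-order thickening of sheaves -/
theorem isFOThickMor_yon_map_of_isFirstOrderThickening {U V : Over S} (g : U ⟶ V)
    (hg : MoreMor.IsFirstOrderThickening g.left) : IsFOThickMor ((yon S).map g) := by
  refine ⟨(isThickMor_yon_map_iff g).2 hg.1, ?_⟩
  intro V₂ W₂ b fst snd _ _ sq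
  obtain ⟨b₀, rfl⟩ := (yon S).map_surjective b
  obtain ⟨f₀, rfl⟩ := (yon S).map_surjective fst
  have hcomm : f₀ ≫ g = snd ≫ b₀ := (yon S).map_injective (by
    rw [Functor.map_comp, Functor.map_comp]; exact sq.w)
  have sq0 : IsPullback f₀ snd g b₀ := IsPullback.of_map (yon S) hcomm sq
  have sqL := sq0.map (Over.forget S)
  exact (isFirstOrderThickening_of_isPullback g.left hg snd.left f₀.left b₀.left sqL).2

/-- the closed subscheme of `V` cut out by `I`, over `S` -/
noncomputable abbrev subObj {V : Over S} (I : V.left.IdealSheafData) : Over S :=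
  Over.mk (I.subschemeι ≫ V.hom)

noncomputable abbrev subOver {V : Over S} (I : V.left.IdealSheafData) : subObj I ⟶ V :=
  Over.homMk I.subschemeι rfl

noncomputable abbrev inclOver {V : Over S} {I K : V.left.IdealSheafData} (hIK : I ≤ K) :
    subObj K ⟶ subObj I :=
  Over.homMk (Scheme.IdealSheafData.inclusion hIK) (by
    change Scheme.IdealSheafData.inclusion hIK ≫ I.subschemeι ≫ V.hom = K.subschemeι ≫ V.hom
    rw [Scheme.IdealSheafData.inclusion_subschemeι_assoc])

theorem inclOver_subOver {V : Over S} {I K : V.left.IdealSheafData} (hIK : I ≤ K) :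
    inclOver hIK ≫ subOver I = subOver K := by
  ext
  exact Scheme.IdealSheafData.inclusion_subschemeι hIK

open Groth.Agent.Lib.Helper15.UnivThick

variable {S : Scheme.{u}}

/-- one step of the unramifiedness argument, for sheaves -/
theorem equalizer_step_sp {Z Z' X : Sp S} (h : Z ⟶ X) (i : Z ⟶ Z') (h' : Z' ⟶ X)
    (HU : IsUnivFOThick h i h') {V W₁ : Over S}
    (g₁ g₂ : (yon S).obj V ⟶ Z') (hg : g₁ ≫ h' = g₂ ≫ h')
    (fst : (yon S).obj W₁ ⟶ Z) (snd : W₁ ⟶ V) (sq : IsPullback fst ((yon S).map snd) i g₁)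
    (I : V.left.IdealSheafData)
    (hI : (yon S).map (subOver I) ≫ g₁ = (yon S).map (subOver I) ≫ g₂) :
    (yon S).map (subOver ((snd.left.ker ⊔ I) * (snd.left.ker ⊔ I))) ≫ g₁ =
      (yon S).map (subOver ((snd.left.ker ⊔ I) * (snd.left.ker ⊔ I))) ≫ g₂ := by
  obtain ⟨hi, hih, huniv⟩ := HU
  have hcl : IsClosedImmersion snd.left := (hi.1.2 _ _ _ sq).1
  set K := snd.left.ker ⊔ I with hK
  have H : snd.left.ker ≤ K.subschemeι.ker := by
    rw [Scheme.IdealSheafData.ker_subschemeι]; exact le_sup_left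
  let lift₁ : K.subscheme ⟶ W₁.left := IsClosedImmersion.lift snd.left K.subschemeι H
  have hlift : lift₁ ≫ snd.left = K.subschemeι := IsClosedImmersion.lift_fac _ _ _
  let l₁ : subObj K ⟶ W₁ := Over.homMk lift₁ (by
    change lift₁ ≫ W₁.hom = K.subschemeι ≫ V.hom
    rw [← Over.w snd, ← Category.assoc, hlift])
  have hl₁ : l₁ ≫ snd = subOver K := by
    ext; exact hlift
  have hα : ((yon S).map l₁ ≫ fst) ≫ i = (yon S).map (subOver K) ≫ g₁ := by
    rw [Category.assoc, sq.w, ← Category.assoc, ← Functor.map_comp, hl₁]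
  have hK12 : (yon S).map (subOver K) ≫ g₁ = (yon S).map (subOver K) ≫ g₂ := by
    rw [← inclOver_subOver (le_sup_right : I ≤ K), Functor.map_comp, Category.assoc, hI,
      Category.assoc]
  have hfac : (yon S).map (inclOver (mul_self_le K)) ≫ (yon S).map (subOver (K * K)) =
      (yon S).map (subOver K) := by
    rw [← Functor.map_comp, inclOver_subOver]
  have hFO : IsFOThickMor ((yon S).map (inclOver (mul_self_le K))) :=
    isFOThickMor_yon_map_of_isFirstOrderThickening _ (isFirstOrderThickening_inclusion K)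
  have hpre : (yon S).map (inclOver (mul_self_le K)) ≫
      ((yon S).map (subOver (K * K)) ≫ g₁ ≫ h') = ((yon S).map l₁ ≫ fst) ≫ h := by
    rw [← Category.assoc, hfac, ← hih, ← Category.assoc, ← Category.assoc, hα]
  obtain ⟨c, -, hcu⟩ := huniv (IsAlgSpace.yon_obj _) (IsAlgSpace.yon_obj _)
    ((yon S).map (inclOver (mul_self_le K))) ((yon S).map l₁ ≫ fst)
    ((yon S).map (subOver (K * K)) ≫ g₁ ≫ h') hFO hpre
  have e1 : (yon S).map (subOver (K * K)) ≫ g₁ = c := by
    apply hcu
    refine ⟨?_, by rw [Category.assoc]⟩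
    rw [← Category.assoc, hfac, hα]
  have e2 : (yon S).map (subOver (K * K)) ≫ g₂ = c := by
    apply hcu
    refine ⟨?_, by rw [Category.assoc, hg]⟩
    rw [← Category.assoc, hfac, hα, hK12]
  rw [e1, e2]

open Groth.Agent.Lib.Helper15.UnivThick

variable {S : Scheme.{u}}

/-- the structure morphism of a universal first-order thickening of algebraic spaces is formally
unramified -/
theorem isFormallyUnramifiedMor_of_isUnivFOThick {Z Z' X : Sp S} (hZ' : IsAlgSpace Z')
    (h : Z ⟶ X) (i : Z ⟶ Z') (h' : Z' ⟶ X) (HU : IsUnivFOThick h i h') :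
    IsFormallyUnramifiedMor h' := by
  intro sq l l' h1 h2 h1' h2'
  have haff : IsAffine sq.ptT'.left := (inferInstance : IsAffine (Spec (CommRingCat.of sq.A)))
  have hrep := HU.1.1.rep
  have psq := hrep.isPullback l
  have hJJ : (hrep.snd l).left.ker * (hrep.snd l).left.ker = ⊥ :=
    FOThickBC.sqZero_of_isFOThickMor i HU.1 hZ' haff l (hrep.fst l) (hrep.snd l) psq
  set I₀ : sq.ptT'.left.IdealSheafData :=
    (Spec.map (CommRingCat.ofHom (Ideal.Quotient.mk sq.I))).ker with hI₀
  have hII : I₀ * I₀ = ⊥ := AlgSpFormal.ker_SpecMap_mk_sq sq.I sq.sq_zero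
  have hI12 : (yon S).map (subOver I₀) ≫ l = (yon S).map (subOver I₀) ≫ l' := by
    have hk : (Spec.map (CommRingCat.ofHom (Ideal.Quotient.mk sq.I))).ker ≤ I₀.subschemeι.ker := by
      rw [Scheme.IdealSheafData.ker_subschemeι]
    have hci : IsClosedImmersion (Spec.map (CommRingCat.ofHom (Ideal.Quotient.mk sq.I))) :=
      IsClosedImmersion.spec_of_surjective _ Ideal.Quotient.mk_surjective
    let m₀ : I₀.subscheme ⟶ Spec (CommRingCat.of (sq.A ⧸ sq.I)) :=
      IsClosedImmersion.lift (Spec.map (CommRingCat.ofHom (Ideal.Quotient.mk sq.I)))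
        I₀.subschemeι hk
    have hm₀ : m₀ ≫ Spec.map (CommRingCat.ofHom (Ideal.Quotient.mk sq.I)) = I₀.subschemeι :=
      IsClosedImmersion.lift_fac _ _ _
    let m : subObj I₀ ⟶ sq.ptT := Over.homMk m₀ (by
      change m₀ ≫ Spec.map (CommRingCat.ofHom (Ideal.Quotient.mk sq.I)) ≫ sq.str =
        I₀.subschemeι ≫ sq.str
      rw [← Category.assoc, hm₀])
    have hm : m ≫ sq.j = subOver I₀ := by
      ext; exact hm₀
    rw [← hm, Functor.map_comp, Category.assoc, h1, Category.assoc, h1']
  have s1 := equalizer_step_sp h i h' HU l l' (h2.trans h2'.symm) (hrep.fst l) (hrep.snd l) psq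
    I₀ hI12
  have s2 := equalizer_step_sp h i h' HU l l' (h2.trans h2'.symm) (hrep.fst l) (hrep.snd l) psq
    _ s1
  have hzero := sq_zero_arith (hrep.snd l).left.ker I₀ hJJ hII
  have hgen : ∀ L : sq.ptT'.left.IdealSheafData, L = ⊥ →
      (yon S).map (subOver L) ≫ l = (yon S).map (subOver L) ≫ l' → l = l' := by
    intro L hL hL12
    subst hL
    have : IsIso ((Over.forget S).map (subOver (⊥ : sq.ptT'.left.IdealSheafData))) := by
      change IsIso (Scheme.IdealSheafData.subschemeι ⊥)
      infer_instance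
    have : IsIso (subOver (⊥ : sq.ptT'.left.IdealSheafData)) :=
      isIso_of_reflects_iso _ (Over.forget S)
    exact (cancel_epi _).1 hL12
  exact hgen _ hzero s2

end Groth.Agent.Lib.Helper15.UnivThickSp
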