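import Groth.Agent.Lib.Helper3.AlgSpEtMono
import Groth.Agent.Lib.Helper3.AlgSpQC3
import Groth.Agent.Lib.Helper3.AlgSpChartSurj
import Groth.Agent.Lib.Helper9.AlgSpFE2
import Groth.Agent.Lib.Helper15.EtaleLiftThick
import Groth.Agent.Lib.Helper15.UnivThickSp
import Groth.Agent.Lib.Helper15.FOThickBC
import Groth.Agent.Lib.Helper15.AlgSpFormal
import Groth.Agent.S10630
import Groth.Agent.S10627

set_option autoImplicit false
set_option backward.isDefEq.respectTransparency.types false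
universe u
open CategoryTheory CategoryTheory.Limits AlgebraicGeometry Opposite MorphismProperty

namespace Groth.Agent.Lib.Helper15.UnivDescend

variable {S : Scheme.{u}}

open AlgSp Groth.Agent.Lib.Helper3

theorem exists_affine_etale_cover_lift {Z Y : Sp S} (hZ : IsAlgSpace Z) (hY : IsAlgSpace Y)
    (e : Z ⟶ Y) (he : IsEtaleMor e) (hes : IsSurjectiveMor e) {T : Over S}
    (a : (yon S).obj T ⟶ Y) :
    ∃ (K : Type u) (W : K → Over S) (g : ∀ k, W k ⟶ T) (c : ∀ k, (yon S).obj (W k) ⟶ Z),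
      (∀ k, IsAffine (W k).left) ∧ (∀ k, Etale (g k).left) ∧
      (∀ t : T.left, ∃ k, t ∈ Set.range (g k).left) ∧
      ∀ k, c k ≫ e = (yon S).map (g k) ≫ a := by
  have sq := IsPullback.of_hasPullback e a
  have hP : IsAlgSpace (pullback e a) :=
    isAlgSpace_of_isPullback' hY hZ (IsAlgSpace.yon_obj T) sq
  have hse : IsEtaleMor (pullback.snd e a) :=
    isEtaleMor_of_isPullback hZ hY (IsAlgSpace.yon_obj T) hP e a _ _ sq he
  have hss : IsSurjectiveMor (pullback.snd e a) := isSurjectiveMor_snd_of_isPullback sq hes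
  obtain ⟨W0, q, hqe, hqs⟩ := hP.atlas
  obtain ⟨g0, hg0⟩ := (yon S).map_surjective (q ≫ pullback.snd e a)
  have hg0e : Etale g0.left := (repWith_yon_map_iff _ _).1 (hg0 ▸ hse q hqe)
  have hg0s : ∀ t : T.left, ∃ w : W0.left, g0.left w = t := by
    intro t
    obtain ⟨z, hz⟩ := hss (Points.schemeHomeo T t)
    obtain ⟨w, hw0⟩ := exists_ofPt_eq q hqs z
    have hw0' : Points.map q (Points.schemeHomeo W0 w) = z := by
      rw [← hw0]; exact (Points.ofPt_eq_map_ofScheme q w).symm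
    refine ⟨w, ?_⟩
    apply (Points.schemeHomeo T).injective
    rw [← Points.map_yon_map_apply, hg0, Points.map_comp, hw0', hz]
  refine ⟨W0.left.affineOpens, fun k => Over.mk (k.1.ι ≫ W0.hom),
    fun k => (Over.homMk k.1.ι rfl : Over.mk (k.1.ι ≫ W0.hom) ⟶ W0) ≫ g0,
    fun k => (yon S).map (Over.homMk k.1.ι rfl : Over.mk (k.1.ι ≫ W0.hom) ⟶ W0) ≫ q ≫
      pullback.fst e a, ?_, ?_, ?_, ?_⟩
  · intro k
    exact k.2
  · intro k
    change Etale (k.1.ι ≫ g0.left)
    infer_instance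
  · intro t
    obtain ⟨w, rfl⟩ := hg0s t
    obtain ⟨N, hN, hwN⟩ := exists_isAffineOpen_mem_and_subset (x := w) (U := ⊤) trivial
    exact ⟨⟨N, hN⟩, ⟨w, hwN.1⟩, rfl⟩
  · intro k
    rw [Category.assoc, Category.assoc, sq.w, ← Category.assoc q, ← hg0, Functor.map_comp,
      Category.assoc]

theorem isPullback_over_of_left {P X Y Z : Over S} {fst : P ⟶ X} {snd : P ⟶ Y} {f : X ⟶ Z}
    {g : Y ⟶ Z} (w : fst ≫ f = snd ≫ g) (h : IsPullback fst.left snd.left f.left g.left) :
    IsPullback fst snd f g :=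
  IsPullback.of_map (Over.forget S) w h

theorem exists_cover_lift {Z Y : Sp S} (hZ : IsAlgSpace Z) (hY : IsAlgSpace Y)
    (e : Z ⟶ Y) (he : IsEtaleMor e) (hes : IsSurjectiveMor e) {T T' : Over S} (j : T ⟶ T')
    (hT' : IsAffine T'.left) (hj : IsClosedImmersion j.left) (hjs : Surjective j.left)
    (a : (yon S).obj T ⟶ Y) :
    ∃ (K : Type u) (W W' : K → Over S) (g : ∀ k, W k ⟶ T) (g' : ∀ k, W' k ⟶ T')
      (jW : ∀ k, W k ⟶ W' k) (c : ∀ k, (yon S).obj (W k) ⟶ Z),
      (∀ k, IsAffine (W' k).left) ∧ (∀ k, Etale (g' k).left) ∧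
      (∀ k, IsPullback (jW k) (g k) (g' k) j) ∧
      (∀ t : T'.left, ∃ k, t ∈ Set.range (g' k).left) ∧
      (∀ t : T.left, ∃ k, t ∈ Set.range (g k).left) ∧ (∀ k, Etale (g k).left) ∧
      ∀ k, c k ≫ e = (yon S).map (g k) ≫ a := by
  obtain ⟨K, W, g, c, hWa, hge, hgs, hc⟩ := exists_affine_etale_cover_lift hZ hY e he hes a
  have key : ∀ k, ∃ (W'0 : Scheme.{u}) (g'0 : W'0 ⟶ T'.left) (jW0 : (W k).left ⟶ W'0),
      IsAffine W'0 ∧ Etale g'0 ∧ IsPullback jW0 (g k).left g'0 j.left := by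
    intro k
    have := hWa k
    have := hge k
    exact EtaleLiftThick.exists_etale_lift_affine j.left (g k).left
  choose W'0 g'0 jW0 hW'a hg'e hsq using key
  have hw : ∀ k, jW0 k ≫ (g'0 k ≫ T'.hom) = (W k).hom := by
    intro k
    rw [← Category.assoc, (hsq k).w, Category.assoc, CategoryTheory.Over.w, CategoryTheory.Over.w]
  refine ⟨K, W, fun k => Over.mk (g'0 k ≫ T'.hom), g, fun k => Over.homMk (g'0 k) rfl,
    fun k => Over.homMk (jW0 k) (hw k), c, hW'a, hg'e, ?_, ?_, hgs, hge, hc⟩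
  · intro k
    apply isPullback_over_of_left
    · ext
      exact (hsq k).w
    · exact hsq k
  · intro t
    obtain ⟨t0, rfl⟩ := hjs.surj t
    obtain ⟨k, w, rfl⟩ := hgs t0
    refine ⟨k, jW0 k w, ?_⟩
    change (jW0 k ≫ g'0 k) w = _
    rw [(hsq k).w]
    rfl

section Descend

variable {Z Y Z' Y' X : Sp S} (hZ : IsAlgSpace Z) (hY : IsAlgSpace Y)
  (e : Z ⟶ Y) (he : IsEtaleMor e) (hes : IsSurjectiveMor e) (hYX : Y ⟶ X)
  (iZ : Z ⟶ Z') (iY : Y ⟶ Y') (f' : Z' ⟶ Y') (hf' : IsFormallyEtaleMor f')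
  (w : iZ ≫ f' = e ≫ iY) (hY'X : Y' ⟶ X) (w' : iY ≫ hY'X = hYX)
  (HU : IsUnivFOThick (e ≫ hYX) iZ (f' ≫ hY'X))

include hZ hY he hes hf' w w' HU in
theorem uniq_affine {T T' : Over S} (j : T ⟶ T') (hT' : IsAffine T'.left)
    (hj : IsFOThickMor ((yon S).map j)) (a : (yon S).obj T ⟶ Y)
    (y y' : (yon S).obj T' ⟶ Y') (h1 : (yon S).map j ≫ y = a ≫ iY)
    (h1' : (yon S).map j ≫ y' = a ≫ iY) (h2 : y ≫ hY'X = y' ≫ hY'X) : y = y' := by
  have hthick : MoreMor.IsThickening j.left := (isThickMor_yon_map_iff j).1 hj.1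
  obtain ⟨K, W, W', g, g', jW, c, hW'a, hg'e, hsq, hg's, hgs, hge, hc⟩ :=
    exists_cover_lift hZ hY e he hes j hT' hthick.1 hthick.2 a
  apply AlgSpFormal.hom_ext_of_cover W' g' hg's (fun k => by have := hg'e k; infer_instance)
    (fun k => by have := hg'e k; infer_instance)
  intro k
  have hsqy : IsPullback ((yon S).map (g k)) ((yon S).map (jW k)) ((yon S).map j)
      ((yon S).map (g' k)) := ((hsq k).map (yon S)).flip
  have hjk : IsFOThickMor ((yon S).map (jW k)) :=
    FOThickBC.isFOThickMor_of_isPullback _ hj (IsAlgSpace.yon_obj T') _ _ _ hsqy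
  -- lifts to Z'
  have hcomm : ∀ y₀ : (yon S).obj T' ⟶ Y', (yon S).map j ≫ y₀ = a ≫ iY →
      (c k ≫ iZ) ≫ f' = (yon S).map (jW k) ≫ ((yon S).map (g' k) ≫ y₀) := by
    intro y₀ hy₀
    rw [Category.assoc, w, ← Category.assoc, hc k, Category.assoc, ← hy₀, ← Category.assoc,
      ← Category.assoc, hsqy.w]
  obtain ⟨z, ⟨hz1, hz2⟩, -⟩ := Groth.Agent.Lib.Helper9.AlgSpFE.formallyEtale_lift_existsUnique' f' hf'
    (IsAlgSpace.yon_obj (W' k)) ((yon S).map (jW k)) hjk (c k ≫ iZ) ((yon S).map (g' k) ≫ y)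
    (hcomm y h1)
  obtain ⟨z', ⟨hz1', hz2'⟩, -⟩ := Groth.Agent.Lib.Helper9.AlgSpFE.formallyEtale_lift_existsUnique' f' hf'
    (IsAlgSpace.yon_obj (W' k)) ((yon S).map (jW k)) hjk (c k ≫ iZ) ((yon S).map (g' k) ≫ y')
    (hcomm y' h1')
  have hb : (yon S).map (jW k) ≫ (((yon S).map (g' k) ≫ y) ≫ hY'X) = c k ≫ (e ≫ hYX) := by
    rw [← Category.assoc, ← Category.assoc, ← hsqy.w, Category.assoc, Category.assoc,
      ← Category.assoc _ y, h1, Category.assoc, w', ← Category.assoc, ← hc k, Category.assoc]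
  obtain ⟨z₀, -, hu⟩ := HU.2.2 (IsAlgSpace.yon_obj (W k)) (IsAlgSpace.yon_obj (W' k))
    ((yon S).map (jW k)) (c k) (((yon S).map (g' k) ≫ y) ≫ hY'X) hjk hb
  have e1 : z = z₀ := hu z ⟨hz1, by rw [← Category.assoc, hz2]⟩
  have e2 : z' = z₀ := hu z' ⟨hz1', by rw [← Category.assoc, hz2', Category.assoc, ← h2,
    Category.assoc]⟩
  rw [← hz2, ← hz2', e1, e2]

include hZ hY he hes hf' w w' HU in
theorem uniq_scheme {T T' : Over S} (j : T ⟶ T')
    (hj : IsFOThickMor ((yon S).map j)) (a : (yon S).obj T ⟶ Y)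
    (y y' : (yon S).obj T' ⟶ Y') (h1 : (yon S).map j ≫ y = a ≫ iY)
    (h1' : (yon S).map j ≫ y' = a ≫ iY) (h2 : y ≫ hY'X = y' ≫ hY'X) : y = y' := by
  apply Groth.Agent.Lib.Helper9.AlgSpFU.hom_ext_of_openCover T'.left.affineCover
  intro i
  let Ti : Over S := Over.mk (T'.left.affineCover.f i ≫ T'.hom)
  let ι : Ti ⟶ T' := Over.homMk (T'.left.affineCover.f i) rfl
  have hTi : IsAffine Ti.left := inferInstanceAs (IsAffine (T'.left.affineCover.X i))
  have sq : IsPullback (pullback.fst j ι) (pullback.snd j ι) j ι := IsPullback.of_hasPullback j ι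
  have sqy := sq.map (yon S)
  have hthk : IsFOThickMor ((yon S).map (pullback.snd j ι)) :=
    FOThickBC.isFOThickMor_of_isPullback _ hj (IsAlgSpace.yon_obj T') _ _ _ sqy
  refine uniq_affine hZ hY e he hes hYX iZ iY f' hf' w hY'X w' HU (pullback.snd j ι) hTi hthk
    ((yon S).map (pullback.fst j ι) ≫ a) _ _ ?_ ?_ ?_
  · rw [← Category.assoc, ← sqy.w, Category.assoc, h1, Category.assoc]
  · rw [← Category.assoc, ← sqy.w, Category.assoc, h1', Category.assoc]
  · rw [Category.assoc, Category.assoc, h2]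

include hZ hY he hes hf' w w' HU in
theorem exists_affine {T T' : Over S} (j : T ⟶ T') (hT' : IsAffine T'.left)
    (hj : IsFOThickMor ((yon S).map j)) (a : (yon S).obj T ⟶ Y)
    (b : (yon S).obj T' ⟶ X) (hab : (yon S).map j ≫ b = a ≫ hYX) :
    ∃ a' : (yon S).obj T' ⟶ Y', (yon S).map j ≫ a' = a ≫ iY ∧ a' ≫ hY'X = b := by
  have hthick : MoreMor.IsThickening j.left := (isThickMor_yon_map_iff j).1 hj.1
  obtain ⟨K, W, W', g, g', jW, c, hW'a, hg'e, hsq, hg's, hgs, hge, hc⟩ :=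
    exists_cover_lift hZ hY e he hes j hT' hthick.1 hthick.2 a
  have hsqy : ∀ k, IsPullback ((yon S).map (g k)) ((yon S).map (jW k)) ((yon S).map j)
      ((yon S).map (g' k)) := fun k => ((hsq k).map (yon S)).flip
  have hjk : ∀ k, IsFOThickMor ((yon S).map (jW k)) := fun k =>
    FOThickBC.isFOThickMor_of_isPullback _ hj (IsAlgSpace.yon_obj T') _ _ _ (hsqy k)
  have hb : ∀ k, (yon S).map (jW k) ≫ ((yon S).map (g' k) ≫ b) = c k ≫ (e ≫ hYX) := by
    intro k
    rw [← Category.assoc, ← (hsqy k).w, Category.assoc, hab, ← Category.assoc, ← hc k,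
      Category.assoc]
  have key : ∀ k, ∃ a'k : (yon S).obj (W' k) ⟶ Z', (yon S).map (jW k) ≫ a'k = c k ≫ iZ ∧
      a'k ≫ (f' ≫ hY'X) = (yon S).map (g' k) ≫ b := fun k =>
    (HU.2.2 (IsAlgSpace.yon_obj (W k)) (IsAlgSpace.yon_obj (W' k))
      ((yon S).map (jW k)) (c k) ((yon S).map (g' k) ≫ b) (hjk k) (hb k)).exists
  choose a'k ha1 ha2 using key
  obtain ⟨a', ha'⟩ := AlgSpFormal.exists_glue_of_cover (F := Y') W' g' hg's
    (fun k => by have := hg'e k; infer_instance) (fun k => by have := hg'e k; infer_instance)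
    (fun k => a'k k ≫ f') (by
      intro k l Q gk gl hkl
      let r : Q ⟶ T' := gk ≫ g' k
      have sqQ : IsPullback (pullback.fst j r) (pullback.snd j r) j r :=
        IsPullback.of_hasPullback j r
      have sqQy := sqQ.map (yon S)
      have hthk : IsFOThickMor ((yon S).map (pullback.snd j r)) :=
        FOThickBC.isFOThickMor_of_isPullback _ hj (IsAlgSpace.yon_obj T') _ _ _ sqQy
      have hmk : (pullback.snd j r ≫ gk) ≫ g' k = pullback.fst j r ≫ j := by
        rw [Category.assoc]; exact sqQ.w.symm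
      have hml : (pullback.snd j r ≫ gl) ≫ g' l = pullback.fst j r ≫ j := by
        rw [Category.assoc, ← hkl]; exact sqQ.w.symm
      have side : ∀ (k : K) (gk : Q ⟶ W' k)
          (hmk : (pullback.snd j r ≫ gk) ≫ g' k = pullback.fst j r ≫ j),
          (yon S).map (pullback.snd j r) ≫ ((yon S).map gk ≫ a'k k ≫ f') =
            ((yon S).map (pullback.fst j r) ≫ a) ≫ iY := by
        intro k gk hmk
        have e1 : (hsq k).lift _ _ hmk ≫ jW k = pullback.snd j r ≫ gk := (hsq k).lift_fst _ _ hmk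
        have e2 : (hsq k).lift _ _ hmk ≫ g k = pullback.fst j r := (hsq k).lift_snd _ _ hmk
        rw [← Category.assoc, ← Functor.map_comp, ← e1, Functor.map_comp, Category.assoc,
          ← Category.assoc _ (a'k k), ha1 k, Category.assoc, w, ← Category.assoc (c k), hc k,
          Category.assoc, ← Category.assoc, ← Functor.map_comp, e2, Category.assoc]
      refine uniq_scheme hZ hY e he hes hYX iZ iY f' hf' w hY'X w' HU (pullback.snd j r) hthk
        ((yon S).map (pullback.fst j r) ≫ a) _ _ (side k gk hmk) (side l gl hml) ?_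
      rw [Category.assoc, Category.assoc, ha2 k, Category.assoc, Category.assoc, ha2 l,
        ← Category.assoc, ← Category.assoc, ← Functor.map_comp, ← Functor.map_comp, hkl])
  refine ⟨a', ?_, ?_⟩
  · apply AlgSpFormal.hom_ext_of_cover W g hgs (fun k => by have := hge k; infer_instance)
      (fun k => by have := hge k; infer_instance)
    intro k
    rw [← Category.assoc, (hsqy k).w, Category.assoc, ha' k, ← Category.assoc, ha1 k,
      Category.assoc, w, ← Category.assoc, hc k, Category.assoc]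
  · apply AlgSpFormal.hom_ext_of_cover W' g' hg's (fun k => by have := hg'e k; infer_instance)
      (fun k => by have := hg'e k; infer_instance)
    intro k
    rw [← Category.assoc, ha' k, Category.assoc, ha2 k]

end Descend

end Groth.Agent.Lib.Helper15.UnivDescend
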