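import Groth.Agent.Lib.Helper9.BddFibLib5
import Groth.Agent.Lib.Helper9.BddFibLib4
import Groth.Prelude.Def_W4decUnivBdd
import Groth.Agent.Lib.Helper15.UnivDescend

set_option autoImplicit false
set_option backward.isDefEq.respectTransparency.types false
universe u
open CategoryTheory CategoryTheory.Limits AlgebraicGeometry Opposite MorphismProperty

namespace Groth.Agent.Lib.Helper15.BddFibSp

/-- a morphism from an affine scheme to `Spec K` factors through the spectrum of its sections -/
theorem eq_isoSpec_comp {K : CommRingCat.{u}} {T : Scheme.{u}} [IsAffine T] (c : T ⟶ Spec K) :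
    c = T.isoSpec.hom ≫ Spec.map ((Scheme.ΓSpecIso K).inv ≫ c.appTop) := by
  rw [Spec.map_comp, ← Category.assoc, Scheme.isoSpec_hom_naturality, Category.assoc,
    Scheme.isoSpec_Spec_hom, ← Spec.map_comp, Iso.inv_hom_id, Spec.map_id, Category.comp_id]

theorem finiteOfDegLE_iff {K : Type u} [Field K] {T : Scheme.{u}}
    (c : T ⟶ Spec (CommRingCat.of K)) (n : ℕ) :
    BddFib.FiniteOfDegLE (CommRingCat.of K) c n ↔ IsFinite c ∧ ∀ s, c.finrank s ≤ n := by
  let _ : Algebra (CommRingCat.of K) Γ(T, ⊤) := BddFib.secAlgebra (CommRingCat.of K) c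
  let ψ : CommRingCat.of K ⟶ Γ(T, ⊤) := (Scheme.ΓSpecIso (CommRingCat.of K)).inv ≫ c.appTop
  have key : ∀ [IsAffine T], Module.Finite K Γ(T, ⊤) → IsFinite c ∧
      ∀ s, c.finrank s = Module.finrank K Γ(T, ⊤) := by
    intro hT hfin
    have hψfin : ψ.hom.Finite := hfin
    have hψflat : ψ.hom.Flat := by
      change Module.Flat K Γ(T, ⊤)
      infer_instance
    have hc : c = T.isoSpec.hom ≫ Spec.map ψ := eq_isoSpec_comp c
    have hfinS : IsFinite (Spec.map ψ) := (IsFinite.SpecMap_iff ψ).2 hψfin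
    have hflatS : Flat (Spec.map ψ) := Flat.SpecMap_iff.2 hψflat
    refine ⟨by rw [hc]; infer_instance, fun s => ?_⟩
    rw [hc, Scheme.Hom.finrank_comp_left_of_isIso, Scheme.Hom.finrank_SpecMap_eq_finrank hψfin hψflat]
    change Module.rankAtStalk (R := K) Γ(T, ⊤) s = _
    rw [Module.rankAtStalk_eq_finrank_of_free]
    rfl
  constructor
  · rintro ⟨hT, hfin, hle⟩
    obtain ⟨h1, h2⟩ := key hfin
    exact ⟨h1, fun s => by rw [h2 s]; exact hle⟩
  · rintro ⟨hfin, hle⟩
    have hT : IsAffine T := isAffine_of_isAffineHom c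
    have hmf : Module.Finite K Γ(T, ⊤) := by
      have h1 : c.appTop.hom.Finite := c.finite_appTop
      have h2 : ψ.hom.Finite := by
        have : ψ.hom = c.appTop.hom.comp (Scheme.ΓSpecIso (CommRingCat.of K)).inv.hom := rfl
        rw [this]
        exact h1.comp (.of_surjective _ (ConcreteCategory.bijective_of_isIso _).surjective)
      exact h2
    refine ⟨hT, hmf, ?_⟩
    obtain ⟨-, h2⟩ := key hmf
    rw [← h2 (IsLocalRing.closedPoint K)]
    exact hle _


variable {S : Scheme.{u}}
open AlgSp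

/-- the sheaf-level bound for `h_f` gives the scheme-level bound -/
theorem fibreDegLE_of_degFibresLE {U V : Over S} (f : V ⟶ U) (n : ℕ)
    (h : W4dec.DegFibresLE n ((yon S).map f)) : BddFib.FibreDegLE f.left n := by
  intro y
  let q : FieldPt ((yon S).obj U) := FieldPt.ofPt (𝟙 _) y
  let T : Over S := Over.mk (f.left.fiberι y ≫ V.hom)
  have hw : f.left.fiberι y ≫ f.left =
      f.left.fiberToSpecResidueField y ≫ U.left.fromSpecResidueField y := pullback.condition
  let c : T ⟶ q.pt := Over.homMk (f.left.fiberToSpecResidueField y) (by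
    change f.left.fiberToSpecResidueField y ≫ (U.left.fromSpecResidueField y ≫ U.hom) =
      f.left.fiberι y ≫ V.hom
    rw [← Category.assoc, ← hw, Category.assoc, Over.w f])
  let snd : T ⟶ V := Over.homMk (f.left.fiberι y) rfl
  let g : q.pt ⟶ U := Over.homMk (U.left.fromSpecResidueField y) rfl
  have sq0 : IsPullback snd c f g :=
    UnivDescend.isPullback_over_of_left (by ext; exact hw) (IsPullback.of_hasPullback _ _)
  have hq : q.toHom = (yon S).map g := by
    rw [FieldPt.toHom_ofPt, Category.comp_id]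
  have sq : IsPullback ((yon S).map c) ((yon S).map snd) q.toHom ((yon S).map f) := by
    rw [hq]
    exact (sq0.map (yon S)).flip
  have := h q T c _ sq
  exact (finiteOfDegLE_iff (K := ↑(U.left.residueField y)) (f.left.fiberToSpecResidueField y) n).2 this


theorem degFibresLE_comp {X : Sp S} (hX : IsAlgSpace X) {U V : Over S} (f : V ⟶ U)
    (g : (yon S).obj U ⟶ X) (n m : ℕ) (hf : W4dec.DegFibresLE n ((yon S).map f))
    (hg : W4dec.DegFibresLE m g) : W4dec.DegFibresLE (n * m) ((yon S).map f ≫ g) := by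
  intro q T c snd sq
  have hrep : Representable g := hX.representable_from_yon g
  let TU : Over S := hrep.pullback q.toHom
  let cU : TU ⟶ q.pt := hrep.snd q.toHom
  let fstU : (yon S).obj TU ⟶ (yon S).obj U := hrep.fst q.toHom
  have sqU : IsPullback fstU ((yon S).map cU) g q.toHom := hrep.isPullback q.toHom
  have hU := hg q TU cU fstU sqU.flip
  obtain ⟨ρ, hρ1, hρ2⟩ : ∃ ρ : (yon S).obj T ⟶ (yon S).obj TU,
      ρ ≫ fstU = snd ≫ (yon S).map f ∧ ρ ≫ (yon S).map cU = (yon S).map c :=
    ⟨sqU.lift _ _ (by rw [Category.assoc, ← sq.w]), sqU.lift_fst _ _ _, sqU.lift_snd _ _ _⟩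
  obtain ⟨r, rfl⟩ := (yon S).map_surjective ρ
  obtain ⟨φU, hφU⟩ := (yon S).map_surjective fstU
  obtain ⟨sV, rfl⟩ := (yon S).map_surjective snd
  have sqL : IsPullback ((yon S).map r) ((yon S).map sV) ((yon S).map φU) ((yon S).map f) := by
    rw [hφU]
    refine IsPullback.of_right ?_ hρ1 sqU.flip
    rw [hρ2]
    exact sq
  have hw : r ≫ φU = sV ≫ f := by
    apply (yon S).map_injective
    rw [Functor.map_comp, Functor.map_comp]
    exact sqL.w
  have sqO : IsPullback r sV φU f := IsPullback.of_map (yon S) hw sqL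
  have sqS : IsPullback sV.left r.left f.left φU.left := (sqO.map (Over.forget S)).flip
  have hr : BddFib.FibreDegLE r.left n :=
    Groth.Agent.Lib.Helper9.BddFibLib.fibreDegLE_of_isPullback f.left φU.left r.left sV.left sqS n
      (fibreDegLE_of_degFibresLE f n hf)
  have hcU : BddFib.FiniteOfDegLE (CommRingCat.of q.K) cU.left m :=
    (finiteOfDegLE_iff cU.left m).2 hU
  have hcomp := Groth.Agent.Lib.Helper9.BddFibLib5.finiteOfDegLE_comp r.left cU.left n m hcU hr
  have hrc : r.left ≫ cU.left = c.left := by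
    have : r ≫ cU = c := by
      apply (yon S).map_injective
      rw [Functor.map_comp]
      exact hρ2
    rw [← this]
    rfl
  rw [hrc] at hcomp
  exact (finiteOfDegLE_iff c.left (n * m)).1 hcomp


theorem degFibresLE_of_flat_surjective_triangle {X : Sp S} {U V : Over S} (f : U ⟶ V)
    [Surjective f.left] [Flat f.left] (h : (yon S).obj V ⟶ X) (n : ℕ)
    (hg : W4dec.DegFibresLE n ((yon S).map f ≫ h)) : W4dec.DegFibresLE n h := by
  intro q T c snd sq
  obtain ⟨sV, rfl⟩ := (yon S).map_surjective snd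
  have sqT : IsPullback (pullback.fst sV f) (pullback.snd sV f) sV f := IsPullback.of_hasPullback _ _
  have big : IsPullback ((yon S).map (pullback.fst sV f ≫ c)) ((yon S).map (pullback.snd sV f))
      q.toHom ((yon S).map f ≫ h) := by
    rw [Functor.map_comp]
    exact (sqT.map (yon S)).paste_horiz sq
  have h1 := hg q _ _ _ big
  have sqS : IsPullback (pullback.fst sV f).left (pullback.snd sV f).left sV.left f.left :=
    sqT.map (Over.forget S)
  have hfl : Flat (pullback.fst sV f).left :=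
    MorphismProperty.of_isPullback (P := @Flat) sqS.flip inferInstance
  have hsu : Surjective (pullback.fst sV f).left :=
    MorphismProperty.of_isPullback (P := @Surjective) sqS.flip inferInstance
  have h2 : BddFib.FiniteOfDegLE (CommRingCat.of q.K) ((pullback.fst sV f).left ≫ c.left) n :=
    (finiteOfDegLE_iff _ n).2 h1
  exact (finiteOfDegLE_iff c.left n).1
    (Groth.Agent.Lib.Helper9.BddFibLib4.finiteOfDegLE_of_flat_surjective _ c.left n h2)


theorem map_op_val_eq {F : Sp S} (p : FieldPt F) {Y : Over S} (a : Y ⟶ p.pt) :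
    F.obj.map a.op p.val = (J S).uliftYonedaEquiv ((yon S).map a ≫ p.toHom) := by
  have h1 := (J S).uliftYonedaEquiv_naturality p.toHom a
  rw [FieldPt.uliftYonedaEquiv_toHom] at h1
  exact h1

theorem rel_iff {F : Sp S} (p q : FieldPt F) :
    FieldPt.Rel p q ↔ ∃ (Ω : Type u) (_ : Field Ω) (w : Spec (CommRingCat.of Ω) ⟶ S)
      (a : Over.mk w ⟶ p.pt) (b : Over.mk w ⟶ q.pt),
      (yon S).map a ≫ p.toHom = (yon S).map b ≫ q.toHom := by
  constructor
  · rintro ⟨Ω, hΩ, w, a, b, h⟩
    refine ⟨Ω, hΩ, w, a, b, ?_⟩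
    rw [map_op_val_eq, map_op_val_eq] at h
    exact (J S).uliftYonedaEquiv.injective h
  · rintro ⟨Ω, hΩ, w, a, b, h⟩
    refine ⟨Ω, hΩ, w, a, b, ?_⟩
    rw [map_op_val_eq, map_op_val_eq, h]

theorem finiteOfDegLE_of_isEmpty {K : Type u} [Field K] {T : Scheme.{u}} [IsEmpty T]
    (c : T ⟶ Spec (CommRingCat.of K)) (n : ℕ) : BddFib.FiniteOfDegLE (CommRingCat.of K) c n := by
  let _ : Algebra (CommRingCat.of K) Γ(T, ⊤) := BddFib.secAlgebra (CommRingCat.of K) c
  refine ⟨inferInstance, ?_, ?_⟩
  · change Module.Finite K Γ(T, ⊤)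
    infer_instance
  · change Module.finrank K Γ(T, ⊤) ≤ n
    rw [Module.finrank_zero_of_subsingleton]
    exact Nat.zero_le n

theorem degFibresLE_of_baseChange {X Y : Sp S} (g : Y ⟶ X) {U V : Over S}
    (f : (yon S).obj U ⟶ X) (fst : (yon S).obj V ⟶ (yon S).obj U) (f' : (yon S).obj V ⟶ Y)
    (h : IsPullback fst f' f g)
    (him : Set.range (Points.ofPt f) ⊆ Set.range (Points.map g)) (n : ℕ)
    (hf' : W4dec.DegFibresLE n f') : W4dec.DegFibresLE n f := by
  intro q T c snd sq
  obtain ⟨sU, rfl⟩ := (yon S).map_surjective snd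
  by_cases hT : IsEmpty T.left
  · exact (finiteOfDegLE_iff c.left n).1 (finiteOfDegLE_of_isEmpty c.left n)
  rw [not_isEmpty_iff] at hT
  obtain ⟨t⟩ := hT
  obtain ⟨y, hy⟩ := him ⟨sU.left t, rfl⟩
  induction y using Points.ind with | _ p => ?_
  have hrel1 : FieldPt.Rel (p.map g) (FieldPt.ofPt f (sU.left t)) := Points.mk_eq_mk_iff.1 hy
  -- the point `t` relates `ofPt f u` and `q`
  have hrel2 : FieldPt.Rel (FieldPt.ofPt f (sU.left t)) q := by
    rw [rel_iff]
    have w1 : Spec.map (sU.left.residueFieldMap t) ≫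
        (U.left.fromSpecResidueField (sU.left t) ≫ U.hom) = T.left.fromSpecResidueField t ≫ T.hom := by
      rw [← Category.assoc, Scheme.Hom.SpecMap_residueFieldMap_fromSpecResidueField, Category.assoc,
        Over.w sU]
    have w2 : (T.left.fromSpecResidueField t ≫ c.left) ≫ q.str =
        T.left.fromSpecResidueField t ≫ T.hom := by
      rw [Category.assoc]
      congr 1
      exact Over.w c
    let a0 : Over.mk (T.left.fromSpecResidueField t ≫ T.hom) ⟶ (FieldPt.ofPt f (sU.left t)).pt :=
      Over.homMk (Spec.map (sU.left.residueFieldMap t)) w1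
    let b0 : Over.mk (T.left.fromSpecResidueField t ≫ T.hom) ⟶ q.pt :=
      Over.homMk (T.left.fromSpecResidueField t ≫ c.left) w2
    let t0 : Over.mk (T.left.fromSpecResidueField t ≫ T.hom) ⟶ T :=
      Over.homMk (T.left.fromSpecResidueField t) rfl
    let u0 : (FieldPt.ofPt f (sU.left t)).pt ⟶ U :=
      Over.homMk (U.left.fromSpecResidueField (sU.left t)) rfl
    refine ⟨T.left.residueField t, inferInstance, T.left.fromSpecResidueField t ≫ T.hom, a0, b0, ?_⟩
    have e1 : a0 ≫ u0 = t0 ≫ sU := by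
      ext
      exact Scheme.Hom.SpecMap_residueFieldMap_fromSpecResidueField _ _
    have e2 : b0 = t0 ≫ c := by
      ext
      rfl
    rw [FieldPt.toHom_ofPt]
    change (yon S).map a0 ≫ (yon S).map u0 ≫ f = _
    rw [← Category.assoc, ← Functor.map_comp, e1, e2, Functor.map_comp, Functor.map_comp,
      Category.assoc, Category.assoc, sq.w]
  obtain ⟨Ω, hΩ, w, a0, b, hab0⟩ := (rel_iff _ _).1 (hrel1.trans hrel2)
  rw [FieldPt.toHom_map] at hab0
  let a : Over.mk w ⟶ p.pt := a0
  have hab : (yon S).map a ≫ p.toHom ≫ g = (yon S).map b ≫ q.toHom := hab0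
  -- the field point of `Y`
  let q' : FieldPt Y := ⟨Ω, w, Y.obj.map a.op p.val⟩
  have hq' : q'.toHom = (yon S).map a ≫ p.toHom := by
    apply (J S).uliftYonedaEquiv.injective
    rw [FieldPt.uliftYonedaEquiv_toHom, ← map_op_val_eq]
  -- the base change of `T` to `Ω`
  have sqΩ : IsPullback (pullback.fst c b) (pullback.snd c b) c b := IsPullback.of_hasPullback _ _
  have outer : IsPullback ((yon S).map (pullback.fst c b) ≫ (yon S).map sU)
      ((yon S).map (pullback.snd c b)) f ((yon S).map b ≫ q.toHom) :=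
    ((sqΩ.map (yon S)).flip.paste_vert sq).flip
  have hcomm : (yon S).map (pullback.fst c b ≫ sU) ≫ f =
      ((yon S).map (pullback.snd c b) ≫ q'.toHom) ≫ g := by
    rw [Functor.map_comp, outer.w, hq', Category.assoc, Category.assoc, hab]
  obtain ⟨ρ, hρ1, hρ2⟩ : ∃ ρ : (yon S).obj (pullback c b) ⟶ (yon S).obj V,
      ρ ≫ fst = (yon S).map (pullback.fst c b ≫ sU) ∧
      ρ ≫ f' = (yon S).map (pullback.snd c b) ≫ q'.toHom :=
    ⟨h.lift _ _ hcomm, h.lift_fst _ _ _, h.lift_snd _ _ _⟩
  have sqL : IsPullback ρ ((yon S).map (pullback.snd c b)) f' q'.toHom := by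
    refine IsPullback.of_right ?_ hρ2 h
    rw [hρ1, Functor.map_comp, hq', Category.assoc, hab]
    exact outer
  have h1 := hf' q' _ _ _ sqL.flip
  have h2 : BddFib.FiniteOfDegLE (CommRingCat.of Ω) (pullback.snd c b).left n :=
    (finiteOfDegLE_iff _ n).2 h1
  have sqS : IsPullback (pullback.fst c b).left (pullback.snd c b).left c.left b.left :=
    sqΩ.map (Over.forget S)
  have hb : b.left = Spec.map (CommRingCat.ofHom (Spec.preimage b.left).hom) := by
    rw [CommRingCat.ofHom_hom, Spec.map_preimage]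
  rw [hb] at sqS
  exact (finiteOfDegLE_iff c.left n).1
    ((Groth.Agent.Lib.Helper9.BddFibLib.finiteOfDegLE_iff_of_isPullback
      (K := q.K) (k := Ω) (Spec.preimage b.left).hom c.left (pullback.snd c b).left
      (pullback.fst c b).left sqS n).2 h2)

end Groth.Agent.Lib.Helper15.BddFibSp
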