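import Groth.Agent.Lib.Helper15.BddFibSp
import Groth.Agent.Lib.Helper9.BddFibLib6
import Groth.Agent.Lib.Helper3.AlgSpChartPts

set_option autoImplicit false
set_option backward.isDefEq.respectTransparency.types false
universe u
open CategoryTheory CategoryTheory.Limits AlgebraicGeometry Opposite MorphismProperty

namespace Groth.Agent.Lib.Helper15.BddFibSp

variable {S : Scheme.{u}}
open AlgSp Groth.Agent.Lib.Helper3

theorem range_fst_of_isPullback {P X Y Z : Scheme.{u}} {fst : P ⟶ X} {snd : P ⟶ Y} {f : X ⟶ Z}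
    {g : Y ⟶ Z} (h : IsPullback fst snd f g) : Set.range fst = f ⁻¹' Set.range g := by
  rw [← Scheme.Pullback.range_fst f g]
  ext x
  constructor
  · rintro ⟨p, rfl⟩
    exact ⟨h.isoPullback.hom p, by rw [← Scheme.Hom.comp_apply, h.isoPullback_hom_fst]⟩
  · rintro ⟨p, rfl⟩
    exact ⟨h.isoPullback.inv p, by rw [← Scheme.Hom.comp_apply, h.isoPullback_inv_fst]⟩

/-- composition, with the scheme-level bound for the first map -/
theorem degFibresLE_comp' {X : Sp S} (hX : IsAlgSpace X) {U V : Over S} (f : V ⟶ U)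
    (g : (yon S).obj U ⟶ X) (n m : ℕ) (hf : BddFib.FibreDegLE f.left n)
    (hg : W4dec.DegFibresLE m g) : W4dec.DegFibresLE (n * m) ((yon S).map f ≫ g) := by
  intro q T c snd sq
  have hrep : Representable g := hX.representable_from_yon g
  let TU : Over S := hrep.pullback q.toHom
  let cU : TU ⟶ q.pt := hrep.snd q.toHom
  let fstU : (yon S).obj TU ⟶ (yon S).obj U := hrep.fst q.toHom
  have sqU : IsPullback fstU ((yon S).map cU) g q.toHom := hrep.isPullback q.toHom
  have hU := hg q TU cU fstU sqU.flip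
  obtain ⟨ρ, hρ1, hρ2⟩ : ∃ ρ : (yon S).obj T ⟶ (yon S).obj TU,
      ρ ≫ fstU = snd ≫ (yon S).map f ∧ ρ ≫ (yon S).map cU = (yon S).map c :=
    ⟨sqU.lift _ _ (by rw [Category.assoc, ← sq.w]), sqU.lift_fst _ _ _, sqU.lift_snd _ _ _⟩
  obtain ⟨r, rfl⟩ := (yon S).map_surjective ρ
  obtain ⟨φU, hφU⟩ := (yon S).map_surjective fstU
  obtain ⟨sV, rfl⟩ := (yon S).map_surjective snd
  have sqL : IsPullback ((yon S).map r) ((yon S).map sV) ((yon S).map φU) ((yon S).map f) := by
    rw [hφU]
    refine IsPullback.of_right ?_ hρ1 sqU.flip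
    rw [hρ2]
    exact sq
  have hw : r ≫ φU = sV ≫ f := by
    apply (yon S).map_injective
    rw [Functor.map_comp, Functor.map_comp]
    exact sqL.w
  have sqO : IsPullback r sV φU f := IsPullback.of_map (yon S) hw sqL
  have sqS : IsPullback sV.left r.left f.left φU.left := (sqO.map (Over.forget S)).flip
  have hr : BddFib.FibreDegLE r.left n :=
    Groth.Agent.Lib.Helper9.BddFibLib.fibreDegLE_of_isPullback f.left φU.left r.left sV.left sqS n hf
  have hcU : BddFib.FiniteOfDegLE (CommRingCat.of q.K) cU.left m :=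
    (finiteOfDegLE_iff cU.left m).2 hU
  have hcomp := Groth.Agent.Lib.Helper9.BddFibLib5.finiteOfDegLE_comp r.left cU.left n m hcU hr
  have hrc : r.left ≫ cU.left = c.left := by
    have : r ≫ cU = c := by
      apply (yon S).map_injective
      rw [Functor.map_comp]
      exact hρ2
    rw [← this]
    rfl
  rw [hrc] at hcomp
  exact (finiteOfDegLE_iff c.left (n * m)).1 hcomp

/-- two-member open covers of the source -/
theorem degFibresLE_of_openCover {X : Sp S} {V O₁ O₂ : Over S} (ψ : (yon S).obj V ⟶ X)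
    (j₁ : O₁ ⟶ V) (j₂ : O₂ ⟶ V) [IsOpenImmersion j₁.left] [IsOpenImmersion j₂.left]
    (hcov : Set.range j₁.left ∪ Set.range j₂.left = Set.univ) (a b : ℕ)
    (h1 : W4dec.DegFibresLE a ((yon S).map j₁ ≫ ψ)) (h2 : W4dec.DegFibresLE b ((yon S).map j₂ ≫ ψ)) :
    W4dec.DegFibresLE (a + b) ψ := by
  intro q T c snd sq
  obtain ⟨sV, rfl⟩ := (yon S).map_surjective snd
  have key : ∀ {O : Over S} (j : O ⟶ V) [IsOpenImmersion j.left] (n : ℕ),
      W4dec.DegFibresLE n ((yon S).map j ≫ ψ) →
      IsOpenImmersion (pullback.fst sV j).left ∧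
      Set.range (pullback.fst sV j).left = sV.left ⁻¹' Set.range j.left ∧
      BddFib.FiniteOfDegLE (CommRingCat.of q.K) ((pullback.fst sV j).left ≫ c.left) n := by
    intro O j hj n hn
    have sqT : IsPullback (pullback.fst sV j) (pullback.snd sV j) sV j := IsPullback.of_hasPullback _ _
    have big : IsPullback ((yon S).map (pullback.fst sV j ≫ c)) ((yon S).map (pullback.snd sV j))
        q.toHom ((yon S).map j ≫ ψ) := by
      rw [Functor.map_comp]
      exact (sqT.map (yon S)).paste_horiz sq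
    have sqS : IsPullback (pullback.fst sV j).left (pullback.snd sV j).left sV.left j.left :=
      sqT.map (Over.forget S)
    refine ⟨MorphismProperty.of_isPullback (P := @IsOpenImmersion) sqS.flip inferInstance,
      range_fst_of_isPullback sqS, (finiteOfDegLE_iff _ n).2 (hn q _ _ _ big)⟩
  obtain ⟨ho1, hr1, hf1⟩ := key j₁ a h1
  obtain ⟨ho2, hr2, hf2⟩ := key j₂ b h2
  refine (finiteOfDegLE_iff c.left (a + b)).1
    (Groth.Agent.Lib.Helper9.BddFibLib6.finiteOfDegLE_of_openCover c.left _ _ ?_ a b hf1 hf2)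
  rw [hr1, hr2, ← Set.preimage_union, hcov, Set.preimage_univ]


/-- an open of `V.left` as a scheme over `S` -/
noncomputable abbrev opOver (V : Over S) (W : V.left.Opens) : Over S := Over.mk (W.ι ≫ V.hom)

noncomputable abbrev opι (V : Over S) (W : V.left.Opens) : opOver V W ⟶ V := Over.homMk W.ι rfl

theorem hasUnivBddFibres_of_locally {X : Sp S} (hX : IsAlgSpace X) {V : Over S}
    [CompactSpace V.left] (ψ : (yon S).obj V ⟶ X)
    (H : ∀ v : V.left, ∃ (O : Over S) (j : O ⟶ V), IsOpenImmersion j.left ∧ v ∈ Set.range j.left ∧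
      W4dec.HasUnivBddFibres ((yon S).map j ≫ ψ)) : W4dec.HasUnivBddFibres ψ := by
  let P : Set V.left → Prop := fun s => ∃ W : V.left.Opens, s ⊆ (W : Set V.left) ∧
    W4dec.HasUnivBddFibres ((yon S).map (opι V W) ≫ ψ)
  have hP : P Set.univ := by
    refine isCompact_univ.induction_on (p := P) ?_ ?_ ?_ ?_
    · refine ⟨⊥, Set.empty_subset _, 0, ?_⟩
      intro q T c snd sq
      obtain ⟨sV, rfl⟩ := (yon S).map_surjective snd
      have : IsEmpty T.left := ⟨fun t => (sV.left t).2⟩
      exact (finiteOfDegLE_iff c.left 0).1 (finiteOfDegLE_of_isEmpty c.left 0)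
    · rintro s t hst ⟨W, hW, hb⟩
      exact ⟨W, hst.trans hW, hb⟩
    · rintro s t ⟨W₁, hW₁, a, ha⟩ ⟨W₂, hW₂, b, hb⟩
      refine ⟨W₁ ⊔ W₂, ?_, a + b, ?_⟩
      · exact Set.union_subset (hW₁.trans (by exact_mod_cast (le_sup_left : W₁ ≤ W₁ ⊔ W₂)))
          (hW₂.trans (by exact_mod_cast (le_sup_right : W₂ ≤ W₁ ⊔ W₂)))
      · let k₁ : opOver V W₁ ⟶ opOver V (W₁ ⊔ W₂) :=
          Over.homMk (V.left.homOfLE (le_sup_left : W₁ ≤ W₁ ⊔ W₂)) (by
            change V.left.homOfLE _ ≫ ((W₁ ⊔ W₂).ι ≫ V.hom) = W₁.ι ≫ V.hom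
            rw [← Category.assoc, Scheme.homOfLE_ι])
        let k₂ : opOver V W₂ ⟶ opOver V (W₁ ⊔ W₂) :=
          Over.homMk (V.left.homOfLE (le_sup_right : W₂ ≤ W₁ ⊔ W₂)) (by
            change V.left.homOfLE _ ≫ ((W₁ ⊔ W₂).ι ≫ V.hom) = W₂.ι ≫ V.hom
            rw [← Category.assoc, Scheme.homOfLE_ι])
        have e1 : k₁ ≫ opι V (W₁ ⊔ W₂) = opι V W₁ := by
          ext
          exact Scheme.homOfLE_ι V.left (le_sup_left : W₁ ≤ W₁ ⊔ W₂)
        have e2 : k₂ ≫ opι V (W₁ ⊔ W₂) = opι V W₂ := by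
          ext
          exact Scheme.homOfLE_ι V.left (le_sup_right : W₂ ≤ W₁ ⊔ W₂)
        have hk1 : IsOpenImmersion k₁.left :=
          inferInstanceAs (IsOpenImmersion (V.left.homOfLE (le_sup_left : W₁ ≤ W₁ ⊔ W₂)))
        have hk2 : IsOpenImmersion k₂.left :=
          inferInstanceAs (IsOpenImmersion (V.left.homOfLE (le_sup_right : W₂ ≤ W₁ ⊔ W₂)))
        refine degFibresLE_of_openCover ((yon S).map (opι V (W₁ ⊔ W₂)) ≫ ψ) k₁ k₂ ?_ a b ?_ ?_
        · rw [Set.eq_univ_iff_forall]
          rintro ⟨x, hx⟩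
          rcases hx with hx | hx
          · exact Or.inl ⟨⟨x, hx⟩,
              Scheme.homOfLE_apply' (le_sup_left : W₁ ≤ W₁ ⊔ W₂) x hx⟩
          · exact Or.inr ⟨⟨x, hx⟩,
              Scheme.homOfLE_apply' (le_sup_right : W₂ ≤ W₁ ⊔ W₂) x hx⟩
        · rw [← Category.assoc, ← Functor.map_comp, e1]; exact ha
        · rw [← Category.assoc, ← Functor.map_comp, e2]; exact hb
    · intro x _
      obtain ⟨O, j, hj, hx, N, hN⟩ := H x
      refine ⟨Set.range j.left, ?_, j.left.opensRange, le_rfl, N, ?_⟩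
      · rw [nhdsWithin_univ]
        exact j.left.isOpenEmbedding.isOpen_range.mem_nhds hx
      · -- `O ≅ opensRange`
        let e : opOver V j.left.opensRange ⟶ O :=
          Over.homMk j.left.isoOpensRange.inv (by
            change j.left.isoOpensRange.inv ≫ O.hom = j.left.opensRange.ι ≫ V.hom
            rw [← Over.w j, ← Category.assoc, Scheme.Hom.isoOpensRange_inv_comp])
        have he : e ≫ j = opι V j.left.opensRange := by
          ext
          exact Scheme.Hom.isoOpensRange_inv_comp _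
        rw [← he, Functor.map_comp, Category.assoc]
        have hiso : IsIso e.left := inferInstanceAs (IsIso j.left.isoOpensRange.inv)
        have := degFibresLE_comp' hX e ((yon S).map j ≫ ψ) 1 N
          (Groth.Agent.Lib.Helper9.BddFibLib.fibreDegLE_one_of_isImmersion e.left) hN
        rw [one_mul] at this
        exact this
  obtain ⟨W, hW, N, hN⟩ := hP
  have hsurj : Surjective (opι V W).left := by
    constructor
    intro x
    exact ⟨⟨x, hW (Set.mem_univ x)⟩, rfl⟩
  have hflat : Flat (opι V W).left := inferInstanceAs (Flat W.ι)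
  exact ⟨N, degFibresLE_of_flat_surjective_triangle (opι V W) ψ N hN⟩

end Groth.Agent.Lib.Helper15.BddFibSp
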