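import Groth.Prelude.Def_AlgSpRep
import Groth.Agent.Lib.Helper3.SpCoprod
import Groth.Agent.Lib.Helper27.PshBoot
import Mathlib.AlgebraicGeometry.Morphisms.UniversallyOpen

set_option autoImplicit false

universe u
open CategoryTheory CategoryTheory.Limits AlgebraicGeometry Opposite

namespace Groth.Agent.Lib.Helper15.ZarFppf

open AlgSp

variable {S : Scheme.{u}}

section OpenImage
variable {P T : Over S} (g : P ⟶ T) [Flat g.left] [LocallyOfFinitePresentation g.left]

/-- the open image of a flat morphism locally of finite presentation. -/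
def imOpens : T.left.Opens := ⟨Set.range g.left, g.left.isOpenMap.isOpen_range⟩

/-- the open image as an object over `S`. -/
abbrev imObj : Over S := Over.mk ((imOpens g).ι ≫ T.hom)

/-- the inclusion of the open image. -/
def imι : imObj g ⟶ T := Over.homMk (imOpens g).ι rfl

theorem range_subset : Set.range g.left ⊆ Set.range (imOpens g).ι := by
  rw [Scheme.Opens.range_ι]
  exact subset_rfl

/-- the factorization through the open image. -/
noncomputable def imLift : P ⟶ imObj g :=
  Over.homMk (U := P) (V := imObj g)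
    (IsOpenImmersion.lift (imOpens g).ι g.left (range_subset g) : P.left ⟶ (imOpens g)) (by
    change IsOpenImmersion.lift (imOpens g).ι g.left (range_subset g) ≫ (imOpens g).ι ≫ T.hom = P.hom
    rw [← Category.assoc, IsOpenImmersion.lift_fac, Over.w])

theorem imLift_ι : imLift g ≫ imι g = g := by
  ext
  exact IsOpenImmersion.lift_fac _ _ _

theorem imLift_left_ι : (imLift g).left ≫ (imOpens g).ι = g.left :=
  IsOpenImmersion.lift_fac _ _ _

instance : IsOpenImmersion (imι g).left := inferInstanceAs (IsOpenImmersion (imOpens g).ι)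

theorem range_imι : Set.range (imι g).left = Set.range g.left := by
  change Set.range (imOpens g).ι = _
  rw [Scheme.Opens.range_ι]
  rfl

theorem isPullback_imLift : IsPullback (𝟙 P.left) (imLift g).left g.left (imOpens g).ι :=
  (IsPullback.of_vert_isIso_mono (fst := (imLift g).left) (snd := 𝟙 P.left) (f := (imOpens g).ι)
    (g := g.left) ⟨by rw [imLift_left_ι, Category.id_comp]⟩).flip

instance : Flat (imLift g).left :=
  MorphismProperty.of_isPullback (P := @Flat) (isPullback_imLift g) inferInstance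

instance : LocallyOfFinitePresentation (imLift g).left :=
  MorphismProperty.of_isPullback (P := @LocallyOfFinitePresentation) (isPullback_imLift g)
    inferInstance

instance : Surjective (imLift g).left := by
  constructor
  intro v
  have hv : (imOpens g).ι v ∈ Set.range g.left := by
    have := v.2
    exact this
  obtain ⟨p, hp⟩ := hv
  refine ⟨p, ?_⟩
  apply (imOpens g).ι.isOpenEmbedding.injective
  rw [← Scheme.Hom.comp_apply, imLift_left_ι, hp]

end OpenImage

section Single
variable {P V : Over S} (g : P ⟶ V) [Flat g.left] [LocallyOfFinitePresentation g.left]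
  [Surjective g.left]

theorem generate_singleton_mem_J : Sieve.generate (Presieve.singleton g) ∈ J S V := by
  have := Groth.Agent.Lib.Helper3.generate_ofArrows_mem_J_of_fppf (T := V) (κ := PUnit.{1})
    (fun _ => P) (fun _ => g) (fun _ => inferInstance) (fun _ => inferInstance)
    (fun t => ⟨PUnit.unit, (inferInstance : Surjective g.left).surj t⟩)
  rw [Presieve.ofArrows_pUnit] at this
  exact this

variable {G : PSp S} (hG : Presieve.IsSheaf (J S) G)
include hG

theorem isSheafFor_singleton : Presieve.IsSheafFor G (Presieve.singleton g) :=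
  (Presieve.isSheafFor_iff_generate _).2 (hG _ (generate_singleton_mem_J g))

theorem map_injective_of_cover : Function.Injective (G.map g.op) :=
  Presieve.isSeparatedFor_singleton.1 (isSheafFor_singleton g hG).isSeparatedFor

theorem exists_descent (w : G.obj (op P))
    (hw : ∀ {Z : Over S} (p₁ p₂ : Z ⟶ P), p₁ ≫ g = p₂ ≫ g → G.map p₁.op w = G.map p₂.op w) :
    ∃ y : G.obj (op V), G.map g.op y = w :=
  (Presieve.isSheafFor_singleton.1 (isSheafFor_singleton g hG) w hw).exists

end Single

open Groth.Agent.Lib.Helper27.PshBoot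

theorem app_injective {A B : PSp S} (m : A ⟶ B) [Mono m] (T : (Over S)ᵒᵖ) :
    Function.Injective (m.app T) := by
  have : Mono (m.app T) := inferInstance
  exact (mono_iff_injective (m.app T)).1 this

section LemmaD
variable {F Fi : PSp S} (m : Fi ⟶ F) [Mono m] (hb : RepBySp m)
  {P V : Over S} (g : P ⟶ V) [Flat g.left] [LocallyOfFinitePresentation g.left]
  [Surjective g.left]
include hb

/-- a section of `F` over `V` lying in `Fi` on an fppf cover of `V` lies in `Fi`. -/
theorem exists_of_cover (x' : F.obj (op V)) (z : Fi.obj (op P))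
    (hz : m.app (op P) z = F.map g.op x') : ∃ z' : Fi.obj (op V), m.app (op V) z' = x' := by
  let ξ : (pyon S).obj V ⟶ F := (CategoryTheory.uliftYonedaEquiv.{u + 1} (X := V) (F := F)).symm x'
  have sq : IsPullback (pullback.fst m ξ) (pullback.snd m ξ) m ξ := IsPullback.of_hasPullback m ξ
  obtain ⟨hW, -⟩ := hb ξ _ _ sq
  rw [isSheaf_iff_isSheaf_of_type] at hW
  obtain ⟨w, hw1, hw2⟩ := sq_exists sq z (⟨g⟩ : ((pyon S).obj V).obj (op P)) (by
    rw [yonedaSymm_app]; exact hz)
  have hcompat : ∀ {Z : Over S} (p₁ p₂ : Z ⟶ P), p₁ ≫ g = p₂ ≫ g →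
      (pullback m ξ).map p₁.op w = (pullback m ξ).map p₂.op w := by
    intro Z p₁ p₂ h12
    apply sq_ext sq
    · have e1 := (pullback.fst m ξ).naturality_apply p₁.op w
      have e2 := (pullback.fst m ξ).naturality_apply p₂.op w
      rw [e1, e2, hw1]
      apply app_injective m
      have n1 := m.naturality_apply p₁.op z
      have n2 := m.naturality_apply p₂.op z
      rw [n1, n2, hz, ← Functor.map_comp_apply, ← Functor.map_comp_apply,
        ← op_comp, ← op_comp, h12]
    · have e1 := (pullback.snd m ξ).naturality_apply p₁.op w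
      have e2 := (pullback.snd m ξ).naturality_apply p₂.op w
      rw [e1, e2, hw2]
      apply ULift.ext
      exact h12
  obtain ⟨w', hw'⟩ := exists_descent g hW w hcompat
  have hk : (pullback.snd m ξ).app (op V) w' = (⟨𝟙 V⟩ : ((pyon S).obj V).obj (op V)) := by
    have hY : Presieve.IsSheaf (J S) ((pyon S).obj V) :=
      (isSheaf_iff_isSheaf_of_type _ _).1 ((yon S).obj V).property
    apply map_injective_of_cover g hY
    have e1 := (pullback.snd m ξ).naturality_apply g.op w'
    rw [← e1, hw', hw2]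
    apply ULift.ext
    change g = g ≫ 𝟙 V
    rw [Category.comp_id]
  refine ⟨(pullback.fst m ξ).app (op V) w', ?_⟩
  rw [sq_app sq, hk, yonedaSymm_app]
  simp

end LemmaD

section Zar

/-- A jointly surjective family of open immersions generates a covering sieve of the big Zariski
site. -/
theorem generate_ofArrows_mem_Jzar {T : Over S} {κ : Type*} (P : κ → Over S) (g : ∀ i, P i ⟶ T)
    (hopen : ∀ i, IsOpenImmersion (g i).left)
    (hsurj : ∀ t : ↥T.left, ∃ i, t ∈ Set.range (g i).left) :
    Sieve.generate (Presieve.ofArrows P g) ∈ QuotSh.J Scheme.zariskiPrecoverage S T := by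
  rw [GrothendieckTopology.mem_over_iff]
  have h0 : Presieve.ofArrows (fun i => (P i).left) (fun i => (g i).left) ∈
      Scheme.zariskiPrecoverage T.left := by
    rw [Scheme.ofArrows_mem_precoverage_iff]
    exact ⟨hsurj, fun i => hopen i⟩
  refine GrothendieckTopology.superset_covering _ ?_
    (Precoverage.generate_mem_toGrothendieck h0)
  rw [Sieve.generate_le_iff]
  rintro W _ ⟨i⟩
  rw [Sieve.overEquiv_iff]
  have e : (Over.homMk (g i).left : Over.mk ((g i).left ≫ T.hom) ⟶ T) =
      (Over.isoMk (Iso.refl _) (by simp) : Over.mk ((g i).left ≫ T.hom) ≅ P i).hom ≫ g i := by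
    ext; simp
  rw [e]
  exact Sieve.downward_closed _ (Sieve.le_generate _ _ _ (Presieve.ofArrows.mk i)) _

theorem isSheafFor_ofArrows_zar {F : PSp S}
    (h1 : Presheaf.IsSheaf (QuotSh.J Scheme.zariskiPrecoverage S) F)
    {T : Over S} {κ : Type*} (P : κ → Over S) (g : ∀ i, P i ⟶ T)
    (hopen : ∀ i, IsOpenImmersion (g i).left)
    (hsurj : ∀ t : ↥T.left, ∃ i, t ∈ Set.range (g i).left) :
    Presieve.IsSheafFor F (Presieve.ofArrows P g) := by
  rw [isSheaf_iff_isSheaf_of_type] at h1
  exact (Presieve.isSheafFor_iff_generate _).2 (h1 _ (generate_ofArrows_mem_Jzar P g hopen hsurj))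

end Zar

section Main
variable {F : PSp S} {ι : Type*} {Fi : ι → PSp S} (m : ∀ i, Fi i ⟶ F)
  (hc : ∀ (T : Over S) (x : F.obj (op T)), ∃ R ∈ (J S) T,
    ∀ ⦃T' : Over S⦄ (f : T' ⟶ T), R.arrows f → ∃ i, F.map f.op x ∈ Set.range ((m i).app (op T')))
include hc

/-- refinement of a covering sieve so that a compatible family lies in the subfunctors. -/
theorem exists_refinement {T : Over S} (R : Sieve T) (hR : R ∈ J S T)
    (x : Presieve.FamilyOfElements F R.arrows) (hx : x.Compatible) :
    ∃ (κ : Type (u + 1)) (P : κ → Over S) (g : ∀ k, P k ⟶ T) (hg : ∀ k, R (g k)),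
      (∀ k, Flat (g k).left) ∧ (∀ k, LocallyOfFinitePresentation (g k).left) ∧
      (∀ t : ↥T.left, ∃ k, t ∈ Set.range (g k).left) ∧
      ∀ k, ∃ (i : ι) (z : (Fi i).obj (op (P k))), (m i).app _ z = x (g k) (hg k) := by
  rw [Presieve.compatible_iff_sieveCompatible] at hx
  obtain ⟨κ₁, P₁, g₁, hR₁, hfl₁, hfp₁, hs₁⟩ :=
    Groth.Agent.Lib.Helper3.exists_fppf_family_of_mem_J R hR
  have h2 : ∀ k₁ : κ₁, ∃ (κ₂ : Type (u + 1)) (P₂ : κ₂ → Over S) (g₂ : ∀ k, P₂ k ⟶ P₁ k₁),
      (∀ k, Flat (g₂ k).left) ∧ (∀ k, LocallyOfFinitePresentation (g₂ k).left) ∧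
      (∀ t : ↥(P₁ k₁).left, ∃ k, t ∈ Set.range (g₂ k).left) ∧
      ∀ k, ∃ i, F.map (g₂ k).op (x (g₁ k₁) (hR₁ k₁)) ∈ Set.range ((m i).app (op (P₂ k))) := by
    intro k₁
    obtain ⟨R', hR', h'⟩ := hc (P₁ k₁) (x (g₁ k₁) (hR₁ k₁))
    obtain ⟨κ₂, P₂, g₂, hR₂, hfl₂, hfp₂, hs₂⟩ :=
      Groth.Agent.Lib.Helper3.exists_fppf_family_of_mem_J R' hR'
    exact ⟨κ₂, P₂, g₂, hfl₂, hfp₂, hs₂, fun k => h' (g₂ k) (hR₂ k)⟩
  choose κ₂ P₂ g₂ hfl₂ hfp₂ hs₂ hmem using h2
  refine ⟨Σ k₁, κ₂ k₁, fun k => P₂ k.1 k.2, fun k => g₂ k.1 k.2 ≫ g₁ k.1,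
    fun k => R.downward_closed (hR₁ k.1) _, fun k => ?_, fun k => ?_, fun t => ?_, fun k => ?_⟩
  · haveI := hfl₁ k.1
    haveI := hfl₂ k.1 k.2
    change Flat ((g₂ k.1 k.2).left ≫ (g₁ k.1).left)
    infer_instance
  · haveI := hfp₁ k.1
    haveI := hfp₂ k.1 k.2
    change LocallyOfFinitePresentation ((g₂ k.1 k.2).left ≫ (g₁ k.1).left)
    infer_instance
  · obtain ⟨k₁, p, hp⟩ := hs₁ t
    obtain ⟨k₂, q, hq⟩ := hs₂ k₁ p
    refine ⟨⟨k₁, k₂⟩, q, ?_⟩
    change ((g₂ k₁ k₂).left ≫ (g₁ k₁).left) q = t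
    rw [Scheme.Hom.comp_apply, hq, hp]
  · obtain ⟨i, z, hz⟩ := hmem k.1 k.2
    refine ⟨i, z, ?_⟩
    rw [hz]
    exact (hx (g₁ k.1) (g₂ k.1 k.2) (hR₁ k.1)).symm

end Main

theorem exists_image_factorization {P T : Over S} (g : P ⟶ T) (hfl : Flat g.left)
    (hfp : LocallyOfFinitePresentation g.left) :
    ∃ (V : Over S) (j : V ⟶ T) (g₀ : P ⟶ V), IsOpenImmersion j.left ∧ Flat g₀.left ∧
      LocallyOfFinitePresentation g₀.left ∧ Surjective g₀.left ∧ g₀ ≫ j = g ∧
      Set.range j.left = Set.range g.left :=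
  ⟨imObj g, imι g, imLift g, inferInstance, inferInstance, inferInstance, inferInstance,
    imLift_ι g, range_imι g⟩

theorem map_comp_apply' {F : PSp S} {A B C : Over S} (f : A ⟶ B) (g : B ⟶ C) (x : F.obj (op C)) :
    F.map (f ≫ g).op x = F.map f.op (F.map g.op x) := by
  rw [op_comp, Functor.map_comp_apply]

theorem mem_generate_singleton {T Q W : Over S} (q : Q ⟶ T) (f : W ⟶ T)
    (hf : Sieve.generate (Presieve.singleton q) f) : ∃ u : W ⟶ Q, u ≫ q = f := by
  obtain ⟨Y, u, _, ⟨⟩, e⟩ := hf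
  exact ⟨u, e⟩

section Main2
variable {F : PSp S} (h1 : Presheaf.IsSheaf (QuotSh.J Scheme.zariskiPrecoverage S) F)
  {ι : Type*} {Fi : ι → PSp S} (m : ∀ i, Fi i ⟶ F) [∀ i, Mono (m i)]
  (ha : ∀ i, Presheaf.IsSheaf (J S) (Fi i)) (hb : ∀ i, RepBySp (m i))
  (hc : ∀ (T : Over S) (x : F.obj (op T)), ∃ R ∈ (J S) T,
    ∀ ⦃T' : Over S⦄ (f : T' ⟶ T), R.arrows f → ∃ i, F.map f.op x ∈ Set.range ((m i).app (op T')))

include ha hb in
/-- two sections over `V` agreeing on an fppf cover `P ⟶ V` on which they lie in `Fi` agree. -/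
theorem eq_of_cover {P V : Over S} (g₀ : P ⟶ V) [Flat g₀.left]
    [LocallyOfFinitePresentation g₀.left] [Surjective g₀.left] (x' y' : F.obj (op V))
    (hxy : F.map g₀.op x' = F.map g₀.op y') (i : ι) (z : (Fi i).obj (op P))
    (hz : (m i).app _ z = F.map g₀.op x') : x' = y' := by
  obtain ⟨zx, hzx⟩ := exists_of_cover (m i) (hb i) g₀ x' z hz
  obtain ⟨zy, hzy⟩ := exists_of_cover (m i) (hb i) g₀ y' z (hz.trans hxy)
  have hFi : Presieve.IsSheaf (J S) (Fi i) := (isSheaf_iff_isSheaf_of_type _ _).1 (ha i)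
  have e : zx = zy := by
    apply map_injective_of_cover g₀ hFi
    apply app_injective (m i)
    have n1 := (m i).naturality_apply g₀.op zx
    have n2 := (m i).naturality_apply g₀.op zy
    rw [n1, n2, hzx, hzy, hxy]
  rw [← hzx, ← hzy, e]

include h1 ha hb hc

/-- `F` is separated for the fppf topology. -/
theorem separated {T : Over S} (R : Sieve T) (hR : R ∈ J S T) (x y : F.obj (op T))
    (hxy : ∀ ⦃T' : Over S⦄ (f : T' ⟶ T), R f → F.map f.op x = F.map f.op y) : x = y := by
  let fam : Presieve.FamilyOfElements F R.arrows := fun T' f _ => F.map f.op x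
  have hfam : fam.Compatible := by
    intro Y₁ Y₂ Z g₁ g₂ f₁ f₂ h₁ h₂ hcomm
    change F.map g₁.op (F.map f₁.op x) = F.map g₂.op (F.map f₂.op x)
    rw [← map_comp_apply', ← map_comp_apply', hcomm]
  obtain ⟨κ, P, g, hg, hfl, hfp, hs, hmem⟩ := exists_refinement m hc R hR fam hfam
  have hfac := fun k => exists_image_factorization (g k) (hfl k) (hfp k)
  choose V j g₀ hj hfl₀ hfp₀ hs₀ hfac hrange using hfac
  have hcl : ∀ k, F.map (j k).op x = F.map (j k).op y := by
    intro k
    haveI := hfl₀ k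
    haveI := hfp₀ k
    haveI := hs₀ k
    obtain ⟨i, z, hz⟩ := hmem k
    refine eq_of_cover m ha hb (g₀ k) _ _ ?_ i z ?_
    · rw [← map_comp_apply', ← map_comp_apply', hfac k]
      exact hxy (g k) (hg k)
    · rw [hz, ← map_comp_apply', hfac k]
  have hZ := isSheafFor_ofArrows_zar h1 V j hj (fun t => by
    obtain ⟨k, hk⟩ := hs t
    exact ⟨k, by rw [hrange k]; exact hk⟩)
  refine hZ.isSeparatedFor.ext ?_
  rintro Y f ⟨k⟩
  exact hcl k

/-- existence of amalgamations for the fppf topology. -/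
theorem exists_amalgamation {T : Over S} (R : Sieve T) (hR : R ∈ J S T)
    (x : Presieve.FamilyOfElements F R.arrows) (hx : x.Compatible) :
    ∃ t, x.IsAmalgamation t := by
  obtain ⟨κ, P, g, hg, hfl, hfp, hs, hmem⟩ := exists_refinement m hc R hR x hx
  have hfac := fun k => exists_image_factorization (g k) (hfl k) (hfp k)
  choose V j g₀ hj hfl₀ hfp₀ hs₀ hfac hrange using hfac
  choose i z hz using hmem
  have hFi : ∀ i, Presieve.IsSheaf (J S) (Fi i) := fun i =>
    (isSheaf_iff_isSheaf_of_type _ _).1 (ha i)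
  -- descend `z k` to the open image
  have hE1 : ∀ k, ∃ z' : (Fi (i k)).obj (op (V k)), (Fi (i k)).map (g₀ k).op z' = z k := by
    intro k
    haveI := hfl₀ k
    haveI := hfp₀ k
    haveI := hs₀ k
    refine exists_descent (g₀ k) (hFi (i k)) (z k) ?_
    intro Z p₁ p₂ h12
    apply app_injective (m (i k))
    have n1 := (m (i k)).naturality_apply p₁.op (z k)
    have n2 := (m (i k)).naturality_apply p₂.op (z k)
    rw [n1, n2, hz]
    refine hx p₁ p₂ (hg k) (hg k) ?_
    rw [← hfac k, ← Category.assoc, ← Category.assoc, h12]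
  choose z' hz' using hE1
  have hx' : ∀ k, F.map (g₀ k).op ((m (i k)).app _ (z' k)) = x (g k) (hg k) := by
    intro k
    have n1 := (m (i k)).naturality_apply (g₀ k).op (z' k)
    rw [← n1, hz', hz]
  -- compatibility on overlaps
  have hE2 : Presieve.Arrows.Compatible F j (fun k => (m (i k)).app _ (z' k)) := by
    intro k l W a b hab
    have hq₁ : Sieve.generate (Presieve.singleton (pullback.snd (g₀ k) a)) ∈ J S W := by
      have sq := (IsPullback.of_hasPullback (g₀ k) a).map (Over.forget S)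
      haveI : Flat (pullback.snd (g₀ k) a).left :=
        MorphismProperty.of_isPullback (P := @Flat) sq (hfl₀ k)
      haveI : LocallyOfFinitePresentation (pullback.snd (g₀ k) a).left :=
        MorphismProperty.of_isPullback (P := @LocallyOfFinitePresentation) sq (hfp₀ k)
      haveI : Surjective (pullback.snd (g₀ k) a).left :=
        MorphismProperty.of_isPullback (P := @Surjective) sq (hs₀ k)
      exact generate_singleton_mem_J _
    have hq₂ : Sieve.generate (Presieve.singleton (pullback.snd (g₀ l) b)) ∈ J S W := by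
      have sq := (IsPullback.of_hasPullback (g₀ l) b).map (Over.forget S)
      haveI : Flat (pullback.snd (g₀ l) b).left :=
        MorphismProperty.of_isPullback (P := @Flat) sq (hfl₀ l)
      haveI : LocallyOfFinitePresentation (pullback.snd (g₀ l) b).left :=
        MorphismProperty.of_isPullback (P := @LocallyOfFinitePresentation) sq (hfp₀ l)
      haveI : Surjective (pullback.snd (g₀ l) b).left :=
        MorphismProperty.of_isPullback (P := @Surjective) sq (hs₀ l)
      exact generate_singleton_mem_J _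
    refine separated h1 m ha hb hc _ ((J S).intersection_covering hq₁ hq₂) _ _ ?_
    rintro W' f ⟨hf₁, hf₂⟩
    obtain ⟨u₁, e₁⟩ := mem_generate_singleton _ _ hf₁
    obtain ⟨u₂, e₂⟩ := mem_generate_singleton _ _ hf₂
    have c₁ : f ≫ a = (u₁ ≫ pullback.fst (g₀ k) a) ≫ g₀ k := by
      rw [← e₁, Category.assoc, Category.assoc, pullback.condition]
    have c₂ : f ≫ b = (u₂ ≫ pullback.fst (g₀ l) b) ≫ g₀ l := by
      rw [← e₂, Category.assoc, Category.assoc, pullback.condition]
    have L : F.map f.op (F.map a.op ((m (i k)).app _ (z' k))) =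
        F.map (u₁ ≫ pullback.fst (g₀ k) a).op (x (g k) (hg k)) := by
      rw [← map_comp_apply', c₁, map_comp_apply', hx' k]
    have R' : F.map f.op (F.map b.op ((m (i l)).app _ (z' l))) =
        F.map (u₂ ≫ pullback.fst (g₀ l) b).op (x (g l) (hg l)) := by
      rw [← map_comp_apply', c₂, map_comp_apply', hx' l]
    change F.map f.op (F.map a.op ((m (i k)).app _ (z' k))) =
      F.map f.op (F.map b.op ((m (i l)).app _ (z' l)))
    rw [L, R']
    refine hx _ _ (hg k) (hg l) ?_
    rw [← hfac k, ← hfac l, ← Category.assoc, ← Category.assoc, ← c₁, ← c₂, Category.assoc,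
      Category.assoc, hab]
  -- glue in the Zariski topology
  have hZ := isSheafFor_ofArrows_zar h1 V j hj (fun t => by
    obtain ⟨k, hk⟩ := hs t
    exact ⟨k, by rw [hrange k]; exact hk⟩)
  obtain ⟨t, ht, -⟩ := (Presieve.isSheafFor_arrows_iff _ _).1 hZ _ hE2
  refine ⟨t, ?_⟩
  intro T'' f hf
  have hcov : (Sieve.generate (Presieve.ofArrows P g)).pullback f ∈ J S T'' :=
    (J S).pullback_stable f
      (Groth.Agent.Lib.Helper3.generate_ofArrows_mem_J_of_fppf P g hfl hfp hs)
  refine separated h1 m ha hb hc _ hcov _ _ ?_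
  intro Q h hh
  obtain ⟨Y, u, _, ⟨k⟩, e⟩ := hh
  rw [← map_comp_apply', ← e, map_comp_apply', ← hfac k, map_comp_apply', ht k, hx' k]
  exact (hx h u hf (hg k) e.symm).symm

/-- `F` is an fppf sheaf. -/
theorem isSheaf : Presheaf.IsSheaf (J S) F := by
  rw [isSheaf_iff_isSheaf_of_type]
  intro T R hR
  rw [← Presieve.isSeparatedFor_and_exists_isAmalgamation_iff_isSheafFor]
  refine ⟨?_, fun x hx => exists_amalgamation h1 m ha hb hc R hR x hx⟩
  intro x t₁ t₂ ht₁ ht₂
  refine separated h1 m ha hb hc R hR t₁ t₂ ?_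
  intro T' f hf
  rw [ht₁ f hf, ht₂ f hf]

end Main2

end Groth.Agent.Lib.Helper15.ZarFppf
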