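import Groth.Agent.Lib.Helper15.MonoLft
import Groth.Agent.Lib.Helper15.ZarFppf
import Groth.Agent.Lib.Helper3.AlgSpEpiDescent
import Groth.Agent.Lib.Helper3.AlgSpFpqcMono
import Groth.Agent.Lib.Helper3.AlgSpLocP3
import Groth.Agent.Lib.Helper3.AlgSpLocP4
import Groth.Prelude.Def_AlgSpRep
import Groth.Agent.Lib.Helper3.QAffDescGen
import Groth.Agent.Lib.Helper3.QAffDescDiag
import Groth.Agent.Lib.Helper3.QAffDescZMT
import Groth.Agent.Lib.Helper3.AlgSpLocal
import Groth.Agent.S0081
import Groth.Agent.S0087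

set_option autoImplicit false
universe u
open CategoryTheory CategoryTheory.Limits AlgebraicGeometry Opposite
open AlgSp

namespace Groth.Agent.Lib.Helper15.Boot1

open Groth.Agent.Lib.Helper3

variable {S : Scheme.{u}} {E F G H : Sp S} {a : E ⟶ F} {f : E ⟶ H} {g : F ⟶ G} {b : H ⟶ G}

/-- Step 1: over a test scheme `T → G` there is an fppf cover `X → T` over which the base change of
`b` is a separated locally quasi-finite scheme `VX → X`. -/
theorem exists_cover (sq : IsPullback a f g b)
    (hg : RepBySpWith (IsSurjectiveMor ⊓ LocP @Flat ⊓ LocP @LocallyOfFinitePresentation) g.hom)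
    (ha : RepBySpWith (IsSeparatedMor ⊓ LocP (@LocallyQuasiFinite ⊓ @LocallyOfFiniteType)) a.hom)
    (T : Over S) (t : (yon S).obj T ⟶ G) :
    ∃ (X : Over S) (p : X ⟶ T) (VX : Over S) (q : VX ⟶ X) (eH : (yon S).obj VX ⟶ H),
      Flat p.left ∧ LocallyOfFinitePresentation p.left ∧ Surjective p.left ∧
      IsPullback eH ((yon S).map q) b ((yon S).map p ≫ t) ∧
      IsSeparated q.left ∧ LocallyQuasiFinite q.left ∧ LocallyOfFiniteType q.left := by
  have hg' := (repBySpWith_hom_iff _ g).mp hg
  have ha' := (repBySpWith_hom_iff _ a).mp ha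
  obtain ⟨hFT, ⟨hsurj, hflat⟩, hlfp⟩ := hg' t (pullback.fst g t) (pullback.snd g t)
    (IsPullback.of_hasPullback g t)
  obtain ⟨X, c, hce, hcs⟩ := hFT.atlas
  obtain ⟨p, hp⟩ := (yon S).map_surjective (c ≫ pullback.snd g t)
  let x : (yon S).obj X ⟶ F := c ≫ pullback.fst g t
  have hxg : x ≫ g = (yon S).map p ≫ t := by
    rw [hp, Category.assoc, Category.assoc, pullback.condition]
  -- properties of p
  have hcflat : LocP @Flat c := locP_mono (fun _ _ f hf => isEtLocal_flat.etale_le f hf) (locP_of_repWith isEtLocal_etale c hce)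
  have hclfp : LocP @LocallyOfFinitePresentation c :=
    locP_mono (fun _ _ f hf => isEtLocal_locallyOfFinitePresentation.etale_le f hf) (locP_of_repWith isEtLocal_etale c hce)
  have hpflat : Flat p.left := by
    apply locP_yon_map (P := @Flat)
    rw [hp]
    exact locP_comp isEtLocal_flat (IsAlgSpace.yon_obj X) hFT (IsAlgSpace.yon_obj T) _ _ hcflat hflat
  have hplfp : LocallyOfFinitePresentation p.left := by
    apply locP_yon_map (P := @LocallyOfFinitePresentation)
    rw [hp]
    exact locP_comp isEtLocal_locallyOfFinitePresentation (IsAlgSpace.yon_obj X) hFT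
      (IsAlgSpace.yon_obj T) _ _ hclfp hlfp
  have hpsurj : Surjective p.left := by
    refine ⟨surjective_of_isSurjectiveMor_yon_map p ?_⟩
    rw [hp]
    exact isSurjectiveMor_comp (isSurjectiveMor_of_repWith hcs) hsurj
  -- the scheme VX
  obtain ⟨hEX, hsep, hlqf⟩ := ha' x (pullback.fst a x) (pullback.snd a x) (IsPullback.of_hasPullback a x)
  let X' : Space S := ⟨pullback a x, hEX⟩
  let pr : X' ⟶ (ofScheme S).obj X := ObjectProperty.homMk (pullback.snd a x)
  have hrep : (pullback a x).obj.IsRepresentable := Groth.Agent.S10259.result X X' pr hlqf hsep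
  obtain ⟨VX, ⟨r⟩⟩ := hrep.has_representation
  let e : (yon S).obj VX ≅ pullback a x := isoOfRepresentableBy r
  obtain ⟨q, hq⟩ := (yon S).map_surjective (e.hom ≫ pullback.snd a x)
  have sqX : IsPullback (e.hom ≫ pullback.fst a x) ((yon S).map q) a x := by
    rw [hq]
    exact IsPullback.of_iso (IsPullback.of_hasPullback a x) e.symm (Iso.refl _) (Iso.refl _) (Iso.refl _)
      (by simp) (by simp) (by simp) (by simp)
  obtain ⟨-, hsep', hlqf'⟩ := ha' x _ _ sqX
  have sqH : IsPullback ((e.hom ≫ pullback.fst a x) ≫ f) ((yon S).map q) b ((yon S).map p ≫ t) := by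
    rw [← hxg]
    exact sqX.paste_horiz sq.flip
  refine ⟨X, p, VX, q, _, hpflat, hplfp, hpsurj, sqH, ?_, ?_, ?_⟩
  · exact (isSeparatedMor_yon_map_iff q).1 hsep'
  · exact (locP_yon_map hlqf').1
  · exact (locP_yon_map hlqf').2

open Groth.Agent.Lib.Helper3.QAffDesc in
/-- Step 2: the base change of `b` to a test scheme is representable by a separated locally
quasi-finite scheme. -/
theorem exists_rep (sq : IsPullback a f g b)
    (hg : RepBySpWith (IsSurjectiveMor ⊓ LocP @Flat ⊓ LocP @LocallyOfFinitePresentation) g.hom)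
    (ha : RepBySpWith (IsSeparatedMor ⊓ LocP (@LocallyQuasiFinite ⊓ @LocallyOfFiniteType)) a.hom)
    (T : Over S) (t : (yon S).obj T ⟶ G) :
    ∃ (V : Over S) (fst : (yon S).obj V ⟶ H) (snd : V ⟶ T),
      IsPullback fst ((yon S).map snd) b t ∧ IsSeparated snd.left ∧
        (@LocallyQuasiFinite ⊓ @LocallyOfFiniteType : MorphismProperty Scheme.{u}) snd.left := by
  obtain ⟨X, p, VX, q, eH, hpfl, hplfp, hpsurj, sqH, hqsep, hqlqf, hqlft⟩ := exists_cover sq hg ha T t
  have sqE := IsPullback.of_hasPullback b t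
  have hwE : eH ≫ b = ((yon S).map q ≫ (yon S).map p) ≫ t := by
    rw [Category.assoc]; exact sqH.w
  obtain ⟨fst', hf1, hf2⟩ : ∃ fst' : (yon S).obj VX ⟶ pullback b t,
      fst' ≫ pullback.fst b t = eH ∧
      fst' ≫ pullback.snd b t = (yon S).map q ≫ (yon S).map p :=
    ⟨sqE.lift _ _ hwE, sqE.lift_fst _ _ hwE, sqE.lift_snd _ _ hwE⟩
  have big' : IsPullback (fst' ≫ pullback.fst b t) ((yon S).map q) b ((yon S).map p ≫ t) := by
    rw [hf1]; exact sqH
  have left := IsPullback.of_right big' hf2 sqE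
  have hrep : Representable (pullback.snd b t) :=
    representable_of_cover Plqf (fun g hY hg => isQuasiAffine_of_lqf g hY hg) p
      q ⟨⟨hqsep, hqlqf⟩, hqlft⟩ _ fst' left
  obtain ⟨V, ι, fst'', sqG⟩ := hrep (𝟙 _)
  have hiso : IsIso fst'' := sqG.isIso_fst_of_isIso
  have sqGk : IsPullback (fst'' ≫ pullback.fst b t) ((yon S).map ι) b t := by
    refine IsPullback.of_iso sqE (asIso fst'').symm (Iso.refl _) (Iso.refl _) (Iso.refl _)
      ?_ ?_ ?_ ?_
    · simp
    · simp only [Iso.refl_hom, Category.comp_id, Iso.symm_hom, asIso_inv]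
      rw [IsIso.eq_inv_comp, sqG.w, Category.comp_id]
    · simp
    · simp
  refine ⟨V, fst'' ≫ pullback.fst b t, ι, sqGk, ?_⟩
  -- descend the properties along `p`
  have sqP : IsPullback (pullback.fst ι p) (pullback.snd ι p) ι p := IsPullback.of_hasPullback _ _
  have sqGq : IsPullback ((yon S).map (pullback.fst ι p) ≫ fst'') ((yon S).map (pullback.snd ι p))
      (pullback.snd b t) ((yon S).map p) := by
    have := (sqP.map (yon S)).paste_horiz sqG
    rw [Category.comp_id] at this
    exact this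
  have hP2 : Plqf (pullback.snd ι p).left :=
    prop_of_isPullback_of_isPullback Plqf left sqGq ⟨⟨hqsep, hqlqf⟩, hqlft⟩
  have sqL : IsPullback (pullback.snd ι p).left (pullback.fst ι p).left p.left ι.left :=
    (sqP.map (Over.forget S)).flip
  have hQ : (@Surjective ⊓ @Flat ⊓ @LocallyOfFinitePresentation : MorphismProperty Scheme.{u})
      p.left := ⟨⟨hpsurj, hpfl⟩, hplfp⟩
  haveI : MorphismProperty.DescendsAlong @IsSeparated
      (@Surjective ⊓ @Flat ⊓ @QuasiCompact : MorphismProperty Scheme.{u}) := Groth.Agent.S0081.result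
  haveI : MorphismProperty.DescendsAlong (@LocallyQuasiFinite ⊓ @LocallyOfFiniteType : MorphismProperty Scheme.{u})
      (@Surjective ⊓ @Flat ⊓ @QuasiCompact : MorphismProperty Scheme.{u}) := Groth.Agent.S0087.result
  exact ⟨MorphismProperty.of_isPullback_of_descendsAlong (P := @IsSeparated)
      (Q := @Surjective ⊓ @Flat ⊓ @LocallyOfFinitePresentation) sqL hQ hP2.1.1,
    MorphismProperty.of_isPullback_of_descendsAlong
      (P := (@LocallyQuasiFinite ⊓ @LocallyOfFiniteType : MorphismProperty Scheme.{u}))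
      (Q := @Surjective ⊓ @Flat ⊓ @LocallyOfFinitePresentation) sqL hQ ⟨hP2.1.2, hP2.2⟩⟩

theorem main (sq : IsPullback a f g b)
    (hg : RepBySpWith (IsSurjectiveMor ⊓ LocP @Flat ⊓ LocP @LocallyOfFinitePresentation) g.hom)
    (ha : RepBySpWith (IsSeparatedMor ⊓ LocP (@LocallyQuasiFinite ⊓ @LocallyOfFiniteType)) a.hom) :
    RepWith @IsSeparated b ∧ RepWith (@LocallyQuasiFinite ⊓ @LocallyOfFiniteType) b := by
  constructor
  · apply MorphismProperty.relative.of_exists
    intro T t
    obtain ⟨V, fst, snd, sqV, h1, -⟩ := exists_rep sq hg ha T t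
    exact ⟨V, fst, snd, sqV, h1⟩
  · apply MorphismProperty.relative.of_exists
    intro T t
    obtain ⟨V, fst, snd, sqV, -, h2⟩ := exists_rep sq hg ha T t
    exact ⟨V, fst, snd, sqV, h2⟩

end Groth.Agent.Lib.Helper15.Boot1
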