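import Mathlib
import Groth.Prelude.Def_AlgSp4
import Groth.Agent.Lib.Helper3.SpCoprod
import Groth.Agent.Lib.Helper3.AlgSpFibre
import Groth.Agent.Lib.Helper3.AlgSpHasAtMor
import Groth.Agent.Lib.Helper3.SpUC
import Groth.Agent.S10209

set_option autoImplicit false
set_option backward.isDefEq.respectTransparency.types false
universe w' w u
open CategoryTheory CategoryTheory.Limits AlgebraicGeometry Opposite
open AlgSp

namespace Groth.Agent.Lib.Helper15.Colim5

variable {S : Scheme.{u}} {V X : Sp S} {κ : Type w} (A : κ → Sp S) (a : ∀ k, A k ⟶ V)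

/-- The subfunctor of sections of `V` coming from some member of the family. -/
def rangeUnion : Subfunctor V.obj where
  obj T := {s | ∃ (k : κ) (x : (A k).obj.obj T), (a k).hom.app T x = s}
  map := by
    rintro T T' φ _ ⟨k, x, rfl⟩
    exact ⟨k, (A k).obj.map φ x, (NatTrans.naturality_apply (a k).hom φ x)⟩

/-- The family is jointly locally surjective. -/
def LocSurj : Prop :=
  ∀ (T : Over S) (s : V.obj.obj (op T)), (rangeUnion A a).sieveOfSection s ∈ AlgSp.J S T

variable {A a}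

theorem hom_ext_of_locSurj (ha : LocSurj A a) (Ψ Ψ' : V ⟶ X) (h : ∀ k, a k ≫ Ψ = a k ≫ Ψ') :
    Ψ = Ψ' := by
  have hX : Presieve.IsSheaf (AlgSp.J S) X.obj := (isSheaf_iff_isSheaf_of_type _ _).1 X.property
  apply Sheaf.hom_ext
  ext ⟨T⟩ s
  apply (hX _ (ha T s)).isSeparatedFor.ext
  rintro T' g ⟨k, x, hx⟩
  have e1 : X.obj.map g.op (Ψ.hom.app (op T) s) = Ψ.hom.app (op T') (V.obj.map g.op s) :=
    (NatTrans.naturality_apply Ψ.hom g.op s).symm
  have e2 : X.obj.map g.op (Ψ'.hom.app (op T) s) = Ψ'.hom.app (op T') (V.obj.map g.op s) :=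
    (NatTrans.naturality_apply Ψ'.hom g.op s).symm
  refine (e1.trans ?_).trans e2.symm
  rw [← hx]
  exact congrArg (fun φ : A k ⟶ X => φ.hom.app (op T') x) (h k)

theorem exists_glue (ha : LocSurj A a) (ψ : ∀ k, A k ⟶ X)
    (hψ : ∀ (k l : κ) (T : (Over S)ᵒᵖ) (x : (A k).obj.obj T) (y : (A l).obj.obj T),
      (a k).hom.app T x = (a l).hom.app T y → (ψ k).hom.app T x = (ψ l).hom.app T y) :
    ∃ Ψ : V ⟶ X, ∀ k, a k ≫ Ψ = ψ k := by
  classical
  have hX : Presieve.IsSheaf (AlgSp.J S) X.obj := (isSheaf_iff_isSheaf_of_type _ _).1 X.property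
  have hch : ∀ (T : (Over S)ᵒᵖ) (s : (rangeUnion A a).toFunctor.obj T),
      ∃ (k : κ) (x : (A k).obj.obj T), (a k).hom.app T x = s.1 := fun T s => s.2
  choose kk xx hxx using hch
  let f : (rangeUnion A a).toFunctor ⟶ X.obj :=
    { app := fun T => ↾fun s => (ψ (kk T s)).hom.app T (xx T s)
      naturality := by
        intro T T' φ
        ext s
        change (ψ (kk T' _)).hom.app T' (xx T' _) = X.obj.map φ ((ψ (kk T s)).hom.app T (xx T s))
        rw [← NatTrans.naturality_apply (ψ (kk T s)).hom φ (xx T s)]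
        apply hψ
        rw [hxx, NatTrans.naturality_apply (a (kk T s)).hom φ (xx T s), hxx]
        rfl }
  let lift := (rangeUnion A a).sheafifyLift f hX
  let incl : V.obj ⟶ ((rangeUnion A a).sheafify (AlgSp.J S)).toFunctor :=
    Subfunctor.lift (𝟙 V.obj) (by
      rintro T s -
      exact ha T.unop s)
  refine ⟨⟨incl ≫ lift⟩, fun k => ?_⟩
  apply Sheaf.hom_ext
  ext T x
  have hmem : (a k).hom.app T x ∈ (rangeUnion A a).obj T := ⟨k, x, rfl⟩
  have h1 := congrArg (fun φ => φ.app T ⟨(a k).hom.app T x, hmem⟩)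
    ((rangeUnion A a).to_sheafifyLift f hX)
  change lift.app T ⟨(a k).hom.app T x, _⟩ = (ψ k).hom.app T x
  refine Eq.trans ?_ (h1.trans ?_)
  · rfl
  · change (ψ (kk T _)).hom.app T (xx T _) = _
    apply hψ
    rw [hxx]

/-- morphism form of the compatibility hypothesis -/
theorem exists_glue' (ha : LocSurj A a) (ψ : ∀ k, A k ⟶ X)
    (hψ : ∀ (k l : κ) (T : Over S) (g₁ : (yon S).obj T ⟶ A k) (g₂ : (yon S).obj T ⟶ A l),
      g₁ ≫ a k = g₂ ≫ a l → g₁ ≫ ψ k = g₂ ≫ ψ l) :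
    ∃ Ψ : V ⟶ X, ∀ k, a k ≫ Ψ = ψ k := by
  refine exists_glue ha ψ ?_
  rintro k l ⟨T⟩ x y hxy
  have h1 := hψ k l T ((AlgSp.J S).uliftYonedaEquiv.{u+1}.symm x)
    ((AlgSp.J S).uliftYonedaEquiv.{u+1}.symm y) (by
      apply (AlgSp.J S).uliftYonedaEquiv.{u+1}.injective
      rw [(AlgSp.J S).uliftYonedaEquiv_comp, (AlgSp.J S).uliftYonedaEquiv_comp,
        Equiv.apply_symm_apply, Equiv.apply_symm_apply]
      exact hxy)
  have h2 := congrArg (AlgSp.J S).uliftYonedaEquiv.{u+1} h1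
  rw [(AlgSp.J S).uliftYonedaEquiv_comp, (AlgSp.J S).uliftYonedaEquiv_comp,
    Equiv.apply_symm_apply, Equiv.apply_symm_apply] at h2
  exact h2

variable (A a) in
/-- local surjectivity from liftings over fppf covering families -/
theorem locSurj_of_lifts
    (h : ∀ (T : Over S) (v : (yon S).obj T ⟶ V), ∃ (ι : Type w') (R : ι → Over S)
      (r : ∀ j, R j ⟶ T), (∀ j, Flat (r j).left) ∧
      (∀ j, LocallyOfFinitePresentation (r j).left) ∧
      (∀ t : ↥T.left, ∃ j, t ∈ Set.range (r j).left) ∧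
      ∀ j, ∃ (k : κ) (g : (yon S).obj (R j) ⟶ A k), g ≫ a k = (yon S).map (r j) ≫ v) :
    LocSurj A a := by
  intro T s
  obtain ⟨ι, R, r, hfl, hfp, hs, hl⟩ := h T ((AlgSp.J S).uliftYonedaEquiv.{u+1}.symm s)
  refine (AlgSp.J S).superset_covering ?_
    (Groth.Agent.Lib.Helper3.generate_ofArrows_mem_J_of_fppf R r hfl hfp hs)
  rw [Sieve.generate_le_iff]
  rintro _ _ ⟨j⟩
  obtain ⟨k, g, hg⟩ := hl j
  refine ⟨k, (AlgSp.J S).uliftYonedaEquiv.{u+1} g, ?_⟩
  rw [← (AlgSp.J S).uliftYonedaEquiv_comp, hg, ← (AlgSp.J S).uliftYonedaEquiv_naturality,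
    Equiv.apply_symm_apply]

/-- local surjectivity is stable under base change -/
theorem LocSurj.baseChange (ha : LocSurj A a) {V' : Sp S} (f : V' ⟶ V) (A' : κ → Sp S)
    (a' : ∀ k, A' k ⟶ V') (p : ∀ k, A' k ⟶ A k) (sq : ∀ k, IsPullback (a' k) (p k) f (a k)) :
    LocSurj A' a' := by
  intro T s'
  refine (AlgSp.J S).superset_covering ?_ (ha T (f.hom.app (op T) s'))
  rintro T' g ⟨k, x, hx⟩
  let v' : (yon S).obj T' ⟶ V' := (AlgSp.J S).uliftYonedaEquiv.{u+1}.symm (V'.obj.map g.op s')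
  let gx : (yon S).obj T' ⟶ A k := (AlgSp.J S).uliftYonedaEquiv.{u+1}.symm x
  have hw : v' ≫ f = gx ≫ a k := by
    apply (AlgSp.J S).uliftYonedaEquiv.{u+1}.injective
    rw [(AlgSp.J S).uliftYonedaEquiv_comp, (AlgSp.J S).uliftYonedaEquiv_comp,
      Equiv.apply_symm_apply, Equiv.apply_symm_apply, hx]
    exact NatTrans.naturality_apply f.hom g.op s'
  refine ⟨k, (AlgSp.J S).uliftYonedaEquiv.{u+1} ((sq k).lift v' gx hw), ?_⟩
  rw [← (AlgSp.J S).uliftYonedaEquiv_comp, (sq k).lift_fst, Equiv.apply_symm_apply]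

open Groth.Agent.Lib.Helper3 in
/-- A jointly surjective family of etale morphisms of algebraic spaces is jointly locally
surjective. -/
theorem locSurj_of_etale_surjective (hV : IsAlgSpace V) (hA : ∀ k, IsAlgSpace (A k))
    (hae : ∀ k, IsEtaleMor (a k))
    (hs : ∀ x : Points V, ∃ k, x ∈ Set.range (Points.map (a k))) : LocSurj A a := by
  refine locSurj_of_lifts.{u} A a fun T v => ?_
  have key : ∀ t : ↥T.left, ∃ (R : Over S) (ρ : R ⟶ T), Etale ρ.left ∧ t ∈ Set.range ρ.left ∧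
      ∃ (k : κ) (g : (yon S).obj R ⟶ A k), g ≫ a k = (yon S).map ρ ≫ v := by
    intro t
    obtain ⟨k, y, hy⟩ := hs (Points.ofPt v t)
    have sq := IsPullback.of_hasPullback v (a k)
    have hF : IsAlgSpace (pullback v (a k)) :=
      isAlgSpace_of_isPullback' hV (IsAlgSpace.yon_obj T) (hA k) sq
    have het : IsEtaleMor (pullback.fst v (a k)) :=
      Groth.Agent.S10209.result (X := ⟨A k, hA k⟩) (Y := ⟨V, hV⟩)
        (Z := ⟨(yon S).obj T, IsAlgSpace.yon_obj T⟩) (P := ⟨pullback v (a k), hF⟩)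
        (ObjectProperty.homMk (a k)) (ObjectProperty.homMk v)
        (ObjectProperty.homMk (pullback.fst v (a k))) (ObjectProperty.homMk (pullback.snd v (a k)))
        sq (hae k)
    obtain ⟨w, hw1, -⟩ := Points.exists_of_isPullback sq (Points.ofScheme T t) y (by
      rw [hy, Points.ofPt_eq_map_ofScheme])
    obtain ⟨R, q, hqe, hqs⟩ := hF.atlas
    obtain ⟨r, hr⟩ := exists_ofPt_eq q hqs w
    have hrep := het q hqe
    obtain ⟨ρ, hρ⟩ := (yon S).map_surjective (q ≫ pullback.fst v (a k))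
    rw [← hρ, repWith_yon_map_iff] at hrep
    refine ⟨R, ρ, hrep, ⟨r, ?_⟩, k, q ≫ pullback.snd v (a k), ?_⟩
    · apply (Points.schemeHomeo T).injective
      rw [← SpUC.ofPt_yon_map, hρ, ← Points.map_ofPt, hr, hw1]
      rfl
    · rw [Category.assoc, ← pullback.condition, ← Category.assoc, ← hρ]
  choose R ρ het hmem hl using key
  exact ⟨↥T.left, R, ρ, fun t => by haveI := het t; infer_instance,
    fun t => by haveI := het t; infer_instance, fun t => ⟨t, hmem t⟩, hl⟩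

end Groth.Agent.Lib.Helper15.Colim5
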