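import Groth.Prelude.Def_AlgSpInf
import Groth.Agent.Lib.Helper3.AlgSpEtMono
import Groth.Agent.Lib.Helper3.AlgSpFpqcLocal
import Groth.Agent.S10262
import Groth.Agent.S10322
import Groth.Agent.S10621
import Groth.Agent.S10259

set_option autoImplicit false

universe u
open CategoryTheory CategoryTheory.Limits AlgebraicGeometry Opposite

namespace Groth.Agent.Lib.Helper15.MonoLft

open AlgSp Groth.Agent.Lib.Helper3

variable {S : Scheme.{u}}

section
variable {X Y : Sp S} (hX : IsAlgSpace X) (hY : IsAlgSpace Y) (f : X ⟶ Y)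

include hX hY

theorem unramified_of_mono_lft [Mono f] (hlft : LocP @LocallyOfFiniteType f) :
    LocP (@LocallyOfFiniteType ⊓ @FormallyUnramified) f := by
  let f' : (⟨X, hX⟩ : Space S) ⟶ ⟨Y, hY⟩ := ObjectProperty.homMk f
  have : IsIso (pullback.diagonal f) := (pullback.isIso_diagonal_iff f).2 inferInstance
  exact (Groth.Agent.S10262.result f').2 hlft
    (MorphismProperty.of_isIso (RepWith @IsOpenImmersion) (pullback.diagonal f))

omit hX hY in
set_option backward.isDefEq.respectTransparency.types false in
theorem isSeparatedMor_of_mono [Mono f] : IsSeparatedMor f := by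
  have : IsIso (pullback.diagonal f) := (pullback.isIso_diagonal_iff f).2 inferInstance
  exact MorphismProperty.of_isIso (RepWith @IsClosedImmersion) (pullback.diagonal f)

theorem lqf_of_unramified (h : LocP (@LocallyOfFiniteType ⊓ @FormallyUnramified) f) :
    LocP (@LocallyQuasiFinite ⊓ @LocallyOfFiniteType) f := by
  let f' : (⟨X, hX⟩ : Space S) ⟶ ⟨Y, hY⟩ := ObjectProperty.homMk f
  exact (Groth.Agent.S10322.result f').2 h

theorem mono_of_unramified_univInjective
    (h1 : LocP (@LocallyOfFiniteType ⊓ @FormallyUnramified) f) (hinj : IsUnivInjectiveMor f) :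
    Mono f := by
  have hΔ := repWith_isOpenImmersion_diagonal_of_locP_unramified hX hY f h1
  have hs := isSurjectiveMor_diagonal_of_isUnivInjectiveMor hinj
  have := isIso_of_repWith_isOpenImmersion_of_isSurjectiveMor _ hΔ hs
  exact (pullback.isIso_diagonal_iff f).1 this

theorem unramified_iff :
    LocP (@LocallyOfFiniteType ⊓ @FormallyUnramified) f ↔
      LocP @LocallyOfFiniteType f ∧ IsFormallyUnramifiedMor f := by
  let f' : (⟨X, hX⟩ : Space S) ⟶ ⟨Y, hY⟩ := ObjectProperty.homMk f
  have h := (Groth.Agent.S10621.result f').1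
  constructor
  · intro hu
    exact ⟨locP_mono inf_le_left hu, h.2 (locP_mono inf_le_right hu)⟩
  · rintro ⟨h1, h2⟩
    exact locP_inf h1 (h.1 h2)

/-- a monomorphism locally of finite type of algebraic spaces is representable. -/
theorem representable_of_mono_lft [Mono f] (hlft : LocP @LocallyOfFiniteType f) :
    Representable f := by
  intro T y
  have sq := IsPullback.of_hasPullback f y
  have hP₀ : IsAlgSpace (pullback f y) :=
    isAlgSpace_of_isPullback' hY hX (IsAlgSpace.yon_obj T) sq
  have hlft' : LocP @LocallyOfFiniteType (pullback.snd f y) :=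
    locP_of_isPullback isEtLocal_locallyOfFiniteType hX hY (IsAlgSpace.yon_obj T) hP₀ f y _ _ sq
      hlft
  have hu := unramified_of_mono_lft hP₀ (IsAlgSpace.yon_obj T) (pullback.snd f y) hlft'
  have hqf := lqf_of_unramified hP₀ (IsAlgSpace.yon_obj T) (pullback.snd f y) hu
  have hsep := isSeparatedMor_of_mono (pullback.snd f y)
  let X' : Space S := ⟨pullback f y, hP₀⟩
  let pr : X' ⟶ (ofScheme S).obj T := ObjectProperty.homMk (pullback.snd f y)
  have hrep : (pullback f y).obj.IsRepresentable := Groth.Agent.S10259.result T X' pr hqf hsep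
  obtain ⟨G, ⟨r⟩⟩ := hrep.has_representation
  let e : (yon S).obj G ≅ pullback f y := isoOfRepresentableBy r
  obtain ⟨snd, hsnd⟩ := (yon S).map_surjective (e.hom ≫ pullback.snd f y)
  refine ⟨G, snd, e.hom ≫ pullback.fst f y, ?_⟩
  rw [hsnd]
  exact IsPullback.of_iso sq e.symm (Iso.refl _) (Iso.refl _) (Iso.refl _) (by simp) (by simp)
    (by simp) (by simp)

end

end Groth.Agent.Lib.Helper15.MonoLft
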