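import Groth.Agent.Lib.Helper15.Colim3
import Groth.Agent.Lib.Helper15.Colim5
import Groth.Agent.Lib.Helper15.MonoLft
import Groth.Agent.Lib.Helper3.AlgSpProper
import Groth.Agent.Lib.Helper3.AlgSpSep
import Groth.Agent.Lib.Helper3.AlgSpOpenSubsp

set_option autoImplicit false
set_option backward.isDefEq.respectTransparency.types false
universe w v u
open CategoryTheory CategoryTheory.Limits AlgebraicGeometry Opposite
open AlgSp

namespace Groth.Agent.Lib.Helper15.Colim6

open Groth.Agent.Lib.Helper3 Groth.Agent.Lib.Helper15.Colim3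

variable {S : Scheme.{u}}

/-- A chart from an affine scheme to an algebraic space is separated. -/
theorem isSeparatedMor_yon_of_isAffine {X : Sp S} (hX : IsAlgSpace X) {W : Over S}
    [IsAffine W.left] (b : (yon S).obj W ⟶ X) : IsSeparatedMor b := by
  obtain ⟨P⟩ := nonempty_chartPB hX b b
  haveI hsep : IsSeparated P.pD.left := P.isSeparated_pD
  let δ : W ⟶ P.U := P.lift (𝟙 W) (𝟙 W) rfl
  have hδ1 : δ ≫ P.pD = 𝟙 W := P.lift_pD _ _ _
  have hδ2 : δ ≫ P.pW = 𝟙 W := P.lift_pW _ _ _
  have hδ1' : δ.left ≫ P.pD.left = 𝟙 W.left := by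
    rw [← Over.comp_left, hδ1]; rfl
  haveI : IsClosedImmersion (δ.left ≫ P.pD.left) := by
    rw [hδ1']; infer_instance
  have hci : IsClosedImmersion δ.left := IsClosedImmersion.of_comp δ.left P.pD.left
  have hrep : RepWith @IsClosedImmersion ((yon S).map δ) := (repWith_yon_map_iff _ _).2 hci
  have hdiag : pullback.diagonal b = (yon S).map δ ≫ P.sq.isoPullback.hom := by
    apply pullback.hom_ext
    · rw [pullback.diagonal_fst, Category.assoc, P.sq.isoPullback_hom_fst, ← Functor.map_comp,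
        hδ1, CategoryTheory.Functor.map_id]
    · rw [pullback.diagonal_snd, Category.assoc, P.sq.isoPullback_hom_snd, ← Functor.map_comp,
        hδ2, CategoryTheory.Functor.map_id]
  change RepWith @IsClosedImmersion (pullback.diagonal b)
  rw [hdiag]
  exact ((RepWith (S := S) @IsClosedImmersion).cancel_right_of_respectsIso _ _).2 hrep

theorem isSeparatedMor_of_isPullback {F G F' G' : Sp S} {f : F ⟶ G} {g' : G' ⟶ G}
    {fst : F' ⟶ F} {snd : F' ⟶ G'} (sq : IsPullback fst snd f g') (h : IsSeparatedMor f) :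
    IsSeparatedMor snd :=
  repWith_diagonal_of_isPullback _ sq h

section Pcat
variable {B : AlgSp.Space S} (P : ObjectProperty (Over B))

/-- underlying sheaf of an object -/
abbrev sp (Y : P.FullSubcategory) : Sp S := Y.obj.left.obj
/-- structure map -/
abbrev str (Y : P.FullSubcategory) : sp P Y ⟶ B.obj := Y.obj.hom.hom
/-- underlying map of sheaves -/
abbrev hm {Y Y' : P.FullSubcategory} (f : Y ⟶ Y') : sp P Y ⟶ sp P Y' := f.hom.left.hom

variable {P}

theorem hm_str {Y Y' : P.FullSubcategory} (f : Y ⟶ Y') : hm P f ≫ str P Y' = str P Y := by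
  have := Over.w f.hom
  exact congrArg (fun k => k.hom) this

theorem hm_comp {Y Y' Y'' : P.FullSubcategory} (f : Y ⟶ Y') (g : Y' ⟶ Y'') :
    hm P (f ≫ g) = hm P f ≫ hm P g := rfl

theorem hm_id (Y : P.FullSubcategory) : hm P (𝟙 Y) = 𝟙 _ := rfl

theorem hom_ext' {Y Y' : P.FullSubcategory} {f g : Y ⟶ Y'} (h : hm P f = hm P g) : f = g := by
  apply ObjectProperty.hom_ext
  apply Over.OverMorphism.ext
  apply ObjectProperty.hom_ext
  exact h

/-- morphisms from maps of sheaves over `B` -/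
def mkHom {Y Y' : P.FullSubcategory} (f : sp P Y ⟶ sp P Y') (w : f ≫ str P Y' = str P Y) :
    Y ⟶ Y' :=
  ObjectProperty.homMk (Over.homMk (ObjectProperty.homMk f) (by
    apply ObjectProperty.hom_ext
    exact w))

@[simp] theorem hm_mkHom {Y Y' : P.FullSubcategory} (f : sp P Y ⟶ sp P Y')
    (w : f ≫ str P Y' = str P Y) : hm P (mkHom f w) = f := rfl

variable (hP : ∀ T : Over B, P T ↔ AlgSp.IsSeparatedMor T.hom.hom)

/-- objects from algebraic spaces separated over `B` -/
def mkObj (E : Sp S) (hE : IsAlgSpace E) (e : E ⟶ B.obj) (he : IsSeparatedMor e) :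
    P.FullSubcategory :=
  ⟨Over.mk (ObjectProperty.homMk e : (⟨E, hE⟩ : Space S) ⟶ B), (hP _).2 he⟩

include hP in
theorem isSeparatedMor_str (Y : P.FullSubcategory) : IsSeparatedMor (str P Y) :=
  (hP _).1 Y.property

theorem isAlgSpace_sp (Y : P.FullSubcategory) : IsAlgSpace (sp P Y) := Y.obj.left.property

end Pcat

section PBF
variable {B : AlgSp.Space S} {P : ObjectProperty (Over B)}
  (hP : ∀ T : Over B, P T ↔ AlgSp.IsSeparatedMor T.hom.hom)
  {I : Type v} [Category.{w} I] (D : I ⥤ P.FullSubcategory)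
  {M : Sp S} (hM : IsAlgSpace M) (tM : M ⟶ B.obj)
  (f : ∀ i, sp P (D.obj i) ⟶ M) (hf : ∀ ⦃i j : I⦄ (φ : i ⟶ j), hm P (D.map φ) ≫ f j = f i)
  (hft : ∀ i, f i ≫ tM = str P (D.obj i))
  {N : Sp S} (hN : IsAlgSpace N) (m : N ⟶ M) (hms : IsSeparatedMor m)
  (hNs : IsSeparatedMor (m ≫ tM))

/-- transition maps of `i ↦ D_i ×_M N` -/
noncomputable def PBFmap ⦃i j : I⦄ (φ : i ⟶ j) : pullback (f i) m ⟶ pullback (f j) m :=
  pullback.lift (pullback.fst (f i) m ≫ hm P (D.map φ)) (pullback.snd (f i) m) (by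
    rw [Category.assoc, hf φ]; exact pullback.condition)

theorem PBFmap_fst ⦃i j : I⦄ (φ : i ⟶ j) :
    PBFmap D f hf m φ ≫ pullback.fst (f j) m = pullback.fst (f i) m ≫ hm P (D.map φ) :=
  pullback.lift_fst _ _ _

theorem PBFmap_snd ⦃i j : I⦄ (φ : i ⟶ j) :
    PBFmap D f hf m φ ≫ pullback.snd (f j) m = pullback.snd (f i) m :=
  pullback.lift_snd _ _ _

theorem PBFmap_id (i : I) : PBFmap D f hf m (𝟙 i) = 𝟙 _ := by
  apply pullback.hom_ext
  · rw [PBFmap_fst, D.map_id, hm_id, Category.comp_id, Category.id_comp]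
  · rw [PBFmap_snd, Category.id_comp]

theorem PBFmap_comp ⦃i j k : I⦄ (φ : i ⟶ j) (ψ : j ⟶ k) :
    PBFmap D f hf m (φ ≫ ψ) = PBFmap D f hf m φ ≫ PBFmap D f hf m ψ := by
  apply pullback.hom_ext
  · rw [PBFmap_fst, Category.assoc, PBFmap_fst, ← Category.assoc, PBFmap_fst, D.map_comp,
      hm_comp, Category.assoc]
  · rw [PBFmap_snd, Category.assoc, PBFmap_snd, PBFmap_snd]

theorem PBFmap_str ⦃i j : I⦄ (φ : i ⟶ j) :
    PBFmap D f hf m φ ≫ pullback.fst (f j) m ≫ str P (D.obj j) =
      pullback.fst (f i) m ≫ str P (D.obj i) := by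
  rw [← Category.assoc, PBFmap_fst, Category.assoc, hm_str]

/-- The functor `i ↦ D_i ×_M N`. -/
noncomputable def PBF : I ⥤ P.FullSubcategory where
  obj i := mkObj hP (pullback (f i) m)
    (isAlgSpace_of_isPullback' hM (isAlgSpace_sp (D.obj i)) hN (IsPullback.of_hasPullback _ _))
    (pullback.fst (f i) m ≫ str P (D.obj i))
    (isSeparatedMor_comp
      (isSeparatedMor_of_isPullback (IsPullback.of_hasPullback (f i) m).flip hms)
      (isSeparatedMor_str hP (D.obj i)))
  map {i j} φ := mkHom (PBFmap D f hf m φ) (PBFmap_str D f hf m φ)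
  map_id i := hom_ext' (PBFmap_id D f hf m i)
  map_comp {i j k} φ ψ := hom_ext' (PBFmap_comp D f hf m φ ψ)

/-- The projection to `D`. -/
noncomputable def PBFα : PBF hP D hM f hf hN m hms ⟶ D where
  app i := mkHom (pullback.fst (f i) m) rfl
  naturality i j φ := by
    apply hom_ext'
    exact PBFmap_fst D f hf m φ

theorem hm_PBFα_app (i : I) :
    hm P ((PBFα hP D hM f hf hN m hms).app i) = pullback.fst (f i) m := rfl

theorem hm_PBF_map ⦃i j : I⦄ (φ : i ⟶ j) :
    hm P ((PBF hP D hM f hf hN m hms).map φ) ≫ pullback.snd (f j) m = pullback.snd (f i) m :=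
  PBFmap_snd D f hf m φ

theorem PBF_equifibered ⦃i j : I⦄ (φ : i ⟶ j) :
    IsPullback (hm P ((PBF hP D hM f hf hN m hms).map φ))
      (hm P ((PBFα hP D hM f hf hN m hms).app i)) (hm P ((PBFα hP D hM f hf hN m hms).app j))
      (hm P (D.map φ)) := by
  have comm : hm P ((PBF hP D hM f hf hN m hms).map φ) ≫ pullback.fst (f j) m =
      pullback.fst (f i) m ≫ hm P (D.map φ) := PBFmap_fst D f hf m φ
  have hleft : IsPullback (hm P ((PBF hP D hM f hf hN m hms).map φ) ≫ pullback.snd (f j) m)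
      (pullback.fst (f i) m) m (hm P (D.map φ) ≫ f j) := by
    rw [hm_PBF_map, hf φ]
    exact (IsPullback.of_hasPullback (f i) m).flip
  exact IsPullback.of_right (h₁₂ := pullback.snd (f j) m) (v₁₃ := m) (h₂₂ := f j)
    hleft comm (IsPullback.of_hasPullback (f j) m).flip

include hft in
theorem PBF_snd_str (i : I) :
    pullback.snd (f i) m ≫ m ≫ tM = pullback.fst (f i) m ≫ str P (D.obj i) := by
  rw [← Category.assoc, ← pullback.condition, Category.assoc, hft]

/-- The cocone with point `N`. -/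
noncomputable def PBFcocone : Cocone (PBF hP D hM f hf hN m hms) where
  pt := mkObj hP N hN (m ≫ tM) hNs
  ι :=
    { app := fun i => mkHom (pullback.snd (f i) m) (PBF_snd_str D tM f hft m i)
      naturality := fun i j φ => by
        apply hom_ext'
        exact (PBFmap_snd D f hf m φ).trans (Category.comp_id _).symm }

theorem hm_PBFcocone_ι (i : I) :
    hm P ((PBFcocone hP D hM tM f hf hft hN m hms hNs).ι.app i) = pullback.snd (f i) m := rfl

end PBF

section uniq
variable {B : AlgSp.Space S} {P : ObjectProperty (Over B)}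
  (hP : ∀ T : Over B, P T ↔ AlgSp.IsSeparatedMor T.hom.hom)
  {I : Type v} [Category.{w} I]

include hP in
/-- Maps from a colimit of separated spaces to an algebraic space are determined on the
diagram. -/
theorem hom_ext_of_isColimit {D' : I ⥤ P.FullSubcategory} (c' : Cocone D') (hc' : IsColimit c')
    {X : Sp S} (hX : IsAlgSpace X) (g₁ g₂ : sp P c'.pt ⟶ X)
    (h : ∀ i, hm P (c'.ι.app i) ≫ g₁ = hm P (c'.ι.app i) ≫ g₂) : g₁ = g₂ := by
  have hrep : Representable (equalizer.ι g₁ g₂) :=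
    MorphismProperty.of_isPullback (isPullback_equalizer_prod g₁ g₂).flip hX.diag
  have hE : IsAlgSpace (equalizer g₁ g₂) :=
    isAlgSpace_of_mono_representable (isAlgSpace_sp c'.pt) (equalizer.ι g₁ g₂) hrep
  let EP : P.FullSubcategory := mkObj hP (equalizer g₁ g₂) hE (equalizer.ι g₁ g₂ ≫ str P c'.pt)
    (isSeparatedMor_comp (MonoLft.isSeparatedMor_of_mono (equalizer.ι g₁ g₂))
      (isSeparatedMor_str hP c'.pt))
  let ιP : EP ⟶ c'.pt := mkHom (equalizer.ι g₁ g₂) rfl
  let s : Cocone D' :=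
    { pt := EP
      ι :=
        { app := fun i => mkHom (equalizer.lift (hm P (c'.ι.app i)) (h i)) (by
            change equalizer.lift _ _ ≫ equalizer.ι g₁ g₂ ≫ str P c'.pt = _
            rw [equalizer.lift_ι_assoc, hm_str])
          naturality := fun i j φ => by
            apply hom_ext'
            apply equalizer.hom_ext
            change (hm P (D'.map φ) ≫ equalizer.lift _ _) ≫ equalizer.ι g₁ g₂ =
              (equalizer.lift _ _ ≫ 𝟙 _) ≫ equalizer.ι g₁ g₂
            rw [Category.assoc, equalizer.lift_ι, Category.comp_id, equalizer.lift_ι,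
              ← hm_comp, c'.w φ] } }
  have hd : hc'.desc s ≫ ιP = 𝟙 c'.pt := hc'.hom_ext (fun i => by
    rw [← Category.assoc, hc'.fac, Category.comp_id]
    apply hom_ext'
    change equalizer.lift _ _ ≫ equalizer.ι g₁ g₂ = _
    rw [equalizer.lift_ι])
  let r : sp P c'.pt ⟶ equalizer g₁ g₂ := hm P (hc'.desc s)
  have hd' : r ≫ equalizer.ι g₁ g₂ = 𝟙 _ := congrArg (hm P) hd
  calc g₁ = (r ≫ equalizer.ι g₁ g₂) ≫ g₁ := by rw [hd', Category.id_comp]
    _ = (r ≫ equalizer.ι g₁ g₂) ≫ g₂ := by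
        rw [Category.assoc, equalizer.condition, ← Category.assoc]
    _ = g₂ := by rw [hd', Category.id_comp]

end uniq

end Groth.Agent.Lib.Helper15.Colim6
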