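import Groth.Agent.Lib.Helper3.AffDescProps
import Groth.Agent.Lib.Helper3.AffDescCover
import Groth.Agent.Lib.Helper3.AlgSpRepLocal
import Groth.Agent.Lib.Helper3.AlgSpRepLocal2
import Groth.Agent.S9937
import Groth.Agent.Lib.Helper3.AlgSpLocP3
import Groth.Agent.Lib.Helper3.AlgSpOpenSub
import Groth.Agent.Lib.Helper9.LfpLift

set_option autoImplicit false
set_option backward.isDefEq.respectTransparency.types false
universe u
open CategoryTheory CategoryTheory.Limits AlgebraicGeometry
open AlgSp

/-! Descent of affine-type properties of morphisms of sheaves along an etale chart of the target,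
and cancellation lemmas for `LocP`. -/

namespace Groth.Agent.Lib.Helper15.EtCoverDesc

open Groth.Agent.Lib.Helper3 Groth.Agent.Lib.Helper3.AffDesc

variable {S : Scheme.{u}}

/-- A property of scheme morphisms that implies affine, is Zariski local on the target and
descends along fpqc covers, descends along an etale chart of the target of a morphism of
sheaves. -/
theorem repWith_of_etale_cover (Q : MorphismProperty Scheme.{u}) [IsZariskiLocalAtTarget Q]
    [Q.DescendsAlong (@Surjective ⊓ @Flat ⊓ @QuasiCompact)] (hQ : Q ≤ @IsAffineHom)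
    {X Y : Sp S} (f : X ⟶ Y) (V : Over S)
    (p : (yon S).obj V ⟶ Y) (hp : RepWith @Etale p) (hps : RepWith @Surjective p)
    {P : Sp S} (fst : P ⟶ X) (snd : P ⟶ (yon S).obj V) (sq : IsPullback fst snd f p)
    (h : RepWith Q snd) : RepWith Q f := by
  have hA : IsAffineMor snd := (isAffineMor_iff_repWith snd).2 (repWith_mono hQ h)
  have key : ∀ ⦃Z : Over S⦄, IsAffine Z.left → ∀ (z : (yon S).obj Z ⟶ Y),
      ∃ (W : Over S) (i : W ⟶ Z) (fst₀ : (yon S).obj W ⟶ X),
        IsPullback fst₀ ((yon S).map i) f z ∧ Q i.left := by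
    intro Z hZ z
    obtain ⟨W₀, V', W, i, fst₀, q, w, c, g, fstW, sq₀, hW₀, hV', hW, hqe, hqs, sqS, sqW⟩ :=
      exists_descent_square f V p hp hps fst snd sq hA hZ z
    have hw : Q w.left := h.property ((yon S).map g) fstW w sqW
    have hqf : Flat q.left := inferInstance
    have sqS' := sqS.map (Over.forget S)
    exact ⟨W₀, i, fst₀, sq₀,
      @descends_of_isPullback Q _ _ _ _ _ hV' hZ _ _ _ _ sqS' hqf hqs hw⟩
  have hrep : Representable f := representable_of_affine f (fun Z hZ z => by
    obtain ⟨W, i, fst₀, sq₀, -⟩ := key hZ z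
    exact ⟨W, i, fst₀, sq₀⟩)
  exact repWith_of_affine Q f hrep key

/-- isomorphisms descend along an etale chart of the target -/
theorem isIso_of_etale_cover {X Y : Sp S} (f : X ⟶ Y) (V : Over S)
    (p : (yon S).obj V ⟶ Y) (hp : RepWith @Etale p) (hps : RepWith @Surjective p)
    {P : Sp S} (fst : P ⟶ X) (snd : P ⟶ (yon S).obj V) (sq : IsPullback fst snd f p)
    [IsIso snd] : IsIso f := by
  apply isIso_of_repWith_isomorphisms
  refine repWith_of_etale_cover (MorphismProperty.isomorphisms Scheme.{u})
    (fun A B g hg => by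
      have : IsIso g := hg
      exact (inferInstance : IsAffineHom g)) f V p hp hps fst snd sq ?_
  exact Groth.Agent.S9937.repWith_of_isIso _ (fun g hg => hg) snd

/-- cancellation for locally of finite type on chart diagrams -/
theorem locP_lft_of_comp {X Y Z : Sp S} (hX : IsAlgSpace X) (hY : IsAlgSpace Y) (hZ : IsAlgSpace Z)
    (f : X ⟶ Y) (g : Y ⟶ Z) (hfg : LocP @LocallyOfFiniteType (f ≫ g)) :
    LocP @LocallyOfFiniteType f := by
  obtain ⟨W, c, hce, hcs⟩ := hZ.atlas
  obtain ⟨V, v, l, -, -, hbe, hbs, -, hl⟩ := exists_chart_over hY hZ g c hce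
  obtain ⟨U, u, h, -, -, hae, has, -, hh⟩ := exists_chart_over hX hY f _ hbe
  have h1 : LocallyOfFiniteType (h ≫ l).left := hfg _ c (h ≫ l) hae hce (by
    rw [← Category.assoc, hh, Category.assoc, hl, Functor.map_comp, Category.assoc])
  rw [Over.comp_left] at h1
  have h2 : LocallyOfFiniteType h.left := locallyOfFiniteType_of_comp h.left l.left
  exact locP_of_chart isEtLocal_locallyOfFiniteType f _ hae (has (hbs hcs)) _ hbe h hh h2

/-- cancellation for locally of finite presentation on chart diagrams -/
theorem locP_lfp_of_comp {X Y Z : Sp S} (hX : IsAlgSpace X) (hY : IsAlgSpace Y) (hZ : IsAlgSpace Z)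
    (f : X ⟶ Y) (g : Y ⟶ Z) (hfg : LocP @LocallyOfFinitePresentation (f ≫ g))
    (hg : LocP @LocallyOfFiniteType g) : LocP @LocallyOfFinitePresentation f := by
  obtain ⟨W, c, hce, hcs⟩ := hZ.atlas
  obtain ⟨V, v, l, -, -, hbe, hbs, -, hl⟩ := exists_chart_over hY hZ g c hce
  obtain ⟨U, u, h, -, -, hae, has, -, hh⟩ := exists_chart_over hX hY f _ hbe
  have h1 : LocallyOfFinitePresentation (h ≫ l).left := hfg _ c (h ≫ l) hae hce (by
    rw [← Category.assoc, hh, Category.assoc, hl, Functor.map_comp, Category.assoc])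
  rw [Over.comp_left] at h1
  have hl' : LocallyOfFiniteType l.left := hg _ _ l hbe hce hl
  have h2 : LocallyOfFinitePresentation h.left :=
    Groth.Agent.Lib.Helper9.LfpLift.locallyOfFinitePresentation_of_comp h.left l.left
  exact locP_of_chart isEtLocal_locallyOfFinitePresentation f _ hae (has (hbs hcs)) _ hbe h hh h2

end Groth.Agent.Lib.Helper15.EtCoverDesc
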