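import Groth.Prelude.Def_AlgSpGpd
import Groth.Prelude.Def_AlgSp4
import Groth.Agent.Lib.Helper3.AlgSpLocP4
import Groth.Agent.Lib.Helper3.AlgSpEtMono
import Groth.Agent.Lib.Helper3.AlgSpLargestOpen
import Groth.Agent.S9911

set_option autoImplicit false
set_option backward.isDefEq.respectTransparency.types false
universe u
open CategoryTheory CategoryTheory.Limits AlgebraicGeometry Opposite
open AlgSp

namespace Groth.Agent.Lib.Helper15.FieldBase

open Groth.Agent.Lib.Helper3

variable {S : Scheme.{u}}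

theorem isUnivOpenMor_of_isPullback {X Y Y' X' : Sp S} {f : X ⟶ Y} {g : Y' ⟶ Y} {fst : X' ⟶ X}
    {f' : X' ⟶ Y'} (sq : IsPullback fst f' f g) (hf : IsUnivOpenMor f) : IsUnivOpenMor f' := by
  intro Z Z' hZ k a b sq'
  exact hf hZ (k ≫ g) (a ≫ fst) b (sq'.paste_horiz sq)

theorem isUnivOpenMor_iso_comp {X' X Y : Sp S} (i : X' ⟶ X) [IsIso i] {f : X ⟶ Y}
    (hf : IsUnivOpenMor f) : IsUnivOpenMor (i ≫ f) := by
  intro Z Z' hZ k a b sq'
  refine hf hZ k (a ≫ i) b ?_
  exact IsPullback.of_iso sq' (Iso.refl _) (asIso i) (Iso.refl _) (Iso.refl _)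
    (by simp) (by simp) (by simp) (by simp)

theorem isUnivOpenMor_comp_iso {X Y Y' : Sp S} {f : X ⟶ Y} (i : Y ⟶ Y') [IsIso i]
    (hf : IsUnivOpenMor f) : IsUnivOpenMor (f ≫ i) := by
  intro Z Z' hZ k a b sq'
  refine hf hZ (k ≫ inv i) a b ?_
  exact IsPullback.of_iso sq' (Iso.refl _) (Iso.refl _) (Iso.refl _) (asIso i).symm
    (by simp) (by simp) (by simp) (by simp)

theorem repWith_etale_of_isIso {X Y : Sp S} (i : X ⟶ Y) [IsIso i] : RepWith @Etale i :=
  repWith_mono isOpenImmersion_le_etale (MorphismProperty.of_isIso (RepWith @IsOpenImmersion) _)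

theorem locP_of_iso_comp {P : MorphismProperty Scheme.{u}} {X' X Y : Sp S} (i : X' ⟶ X) [IsIso i]
    {f : X ⟶ Y} (hf : LocP P (i ≫ f)) : LocP P f := by
  intro U V a b h ha hb w
  refine hf (a ≫ inv i) b h (MorphismProperty.comp_mem _ _ _ ha (repWith_etale_of_isIso _)) hb ?_
  rw [Category.assoc, IsIso.inv_hom_id_assoc, w]

theorem locP_iso_comp {P : MorphismProperty Scheme.{u}} {X' X Y : Sp S} (i : X' ⟶ X) [IsIso i]
    {f : X ⟶ Y} (hf : LocP P f) : LocP P (i ≫ f) := by
  intro U V a b h ha hb w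
  refine hf (a ≫ i) b h (MorphismProperty.comp_mem _ _ _ ha (repWith_etale_of_isIso _)) hb ?_
  rw [Category.assoc, w]

theorem locP_of_comp_iso {P : MorphismProperty Scheme.{u}} {X Y Y' : Sp S} {f : X ⟶ Y}
    (i : Y ⟶ Y') [IsIso i] (hf : LocP P (f ≫ i)) : LocP P f := by
  intro U V a b h ha hb w
  refine hf a (b ≫ i) h ha (MorphismProperty.comp_mem _ _ _ hb (repWith_etale_of_isIso _)) ?_
  rw [← Category.assoc, w, Category.assoc]

theorem locP_comp_iso {P : MorphismProperty Scheme.{u}} {X Y Y' : Sp S} {f : X ⟶ Y}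
    (i : Y ⟶ Y') [IsIso i] (hf : LocP P f) : LocP P (f ≫ i) := by
  intro U V a b h ha hb w
  refine hf a (b ≫ inv i) h ha (MorphismProperty.comp_mem _ _ _ hb (repWith_etale_of_isIso _)) ?_
  rw [← Category.assoc, ← w, Category.assoc, Category.assoc, IsIso.hom_inv_id, Category.comp_id]

/-- Every morphism from an algebraic space to the spectrum of a field is flat. -/
theorem locP_flat_to_field {X : Sp S} (hX : IsAlgSpace X) {k : Type u} [Field k]
    (σ : Spec (CommRingCat.of k) ⟶ S) (f : X ⟶ (yon S).obj (Over.mk σ)) : LocP @Flat f := by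
  obtain ⟨U, a, hae, has⟩ := hX.atlas
  obtain ⟨h, hh⟩ := (yon S).map_surjective (a ≫ f)
  refine locP_of_chart isEtLocal_flat f a hae has (𝟙 _) (repWith_id _ _) h ?_ ?_
  · rw [hh, Category.comp_id]
  · haveI : Subsingleton ↥(Spec (CommRingCat.of k)) :=
      inferInstanceAs (Subsingleton (PrimeSpectrum k))
    haveI : IsIntegral (Spec (CommRingCat.of k)) := inferInstance
    have key : ∀ {Z : Scheme.{u}} (g : Z ⟶ Spec (CommRingCat.of k)), Flat g :=
      fun g => inferInstance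
    exact key _

theorem isUnivOpenMor_to_field {X : Sp S} (hX : IsAlgSpace X) {k : Type u} [Field k]
    (σ : Spec (CommRingCat.of k) ⟶ S) (f : X ⟶ (yon S).obj (Over.mk σ)) : IsUnivOpenMor f :=
  Groth.Agent.S9911.result (S := S) ⟨X, hX⟩ σ (ObjectProperty.homMk f)

/-- Variant with the target only isomorphic to the spectrum of a field. -/
theorem locP_flat_to_field' {X U : Sp S} (hX : IsAlgSpace X) {k : Type u} [Field k]
    (σ : Spec (CommRingCat.of k) ⟶ S) (eU : U ≅ (yon S).obj (Over.mk σ)) (f : X ⟶ U) :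
    LocP @Flat f :=
  locP_of_comp_iso eU.hom (locP_flat_to_field hX σ (f ≫ eU.hom))

theorem isUnivOpenMor_to_field' {X U : Sp S} (hX : IsAlgSpace X) {k : Type u} [Field k]
    (σ : Spec (CommRingCat.of k) ⟶ S) (eU : U ≅ (yon S).obj (Over.mk σ)) (f : X ⟶ U) :
    IsUnivOpenMor f := by
  have h := isUnivOpenMor_comp_iso eU.inv (isUnivOpenMor_to_field hX σ (f ≫ eU.hom))
  rwa [Category.assoc, eU.hom_inv_id, Category.comp_id] at h

end Groth.Agent.Lib.Helper15.FieldBase
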