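import Groth.Agent.Lib.Helper15.Boot1
import Groth.Agent.Lib.Helper15.EtCoverDesc
import Groth.Agent.Lib.Helper15.FieldBase
import Groth.Agent.Lib.Helper15.Colim6
import Groth.Agent.Lib.Helper3.AlgSpQC7
import Groth.Agent.S10092

set_option autoImplicit false
universe u
open CategoryTheory CategoryTheory.Limits AlgebraicGeometry Opposite
open AlgSp

namespace Groth.Agent.Lib.Helper15.Boot2

section Cat
universe v₁ u₁
variable {C : Type u₁} [Category.{v₁} C] [HasPullbacks C] [HasBinaryProducts C]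

/-- `X ×_F X` is the pullback of the diagonal of `F` along `p × p` -/
theorem isPullback_diag {X F : C} (p : X ⟶ F) :
    IsPullback (prod.lift (pullback.fst p p) (pullback.snd p p)) (pullback.fst p p ≫ p)
      (prod.map p p) (diag F) := by
  have w : prod.lift (pullback.fst p p) (pullback.snd p p) ≫ prod.map p p =
      (pullback.fst p p ≫ p) ≫ diag F := by
    apply prod.hom_ext
    · simp only [Category.assoc, prod.map_fst, prod.lift_fst_assoc, diag, prod.lift_fst, Category.comp_id]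
    · simp only [Category.assoc, prod.map_snd, prod.lift_snd_assoc, diag, prod.lift_snd, Category.comp_id]
      exact pullback.condition.symm
  refine ⟨⟨w⟩, ⟨PullbackCone.IsLimit.mk _
    (fun s => pullback.lift (s.fst ≫ prod.fst) (s.fst ≫ prod.snd) ?_) ?_ ?_ ?_⟩⟩
  · have h1 := congrArg (fun m => m ≫ (prod.fst : F ⨯ F ⟶ F)) s.condition
    have h2 := congrArg (fun m => m ≫ (prod.snd : F ⨯ F ⟶ F)) s.condition
    simp only [Category.assoc, prod.map_fst, prod.map_snd, diag, prod.lift_fst, prod.lift_snd,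
      Category.comp_id] at h1 h2
    rw [Category.assoc, Category.assoc, h1, h2]
  · intro s
    apply prod.hom_ext
    · simp only [Category.assoc, prod.lift_fst, pullback.lift_fst]
    · simp only [Category.assoc, prod.lift_snd, pullback.lift_snd]
  · intro s
    have h1 := congrArg (fun m => m ≫ (prod.fst : F ⨯ F ⟶ F)) s.condition
    simp only [Category.assoc, prod.map_fst, diag, prod.lift_fst, Category.comp_id] at h1
    rw [← Category.assoc, pullback.lift_fst, Category.assoc]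
    exact h1
  · intro s m h₁ h₂
    apply pullback.hom_ext
    · rw [pullback.lift_fst, ← h₁, Category.assoc, prod.lift_fst]
    · rw [pullback.lift_snd, ← h₁, Category.assoc, prod.lift_snd]

omit [HasPullbacks C] in
/-- the pullback of a product map along a pair -/
theorem isPullback_prodMap {X₁ X₂ F₁ F₂ T P₁ P₂ P : C} {p₁ : X₁ ⟶ F₁} {p₂ : X₂ ⟶ F₂}
    {ξ₁ : T ⟶ F₁} {ξ₂ : T ⟶ F₂} {u₁ : P₁ ⟶ X₁} {v₁ : P₁ ⟶ T} (sq₁ : IsPullback u₁ v₁ p₁ ξ₁)
    {u₂ : P₂ ⟶ X₂} {v₂ : P₂ ⟶ T} (sq₂ : IsPullback u₂ v₂ p₂ ξ₂)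
    {α₁ : P ⟶ P₁} {α₂ : P ⟶ P₂} (sq : IsPullback α₁ α₂ v₁ v₂) :
    IsPullback (prod.lift (α₁ ≫ u₁) (α₂ ≫ u₂)) (α₁ ≫ v₁) (prod.map p₁ p₂) (prod.lift ξ₁ ξ₂) := by
  have w : prod.lift (α₁ ≫ u₁) (α₂ ≫ u₂) ≫ prod.map p₁ p₂ = (α₁ ≫ v₁) ≫ prod.lift ξ₁ ξ₂ := by
    apply prod.hom_ext
    · simp only [Category.assoc, prod.map_fst, prod.lift_fst_assoc, prod.lift_fst]
      rw [sq₁.w]
    · simp only [Category.assoc, prod.map_snd, prod.lift_snd_assoc, prod.lift_snd]
      rw [sq₂.w, ← Category.assoc, ← sq.w, Category.assoc]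
  have key : ∀ s : PullbackCone (prod.map p₁ p₂) (prod.lift ξ₁ ξ₂),
      (s.fst ≫ prod.fst) ≫ p₁ = s.snd ≫ ξ₁ ∧ (s.fst ≫ prod.snd) ≫ p₂ = s.snd ≫ ξ₂ := by
    intro s
    have h1 := congrArg (fun m => m ≫ (prod.fst : F₁ ⨯ F₂ ⟶ F₁)) s.condition
    have h2 := congrArg (fun m => m ≫ (prod.snd : F₁ ⨯ F₂ ⟶ F₂)) s.condition
    simp only [Category.assoc, prod.map_fst, prod.map_snd, prod.lift_fst, prod.lift_snd] at h1 h2
    exact ⟨by rw [Category.assoc]; exact h1, by rw [Category.assoc]; exact h2⟩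
  refine ⟨⟨w⟩, ⟨PullbackCone.IsLimit.mk _
    (fun s => sq.lift (sq₁.lift (s.fst ≫ prod.fst) s.snd (key s).1)
      (sq₂.lift (s.fst ≫ prod.snd) s.snd (key s).2) (by rw [sq₁.lift_snd, sq₂.lift_snd])) ?_ ?_ ?_⟩⟩
  · intro s
    apply prod.hom_ext
    · simp only [Category.assoc, prod.lift_fst]
      rw [← Category.assoc, sq.lift_fst, sq₁.lift_fst]
    · simp only [Category.assoc, prod.lift_snd]
      rw [← Category.assoc, sq.lift_snd, sq₂.lift_fst]
  · intro s
    rw [← Category.assoc, sq.lift_fst, sq₁.lift_snd]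
  · intro s m h₁ h₂
    apply sq.hom_ext
    · rw [sq.lift_fst]
      apply sq₁.hom_ext
      · rw [sq₁.lift_fst, ← h₁, Category.assoc, Category.assoc, prod.lift_fst]
      · rw [sq₁.lift_snd, ← h₂, Category.assoc]
    · rw [sq.lift_snd]
      apply sq₂.hom_ext
      · rw [sq₂.lift_fst, ← h₁, Category.assoc, Category.assoc, prod.lift_snd]
      · rw [sq₂.lift_snd, ← h₂, Category.assoc, sq.w]

end Cat

section AlgSpSec
open Groth.Agent.Lib.Helper3
variable {S : Scheme.{u}}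

/-- surjective, flat, locally of finite presentation -/
abbrev Qfppf : MorphismProperty (Sp S) :=
  IsSurjectiveMor ⊓ LocP @Flat ⊓ LocP @LocallyOfFinitePresentation

theorem qfppf_of_isPullback {X Y Y' X' : Sp S} (hX : IsAlgSpace X) (hY : IsAlgSpace Y)
    (hY' : IsAlgSpace Y') (hX' : IsAlgSpace X') {f : X ⟶ Y} {g : Y' ⟶ Y} {fst : X' ⟶ X}
    {f' : X' ⟶ Y'} (sq : IsPullback fst f' f g) (hf : Qfppf f) : Qfppf f' :=
  ⟨⟨isSurjectiveMor_snd_of_isPullback sq hf.1.1,
    locP_of_isPullback isEtLocal_flat hX hY hY' hX' f g fst f' sq hf.1.2⟩,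
    locP_of_isPullback isEtLocal_locallyOfFinitePresentation hX hY hY' hX' f g fst f' sq hf.2⟩

theorem qfppf_comp {X Y Z : Sp S} (hX : IsAlgSpace X) (hY : IsAlgSpace Y) (hZ : IsAlgSpace Z)
    {f : X ⟶ Y} {g : Y ⟶ Z} (hf : Qfppf f) (hg : Qfppf g) : Qfppf (f ≫ g) :=
  ⟨⟨isSurjectiveMor_comp hf.1.1 hg.1.1, locP_comp isEtLocal_flat hX hY hZ f g hf.1.2 hg.1.2⟩,
    locP_comp isEtLocal_locallyOfFinitePresentation hX hY hZ f g hf.2 hg.2⟩

theorem isSurjectiveMor_of_isIso {X Y : Sp S} (i : X ⟶ Y) [IsIso i] : IsSurjectiveMor i := by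
  intro y
  refine ⟨Points.map (inv i) y, ?_⟩
  rw [← Points.map_comp, IsIso.inv_hom_id, Points.map_id]

theorem qfppf_iso_comp {X' X Y : Sp S} (i : X' ⟶ X) [IsIso i] {f : X ⟶ Y} (hf : Qfppf f) :
    Qfppf (i ≫ f) :=
  ⟨⟨isSurjectiveMor_comp (isSurjectiveMor_of_isIso i) hf.1.1,
    FieldBase.locP_iso_comp i hf.1.2⟩, FieldBase.locP_iso_comp i hf.2⟩

theorem repBySpWith_prodMap {F X : Sp S} (p : X ⟶ F)
    (hp : RepBySpWith Qfppf p.hom) : RepBySpWith Qfppf (prod.map p p).hom := by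
  have hp' := (repBySpWith_hom_iff _ p).mp hp
  rw [repBySpWith_hom_iff]
  intro T ξ F' fst snd sqF
  obtain ⟨hP₁, hQ₁⟩ := hp' (ξ ≫ prod.fst) _ _ (IsPullback.of_hasPullback p (ξ ≫ prod.fst))
  obtain ⟨hP₂, hQ₂⟩ := hp' (ξ ≫ prod.snd) _ _ (IsPullback.of_hasPullback p (ξ ≫ prod.snd))
  have sq₁₂ := IsPullback.of_hasPullback (pullback.snd p (ξ ≫ prod.fst))
    (pullback.snd p (ξ ≫ prod.snd))
  have hP : IsAlgSpace (pullback (pullback.snd p (ξ ≫ prod.fst))
      (pullback.snd p (ξ ≫ prod.snd))) :=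
    isAlgSpace_of_isPullback' (IsAlgSpace.yon_obj T) hP₁ hP₂ sq₁₂
  have big := isPullback_prodMap (IsPullback.of_hasPullback p (ξ ≫ prod.fst))
    (IsPullback.of_hasPullback p (ξ ≫ prod.snd)) sq₁₂
  have hξ : prod.lift (ξ ≫ prod.fst) (ξ ≫ prod.snd) = ξ := by
    apply prod.hom_ext
    · rw [prod.lift_fst]
    · rw [prod.lift_snd]
  rw [hξ] at big
  have he := sqF.isoIsPullback_hom_snd _ _ big
  refine ⟨hP.of_iso (sqF.isoIsPullback _ _ big).symm, ?_⟩
  rw [← he]
  apply qfppf_iso_comp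
  refine qfppf_comp hP hP₁ (IsAlgSpace.yon_obj T) ?_ hQ₁
  exact qfppf_of_isPullback hP₂ (IsAlgSpace.yon_obj T) hP₁ hP sq₁₂.flip hQ₂

theorem repBySpWith_lift {F X : Sp S} (hX : IsAlgSpace X) (p : X ⟶ F)
    (hp : RepBySpWith Qfppf p.hom) :
    RepBySpWith (IsSeparatedMor ⊓ LocP (@LocallyQuasiFinite ⊓ @LocallyOfFiniteType))
      (prod.lift (pullback.fst p p) (pullback.snd p p)).hom := by
  have hp' := (repBySpWith_hom_iff _ p).mp hp
  have hE : IsAlgSpace (pullback p p) := by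
    rw [← isAlgSpaceP_obj_iff]
    exact Groth.Agent.S10092.result S _ _ p.hom hp.repBySp ⟨X, hX⟩ p.hom _ _ _
      ((IsPullback.of_hasPullback p p).map (sheafToPresheaf _ _))
  have hXX : IsAlgSpace (X ⨯ X) := isAlgSpace_prod hX hX
  haveI : Mono (prod.lift (pullback.fst p p) (pullback.snd p p)) := by
    haveI : Mono (diag F) := by
      have h : diag F ≫ prod.fst = 𝟙 F := by simp only [diag, prod.lift_fst]
      exact mono_of_mono_fac h
    exact (isPullback_diag p).mono_fst_of_mono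
  have hfst_lfp : LocP @LocallyOfFinitePresentation (pullback.fst p p) := by
    obtain ⟨U, u, hue, hus⟩ := hX.atlas
    have sqU := IsPullback.of_hasPullback (pullback.fst p p) u
    have sqbig := sqU.paste_horiz (IsPullback.of_hasPullback p p).flip
    obtain ⟨-, hQ⟩ := hp' (u ≫ p) _ _ sqbig
    exact locP_of_target_cover isEtLocal_locallyOfFinitePresentation hE hX _ u hue hus _ _ sqU hQ.2
  have hfst_lft : LocP @LocallyOfFiniteType (pullback.fst p p) :=
    locP_mono (fun _ _ f hf => by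
      have : LocallyOfFinitePresentation f := hf
      exact (inferInstance : LocallyOfFiniteType f)) hfst_lfp
  have ha_lft : LocP @LocallyOfFiniteType (prod.lift (pullback.fst p p) (pullback.snd p p)) := by
    apply EtCoverDesc.locP_lft_of_comp hE hXX hX _ prod.fst
    rw [prod.lift_fst]; exact hfst_lft
  have ha_unr := MonoLft.unramified_of_mono_lft hE hXX _ ha_lft
  have ha_lqf := MonoLft.lqf_of_unramified hE hXX _ ha_unr
  have ha_sep : IsSeparatedMor (prod.lift (pullback.fst p p) (pullback.snd p p)) :=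
    MonoLft.isSeparatedMor_of_mono _
  rw [repBySpWith_hom_iff]
  intro T ξ F' fst snd sq
  have hF' : IsAlgSpace F' := isAlgSpace_of_isPullback' hXX hE (IsAlgSpace.yon_obj T) sq
  exact ⟨hF', Colim6.isSeparatedMor_of_isPullback sq ha_sep,
    locP_of_isPullback isEtLocal_locallyQuasiFinite hE hXX (IsAlgSpace.yon_obj T) hF' _ ξ fst snd
      sq ha_lqf⟩

theorem main (F : Sp S) (X : Space S) (p : X.obj ⟶ F) (hp : RepBySpWith Qfppf p.hom) :
    Representable (Limits.diag F) :=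
  (Boot1.main (isPullback_diag p) (repBySpWith_prodMap p hp)
    (repBySpWith_lift X.property p hp)).1.rep

end AlgSpSec

end Groth.Agent.Lib.Helper15.Boot2
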