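import Mathlib
set_option autoImplicit false
universe u
open CategoryTheory CategoryTheory.Limits AlgebraicGeometry

namespace Groth.Agent.Lib.Helper15.ClosureProd
set_option backward.isDefEq.respectTransparency.types false

theorem isOpenMap_fiber {X Y S Z : Scheme.{u}} [IsIntegral S] [Subsingleton S]
    {p : Z ⟶ X} {q : Z ⟶ Y} {f : X ⟶ S} {g : Y ⟶ S} (hsq : IsPullback p q f g) (b : Y) :
    IsOpenMap (q.fiberι b ≫ p) := by
  have hfib : IsPullback (q.fiberι b) (q.fiberToSpecResidueField b) q (Y.fromSpecResidueField b) :=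
    IsPullback.of_hasPullback _ _
  have hbig := hfib.paste_horiz hsq
  have hu : UniversallyOpen (Y.fromSpecResidueField b ≫ g) := inferInstance
  have : UniversallyOpen (q.fiberι b ≫ p) :=
    MorphismProperty.of_isPullback (P := @UniversallyOpen) hbig.flip hu
  exact (q.fiberι b ≫ p).isOpenMap

theorem step {X Y S Z : Scheme.{u}} [IsIntegral S] [Subsingleton S]
    {p : Z ⟶ X} {q : Z ⟶ Y} {f : X ⟶ S} {g : Y ⟶ S} (hsq : IsPullback p q f g)
    (A : Set X) (B : Set Y) :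
    p ⁻¹' closure A ∩ q ⁻¹' B ⊆ closure (p ⁻¹' A ∩ q ⁻¹' B) := by
  rintro w ⟨hwA, hwB⟩
  rw [mem_closure_iff]
  intro o ho hwo
  have hw : w ∈ Set.range (q.fiberι (q w)) := by
    rw [Scheme.Hom.range_fiberι]; rfl
  obtain ⟨v, hv⟩ := hw
  let O' : Set (q.fiber (q w)) := (q.fiberι (q w)) ⁻¹' o
  have hO' : IsOpen O' := ho.preimage (q.fiberι (q w)).continuous
  have hN : IsOpen ((q.fiberι (q w) ≫ p) '' O') := isOpenMap_fiber hsq (q w) _ hO'
  have hpw : p w ∈ (q.fiberι (q w) ≫ p) '' O' := by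
    refine ⟨v, ?_, ?_⟩
    · show q.fiberι (q w) v ∈ o
      rw [hv]; exact hwo
    · rw [Scheme.Hom.comp_apply, hv]
  obtain ⟨a, ⟨v', hv'O, hv'a⟩, haA⟩ := mem_closure_iff.mp hwA _ hN hpw
  refine ⟨q.fiberι (q w) v', hv'O, ?_, ?_⟩
  · show p (q.fiberι (q w) v') ∈ A
    rw [Scheme.Hom.comp_apply] at hv'a
    rw [hv'a]; exact haA
  · have h1 : q.fiberι (q w) v' ∈ Set.range (q.fiberι (q w)) := ⟨v', rfl⟩
    rw [Scheme.Hom.range_fiberι] at h1
    show q (q.fiberι (q w) v') ∈ B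
    rw [h1]; exact hwB

theorem closure_prod {X Y S Z : Scheme.{u}} [IsIntegral S] [Subsingleton S]
    {p : Z ⟶ X} {q : Z ⟶ Y} {f : X ⟶ S} {g : Y ⟶ S} (hsq : IsPullback p q f g)
    (A : Set X) (B : Set Y) :
    p ⁻¹' closure A ∩ q ⁻¹' closure B ⊆ closure (p ⁻¹' A ∩ q ⁻¹' B) := by
  have h1 := step hsq.flip B (closure A)
  have h2 := step hsq A B
  intro w hw
  have hw' : w ∈ closure (q ⁻¹' B ∩ p ⁻¹' closure A) := h1 ⟨hw.2, hw.1⟩
  rw [Set.inter_comm] at hw'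
  have := closure_mono h2 hw'
  rw [closure_closure] at this
  exact this

/-- core lemma for groupoid-type compositions over a field -/
theorem core {U₁ U₂ R₁ R₂ : Scheme.{u}} [IsIntegral U₂] [Subsingleton U₂] (fU : U₁ ⟶ U₂) [Mono fU]
    (s₁ t₁ : R₁ ⟶ U₁) (s₂ t₂ : R₂ ⟶ U₂) (a : R₁ ⟶ R₂)
    (hs : s₁ ≫ fU = a ≫ s₂) (ht : t₁ ≫ fU = a ≫ t₂)
    (c₁ : pullback s₁ t₁ ⟶ R₁) (c₂ : pullback s₂ t₂ ⟶ R₂)
    (hc : pullback.map s₁ t₁ s₂ t₂ a a fU hs ht ≫ c₂ = c₁ ≫ a)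
    (p : ↑(pullback s₂ t₂)) (h₁ : pullback.fst s₂ t₂ p ∈ closure (Set.range a))
    (h₂ : pullback.snd s₂ t₂ p ∈ closure (Set.range a)) : c₂ p ∈ closure (Set.range a) := by
  have hsq := IsPullback.of_hasPullback s₂ t₂
  have hp : p ∈ closure ((pullback.fst s₂ t₂) ⁻¹' Set.range a ∩ (pullback.snd s₂ t₂) ⁻¹' Set.range a) :=
    closure_prod hsq _ _ ⟨h₁, h₂⟩
  have himg := image_closure_subset_closure_image c₂.continuous ⟨p, hp, rfl⟩
  refine closure_mono ?_ himg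
  rintro _ ⟨w, ⟨⟨r₁, hr₁⟩, ⟨r₂, hr₂⟩⟩, rfl⟩
  -- build a point of pullback s₁ t₁ over w
  obtain ⟨z₁, hz₁a, hz₁b⟩ := Scheme.Pullback.exists_preimage_pullback (f := a)
    (g := pullback.fst s₂ t₂) r₁ w hr₁
  let pr1 : pullback a (pullback.fst s₂ t₂) ⟶ R₂ :=
    pullback.snd a (pullback.fst s₂ t₂) ≫ pullback.snd s₂ t₂
  have hz₁c : pr1 z₁ = a r₂ := by
    show (pullback.snd a (pullback.fst s₂ t₂) ≫ pullback.snd s₂ t₂) z₁ = a r₂
    rw [Scheme.Hom.comp_apply, hz₁b, hr₂]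
  obtain ⟨z₂, hz₂a, hz₂b⟩ := Scheme.Pullback.exists_preimage_pullback (f := pr1) (g := a) z₁ r₂ hz₁c
  let α : pullback pr1 a ⟶ R₁ := pullback.fst pr1 a ≫ pullback.fst a (pullback.fst s₂ t₂)
  let β : pullback pr1 a ⟶ R₁ := pullback.snd pr1 a
  let π : pullback pr1 a ⟶ pullback s₂ t₂ := pullback.fst pr1 a ≫ pullback.snd a (pullback.fst s₂ t₂)
  have hα : α ≫ a = π ≫ pullback.fst s₂ t₂ := by
    simp only [α, π, Category.assoc, pullback.condition]
  have hβ : β ≫ a = π ≫ pullback.snd s₂ t₂ := by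
    simp only [β, π, Category.assoc]
    rw [← pullback.condition]
  have hαβ : α ≫ s₁ = β ≫ t₁ := by
    rw [← cancel_mono fU]
    have e1 : (α ≫ s₁) ≫ fU = (α ≫ a) ≫ s₂ := by simp only [Category.assoc, hs]
    have e2 : (β ≫ t₁) ≫ fU = (β ≫ a) ≫ t₂ := by simp only [Category.assoc, ht]
    rw [e1, e2, hα, hβ]
    simp only [Category.assoc, pullback.condition]
  let ζ : pullback pr1 a ⟶ pullback s₁ t₁ := pullback.lift α β hαβ
  have hζ : ζ ≫ pullback.map s₁ t₁ s₂ t₂ a a fU hs ht = π := by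
    apply pullback.hom_ext
    · simp only [ζ, Category.assoc, pullback.lift_fst, pullback.lift_fst_assoc, hα]
    · simp only [ζ, Category.assoc, pullback.lift_snd, pullback.lift_snd_assoc, hβ]
  have hπ : π z₂ = w := by
    show (pullback.fst pr1 a ≫ pullback.snd a (pullback.fst s₂ t₂)) z₂ = w
    rw [Scheme.Hom.comp_apply, hz₂a, hz₁b]
  refine ⟨c₁ (ζ z₂), ?_⟩
  rw [← Scheme.Hom.comp_apply, ← hc, ← hπ, ← hζ]
  simp only [Scheme.Hom.comp_apply]

end Groth.Agent.Lib.Helper15.ClosureProd
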