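import Mathlib.AlgebraicGeometry.Limits
import Mathlib.AlgebraicGeometry.Morphisms.Basic

set_option autoImplicit false
universe u
open CategoryTheory CategoryTheory.Limits AlgebraicGeometry

namespace Groth.Agent.Lib.Helper15.CofanSch

variable {G : Type u} {f : G → Scheme.{u}} {c : Cofan f} (hc : IsColimit c)

include hc

/-- comparison with the chosen coproduct -/
noncomputable def isoSigma : c.pt ≅ ∐ f :=
  hc.coconePointUniqueUpToIso (colimit.isColimit _)

theorem inj_isoSigma_hom (g : G) : c.inj g ≫ (isoSigma hc).hom = Sigma.ι f g :=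
  hc.comp_coconePointUniqueUpToIso_hom (colimit.isColimit _) ⟨g⟩

theorem inj_eq (g : G) : c.inj g = Sigma.ι f g ≫ (isoSigma hc).inv := by
  rw [← inj_isoSigma_hom hc g, Category.assoc, Iso.hom_inv_id, Category.comp_id]

theorem isOpenImmersion_inj (g : G) : IsOpenImmersion (c.inj g) := by
  rw [inj_eq hc g]; infer_instance

theorem exists_inj_eq (x : c.pt) : ∃ (g : G) (y : f g), c.inj g y = x := by
  obtain ⟨⟨g, y⟩, hy⟩ := (sigmaMk f).surjective ((isoSigma hc).hom x)
  refine ⟨g, y, ?_⟩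
  rw [sigmaMk_mk] at hy
  rw [inj_eq hc g, Scheme.Hom.comp_apply, hy, ← Scheme.Hom.comp_apply, Iso.hom_inv_id]
  rfl

theorem eq_of_inj_eq {g h : G} (y : f g) (z : f h) (e : c.inj g y = c.inj h z) : g = h := by
  have e' : Sigma.ι f g y = Sigma.ι f h z := by
    rw [← inj_isoSigma_hom hc g, ← inj_isoSigma_hom hc h, Scheme.Hom.comp_apply,
      Scheme.Hom.comp_apply, e]
  have := (sigmaι_eq_iff f g h y z).mp e'
  exact congrArg Sigma.fst this

/-- Two maps into a coproduct decompose the source as a coproduct of opens on which both maps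
land in a single summand. -/
theorem exists_decomp {T : Scheme.{u}} (r₁ r₂ : T ⟶ c.pt) :
    ∃ (W : G × G → T.Opens), Nonempty (IsColimit (Cofan.mk T (fun p => (W p).ι))) ∧
      ∀ p : G × G, ∃ (a₁ : (W p : Scheme) ⟶ f p.1) (a₂ : (W p : Scheme) ⟶ f p.2),
        (W p).ι ≫ r₁ = a₁ ≫ c.inj p.1 ∧ (W p).ι ≫ r₂ = a₂ ≫ c.inj p.2 := by
  haveI := isOpenImmersion_inj hc
  refine ⟨fun p => r₁ ⁻¹ᵁ (c.inj p.1).opensRange ⊓ r₂ ⁻¹ᵁ (c.inj p.2).opensRange, ?_, ?_⟩
  · apply nonempty_isColimit_cofanMk_of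
    · rw [eq_top_iff]
      intro x _
      obtain ⟨g, y, hy⟩ := exists_inj_eq hc (r₁ x)
      obtain ⟨h, z, hz⟩ := exists_inj_eq hc (r₂ x)
      simp only [Scheme.Opens.opensRange_ι]
      rw [TopologicalSpace.Opens.mem_iSup]
      exact ⟨(g, h), ⟨y, hy⟩, ⟨z, hz⟩⟩
    · intro p q hpq
      simp only [Function.onFun, Scheme.Opens.opensRange_ι]
      rw [disjoint_iff]
      ext x
      simp only [TopologicalSpace.Opens.coe_inf, Set.mem_inter_iff, SetLike.mem_coe,
        TopologicalSpace.Opens.coe_bot, Set.mem_empty_iff_false, iff_false]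
      rintro ⟨⟨⟨y, hy⟩, ⟨z, hz⟩⟩, ⟨⟨y', hy'⟩, ⟨z', hz'⟩⟩⟩
      apply hpq
      exact Prod.ext (eq_of_inj_eq hc y y' (hy.trans hy'.symm))
        (eq_of_inj_eq hc z z' (hz.trans hz'.symm))
  · intro p
    refine ⟨IsOpenImmersion.lift (c.inj p.1) (Scheme.Opens.ι _ ≫ r₁) ?_,
      IsOpenImmersion.lift (c.inj p.2) (Scheme.Opens.ι _ ≫ r₂) ?_,
      (IsOpenImmersion.lift_fac _ _ _).symm, (IsOpenImmersion.lift_fac _ _ _).symm⟩
    · rintro _ ⟨x, rfl⟩
      exact x.2.1
    · rintro _ ⟨x, rfl⟩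
      exact x.2.2

/-- Source-local properties are checked on the summands. -/
theorem iff_of_isColimit (P : MorphismProperty Scheme.{u}) [IsZariskiLocalAtSource P]
    {X : Scheme.{u}} (φ : c.pt ⟶ X) : P φ ↔ ∀ g, P (c.inj g ≫ φ) := by
  haveI := isOpenImmersion_inj hc
  refine ⟨fun h g => IsZariskiLocalAtSource.comp h _, fun h => ?_⟩
  rw [← MorphismProperty.cancel_left_of_respectsIso P (isoSigma hc).inv φ]
  have : (isoSigma hc).inv ≫ φ = Sigma.desc (fun g => c.inj g ≫ φ) := by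
    refine Sigma.hom_ext _ _ fun g => ?_
    rw [Sigma.ι_desc, ← Category.assoc, ← inj_eq hc g]
  rw [this]
  exact IsZariskiLocalAtSource.sigmaDesc h

end Groth.Agent.Lib.Helper15.CofanSch
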