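import Groth.Agent.Lib.Helper15.CofanSch
import Mathlib.AlgebraicGeometry.Morphisms.QuasiCompact
import Mathlib.AlgebraicGeometry.Morphisms.ClosedImmersion
import Mathlib.AlgebraicGeometry.Morphisms.SurjectiveOnStalks

set_option autoImplicit false
universe u
open CategoryTheory CategoryTheory.Limits AlgebraicGeometry

namespace Groth.Agent.Lib.Helper15.CofanSch

variable {G : Type u} {f : G → Scheme.{u}} {c : Cofan f} (hc : IsColimit c)

include hc

theorem preimage_eq_iUnion {X : Scheme.{u}} (φ : c.pt ⟶ X) (V : Set X) :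
    φ ⁻¹' V = ⋃ g, c.inj g '' ((c.inj g ≫ φ) ⁻¹' V) := by
  ext x
  simp only [Set.mem_preimage, Set.mem_iUnion, Set.mem_image]
  constructor
  · intro hx
    obtain ⟨g, y, rfl⟩ := exists_inj_eq hc x
    exact ⟨g, y, by rwa [Scheme.Hom.comp_apply], rfl⟩
  · rintro ⟨g, y, hy, rfl⟩
    rwa [Scheme.Hom.comp_apply] at hy

theorem image_eq_iUnion {X : Scheme.{u}} (φ : c.pt ⟶ X) (Z : Set c.pt) :
    φ '' Z = ⋃ g, (c.inj g ≫ φ) '' (c.inj g ⁻¹' Z) := by
  ext x
  simp only [Set.mem_image, Set.mem_iUnion, Set.mem_preimage]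
  constructor
  · rintro ⟨z, hz, rfl⟩
    obtain ⟨g, y, rfl⟩ := exists_inj_eq hc z
    exact ⟨g, y, hz, by rw [Scheme.Hom.comp_apply]⟩
  · rintro ⟨g, y, hy, rfl⟩
    exact ⟨c.inj g y, hy, by rw [Scheme.Hom.comp_apply]⟩

theorem quasiCompact_of_isColimit [Finite G] {X : Scheme.{u}} (φ : c.pt ⟶ X)
    (h : ∀ g, QuasiCompact (c.inj g ≫ φ)) : QuasiCompact φ := by
  rw [quasiCompact_iff]
  intro V hV hVc
  rw [preimage_eq_iUnion hc φ V]
  refine isCompact_iUnion fun g => ?_
  exact ((h g).isCompact_preimage V hV hVc).image (c.inj g).continuous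

theorem isClosedImmersion_of_isColimit [Finite G] {X : Scheme.{u}} (φ : c.pt ⟶ X)
    (h : ∀ g, IsClosedImmersion (c.inj g ≫ φ)) (hinj : Function.Injective φ) :
    IsClosedImmersion φ := by
  rw [isClosedImmersion_iff]
  refine ⟨?_, ?_⟩
  · rw [iff_of_isColimit hc @SurjectiveOnStalks]
    exact fun g => inferInstance
  · refine Topology.IsClosedEmbedding.of_continuous_injective_isClosedMap φ.continuous hinj ?_
    intro Z hZ
    rw [image_eq_iUnion hc φ Z]
    refine isClosed_iUnion_of_finite fun g => ?_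
    exact (h g).isClosedEmbedding.isClosedMap _ (hZ.preimage (c.inj g).continuous)

end Groth.Agent.Lib.Helper15.CofanSch
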