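import Mathlib
import Groth.Prelude.Def_AlgSp4
import Groth.Agent.Lib.Helper9.PhSheaf2

set_option autoImplicit false
set_option backward.isDefEq.respectTransparency.types false
universe w u
open CategoryTheory CategoryTheory.Limits AlgebraicGeometry Opposite
open AlgSp

namespace Groth.Agent.Lib.Helper15.Colim1

variable {S : Scheme.{u}}

theorem isSheafFor_of_etale_cover (F : Sp S) {V : Over S} {κ : Type w} (A : κ → Over S)
    (a : ∀ k, A k ⟶ V) (hfl : ∀ k, Flat (a k).left)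
    (hfp : ∀ k, LocallyOfFinitePresentation (a k).left)
    (hs : ∀ v : ↥V.left, ∃ k, v ∈ Set.range (a k).left) :
    Presieve.IsSheafFor F.obj (Presieve.ofArrows A a) := by
  apply Groth.Agent.Lib.Helper9.VCov.isSheafFor_ofArrows_over S F.obj
    ((isSheaf_iff_isSheaf_of_type _ _).mp F.property)
  change Presieve.ofArrows (fun k => (A k).left) (fun k => (a k).left) ∈
    Scheme.fppfPrecoverage V.left
  rw [Scheme.fppfPrecoverage, Scheme.ofArrows_mem_precoverage_iff]
  exact ⟨hs, fun k => ⟨hfl k, hfp k⟩⟩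

/-- Maps from a representable sheaf to a sheaf agree if they agree on an fppf covering family. -/
theorem hom_ext_of_cover {F : Sp S} {V : Over S} {κ : Type w} (A : κ → Over S)
    (a : ∀ k, A k ⟶ V) (hfl : ∀ k, Flat (a k).left)
    (hfp : ∀ k, LocallyOfFinitePresentation (a k).left)
    (hs : ∀ v : ↥V.left, ∃ k, v ∈ Set.range (a k).left)
    (x x' : (yon S).obj V ⟶ F)
    (h : ∀ k, (yon S).map (a k) ≫ x = (yon S).map (a k) ≫ x') : x = x' := by
  apply (AlgSp.J S).uliftYonedaEquiv.{u+1}.injective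
  have hsh := isSheafFor_of_etale_cover F A a hfl hfp hs
  apply hsh.isSeparatedFor.ext
  rintro Y f ⟨k⟩
  have := congrArg (AlgSp.J S).uliftYonedaEquiv.{u+1} (h k)
  rw [← (AlgSp.J S).uliftYonedaEquiv_naturality, ← (AlgSp.J S).uliftYonedaEquiv_naturality] at this
  exact this

/-- Gluing maps from an fppf covering family to a sheaf. -/
theorem exists_glue_of_cover {F : Sp S} {V : Over S} {κ : Type w} (A : κ → Over S)
    (a : ∀ k, A k ⟶ V) (hfl : ∀ k, Flat (a k).left)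
    (hfp : ∀ k, LocallyOfFinitePresentation (a k).left)
    (hs : ∀ v : ↥V.left, ∃ k, v ∈ Set.range (a k).left)
    (ψ : ∀ k, (yon S).obj (A k) ⟶ F)
    (hψ : ∀ (k l : κ) (Z : Over S) (g₁ : Z ⟶ A k) (g₂ : Z ⟶ A l), g₁ ≫ a k = g₂ ≫ a l →
      (yon S).map g₁ ≫ ψ k = (yon S).map g₂ ≫ ψ l) :
    ∃ Ψ : (yon S).obj V ⟶ F, ∀ k, (yon S).map (a k) ≫ Ψ = ψ k := by
  have hsh := isSheafFor_of_etale_cover F A a hfl hfp hs
  rw [Presieve.isSheafFor_arrows_iff] at hsh
  obtain ⟨t, ht, -⟩ := hsh (fun k => (AlgSp.J S).uliftYonedaEquiv.{u+1} (ψ k)) (by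
    intro k l Z g₁ g₂ hg
    change F.obj.map g₁.op ((AlgSp.J S).uliftYonedaEquiv.{u+1} (ψ k)) =
      F.obj.map g₂.op ((AlgSp.J S).uliftYonedaEquiv.{u+1} (ψ l))
    rw [(AlgSp.J S).uliftYonedaEquiv_naturality, (AlgSp.J S).uliftYonedaEquiv_naturality,
      hψ k l Z g₁ g₂ hg])
  refine ⟨(AlgSp.J S).uliftYonedaEquiv.{u+1}.symm t, fun k => ?_⟩
  apply (AlgSp.J S).uliftYonedaEquiv.{u+1}.injective
  rw [← (AlgSp.J S).uliftYonedaEquiv_naturality, Equiv.apply_symm_apply]
  exact ht k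

end Groth.Agent.Lib.Helper15.Colim1
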