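import Groth.Agent.Lib.Helper15.Colim9

set_option autoImplicit false
set_option backward.isDefEq.respectTransparency.types false
universe w v u
open CategoryTheory CategoryTheory.Limits AlgebraicGeometry Opposite
open AlgSp

namespace Groth.Agent.Lib.Helper15.Colim10

open Groth.Agent.Lib.Helper3 Groth.Agent.Lib.Helper15.Colim8 Groth.Agent.Lib.Helper15.Colim9
open Groth.Agent.Lib.Helper15.Colim5

variable {S : Scheme.{u}}

/-- An algebraic space has a jointly locally surjective family of etale charts from affine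
schemes. -/
theorem exists_affine_etale_cover {K : Sp S} (hK : IsAlgSpace K) :
    ∃ (κ : Type u) (Us : κ → Over S) (e : ∀ k, (yon S).obj (Us k) ⟶ K),
      (∀ k, IsAffine (Us k).left) ∧ (∀ k, RepWith @Etale (e k)) ∧
      LocSurj (fun k => (yon S).obj (Us k)) e := by
  obtain ⟨U₀, p, hpe, hps⟩ := hK.atlas
  refine ⟨U₀.left.affineOpens, fun V => Over.mk (V.1.ι ≫ U₀.hom), fun V => chartRestrict p V.1,
    fun V => V.2, fun V => chartRestrict_etale p hpe V.1, ?_⟩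
  refine locSurj_of_etale_surjective hK (fun V => IsAlgSpace.yon_obj _)
    (fun V => isEtaleMor_of_repWith_etale (chartRestrict_etale p hpe V.1)) (fun x => ?_)
  obtain ⟨u, rfl⟩ := exists_ofPt_eq p hps x
  obtain ⟨_, ⟨V, hV, rfl⟩, huV, -⟩ :=
    U₀.left.isBasis_affineOpens.exists_subset_of_mem_open (Set.mem_univ u) isOpen_univ
  refine ⟨⟨V, hV⟩, Points.ofScheme _ ⟨u, huV⟩, ?_⟩
  rw [← Points.ofPt_eq_map_ofScheme, ofPt_chartRestrict]
  rfl


section H2

variable {B : AlgSp.Space S} {I : Type v} [Category.{w} I] {D : I ⥤ Over B} {c : Cocone D}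
  (h₂ : ∀ (B' Zs Us : Over S) (b : (AlgSp.yon S).obj B' ⟶ B.obj) (z : Zs ⟶ B') {XB : AlgSp.Space S}
    (x₁ : XB ⟶ c.pt.left) (x₂ : XB.obj ⟶ (AlgSp.yon S).obj B') (uu : (AlgSp.yon S).obj Us ⟶ XB.obj)
    (DU : I ⥤ AlgSp.Space S) (αU : DU ⟶ D ⋙ Over.forget B)
    (ιU : DU ⟶ (Functor.const I).obj ((AlgSp.ofScheme S).obj Us))
    (φ : DU ⟶ (Functor.const I).obj ((AlgSp.ofScheme S).obj Zs)),
    IsAffine B'.left → IsAffine Zs.left → IsAffine Us.left → AlgSp.RepWith @Etale b →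
    IsPullback x₁.hom x₂ c.pt.hom.hom b → AlgSp.RepWith @Etale uu →
    (∀ i, IsPullback (ιU.app i).hom (αU.app i).hom (uu ≫ x₁.hom) (c.ι.app i).left.hom) →
    (∀ i, (φ.app i).hom ≫ (AlgSp.yon S).map z = (ιU.app i).hom ≫ uu ≫ x₂) →
      ∃! fz : Us ⟶ Zs, (AlgSp.yon S).map fz ≫ (AlgSp.yon S).map z = uu ≫ x₂ ∧
        ∀ i, (ιU.app i).hom ≫ (AlgSp.yon S).map fz = (φ.app i).hom)

/-- the base change `c.pt ×_B B'` is an algebraic space -/
theorem isAlgSpace_XB {B' : Over S} (b : (yon S).obj B' ⟶ B.obj) :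
    IsAlgSpace (pullback (str c.pt) b) :=
  isAlgSpace_of_isPullback' B.property (isAlgSpace_sp c.pt) (IsAlgSpace.yon_obj B')
    (IsPullback.of_hasPullback _ _)

theorem isEtaleMor_XB_fst {B' : Over S} (b : (yon S).obj B' ⟶ B.obj) (hb : RepWith @Etale b) :
    IsEtaleMor (pullback.fst (str c.pt) b) :=
  Groth.Agent.Lib.Helper3.isEtaleMor_of_isPullback (IsAlgSpace.yon_obj B') B.property
    (isAlgSpace_sp c.pt) (isAlgSpace_XB b) b (str c.pt) (pullback.snd (str c.pt) b)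
    (pullback.fst (str c.pt) b) (IsPullback.of_hasPullback (str c.pt) b).flip
    (isEtaleMor_of_repWith_etale hb)

/-- `c.pt ×_B B'` as an object over `B` -/
noncomputable def XBo {B' : Over S} (b : (yon S).obj B' ⟶ B.obj) : Over B :=
  mkObj (pullback (str c.pt) b) (isAlgSpace_XB b) (pullback.fst (str c.pt) b ≫ str c.pt)

/-- the projection `c.pt ×_B B' ⟶ c.pt` over `B` -/
noncomputable def x₁o {B' : Over S} (b : (yon S).obj B' ⟶ B.obj) : XBo (c := c) b ⟶ c.pt :=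
  mkHom (pullback.fst (str c.pt) b) rfl

/-- a map `K → c.pt ×_B B'` over `c.pt` from an etale `K` is etale -/
theorem isEtaleMor_of_comp_fst (Ξ : Sys D c) {B' : Over S} (b : (yon S).obj B' ⟶ B.obj)
    (hb : RepWith @Etale b) (n : sp Ξ.K ⟶ pullback (str c.pt) b)
    (hn : n ≫ pullback.fst (str c.pt) b = hm Ξ.k) : IsEtaleMor n :=
  Groth.Agent.S10210.result (X := Ξ.K.left) (Y := ⟨pullback (str c.pt) b, isAlgSpace_XB b⟩)
    (Z := c.pt.left) (ObjectProperty.homMk n) (ObjectProperty.homMk (pullback.fst (str c.pt) b))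
    Ξ.k.left (by apply ObjectProperty.hom_ext; exact hn) Ξ.hk (isEtaleMor_XB_fst b hb)

include h₂ in
theorem H2Ξ (Ξ : Sys D c) {B' : Over S} (hB' : IsAffine B'.left) (b : (yon S).obj B' ⟶ B.obj)
    (hb : RepWith @Etale b) (n : sp Ξ.K ⟶ pullback (str c.pt) b)
    (hn : n ≫ pullback.fst (str c.pt) b = hm Ξ.k)
    {Zs : Over S} (hZ : IsAffine Zs.left) (z : Zs ⟶ B')
    {Us : Over S} (hU : IsAffine Us.left) (e : (yon S).obj Us ⟶ sp Ξ.K) (he : RepWith @Etale e)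
    (φ : ∀ i, pullback (hm (Ξ.ι.app i)) e ⟶ (yon S).obj Zs)
    (hφn : ∀ ⦃i j : I⦄ (f : i ⟶ j),
      PBOmap Ξ.F (fun i => hm (Ξ.ι.app i)) Ξ.ι_w e f ≫ φ j = φ i)
    (hφ : ∀ i, φ i ≫ (yon S).map z =
      pullback.snd (hm (Ξ.ι.app i)) e ≫ e ≫ n ≫ pullback.snd (str c.pt) b) :
    ∃! fz : Us ⟶ Zs, (yon S).map fz ≫ (yon S).map z = e ≫ n ≫ pullback.snd (str c.pt) b ∧
      ∀ i, pullback.snd (hm (Ξ.ι.app i)) e ≫ (yon S).map fz = φ i := by
  let UsB : Over B := mkObj ((yon S).obj Us) (IsAlgSpace.yon_obj Us) (e ≫ str Ξ.K)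
  let Ξe : Sys D c := Ξ.pull (N := UsB) e rfl (isEtaleMor_of_repWith_etale he)
  let XB : AlgSp.Space S := ⟨pullback (str c.pt) b, isAlgSpace_XB b⟩
  let x₁ : XB ⟶ c.pt.left := ObjectProperty.homMk (pullback.fst (str c.pt) b)
  let DU : I ⥤ AlgSp.Space S := Ξe.F ⋙ Over.forget B
  let αU : DU ⟶ D ⋙ Over.forget B := Functor.whiskerRight Ξe.α (Over.forget B)
  let ιU : DU ⟶ (Functor.const I).obj ((AlgSp.ofScheme S).obj Us) :=
    { app := fun i => (Ξe.ι.app i).left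
      naturality := fun i j f => by
        apply ObjectProperty.hom_ext
        change hm (Ξe.F.map f) ≫ hm (Ξe.ι.app j) = hm (Ξe.ι.app i) ≫ 𝟙 _
        rw [Ξe.ι_w, Category.comp_id] }
  let φ' : DU ⟶ (Functor.const I).obj ((AlgSp.ofScheme S).obj Zs) :=
    { app := fun i => ObjectProperty.homMk (φ i)
      naturality := fun i j f => by
        apply ObjectProperty.hom_ext
        change hm (Ξe.F.map f) ≫ φ j = φ i ≫ 𝟙 _
        rw [Category.comp_id]
        exact hφn f }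
  have huu : RepWith @Etale (e ≫ n) := isEtaleMor_of_comp_fst Ξ b hb n hn e he
  have hsq : ∀ i, IsPullback (ιU.app i).hom (αU.app i).hom ((e ≫ n) ≫ x₁.hom)
      (c.ι.app i).left.hom := by
    intro i
    have h1 : (e ≫ n) ≫ x₁.hom = hm Ξe.k := by
      change (e ≫ n) ≫ pullback.fst (str c.pt) b = e ≫ hm Ξ.k
      rw [Category.assoc, hn]
    exact (congrArg (fun t : (yon S).obj Us ⟶ sp c.pt =>
      IsPullback (ιU.app i).hom (αU.app i).hom t (c.ι.app i).left.hom) h1).mpr (Ξe.sq i)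
  have hcomp : ∀ i, (φ'.app i).hom ≫ (AlgSp.yon S).map z =
      (ιU.app i).hom ≫ (e ≫ n) ≫ pullback.snd (str c.pt) b := by
    intro i
    change φ i ≫ (yon S).map z = pullback.snd (hm (Ξ.ι.app i)) e ≫ (e ≫ n) ≫ _
    rw [hφ i, Category.assoc]
  obtain ⟨fz, ⟨h1, h2⟩, huniq⟩ := h₂ B' Zs Us b z (XB := XB) x₁ (pullback.snd (str c.pt) b)
    (e ≫ n) DU αU ιU φ' hB' hZ hU hb (IsPullback.of_hasPullback (str c.pt) b) huu hsq hcomp
  refine ⟨fz, ⟨by rw [h1, Category.assoc], fun i => h2 i⟩, ?_⟩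
  rintro fz' ⟨h1', h2'⟩
  exact huniq fz' ⟨by rw [h1', Category.assoc], fun i => h2' i⟩

end H2

end Groth.Agent.Lib.Helper15.Colim10
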