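import Groth.Agent.Lib.Helper15.Colim10

set_option autoImplicit false
set_option backward.isDefEq.respectTransparency.types false
universe w v u
open CategoryTheory CategoryTheory.Limits AlgebraicGeometry Opposite
open AlgSp

namespace Groth.Agent.Lib.Helper15.Colim11

open Groth.Agent.Lib.Helper3 Groth.Agent.Lib.Helper15.Colim8 Groth.Agent.Lib.Helper15.Colim9
open Groth.Agent.Lib.Helper15.Colim5 Groth.Agent.Lib.Helper15.Colim10

variable {S : Scheme.{u}} {B : AlgSp.Space S} {I : Type v} [Category.{w} I] {D : I ⥤ Over B}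
  {c : Cocone D}
  (h₂ : ∀ (B' Zs Us : Over S) (b : (AlgSp.yon S).obj B' ⟶ B.obj) (z : Zs ⟶ B') {XB : AlgSp.Space S}
    (x₁ : XB ⟶ c.pt.left) (x₂ : XB.obj ⟶ (AlgSp.yon S).obj B') (uu : (AlgSp.yon S).obj Us ⟶ XB.obj)
    (DU : I ⥤ AlgSp.Space S) (αU : DU ⟶ D ⋙ Over.forget B)
    (ιU : DU ⟶ (Functor.const I).obj ((AlgSp.ofScheme S).obj Us))
    (φ : DU ⟶ (Functor.const I).obj ((AlgSp.ofScheme S).obj Zs)),
    IsAffine B'.left → IsAffine Zs.left → IsAffine Us.left → AlgSp.RepWith @Etale b →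
    IsPullback x₁.hom x₂ c.pt.hom.hom b → AlgSp.RepWith @Etale uu →
    (∀ i, IsPullback (ιU.app i).hom (αU.app i).hom (uu ≫ x₁.hom) (c.ι.app i).left.hom) →
    (∀ i, (φ.app i).hom ≫ (AlgSp.yon S).map z = (ιU.app i).hom ≫ uu ≫ x₂) →
      ∃! fz : Us ⟶ Zs, (AlgSp.yon S).map fz ≫ (AlgSp.yon S).map z = uu ≫ x₂ ∧
        ∀ i, (ιU.app i).hom ≫ (AlgSp.yon S).map fz = (φ.app i).hom)

section
variable (Ξ : Sys D c) {B' : Over S} (hB' : IsAffine B'.left) (b : (yon S).obj B' ⟶ B.obj)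
  (hb : RepWith @Etale b) (n : sp Ξ.K ⟶ pullback (str c.pt) b)
  (hn : n ≫ pullback.fst (str c.pt) b = hm Ξ.k)
  {Zs : Over S} (hZ : IsAffine Zs.left) (z : Zs ⟶ B')
  (ψ : ∀ i, sp (Ξ.F.obj i) ⟶ (yon S).obj Zs)
  (hψn : ∀ ⦃i j : I⦄ (f : i ⟶ j), hm (Ξ.F.map f) ≫ ψ j = ψ i)
  (hψ : ∀ i, ψ i ≫ (yon S).map z = hm (Ξ.ι.app i) ≫ n ≫ pullback.snd (str c.pt) b)

include h₂ hB' hb hn hZ hψn hψ in
/-- existence and uniqueness over an affine etale chart of `K` -/
theorem H2A {Us : Over S} (hU : IsAffine Us.left) (e : (yon S).obj Us ⟶ sp Ξ.K)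
    (he : RepWith @Etale e) :
    ∃! fz : Us ⟶ Zs, (yon S).map fz ≫ (yon S).map z = e ≫ n ≫ pullback.snd (str c.pt) b ∧
      ∀ i, pullback.snd (hm (Ξ.ι.app i)) e ≫ (yon S).map fz =
        pullback.fst (hm (Ξ.ι.app i)) e ≫ ψ i := by
  refine H2Ξ h₂ Ξ hB' b hb n hn hZ z hU e he (fun i => pullback.fst (hm (Ξ.ι.app i)) e ≫ ψ i)
    (fun i j f => ?_) (fun i => ?_)
  · rw [← Category.assoc, PBOmap_fst, Category.assoc, hψn f]
  · rw [Category.assoc, hψ i, ← Category.assoc, pullback.condition, Category.assoc]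


/-- the defining conditions of the local descents -/
def Good {Us : Over S} (e : (yon S).obj Us ⟶ sp Ξ.K) (fz : Us ⟶ Zs) : Prop :=
  (yon S).map fz ≫ (yon S).map z = e ≫ n ≫ pullback.snd (str c.pt) b ∧
    ∀ i, pullback.snd (hm (Ξ.ι.app i)) e ≫ (yon S).map fz =
      pullback.fst (hm (Ξ.ι.app i)) e ≫ ψ i

theorem Good.restrict {Us Us' : Over S} {e : (yon S).obj Us ⟶ sp Ξ.K} {fz : Us ⟶ Zs}
    (h : Good Ξ b n z ψ e fz) (r : Us' ⟶ Us) : Good Ξ b n z ψ ((yon S).map r ≫ e) (r ≫ fz) := by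
  refine ⟨?_, fun i => ?_⟩
  · rw [Functor.map_comp, Category.assoc, h.1, Category.assoc]
  · let ρ : pullback (hm (Ξ.ι.app i)) ((yon S).map r ≫ e) ⟶ pullback (hm (Ξ.ι.app i)) e :=
      pullback.lift (pullback.fst _ _) (pullback.snd _ _ ≫ (yon S).map r)
        (by rw [Category.assoc, ← pullback.condition])
    have h1 : ρ ≫ pullback.fst (hm (Ξ.ι.app i)) e =
        pullback.fst (hm (Ξ.ι.app i)) ((yon S).map r ≫ e) := pullback.lift_fst _ _ _
    have h2 : ρ ≫ pullback.snd (hm (Ξ.ι.app i)) e =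
        pullback.snd (hm (Ξ.ι.app i)) ((yon S).map r ≫ e) ≫ (yon S).map r :=
      pullback.lift_snd _ _ _
    rw [Functor.map_comp, ← Category.assoc, ← h2, Category.assoc, h.2 i, ← Category.assoc, h1]

include h₂ hB' hb hn hZ hψn hψ in
/-- Descent of a compatible family of maps to an affine scheme over `B'`. -/
theorem H2K : ∃! g : sp Ξ.K ⟶ (yon S).obj Zs,
    g ≫ (yon S).map z = n ≫ pullback.snd (str c.pt) b ∧ ∀ i, hm (Ξ.ι.app i) ≫ g = ψ i := by
  obtain ⟨κ, Us, e, hUs, he, hLS⟩ := exists_affine_etale_cover (isAlgSpace_sp Ξ.K)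
  have hA : ∀ {Us' : Over S} (_ : IsAffine Us'.left) (e' : (yon S).obj Us' ⟶ sp Ξ.K)
      (_ : RepWith @Etale e'), ∃! fz : Us' ⟶ Zs, Good Ξ b n z ψ e' fz :=
    fun hU e' he' => H2A h₂ Ξ hB' b hb n hn hZ z ψ hψn hψ hU e' he'
  choose fz hfz using fun k => (hA (hUs k) (e k) (he k)).exists
  -- compatibility on overlaps
  have hcompat : ∀ (k l : κ) (T : Over S) (g₁ : (yon S).obj T ⟶ (yon S).obj (Us k))
      (g₂ : (yon S).obj T ⟶ (yon S).obj (Us l)), g₁ ≫ e k = g₂ ≫ e l →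
      g₁ ≫ (yon S).map (fz k) = g₂ ≫ (yon S).map (fz l) := by
    intro k l T g₁ g₂ hg
    obtain ⟨R, rl, fstR, sqR⟩ := (he k).1 (e l)
    obtain ⟨rk, rfl⟩ := (yon S).map_surjective fstR
    have hrk : Etale rk.left := (he l).2 (e k) ((yon S).map rl) rk sqR.flip
    have hRe : RepWith @Etale ((yon S).map rk ≫ e k) :=
      (RepWith @Etale).comp_mem _ _ ((repWith_yon_map_iff _ _).2 hrk) (he k)
    have key : rk ≫ fz k = rl ≫ fz l := by
      apply Over.OverMorphism.ext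
      apply R.left.affineCover.hom_ext
      intro j
      let O : Over S := Over.mk (R.left.affineCover.f j ≫ R.hom)
      let incl : O ⟶ R := Over.homMk (R.left.affineCover.f j) rfl
      have hO : IsAffine O.left := by
        change IsAffine (R.left.affineCover.X j)
        infer_instance
      have hincl : RepWith @Etale ((yon S).map incl) := by
        rw [repWith_yon_map_iff]
        change Etale (R.left.affineCover.f j)
        infer_instance
      have he' : RepWith @Etale ((yon S).map incl ≫ (yon S).map rk ≫ e k) :=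
        (RepWith @Etale).comp_mem _ _ hincl hRe
      have g1 : Good Ξ b n z ψ ((yon S).map incl ≫ (yon S).map rk ≫ e k)
          (incl ≫ rk ≫ fz k) := by
        have := ((hfz k).restrict Ξ b n z ψ rk).restrict Ξ b n z ψ incl
        exact this
      have g2 : Good Ξ b n z ψ ((yon S).map incl ≫ (yon S).map rk ≫ e k)
          (incl ≫ rl ≫ fz l) := by
        have := ((hfz l).restrict Ξ b n z ψ rl).restrict Ξ b n z ψ incl
        rw [sqR.w]
        exact this
      have := (hA hO _ he').unique g1 g2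
      exact congrArg (fun t => t.left) this
    have e1 : sqR.lift g₁ g₂ hg ≫ (yon S).map rk = g₁ := sqR.lift_fst _ _ _
    have e2 : sqR.lift g₁ g₂ hg ≫ (yon S).map rl = g₂ := sqR.lift_snd _ _ _
    calc g₁ ≫ (yon S).map (fz k)
        = sqR.lift g₁ g₂ hg ≫ (yon S).map (rk ≫ fz k) := by
          rw [Functor.map_comp, ← Category.assoc, e1]
      _ = sqR.lift g₁ g₂ hg ≫ (yon S).map (rl ≫ fz l) := by rw [key]
      _ = g₂ ≫ (yon S).map (fz l) := by rw [Functor.map_comp, ← Category.assoc, e2]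
  obtain ⟨g, hg⟩ := exists_glue' hLS (fun k => (yon S).map (fz k)) hcompat
  have hg1 : g ≫ (yon S).map z = n ≫ pullback.snd (str c.pt) b := by
    apply hom_ext_of_locSurj hLS
    intro k
    rw [← Category.assoc, hg k, (hfz k).1]
  have hg2 : ∀ i, hm (Ξ.ι.app i) ≫ g = ψ i := by
    intro i
    have hLS' := hLS.baseChange (hm (Ξ.ι.app i))
      (fun k => pullback (hm (Ξ.ι.app i)) (e k)) (fun k => pullback.fst _ _)
      (fun k => pullback.snd _ _) (fun k => IsPullback.of_hasPullback _ _)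
    apply hom_ext_of_locSurj hLS'
    intro k
    rw [← Category.assoc, pullback.condition, Category.assoc, hg k]
    exact (hfz k).2 i
  refine ⟨g, ⟨hg1, hg2⟩, ?_⟩
  rintro g' ⟨hg'1, hg'2⟩
  apply hom_ext_of_locSurj hLS
  intro k
  obtain ⟨fz', hfz'⟩ := (yon S).map_surjective (e k ≫ g')
  have hgood : Good Ξ b n z ψ (e k) fz' := by
    refine ⟨?_, fun i => ?_⟩
    · rw [hfz', Category.assoc, hg'1]
    · rw [hfz', ← Category.assoc, ← pullback.condition, Category.assoc, hg'2]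
  have := (hA (hUs k) (e k) (he k)).unique hgood (hfz k)
  rw [hg k, ← this, hfz']

end

end Groth.Agent.Lib.Helper15.Colim11
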