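import Groth.Agent.Lib.Helper15.Colim11

set_option autoImplicit false
set_option backward.isDefEq.respectTransparency.types false
universe w v u
open CategoryTheory CategoryTheory.Limits AlgebraicGeometry Opposite
open AlgSp

namespace Groth.Agent.Lib.Helper15.Colim12

open Groth.Agent.Lib.Helper3 Groth.Agent.Lib.Helper15.Colim8 Groth.Agent.Lib.Helper15.Colim9
open Groth.Agent.Lib.Helper15.Colim5 Groth.Agent.Lib.Helper15.Colim10

variable {S : Scheme.{u}} {B : AlgSp.Space S}

/-- an affine etale chart of `T` lying over an affine etale chart of `B` -/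
structure Chart (T : Over B) where
  W' : Over S
  hW' : IsAffine W'.left
  w : (yon S).obj W' ⟶ sp T
  hw : RepWith @Etale w
  B' : Over S
  hB' : IsAffine B'.left
  b : (yon S).obj B' ⟶ B.obj
  hb : RepWith @Etale b
  z : W' ⟶ B'
  hz : w ≫ str T = (yon S).map z ≫ b

theorem exists_charts (T : Over B) :
    ∃ (κ : Type u) (C : κ → Chart T),
      ∀ x : Points (sp T), ∃ k, x ∈ Set.range (Points.ofPt (C k).w) := by
  obtain ⟨B₀, pB, hpBe, hpBs⟩ := B.property.atlas
  let BV : B₀.left.affineOpens → Over S := fun V => Over.mk (V.1.ι ≫ B₀.hom)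
  let bV : ∀ V : B₀.left.affineOpens, (yon S).obj (BV V) ⟶ B.obj := fun V => chartRestrict pB V.1
  have hbV : ∀ V, RepWith @Etale (bV V) := fun V => chartRestrict_etale pB hpBe V.1
  have hTV : ∀ V, IsAlgSpace (pullback (str T) (bV V)) := fun V =>
    isAlgSpace_of_isPullback' B.property (isAlgSpace_sp T) (IsAlgSpace.yon_obj _)
      (IsPullback.of_hasPullback _ _)
  have hfst : ∀ V, IsEtaleMor (pullback.fst (str T) (bV V)) := fun V =>
    Groth.Agent.Lib.Helper3.isEtaleMor_of_isPullback (IsAlgSpace.yon_obj _) B.property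
      (isAlgSpace_sp T) (hTV V) (bV V) (str T) (pullback.snd (str T) (bV V))
      (pullback.fst (str T) (bV V)) (IsPullback.of_hasPullback (str T) (bV V)).flip
      (isEtaleMor_of_repWith_etale (hbV V))
  choose Q q hqe hqs using fun V => (hTV V).atlas
  let mk : ∀ (V : B₀.left.affineOpens) (O : (Q V).left.affineOpens), Chart T := fun V O =>
    { W' := Over.mk (O.1.ι ≫ (Q V).hom)
      hW' := O.2
      w := chartRestrict (q V) O.1 ≫ pullback.fst (str T) (bV V)
      hw := hfst V _ (chartRestrict_etale (q V) (hqe V) O.1)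
      B' := BV V
      hB' := V.2
      b := bV V
      hb := hbV V
      z := (yon S).preimage (chartRestrict (q V) O.1 ≫ pullback.snd (str T) (bV V))
      hz := by
        rw [Functor.map_preimage, Category.assoc, Category.assoc, pullback.condition] }
  refine ⟨Σ V : B₀.left.affineOpens, (Q V).left.affineOpens, fun k => mk k.1 k.2, fun x => ?_⟩
  obtain ⟨β, hβ⟩ := exists_ofPt_eq pB hpBs (Points.map (str T) x)
  obtain ⟨_, ⟨V, hV, rfl⟩, hβV, -⟩ :=
    B₀.left.isBasis_affineOpens.exists_subset_of_mem_open (Set.mem_univ β) isOpen_univ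
  have h1 : Points.map (str T) x =
      Points.map (bV ⟨V, hV⟩) (Points.ofScheme (BV ⟨V, hV⟩) ⟨β, hβV⟩) := by
    rw [← Points.ofPt_eq_map_ofScheme, ofPt_chartRestrict, ← hβ]
    rfl
  obtain ⟨t, ht1, -⟩ := Points.exists_of_isPullback
    (IsPullback.of_hasPullback (str T) (bV ⟨V, hV⟩)) x _ h1
  obtain ⟨r, hr⟩ := exists_ofPt_eq (q ⟨V, hV⟩) (hqs ⟨V, hV⟩) t
  obtain ⟨_, ⟨O, hO, rfl⟩, hrO, -⟩ :=
    (Q ⟨V, hV⟩).left.isBasis_affineOpens.exists_subset_of_mem_open (Set.mem_univ r) isOpen_univ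
  refine ⟨⟨⟨V, hV⟩, ⟨O, hO⟩⟩, ⟨r, hrO⟩, ?_⟩
  change Points.ofPt (chartRestrict (q ⟨V, hV⟩) O ≫ pullback.fst (str T) (bV ⟨V, hV⟩)) ⟨r, hrO⟩ = x
  rw [← Points.map_ofPt, ofPt_chartRestrict, ← ht1, ← hr]
  rfl

end Groth.Agent.Lib.Helper15.Colim12
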