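import Groth.Agent.Lib.Helper15.Colim12

set_option autoImplicit false
set_option backward.isDefEq.respectTransparency.types false
universe w v u
open CategoryTheory CategoryTheory.Limits AlgebraicGeometry Opposite
open AlgSp

namespace Groth.Agent.Lib.Helper15.Colim13

open Groth.Agent.Lib.Helper3 Groth.Agent.Lib.Helper15.Colim8 Groth.Agent.Lib.Helper15.Colim9
open Groth.Agent.Lib.Helper15.Colim5 Groth.Agent.Lib.Helper15.Colim10
open Groth.Agent.Lib.Helper15.Colim11 Groth.Agent.Lib.Helper15.Colim12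

variable {S : Scheme.{u}} {B : AlgSp.Space S} {I : Type v} [Category.{w} I] {D : I ⥤ Over B}
  {c : Cocone D}
  (h₁' : ∀ (U U' : Over B) (u : U ⟶ c.pt) (u' : U' ⟶ c.pt), AlgSp.IsEtaleMor u.left.hom →
    AlgSp.IsEtaleMor u'.left.hom →
    ∀ (DU DU' : I ⥤ Over B) (αU : DU ⟶ D) (αU' : DU' ⟶ D) (ιU : DU ⟶ (Functor.const I).obj U)
      (ιU' : DU' ⟶ (Functor.const I).obj U'),
      (∀ i, IsPullback (ιU.app i).left.hom (αU.app i).left.hom u.left.hom (c.ι.app i).left.hom) →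
      (∀ i, IsPullback (ιU'.app i).left.hom (αU'.app i).left.hom u'.left.hom
        (c.ι.app i).left.hom) →
      ∀ (β : DU ⟶ DU'), β ≫ αU' = αU →
        ∃! m : U ⟶ U', m ≫ u' = u ∧ ∀ i, ιU.app i ≫ m = β.app i ≫ ιU'.app i)
  (h₂ : ∀ (B' Zs Us : Over S) (b : (AlgSp.yon S).obj B' ⟶ B.obj) (z : Zs ⟶ B') {XB : AlgSp.Space S}
    (x₁ : XB ⟶ c.pt.left) (x₂ : XB.obj ⟶ (AlgSp.yon S).obj B') (uu : (AlgSp.yon S).obj Us ⟶ XB.obj)
    (DU : I ⥤ AlgSp.Space S) (αU : DU ⟶ D ⋙ Over.forget B)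
    (ιU : DU ⟶ (Functor.const I).obj ((AlgSp.ofScheme S).obj Us))
    (φ : DU ⟶ (Functor.const I).obj ((AlgSp.ofScheme S).obj Zs)),
    IsAffine B'.left → IsAffine Zs.left → IsAffine Us.left → AlgSp.RepWith @Etale b →
    IsPullback x₁.hom x₂ c.pt.hom.hom b → AlgSp.RepWith @Etale uu →
    (∀ i, IsPullback (ιU.app i).hom (αU.app i).hom (uu ≫ x₁.hom) (c.ι.app i).left.hom) →
    (∀ i, (φ.app i).hom ≫ (AlgSp.yon S).map z = (ιU.app i).hom ≫ uu ≫ x₂) →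
      ∃! fz : Us ⟶ Zs, (AlgSp.yon S).map fz ≫ (AlgSp.yon S).map z = uu ≫ x₂ ∧
        ∀ i, (ιU.app i).hom ≫ (AlgSp.yon S).map fz = (φ.app i).hom)

include h₁' in
theorem FF_ext_XB (Ξ : Sys D c) {B' : Over S} (b : (yon S).obj B' ⟶ B.obj) (hb : RepWith @Etale b)
    (n n' : sp Ξ.K ⟶ pullback (str c.pt) b)
    (h1 : n ≫ pullback.fst (str c.pt) b = hm Ξ.k) (h2 : n' ≫ pullback.fst (str c.pt) b = hm Ξ.k)
    (h : ∀ i, hm (Ξ.ι.app i) ≫ n = hm (Ξ.ι.app i) ≫ n') : n = n' :=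
  FF_ext h₁' Ξ (XBo b) (x₁o b) (isEtaleMor_XB_fst b hb) n n' h1 h2 h

include h₁' in
theorem FF_XB (Ξ : Sys D c) {B' : Over S} (b : (yon S).obj B' ⟶ B.obj) (hb : RepWith @Etale b)
    (β : ∀ i, sp (Ξ.F.obj i) ⟶ pullback (str c.pt) b)
    (hβn : ∀ ⦃i j : I⦄ (φ : i ⟶ j), hm (Ξ.F.map φ) ≫ β j = β i)
    (hβ : ∀ i, β i ≫ pullback.fst (str c.pt) b = hm (Ξ.α.app i) ≫ hm (c.ι.app i)) :
    ∃ n : sp Ξ.K ⟶ pullback (str c.pt) b, n ≫ pullback.fst (str c.pt) b = hm Ξ.k ∧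
      ∀ i, hm (Ξ.ι.app i) ≫ n = β i :=
  (FF h₁' Ξ (XBo b) (x₁o b) (isEtaleMor_XB_fst b hb) β hβn hβ).exists

include h₁' h₂ in
theorem uniq_core (Ξ Ξ' : Sys D c) (H : SysHom Ξ' Ξ) (T : Over B) (f f' : sp Ξ.K ⟶ sp T)
    (hf : f ≫ str T = str Ξ.K) (hf' : f' ≫ str T = str Ξ.K)
    (h : ∀ i, hm (Ξ.ι.app i) ≫ f = hm (Ξ.ι.app i) ≫ f') (C : Chart T)
    (q : sp Ξ'.K ⟶ (yon S).obj C.W') (hpq : H.m ≫ f = q ≫ C.w)
    (UF' : Over B) (p' : sp UF' ⟶ sp Ξ.K) (q' : sp UF' ⟶ (yon S).obj C.W')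
    (sq' : IsPullback p' q' f' C.w) (hp' : IsEtaleMor p') (hstr' : p' ≫ str Ξ.K = str UF') :
    H.m ≫ f = H.m ≫ f' := by
  have hpq' : p' ≫ f' = q' ≫ C.w := sq'.w
  let uF' : UF' ⟶ c.pt := mkHom (p' ≫ hm Ξ.k) (by rw [Category.assoc, hm_str, hstr'])
  have huF'e : hm uF' = p' ≫ hm Ξ.k := rfl
  have huF' : IsEtaleMor (hm uF') := Colim7.isEtaleMor_comp hp' Ξ.hk
  have hst : ∀ i, H.t i ≫ hm (Ξ.ι.app i) = hm (Ξ'.ι.app i) ≫ H.m := H.ht_ι
  -- step 1: the comparison map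
  have hβc : ∀ i, (hm (Ξ'.ι.app i) ≫ H.m) ≫ f' = (hm (Ξ'.ι.app i) ≫ q) ≫ C.w := by
    intro i
    rw [← hst i, Category.assoc, ← h i, ← Category.assoc, hst i, Category.assoc, hpq,
      Category.assoc]
  let β : ∀ i, sp (Ξ'.F.obj i) ⟶ sp UF' := fun i =>
    sq'.lift (hm (Ξ'.ι.app i) ≫ H.m) (hm (Ξ'.ι.app i) ≫ q) (hβc i)
  have hβ1 : ∀ i, β i ≫ p' = hm (Ξ'.ι.app i) ≫ H.m := fun i => sq'.lift_fst _ _ _
  have hβ2 : ∀ i, β i ≫ q' = hm (Ξ'.ι.app i) ≫ q := fun i => sq'.lift_snd _ _ _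
  have hβn : ∀ ⦃i j : I⦄ (φ : i ⟶ j), hm (Ξ'.F.map φ) ≫ β j = β i := by
    intro i j φ
    apply sq'.hom_ext
    · rw [Category.assoc, hβ1, ← Category.assoc, Ξ'.ι_w, hβ1]
    · rw [Category.assoc, hβ2, ← Category.assoc, Ξ'.ι_w, hβ2]
  have hβ : ∀ i, β i ≫ hm uF' = hm (Ξ'.α.app i) ≫ hm (c.ι.app i) := by
    intro i
    rw [huF'e, ← Category.assoc, hβ1, ← hst i, Category.assoc, (Ξ.sq i).w, ← Category.assoc,
      H.ht_α i]
  obtain ⟨m, ⟨hm1, hm2⟩, -⟩ := FF h₁' Ξ' UF' uF' huF' β hβn hβ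
  rw [huF'e] at hm1
  -- step 2
  have hmp : m ≫ p' = H.m := by
    refine FF_ext h₁' Ξ' Ξ.K Ξ.k Ξ.hk (m ≫ p') H.m ?_ H.hmk (fun i => ?_)
    · rw [Category.assoc]; exact hm1
    · rw [← Category.assoc, hm2, hβ1]
  -- step 3
  have hnc : (H.m ≫ hm Ξ.k) ≫ str c.pt = (q ≫ (yon S).map C.z) ≫ C.b := by
    rw [Category.assoc, hm_str, ← hf, ← Category.assoc, hpq, Category.assoc, C.hz,
      Category.assoc]
  have hnc' : (H.m ≫ hm Ξ.k) ≫ str c.pt = (m ≫ q' ≫ (yon S).map C.z) ≫ C.b := by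
    rw [Category.assoc, hm_str, ← hmp, Category.assoc, ← hf', ← Category.assoc p', hpq',
      Category.assoc, C.hz]
    simp only [Category.assoc]
  let n : sp Ξ'.K ⟶ pullback (str c.pt) C.b :=
    pullback.lift (H.m ≫ hm Ξ.k) (q ≫ (yon S).map C.z) hnc
  let n' : sp Ξ'.K ⟶ pullback (str c.pt) C.b :=
    pullback.lift (H.m ≫ hm Ξ.k) (m ≫ q' ≫ (yon S).map C.z) hnc'
  have hn1 : n ≫ pullback.fst (str c.pt) C.b = hm Ξ'.k :=
    (pullback.lift_fst _ _ _).trans H.hmk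
  have hn2 : n ≫ pullback.snd (str c.pt) C.b = q ≫ (yon S).map C.z := pullback.lift_snd _ _ _
  have hn1' : n' ≫ pullback.fst (str c.pt) C.b = hm Ξ'.k :=
    (pullback.lift_fst _ _ _).trans H.hmk
  have hn2' : n' ≫ pullback.snd (str c.pt) C.b = m ≫ q' ≫ (yon S).map C.z :=
    pullback.lift_snd _ _ _
  have hnn : n = n' := by
    refine FF_ext_XB h₁' Ξ' C.b C.hb n n' hn1 hn1' (fun i => ?_)
    apply pullback.hom_ext
    · rw [Category.assoc, hn1, Category.assoc, hn1']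
    · rw [Category.assoc, hn2, Category.assoc, hn2', ← Category.assoc _ m, hm2,
        ← Category.assoc (β i), hβ2, Category.assoc]
  -- step 4
  obtain ⟨g, -, hguniq⟩ := H2K h₂ Ξ' C.hB' C.b C.hb n hn1 C.hW' C.z
    (fun i => hm (Ξ'.ι.app i) ≫ q)
    (fun i j φ => by rw [← Category.assoc, Ξ'.ι_w])
    (fun i => by rw [hn2, Category.assoc])
  have hq1 : q = g := hguniq q ⟨hn2.symm, fun i => rfl⟩
  have hq2 : m ≫ q' = g := hguniq (m ≫ q') ⟨by rw [hnn, hn2', Category.assoc], fun i => by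
    rw [← Category.assoc, hm2, hβ2]⟩
  have hqq : q = m ≫ q' := hq1.trans hq2.symm
  -- step 5
  calc H.m ≫ f = q ≫ C.w := hpq
    _ = m ≫ q' ≫ C.w := by rw [hqq, Category.assoc]
    _ = m ≫ p' ≫ f' := by rw [hpq']
    _ = H.m ≫ f' := by rw [← Category.assoc, hmp]

include h₁' h₂ in
theorem uniq_chart (Ξ : Sys D c) (T : Over B) (f f' : sp Ξ.K ⟶ sp T)
    (hf : f ≫ str T = str Ξ.K) (hf' : f' ≫ str T = str Ξ.K)
    (h : ∀ i, hm (Ξ.ι.app i) ≫ f = hm (Ξ.ι.app i) ≫ f') (C : Chart T) :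
    pullback.fst f C.w ≫ f = pullback.fst f C.w ≫ f' := by
  have hUF : IsAlgSpace (pullback f C.w) :=
    isAlgSpace_of_isPullback' (isAlgSpace_sp T) (isAlgSpace_sp Ξ.K) (IsAlgSpace.yon_obj _)
      (IsPullback.of_hasPullback _ _)
  have hUF' : IsAlgSpace (pullback f' C.w) :=
    isAlgSpace_of_isPullback' (isAlgSpace_sp T) (isAlgSpace_sp Ξ.K) (IsAlgSpace.yon_obj _)
      (IsPullback.of_hasPullback _ _)
  have hwe : IsEtaleMor C.w := isEtaleMor_of_repWith_etale C.hw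
  have hp : IsEtaleMor (pullback.fst f C.w) :=
    Groth.Agent.Lib.Helper3.isEtaleMor_of_isPullback (IsAlgSpace.yon_obj _) (isAlgSpace_sp T)
      (isAlgSpace_sp Ξ.K) hUF C.w f (pullback.snd f C.w) (pullback.fst f C.w)
      (IsPullback.of_hasPullback f C.w).flip hwe
  have hp' : IsEtaleMor (pullback.fst f' C.w) :=
    Groth.Agent.Lib.Helper3.isEtaleMor_of_isPullback (IsAlgSpace.yon_obj _) (isAlgSpace_sp T)
      (isAlgSpace_sp Ξ.K) hUF' C.w f' (pullback.snd f' C.w) (pullback.fst f' C.w)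
      (IsPullback.of_hasPullback f' C.w).flip hwe
  exact uniq_core h₁' h₂ Ξ
    (Ξ.pull (N := mkObj (pullback f C.w) hUF (pullback.fst f C.w ≫ str Ξ.K))
      (pullback.fst f C.w) rfl hp)
    (Ξ.pullHom (N := mkObj (pullback f C.w) hUF (pullback.fst f C.w ≫ str Ξ.K))
      (pullback.fst f C.w) rfl hp)
    T f f' hf hf' h C (pullback.snd f C.w) pullback.condition
    (mkObj (pullback f' C.w) hUF' (pullback.fst f' C.w ≫ str Ξ.K))
    (pullback.fst f' C.w) (pullback.snd f' C.w) (IsPullback.of_hasPullback f' C.w) hp' rfl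

include h₁' h₂ in
/-- Maps from an etale `K` over `c.pt` to an algebraic space over `B` are determined by their
restrictions to the diagram. -/
theorem uniq_local (Ξ : Sys D c) (T : Over B) (f f' : sp Ξ.K ⟶ sp T)
    (hf : f ≫ str T = str Ξ.K) (hf' : f' ≫ str T = str Ξ.K)
    (h : ∀ i, hm (Ξ.ι.app i) ≫ f = hm (Ξ.ι.app i) ≫ f') : f = f' := by
  obtain ⟨κ, C, hC⟩ := exists_charts T
  have hLS : LocSurj (fun k => (yon S).obj (C k).W') (fun k => (C k).w) :=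
    locSurj_of_etale_surjective (isAlgSpace_sp T) (fun k => IsAlgSpace.yon_obj _)
      (fun k => isEtaleMor_of_repWith_etale (C k).hw) (fun x => by
        obtain ⟨k, hk⟩ := hC x
        exact ⟨k, by rw [range_map_eq_range_ofPt]; exact hk⟩)
  have hLS' := hLS.baseChange f (fun k => pullback f (C k).w) (fun k => pullback.fst _ _)
    (fun k => pullback.snd _ _) (fun k => IsPullback.of_hasPullback _ _)
  exact hom_ext_of_locSurj hLS' f f' (fun k => uniq_chart h₁' h₂ Ξ T f f' hf hf' h (C k))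

end Groth.Agent.Lib.Helper15.Colim13
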