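import Groth.Agent.Lib.Helper15.Colim13
import Groth.Agent.Lib.Helper3.SchImRed

set_option autoImplicit false
set_option backward.isDefEq.respectTransparency.types false
universe w v u
open CategoryTheory CategoryTheory.Limits AlgebraicGeometry Opposite
open AlgSp

namespace Groth.Agent.Lib.Helper15.Colim14

open Groth.Agent.Lib.Helper3 Groth.Agent.Lib.Helper15.Colim8 Groth.Agent.Lib.Helper15.Colim9
open Groth.Agent.Lib.Helper15.Colim5 Groth.Agent.Lib.Helper15.Colim10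
open Groth.Agent.Lib.Helper15.Colim11 Groth.Agent.Lib.Helper15.Colim12
open Groth.Agent.Lib.Helper15.Colim13

variable {S : Scheme.{u}} {B : AlgSp.Space S} {I : Type v} [Category.{w} I] {D : I ⥤ Over B}
  {c : Cocone D}
  (h₁ : ∀ (D' : I ⥤ Over B) (α : D' ⟶ D),
    (∀ ⦃i j : I⦄ (g : i ⟶ j), IsPullback (D'.map g).left.hom (α.app i).left.hom
      (α.app j).left.hom (D.map g).left.hom) →
    (∀ i, AlgSp.IsEtaleMor (α.app i).left.hom) →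
      ∃ (c' : Cocone D') (a : c'.pt ⟶ c.pt), AlgSp.IsEtaleMor a.left.hom ∧
        ∀ i, IsPullback (c'.ι.app i).left.hom (α.app i).left.hom a.left.hom
          (c.ι.app i).left.hom)
  (h₁' : ∀ (U U' : Over B) (u : U ⟶ c.pt) (u' : U' ⟶ c.pt), AlgSp.IsEtaleMor u.left.hom →
    AlgSp.IsEtaleMor u'.left.hom →
    ∀ (DU DU' : I ⥤ Over B) (αU : DU ⟶ D) (αU' : DU' ⟶ D) (ιU : DU ⟶ (Functor.const I).obj U)
      (ιU' : DU' ⟶ (Functor.const I).obj U'),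
      (∀ i, IsPullback (ιU.app i).left.hom (αU.app i).left.hom u.left.hom (c.ι.app i).left.hom) →
      (∀ i, IsPullback (ιU'.app i).left.hom (αU'.app i).left.hom u'.left.hom
        (c.ι.app i).left.hom) →
      ∀ (β : DU ⟶ DU'), β ≫ αU' = αU →
        ∃! m : U ⟶ U', m ≫ u' = u ∧ ∀ i, ιU.app i ≫ m = β.app i ≫ ιU'.app i)
  (h₂ : ∀ (B' Zs Us : Over S) (b : (AlgSp.yon S).obj B' ⟶ B.obj) (z : Zs ⟶ B') {XB : AlgSp.Space S}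
    (x₁ : XB ⟶ c.pt.left) (x₂ : XB.obj ⟶ (AlgSp.yon S).obj B') (uu : (AlgSp.yon S).obj Us ⟶ XB.obj)
    (DU : I ⥤ AlgSp.Space S) (αU : DU ⟶ D ⋙ Over.forget B)
    (ιU : DU ⟶ (Functor.const I).obj ((AlgSp.ofScheme S).obj Us))
    (φ : DU ⟶ (Functor.const I).obj ((AlgSp.ofScheme S).obj Zs)),
    IsAffine B'.left → IsAffine Zs.left → IsAffine Us.left → AlgSp.RepWith @Etale b →
    IsPullback x₁.hom x₂ c.pt.hom.hom b → AlgSp.RepWith @Etale uu →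
    (∀ i, IsPullback (ιU.app i).hom (αU.app i).hom (uu ≫ x₁.hom) (c.ι.app i).left.hom) →
    (∀ i, (φ.app i).hom ≫ (AlgSp.yon S).map z = (ιU.app i).hom ≫ uu ≫ x₂) →
      ∃! fz : Us ⟶ Zs, (AlgSp.yon S).map fz ≫ (AlgSp.yon S).map z = uu ≫ x₂ ∧
        ∀ i, (ιU.app i).hom ≫ (AlgSp.yon S).map fz = (φ.app i).hom)

omit [Category.{w} I] in
theorem cocone_str [Category.{w} I] {D : I ⥤ Over B} (c : Cocone D) (i : I) :
    hm (c.ι.app i) ≫ str c.pt = str (D.obj i) := hm_str (c.ι.app i)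

include h₁' h₂ in
theorem exists_core (Ξ' : Sys D c) (T : Over B) (C : Chart T)
    (σ : ∀ i, sp (D.obj i) ⟶ sp T) (hσt : ∀ i, σ i ≫ str T = str (D.obj i))
    (r : ∀ i, sp (Ξ'.F.obj i) ⟶ (yon S).obj C.W')
    (hrn : ∀ ⦃i j : I⦄ (φ : i ⟶ j), hm (Ξ'.F.map φ) ≫ r j = r i)
    (hr : ∀ i, hm (Ξ'.α.app i) ≫ σ i = r i ≫ C.w) :
    ∃ ψ : sp Ξ'.K ⟶ sp T, ψ ≫ str T = str Ξ'.K ∧
      ∀ i, hm (Ξ'.ι.app i) ≫ ψ = hm (Ξ'.α.app i) ≫ σ i := by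
  have hβc : ∀ i, (hm (Ξ'.α.app i) ≫ hm (c.ι.app i)) ≫ str c.pt =
      (r i ≫ (yon S).map C.z) ≫ C.b := by
    intro i
    rw [Category.assoc, cocone_str, Category.assoc, ← C.hz, ← Category.assoc, ← hr i,
      Category.assoc, hσt]
  let β : ∀ i, sp (Ξ'.F.obj i) ⟶ pullback (str c.pt) C.b := fun i =>
    pullback.lift (hm (Ξ'.α.app i) ≫ hm (c.ι.app i)) (r i ≫ (yon S).map C.z) (hβc i)
  have hβ1 : ∀ i, β i ≫ pullback.fst (str c.pt) C.b = hm (Ξ'.α.app i) ≫ hm (c.ι.app i) :=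
    fun i => pullback.lift_fst _ _ _
  have hβ2 : ∀ i, β i ≫ pullback.snd (str c.pt) C.b = r i ≫ (yon S).map C.z :=
    fun i => pullback.lift_snd _ _ _
  have hβn : ∀ ⦃i j : I⦄ (φ : i ⟶ j), hm (Ξ'.F.map φ) ≫ β j = β i := by
    intro i j φ
    apply pullback.hom_ext
    · rw [Category.assoc, hβ1, hβ1, ← Category.assoc, Ξ'.α_w φ, Category.assoc, cocone_w]
    · rw [Category.assoc, hβ2, hβ2, ← Category.assoc, hrn φ]
  obtain ⟨n, hn1, hn2⟩ := FF_XB h₁' Ξ' C.b C.hb β hβn hβ1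
  obtain ⟨g, ⟨hg1, hg2⟩, -⟩ := H2K h₂ Ξ' C.hB' C.b C.hb n hn1 C.hW' C.z r hrn
    (fun i => by rw [← Category.assoc, hn2, hβ2])
  refine ⟨g ≫ C.w, ?_, fun i => ?_⟩
  · rw [Category.assoc, C.hz, ← Category.assoc, hg1, Category.assoc, ← pullback.condition,
      ← Category.assoc, hn1, hm_str]
  · rw [← Category.assoc, hg2, hr]

include h₁ h₁' h₂ in
theorem exists_local (T : Over B) (σ : ∀ i, sp (D.obj i) ⟶ sp T)
    (hσ : ∀ ⦃i j : I⦄ (φ : i ⟶ j), hm (D.map φ) ≫ σ j = σ i)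
    (hσt : ∀ i, σ i ≫ str T = str (D.obj i)) (C : Chart T) :
    ∃ (Ξ' : Sys D c) (ψ : sp Ξ'.K ⟶ sp T), ψ ≫ str T = str Ξ'.K ∧
      (∀ i, hm (Ξ'.ι.app i) ≫ ψ = hm (Ξ'.α.app i) ≫ σ i) ∧
      (∀ i (y : Points (sp (D.obj i))), Points.map (σ i) y ∈ Set.range (Points.ofPt C.w) →
        Points.map (hm (c.ι.app i)) y ∈ Set.range (Points.map (hm Ξ'.k))) := by
  have hN : IsAlgSpace ((yon S).obj C.W') := IsAlgSpace.yon_obj _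
  let N : Over B := mkObj ((yon S).obj C.W') hN (C.w ≫ str T)
  have hwe : IsEtaleMor C.w := isEtaleMor_of_repWith_etale C.hw
  let D' : I ⥤ Over B := PBO D (isAlgSpace_sp T) σ hσ (N := N) C.w
  let α : D' ⟶ D := PBOα D (isAlgSpace_sp T) σ hσ (N := N) C.w
  obtain ⟨c', a, hae, hsq⟩ := h₁ D' α (PBO_equifibered D (isAlgSpace_sp T) σ hσ (N := N) C.w)
    (fun i => Groth.Agent.Lib.Helper3.isEtaleMor_of_isPullback hN (isAlgSpace_sp T)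
      (isAlgSpace_sp (D.obj i)) (isAlgSpace_sp (D'.obj i)) C.w (σ i) (pullback.snd (σ i) C.w)
      (pullback.fst (σ i) C.w) (IsPullback.of_hasPullback (σ i) C.w).flip hwe)
  let Ξ' : Sys D c := ⟨c'.pt, a, hae, D', α, c'.ι, hsq⟩
  obtain ⟨ψ, hψ1, hψ2⟩ := exists_core h₁' h₂ Ξ' T C σ hσt (fun i => pullback.snd (σ i) C.w)
    (fun i j φ => hm_PBO_map_snd D (isAlgSpace_sp T) σ hσ (N := N) C.w φ)
    (fun i => pullback.condition)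
  refine ⟨Ξ', ψ, hψ1, hψ2, fun i y hy => ?_⟩
  obtain ⟨w, hw⟩ := hy
  obtain ⟨z, hz1, -⟩ := Points.exists_of_isPullback (IsPullback.of_hasPullback (σ i) C.w) y
    (Points.ofScheme C.W' w) (by rw [← hw, Points.ofPt_eq_map_ofScheme])
  refine ⟨Points.map (hm (c'.ι.app i)) z, ?_⟩
  have e : hm (c'.ι.app i) ≫ hm a = pullback.fst (σ i) C.w ≫ hm (c.ι.app i) := (hsq i).w
  calc Points.map (hm a) (Points.map (hm (c'.ι.app i)) z)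
      = Points.map (hm (c'.ι.app i) ≫ hm a) z := (Points.map_comp _ _ _).symm
    _ = Points.map (pullback.fst (σ i) C.w ≫ hm (c.ι.app i)) z :=
        congrArg (fun f => Points.map f z) e
    _ = Points.map (hm (c.ι.app i)) (Points.map (pullback.fst (σ i) C.w) z) :=
        Points.map_comp _ _ _
    _ = Points.map (hm (c.ι.app i)) y := by rw [hz1]

omit [Category.{w} I] in
theorem app_mem_of_points {X F : Sp S} {W : Set (Points X)} (f : F ⟶ X)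
    (h : ∀ y : Points F, Points.map f y ∈ W) (V : (Over S)ᵒᵖ) (x : F.obj.obj V) :
    f.hom.app V x ∈ (openSubfunctor X W).obj V := by
  induction V using Opposite.rec with
  | op V =>
    have e : f.hom.app (op V) x = (AlgSp.J S).uliftYonedaEquiv.{u+1}
        ((AlgSp.J S).uliftYonedaEquiv.{u+1}.symm x ≫ f) := by
      rw [(AlgSp.J S).uliftYonedaEquiv_comp, Equiv.apply_symm_apply]
    rw [e, mem_openSubfunctor_iff]
    intro t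
    rw [← Points.map_ofPt]
    exact h _

include h₁' in
theorem surj_of_cover {κ : Type u} (Ξs : κ → Sys D c)
    (hcov : ∀ i (y : Points (sp (D.obj i))), ∃ k,
      Points.map (hm (c.ι.app i)) y ∈ Set.range (Points.map (hm (Ξs k).k))) :
    ∀ x : Points (sp c.pt), ∃ k, x ∈ Set.range (Points.map (hm (Ξs k).k)) := by
  let W : Set (Points (sp c.pt)) := ⋃ k, Set.range (Points.map (hm (Ξs k).k))
  have hW : IsOpen W := isOpen_iUnion fun k =>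
    (SchIm.isOpenMap_map_of_isEtaleMor (isAlgSpace_sp (Ξs k).K) (isAlgSpace_sp c.pt)
      (Ξs k).hk).isOpen_range
  have hV : IsAlgSpace (openSub (sp c.pt) W) := isAlgSpace_openSub (isAlgSpace_sp c.pt) W hW
  let U' : Over B := mkObj (openSub (sp c.pt) W) hV (openSubι (sp c.pt) W ≫ str c.pt)
  let u' : U' ⟶ c.pt := mkHom (openSubι (sp c.pt) W) rfl
  have hu' : IsEtaleMor (hm u') := isEtaleMor_of_repWith_etale
    (repWith_mono isOpenImmersion_le_etale (repWith_isOpenImmersion_openSubι (sp c.pt) W hW))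
  let β : ∀ i, sp (D.obj i) ⟶ openSub (sp c.pt) W := fun i =>
    openSubLift (hm (c.ι.app i)) (app_mem_of_points _ (fun y => by
      obtain ⟨k, hk⟩ := hcov i y
      exact Set.mem_iUnion.2 ⟨k, hk⟩))
  have hβι : ∀ i, β i ≫ openSubι (sp c.pt) W = hm (c.ι.app i) := fun i => openSubLift_ι _ _
  obtain ⟨m, ⟨hm1, -⟩, -⟩ : ∃! m : sp c.pt ⟶ openSub (sp c.pt) W,
      m ≫ openSubι (sp c.pt) W = 𝟙 (sp c.pt) ∧ ∀ i, hm (c.ι.app i) ≫ m = β i :=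
    FF h₁' (Sys.id D c) U' u' hu' β
      (fun i j φ => by
        change hm (D.map φ) ≫ β j = β i
        apply (cancel_mono (openSubι (sp c.pt) W)).1
        rw [Category.assoc, hβι, hβι]
        exact cocone_w φ)
      (fun i => (hβι i).trans (Category.id_comp (hm (c.ι.app i))).symm)
  intro x
  have h3 : Points.map (openSubι (sp c.pt) W) (Points.map m x) = x := by
    calc Points.map (openSubι (sp c.pt) W) (Points.map m x)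
        = Points.map (m ≫ openSubι (sp c.pt) W) x := (Points.map_comp _ _ _).symm
      _ = Points.map (𝟙 (sp c.pt)) x := congrArg (fun f => Points.map f x) hm1
      _ = x := Points.map_id x
  have h5 : x ∈ W := by
    rw [← range_map_openSubι (sp c.pt) W]
    exact ⟨_, h3⟩
  exact Set.mem_iUnion.1 h5

theorem compat_core (T : Over B) (σ : ∀ i, sp (D.obj i) ⟶ sp T) (Ξ₁ Ξ₂ : Sys D c)
    (ψ₁ : sp Ξ₁.K ⟶ sp T) (ψ₂ : sp Ξ₂.K ⟶ sp T)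
    (h1 : ∀ i, hm (Ξ₁.ι.app i) ≫ ψ₁ = hm (Ξ₁.α.app i) ≫ σ i)
    (h2 : ∀ i, hm (Ξ₂.ι.app i) ≫ ψ₂ = hm (Ξ₂.α.app i) ≫ σ i)
    (i : I) {Q : Sp S} (e₁ : Q ⟶ sp (Ξ₁.F.obj i)) (g₂ : Q ⟶ sp Ξ₂.K)
    (hg : (e₁ ≫ hm (Ξ₁.ι.app i)) ≫ hm Ξ₁.k = g₂ ≫ hm Ξ₂.k) :
    (e₁ ≫ hm (Ξ₁.ι.app i)) ≫ ψ₁ = g₂ ≫ ψ₂ := by
  have hc : g₂ ≫ hm Ξ₂.k = (e₁ ≫ hm (Ξ₁.α.app i)) ≫ hm (c.ι.app i) := by
    rw [← hg, Category.assoc, (Ξ₁.sq i).w, Category.assoc]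
  have hθ1 : (Ξ₂.sq i).lift g₂ (e₁ ≫ hm (Ξ₁.α.app i)) hc ≫ hm (Ξ₂.ι.app i) = g₂ :=
    (Ξ₂.sq i).lift_fst _ _ _
  have hθ2 : (Ξ₂.sq i).lift g₂ (e₁ ≫ hm (Ξ₁.α.app i)) hc ≫ hm (Ξ₂.α.app i) =
      e₁ ≫ hm (Ξ₁.α.app i) := (Ξ₂.sq i).lift_snd _ _ _
  calc (e₁ ≫ hm (Ξ₁.ι.app i)) ≫ ψ₁ = e₁ ≫ hm (Ξ₁.α.app i) ≫ σ i := by
        rw [Category.assoc, h1]
    _ = ((Ξ₂.sq i).lift g₂ (e₁ ≫ hm (Ξ₁.α.app i)) hc ≫ hm (Ξ₂.α.app i)) ≫ σ i := by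
        rw [hθ2, Category.assoc]
    _ = (Ξ₂.sq i).lift g₂ (e₁ ≫ hm (Ξ₁.α.app i)) hc ≫ hm (Ξ₂.ι.app i) ≫ ψ₂ := by
        rw [Category.assoc, h2]
    _ = g₂ ≫ ψ₂ := by rw [← Category.assoc, hθ1]

include h₁' h₂ in
theorem compat (T : Over B) (σ : ∀ i, sp (D.obj i) ⟶ sp T) (Ξ₁ Ξ₂ : Sys D c)
    (ψ₁ : sp Ξ₁.K ⟶ sp T) (ψ₂ : sp Ξ₂.K ⟶ sp T)
    (hψ₁ : ψ₁ ≫ str T = str Ξ₁.K) (hψ₂ : ψ₂ ≫ str T = str Ξ₂.K)
    (h1 : ∀ i, hm (Ξ₁.ι.app i) ≫ ψ₁ = hm (Ξ₁.α.app i) ≫ σ i)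
    (h2 : ∀ i, hm (Ξ₂.ι.app i) ≫ ψ₂ = hm (Ξ₂.α.app i) ≫ σ i) :
    pullback.fst (hm Ξ₁.k) (hm Ξ₂.k) ≫ ψ₁ = pullback.snd (hm Ξ₁.k) (hm Ξ₂.k) ≫ ψ₂ := by
  have hP : IsAlgSpace (pullback (hm Ξ₁.k) (hm Ξ₂.k)) :=
    isAlgSpace_of_isPullback' (isAlgSpace_sp c.pt) (isAlgSpace_sp Ξ₁.K) (isAlgSpace_sp Ξ₂.K)
      (IsPullback.of_hasPullback _ _)
  have hpr₁e : IsEtaleMor (pullback.fst (hm Ξ₁.k) (hm Ξ₂.k)) :=
    Groth.Agent.Lib.Helper3.isEtaleMor_of_isPullback (isAlgSpace_sp Ξ₂.K) (isAlgSpace_sp c.pt)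
      (isAlgSpace_sp Ξ₁.K) hP (hm Ξ₂.k) (hm Ξ₁.k) (pullback.snd (hm Ξ₁.k) (hm Ξ₂.k))
      (pullback.fst (hm Ξ₁.k) (hm Ξ₂.k)) (IsPullback.of_hasPullback _ _).flip Ξ₂.hk
  have hcondP : pullback.fst (hm Ξ₁.k) (hm Ξ₂.k) ≫ hm Ξ₁.k =
      pullback.snd (hm Ξ₁.k) (hm Ξ₂.k) ≫ hm Ξ₂.k := pullback.condition
  have hf : (pullback.fst (hm Ξ₁.k) (hm Ξ₂.k) ≫ ψ₁) ≫ str T =
      pullback.fst (hm Ξ₁.k) (hm Ξ₂.k) ≫ str Ξ₁.K := by
    rw [Category.assoc, hψ₁]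
  have hf' : (pullback.snd (hm Ξ₁.k) (hm Ξ₂.k) ≫ ψ₂) ≫ str T =
      pullback.fst (hm Ξ₁.k) (hm Ξ₂.k) ≫ str Ξ₁.K := by
    rw [Category.assoc, hψ₂, ← hm_str Ξ₂.k, ← Category.assoc, ← hcondP,
      Category.assoc, hm_str]
  refine uniq_local h₁' h₂
    (Ξ₁.pull (N := mkObj (pullback (hm Ξ₁.k) (hm Ξ₂.k)) hP
      (pullback.fst (hm Ξ₁.k) (hm Ξ₂.k) ≫ str Ξ₁.K)) (pullback.fst (hm Ξ₁.k) (hm Ξ₂.k)) rfl hpr₁e)
    T (pullback.fst (hm Ξ₁.k) (hm Ξ₂.k) ≫ ψ₁) (pullback.snd (hm Ξ₁.k) (hm Ξ₂.k) ≫ ψ₂) hf hf'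
    (fun i => ?_)
  · change pullback.snd (hm (Ξ₁.ι.app i)) (pullback.fst (hm Ξ₁.k) (hm Ξ₂.k)) ≫
        pullback.fst (hm Ξ₁.k) (hm Ξ₂.k) ≫ ψ₁ =
      pullback.snd (hm (Ξ₁.ι.app i)) (pullback.fst (hm Ξ₁.k) (hm Ξ₂.k)) ≫
        pullback.snd (hm Ξ₁.k) (hm Ξ₂.k) ≫ ψ₂
    have hcond : pullback.fst (hm (Ξ₁.ι.app i)) (pullback.fst (hm Ξ₁.k) (hm Ξ₂.k)) ≫
        hm (Ξ₁.ι.app i) =
      pullback.snd (hm (Ξ₁.ι.app i)) (pullback.fst (hm Ξ₁.k) (hm Ξ₂.k)) ≫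
        pullback.fst (hm Ξ₁.k) (hm Ξ₂.k) := pullback.condition
    calc pullback.snd (hm (Ξ₁.ι.app i)) (pullback.fst (hm Ξ₁.k) (hm Ξ₂.k)) ≫
          pullback.fst (hm Ξ₁.k) (hm Ξ₂.k) ≫ ψ₁
        = (pullback.fst (hm (Ξ₁.ι.app i)) (pullback.fst (hm Ξ₁.k) (hm Ξ₂.k)) ≫
            hm (Ξ₁.ι.app i)) ≫ ψ₁ := by rw [hcond, Category.assoc]
      _ = (pullback.snd (hm (Ξ₁.ι.app i)) (pullback.fst (hm Ξ₁.k) (hm Ξ₂.k)) ≫
            pullback.snd (hm Ξ₁.k) (hm Ξ₂.k)) ≫ ψ₂ :=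
          compat_core T σ Ξ₁ Ξ₂ ψ₁ ψ₂ h1 h2 i _ _ (by
            rw [hcond, Category.assoc, Category.assoc, hcondP])
      _ = _ := Category.assoc _ _ _

include h₁ h₁' h₂ in
theorem exists_desc (T : Over B) (σ : ∀ i, sp (D.obj i) ⟶ sp T)
    (hσ : ∀ ⦃i j : I⦄ (φ : i ⟶ j), hm (D.map φ) ≫ σ j = σ i)
    (hσt : ∀ i, σ i ≫ str T = str (D.obj i)) :
    ∃ Ψ : sp c.pt ⟶ sp T, Ψ ≫ str T = str c.pt ∧ ∀ i, hm (c.ι.app i) ≫ Ψ = σ i := by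
  obtain ⟨κ, C, hC⟩ := exists_charts T
  choose Ξs ψ hψt hψσ hpt using fun k => exists_local h₁ h₁' h₂ T σ hσ hσt (C k)
  have hcov : ∀ x : Points (sp c.pt), ∃ k, x ∈ Set.range (Points.map (hm (Ξs k).k)) :=
    surj_of_cover h₁' Ξs (fun i y => by
      obtain ⟨k, hk⟩ := hC (Points.map (σ i) y)
      exact ⟨k, hpt k i y hk⟩)
  have hls : LocSurj (fun k => sp (Ξs k).K) (fun k => hm (Ξs k).k) :=
    locSurj_of_etale_surjective (isAlgSpace_sp c.pt) (fun k => isAlgSpace_sp (Ξs k).K)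
      (fun k => (Ξs k).hk) hcov
  obtain ⟨Ψ, hΨ⟩ := exists_glue' hls ψ (fun k l T' g₁ g₂ hg => by
    calc g₁ ≫ ψ k = (pullback.lift g₁ g₂ hg ≫ pullback.fst (hm (Ξs k).k) (hm (Ξs l).k)) ≫ ψ k := by
          rw [pullback.lift_fst]
      _ = pullback.lift g₁ g₂ hg ≫ pullback.snd (hm (Ξs k).k) (hm (Ξs l).k) ≫ ψ l := by
          rw [Category.assoc, compat h₁' h₂ T σ (Ξs k) (Ξs l) (ψ k) (ψ l) (hψt k) (hψt l)
            (hψσ k) (hψσ l)]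
      _ = g₂ ≫ ψ l := by rw [← Category.assoc, pullback.lift_snd])
  refine ⟨Ψ, ?_, fun i => ?_⟩
  · refine hom_ext_of_locSurj hls _ _ (fun k => ?_)
    rw [← Category.assoc, hΨ k, hψt k]
    exact (hm_str (Ξs k).k).symm
  · have hls' : LocSurj (fun k => sp ((Ξs k).F.obj i)) (fun k => hm ((Ξs k).α.app i)) :=
      hls.baseChange (hm (c.ι.app i)) _ _ (fun k => hm ((Ξs k).ι.app i))
        (fun k => ((Ξs k).sq i).flip)
    refine hom_ext_of_locSurj hls' _ _ (fun k => ?_)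
    calc hm ((Ξs k).α.app i) ≫ hm (c.ι.app i) ≫ Ψ
        = hm ((Ξs k).ι.app i) ≫ hm (Ξs k).k ≫ Ψ := by
          rw [← Category.assoc, ← ((Ξs k).sq i).w, Category.assoc]
      _ = hm ((Ξs k).ι.app i) ≫ ψ k := by rw [hΨ k]
      _ = hm ((Ξs k).α.app i) ≫ σ i := hψσ k i

include h₁ h₁' h₂ in
theorem main : Nonempty (IsColimit c) := by
  have hex : ∀ s : Cocone D, ∃ Ψ : sp c.pt ⟶ sp s.pt,
      Ψ ≫ str s.pt = str c.pt ∧ ∀ i, hm (c.ι.app i) ≫ Ψ = hm (s.ι.app i) := by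
    intro s
    exact exists_desc h₁ h₁' h₂ s.pt (fun i => hm (s.ι.app i)) (fun i j φ => cocone_w (c := s) φ)
      (fun i => cocone_str s i)
  refine ⟨{ desc := fun s => mkHom (hex s).choose (hex s).choose_spec.1
            fac := fun s i => hom_ext' ((hex s).choose_spec.2 i)
            uniq := fun s m hm' => ?_ }⟩
  apply hom_ext'
  refine uniq_local h₁' h₂ (Sys.id D c) s.pt (hm m) (hex s).choose (hm_str m)
    (hex s).choose_spec.1 (fun i => ?_)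
  have := congrArg hm (hm' i)
  exact this.trans ((hex s).choose_spec.2 i).symm

end Groth.Agent.Lib.Helper15.Colim14
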