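import Mathlib
import Groth.Prelude.Def_AlgSp4
import Groth.Agent.Lib.Helper3.AlgSpChartPts

set_option autoImplicit false
set_option backward.isDefEq.respectTransparency.types false
universe w v u
open CategoryTheory CategoryTheory.Limits AlgebraicGeometry Opposite
open AlgSp

namespace Groth.Agent.Lib.Helper15.Colim2

open Groth.Agent.Lib.Helper3

variable {S : Scheme.{u}} {I : Type v} [Category.{w} I]

/-- Uniqueness: a colimit of schemes is an epimorphic family towards algebraic spaces. -/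
theorem hom_ext_of_isColimit {D : I ⥤ Over S} (c : Cocone D)
    (h₁ : IsColimit ((Over.forget S).mapCocone c)) {X : Sp S} (hX : IsAlgSpace X)
    (g₁ g₂ : (yon S).obj c.pt ⟶ X)
    (h : ∀ i, (yon S).map (c.ι.app i) ≫ g₁ = (yon S).map (c.ι.app i) ≫ g₂) : g₁ = g₂ := by
  have hc : IsColimit c := isColimitOfReflects (Over.forget S) h₁
  obtain ⟨E, p₁, p₂, sq⟩ := exists_pullback_charts g₁ (hX.representable_from_yon g₁) g₂
  -- lifts of the coprojections
  let ℓ : ∀ i, D.obj i ⟶ E := fun i =>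
    (yon S).preimage (sq.lift ((yon S).map (c.ι.app i)) ((yon S).map (c.ι.app i)) (h i))
  have hℓ1 : ∀ i, ℓ i ≫ p₁ = c.ι.app i := fun i => (yon S).map_injective (by
    rw [Functor.map_comp, Functor.map_preimage, sq.lift_fst])
  have hℓ2 : ∀ i, ℓ i ≫ p₂ = c.ι.app i := fun i => (yon S).map_injective (by
    rw [Functor.map_comp, Functor.map_preimage, sq.lift_snd])
  have hext : ∀ {T : Over S} (x y : T ⟶ E), x ≫ p₁ = y ≫ p₁ → x ≫ p₂ = y ≫ p₂ → x = y := by
    intro T x y e1 e2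
    apply (yon S).map_injective
    apply sq.hom_ext
    · rw [← Functor.map_comp, ← Functor.map_comp, e1]
    · rw [← Functor.map_comp, ← Functor.map_comp, e2]
  let s : Cocone D :=
    { pt := E
      ι := { app := ℓ
             naturality := fun i j φ => by
               have := c.ι.naturality φ
               simp only [Functor.const_obj_obj, Functor.const_obj_map, Category.comp_id] at this ⊢
               apply hext
               · rw [Category.assoc, hℓ1, hℓ1, this]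
               · rw [Category.assoc, hℓ2, hℓ2, this] } }
  let d : c.pt ⟶ E := hc.desc s
  have hd : ∀ i, c.ι.app i ≫ d = ℓ i := fun i => hc.fac s i
  have hd1 : d ≫ p₁ = 𝟙 _ := hc.hom_ext (fun i => by
    rw [← Category.assoc, hd, hℓ1, Category.comp_id])
  have hd2 : d ≫ p₂ = 𝟙 _ := hc.hom_ext (fun i => by
    rw [← Category.assoc, hd, hℓ2, Category.comp_id])
  calc g₁ = (yon S).map (d ≫ p₁) ≫ g₁ := by rw [hd1, CategoryTheory.Functor.map_id, Category.id_comp]
    _ = (yon S).map d ≫ (yon S).map p₁ ≫ g₁ := by rw [Functor.map_comp, Category.assoc]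
    _ = (yon S).map d ≫ (yon S).map p₂ ≫ g₂ := by rw [sq.w]
    _ = (yon S).map (d ≫ p₂) ≫ g₂ := by rw [Functor.map_comp, Category.assoc]
    _ = g₂ := by rw [hd2, CategoryTheory.Functor.map_id, Category.id_comp]

section PB
variable (D : I ⥤ Over S) (c : Cocone D) {A : Over S} (a : A ⟶ c.pt)

/-- The functor `i ↦ D_i ×_{c.pt} A`. -/
noncomputable def PB : I ⥤ Over S where
  obj i := pullback (c.ι.app i) a
  map {i j} φ := pullback.lift (pullback.fst _ _ ≫ D.map φ) (pullback.snd _ _) (by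
    rw [Category.assoc, c.w φ, pullback.condition])
  map_id _ := by
    apply pullback.hom_ext
    · rw [pullback.lift_fst, D.map_id, Category.comp_id, Category.id_comp]
    · rw [pullback.lift_snd, Category.id_comp]
  map_comp φ ψ := by
    apply pullback.hom_ext
    · rw [pullback.lift_fst, Category.assoc, pullback.lift_fst, pullback.lift_fst_assoc,
        D.map_comp, Category.assoc]
    · rw [pullback.lift_snd, Category.assoc, pullback.lift_snd, pullback.lift_snd]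

/-- The projection to `D`. -/
noncomputable def PBα : PB D c a ⟶ D where
  app i := pullback.fst _ _
  naturality _ _ _ := pullback.lift_fst _ _ _

/-- The cocone with point `A`. -/
noncomputable def PBcocone : Cocone (PB D c a) where
  pt := A
  ι :=
    { app := fun i => pullback.snd _ _
      naturality := fun i j φ => by
        change pullback.lift _ _ _ ≫ pullback.snd _ _ = pullback.snd _ _ ≫ 𝟙 _
        rw [pullback.lift_snd, Category.comp_id] }

end PB

section compat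
variable {D : I ⥤ Over S} {c : Cocone D}
  (h₃ : ∀ (D' : I ⥤ Over S) (α : D' ⟶ D) (c' : Cocone D') (a : c'.pt ⟶ c.pt), Etale a.left →
    (∀ i, IsPullback (c'.ι.app i) (α.app i) a (c.ι.app i)) →
      Nonempty (IsColimit ((Over.forget S).mapCocone c')))

include h₃ in
theorem PB_isColimit {A : Over S} (a : A ⟶ c.pt) (ha : Etale a.left) :
    Nonempty (IsColimit ((Over.forget S).mapCocone (PBcocone D c a))) :=
  h₃ (PB D c a) (PBα D c a) (PBcocone D c a) a ha
    (fun i => (IsPullback.of_hasPullback (c.ι.app i) a).flip)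

theorem etale_pullback_fst {A₁ A₂ V : Over S} (a₁ : A₁ ⟶ V) (a₂ : A₂ ⟶ V) (h : Etale a₂.left) :
    Etale (pullback.fst a₁ a₂).left := by
  have sq := (IsPullback.of_hasPullback a₁ a₂).map (Over.forget S)
  exact MorphismProperty.of_isPullback sq.flip h

include h₃ in
/-- Two chart data agree on a common etale refinement. -/
theorem chart_compat_aux {X : Sp S} (hX : IsAlgSpace X) (σ : ∀ i, (yon S).obj (D.obj i) ⟶ X)
    {A₁ A₂ : Over S} (a₁ : A₁ ⟶ c.pt) (a₂ : A₂ ⟶ c.pt)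
    (ψ₁ : (yon S).obj A₁ ⟶ X) (ψ₂ : (yon S).obj A₂ ⟶ X)
    (hψ₁ : ∀ i, (yon S).map (pullback.snd (c.ι.app i) a₁) ≫ ψ₁ =
      (yon S).map (pullback.fst (c.ι.app i) a₁) ≫ σ i)
    (hψ₂ : ∀ i, (yon S).map (pullback.snd (c.ι.app i) a₂) ≫ ψ₂ =
      (yon S).map (pullback.fst (c.ι.app i) a₂) ≫ σ i)
    {A₁₂ : Over S} (pr₁ : A₁₂ ⟶ A₁) (pr₂ : A₁₂ ⟶ A₂) (a₁₂ : A₁₂ ⟶ c.pt)
    (h1 : pr₁ ≫ a₁ = a₁₂) (h2 : pr₂ ≫ a₂ = a₁₂) (he : Etale a₁₂.left) :
    (yon S).map pr₁ ≫ ψ₁ = (yon S).map pr₂ ≫ ψ₂ := by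
  obtain ⟨hcol⟩ := PB_isColimit h₃ a₁₂ he
  refine hom_ext_of_isColimit (PBcocone D c a₁₂) hcol hX _ _ fun i => ?_
  change (yon S).map (pullback.snd (c.ι.app i) a₁₂) ≫ _ =
    (yon S).map (pullback.snd (c.ι.app i) a₁₂) ≫ _
  have c1 : pullback.fst (c.ι.app i) a₁₂ ≫ c.ι.app i = (pullback.snd (c.ι.app i) a₁₂ ≫ pr₁) ≫ a₁ := by
    rw [Category.assoc, h1, pullback.condition]
  have c2 : pullback.fst (c.ι.app i) a₁₂ ≫ c.ι.app i = (pullback.snd (c.ι.app i) a₁₂ ≫ pr₂) ≫ a₂ := by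
    rw [Category.assoc, h2, pullback.condition]
  have e1 : (yon S).map (pullback.snd (c.ι.app i) a₁₂) ≫ (yon S).map pr₁ ≫ ψ₁ =
      (yon S).map (pullback.fst (c.ι.app i) a₁₂) ≫ σ i := by
    rw [← Category.assoc, ← Functor.map_comp, ← pullback.lift_snd (f := c.ι.app i) (g := a₁)
      (pullback.fst _ _) (pullback.snd _ _ ≫ pr₁) c1, Functor.map_comp, Category.assoc, hψ₁ i,
      ← Category.assoc, ← Functor.map_comp, pullback.lift_fst]
  have e2 : (yon S).map (pullback.snd (c.ι.app i) a₁₂) ≫ (yon S).map pr₂ ≫ ψ₂ =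
      (yon S).map (pullback.fst (c.ι.app i) a₁₂) ≫ σ i := by
    rw [← Category.assoc, ← Functor.map_comp, ← pullback.lift_snd (f := c.ι.app i) (g := a₂)
      (pullback.fst _ _) (pullback.snd _ _ ≫ pr₂) c2, Functor.map_comp, Category.assoc, hψ₂ i,
      ← Category.assoc, ← Functor.map_comp, pullback.lift_fst]
  rw [e1, e2]

include h₃ in
/-- Two chart data agree on overlaps. -/
theorem chart_compat {X : Sp S} (hX : IsAlgSpace X) (σ : ∀ i, (yon S).obj (D.obj i) ⟶ X)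
    {A₁ A₂ : Over S} (a₁ : A₁ ⟶ c.pt) (a₂ : A₂ ⟶ c.pt) (he₁ : Etale a₁.left)
    (he₂ : Etale a₂.left) (ψ₁ : (yon S).obj A₁ ⟶ X) (ψ₂ : (yon S).obj A₂ ⟶ X)
    (hψ₁ : ∀ i, (yon S).map (pullback.snd (c.ι.app i) a₁) ≫ ψ₁ =
      (yon S).map (pullback.fst (c.ι.app i) a₁) ≫ σ i)
    (hψ₂ : ∀ i, (yon S).map (pullback.snd (c.ι.app i) a₂) ≫ ψ₂ =
      (yon S).map (pullback.fst (c.ι.app i) a₂) ≫ σ i)
    {Z : Over S} (g₁ : Z ⟶ A₁) (g₂ : Z ⟶ A₂) (hg : g₁ ≫ a₁ = g₂ ≫ a₂) :
    (yon S).map g₁ ≫ ψ₁ = (yon S).map g₂ ≫ ψ₂ := by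
  have he₁₂ : Etale (pullback.fst a₁ a₂ ≫ a₁).left := by
    haveI := etale_pullback_fst a₁ a₂ he₂
    rw [Over.comp_left]
    infer_instance
  have key := chart_compat_aux h₃ hX σ a₁ a₂ ψ₁ ψ₂ hψ₁ hψ₂ (pullback.fst a₁ a₂)
    (pullback.snd a₁ a₂) (pullback.fst a₁ a₂ ≫ a₁) rfl pullback.condition.symm he₁₂
  have hℓ1 : pullback.lift g₁ g₂ hg ≫ pullback.fst a₁ a₂ = g₁ := pullback.lift_fst _ _ _
  have hℓ2 : pullback.lift g₁ g₂ hg ≫ pullback.snd a₁ a₂ = g₂ := pullback.lift_snd _ _ _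
  calc (yon S).map g₁ ≫ ψ₁ = (yon S).map (pullback.lift g₁ g₂ hg ≫ pullback.fst a₁ a₂) ≫ ψ₁ := by
        rw [hℓ1]
    _ = (yon S).map (pullback.lift g₁ g₂ hg) ≫ (yon S).map (pullback.fst a₁ a₂) ≫ ψ₁ := by
        rw [Functor.map_comp, Category.assoc]
    _ = (yon S).map (pullback.lift g₁ g₂ hg) ≫ (yon S).map (pullback.snd a₁ a₂) ≫ ψ₂ := by
        rw [key]
    _ = (yon S).map (pullback.lift g₁ g₂ hg ≫ pullback.snd a₁ a₂) ≫ ψ₂ := by
        rw [Functor.map_comp, Category.assoc]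
    _ = (yon S).map g₂ ≫ ψ₂ := by rw [hℓ2]

end compat

end Groth.Agent.Lib.Helper15.Colim2
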