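import Groth.Agent.Lib.Helper15.Colim2

set_option autoImplicit false
set_option backward.isDefEq.respectTransparency.types false
universe w v u
open CategoryTheory CategoryTheory.Limits AlgebraicGeometry Opposite
open AlgSp

namespace Groth.Agent.Lib.Helper15.Colim3

open Groth.Agent.Lib.Helper3 Groth.Agent.Lib.Helper15.Colim2

variable {S : Scheme.{u}} {I : Type v} [Category.{w} I]

/-- A chosen representing scheme of `D_i ×_X W`. -/
structure ChartPB {X : Sp S} {Di W : Over S} (σi : (yon S).obj Di ⟶ X) (b : (yon S).obj W ⟶ X) where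
  U : Over S
  pD : U ⟶ Di
  pW : U ⟶ W
  sq : IsPullback ((yon S).map pD) ((yon S).map pW) σi b

theorem nonempty_chartPB {X : Sp S} (hX : IsAlgSpace X) {Di W : Over S}
    (σi : (yon S).obj Di ⟶ X) (b : (yon S).obj W ⟶ X) : Nonempty (ChartPB σi b) := by
  obtain ⟨U, pD, pW, sq⟩ := exists_pullback_charts σi (hX.representable_from_yon σi) b
  exact ⟨⟨U, pD, pW, sq⟩⟩

namespace ChartPB

variable {X : Sp S} {Di W : Over S} {σi : (yon S).obj Di ⟶ X} {b : (yon S).obj W ⟶ X}
  (P : ChartPB σi b)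

theorem hom_ext {T : Over S} (x y : T ⟶ P.U) (h1 : x ≫ P.pD = y ≫ P.pD)
    (h2 : x ≫ P.pW = y ≫ P.pW) : x = y := by
  apply (yon S).map_injective
  apply P.sq.hom_ext
  · rw [← Functor.map_comp, ← Functor.map_comp, h1]
  · rw [← Functor.map_comp, ← Functor.map_comp, h2]

/-- lifting into the chosen pullback -/
noncomputable def lift {T : Over S} (x : T ⟶ Di) (y : T ⟶ W)
    (h : (yon S).map x ≫ σi = (yon S).map y ≫ b) : T ⟶ P.U :=
  (yon S).preimage (P.sq.lift ((yon S).map x) ((yon S).map y) h)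

theorem lift_pD {T : Over S} (x : T ⟶ Di) (y : T ⟶ W)
    (h : (yon S).map x ≫ σi = (yon S).map y ≫ b) : P.lift x y h ≫ P.pD = x :=
  (yon S).map_injective (by
    rw [Functor.map_comp, lift, Functor.map_preimage, P.sq.lift_fst])

theorem lift_pW {T : Over S} (x : T ⟶ Di) (y : T ⟶ W)
    (h : (yon S).map x ≫ σi = (yon S).map y ≫ b) : P.lift x y h ≫ P.pW = y :=
  (yon S).map_injective (by
    rw [Functor.map_comp, lift, Functor.map_preimage, P.sq.lift_snd])

theorem etale_pD (hb : RepWith @Etale b) : Etale P.pD.left :=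
  hb.2 σi ((yon S).map P.pW) P.pD P.sq.flip

theorem isSeparated_pD [IsAffine W.left] : IsSeparated P.pD.left := by
  have hw : P.pD.left ≫ Di.hom = P.pW.left ≫ W.hom := (Over.w P.pD).trans (Over.w P.pW).symm
  let m : P.U.left ⟶ pullback Di.hom W.hom := pullback.lift P.pD.left P.pW.left hw
  have hm : m ≫ pullback.fst Di.hom W.hom = P.pD.left := pullback.lift_fst _ _ _
  have hmono : Mono m := by
    refine ⟨fun {T} x y hxy => ?_⟩
    have e1 : x ≫ P.pD.left = y ≫ P.pD.left := by
      rw [← hm, ← Category.assoc, ← Category.assoc, hxy]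
    have e2 : x ≫ P.pW.left = y ≫ P.pW.left := by
      have hm2 : m ≫ pullback.snd Di.hom W.hom = P.pW.left := pullback.lift_snd _ _ _
      rw [← hm2, ← Category.assoc, ← Category.assoc, hxy]
    have e3 : x ≫ P.U.hom = y ≫ P.U.hom := by
      rw [← Over.w P.pD, ← Category.assoc, ← Category.assoc, e1]
    let x' : Over.mk (x ≫ P.U.hom) ⟶ P.U := Over.homMk x rfl
    let y' : Over.mk (x ≫ P.U.hom) ⟶ P.U := Over.homMk y e3.symm
    have : x' = y' := by
      apply P.hom_ext
      · ext
        exact e1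
      · ext
        exact e2
    exact congrArg (fun k => k.left) this
  haveI : IsSeparated W.hom := inferInstance
  rw [← hm]
  infer_instance

end ChartPB

section functor
variable {D : I ⥤ Over S} {X : Sp S} (σ : ∀ i, (yon S).obj (D.obj i) ⟶ X)
  (hσ : ∀ ⦃i j : I⦄ (φ : i ⟶ j), (yon S).map (D.map φ) ≫ σ j = σ i)
  {W : Over S} {b : (yon S).obj W ⟶ X} (P : ∀ i, ChartPB (σ i) b)

include hσ in
theorem map_aux ⦃i j : I⦄ (φ : i ⟶ j) :
    (yon S).map ((P i).pD ≫ D.map φ) ≫ σ j = (yon S).map (P i).pW ≫ b := by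
  rw [Functor.map_comp, Category.assoc, hσ φ, (P i).sq.w]

/-- The functor `i ↦ D_i ×_X W`. -/
noncomputable def chartFunctor : I ⥤ Over S where
  obj i := (P i).U
  map {i j} φ := (P j).lift ((P i).pD ≫ D.map φ) (P i).pW (map_aux σ hσ P φ)
  map_id i := by
    apply (P i).hom_ext
    · rw [ChartPB.lift_pD, D.map_id, Category.comp_id, Category.id_comp]
    · rw [ChartPB.lift_pW, Category.id_comp]
  map_comp {i j k} φ ψ := by
    apply (P k).hom_ext
    · rw [ChartPB.lift_pD, Category.assoc, ChartPB.lift_pD, ← Category.assoc, ChartPB.lift_pD,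
        D.map_comp, Category.assoc]
    · rw [ChartPB.lift_pW, Category.assoc, ChartPB.lift_pW, ChartPB.lift_pW]

/-- The projection to `D`. -/
noncomputable def chartα : chartFunctor σ hσ P ⟶ D where
  app i := (P i).pD
  naturality _ _ φ := ChartPB.lift_pD _ _ _ _

theorem chartFunctor_map_pW ⦃i j : I⦄ (φ : i ⟶ j) :
    (chartFunctor σ hσ P).map φ ≫ (P j).pW = (P i).pW := ChartPB.lift_pW _ _ _ _

theorem chartα_equifibered : NatTrans.Equifibered (chartα σ hσ P) := by
  intro i j φ
  have comm : (chartFunctor σ hσ P).map φ ≫ (P j).pD = (P i).pD ≫ D.map φ :=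
    ChartPB.lift_pD _ _ _ _
  refine IsPullback.of_map (yon S) comm ?_
  have comm' : (yon S).map ((chartFunctor σ hσ P).map φ) ≫ (yon S).map (P j).pD =
      (yon S).map (P i).pD ≫ (yon S).map (D.map φ) := by
    rw [← Functor.map_comp, ← Functor.map_comp]
    exact congrArg (fun k => (yon S).map k) comm
  have hleft : IsPullback ((yon S).map ((chartFunctor σ hσ P).map φ) ≫ (yon S).map (P j).pW)
      ((yon S).map (P i).pD) b ((yon S).map (D.map φ) ≫ σ j) := by
    rw [← Functor.map_comp, chartFunctor_map_pW, hσ φ]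
    exact (P i).sq.flip
  exact IsPullback.of_right (h₁₂ := (yon S).map (P j).pW) (v₁₃ := b) (h₂₂ := σ j)
    hleft comm' (P j).sq.flip

end functor

section datum
variable {D : I ⥤ Over S} {c : Cocone D}
  (h₃ : ∀ (D' : I ⥤ Over S) (α : D' ⟶ D) (c' : Cocone D') (a : c'.pt ⟶ c.pt), Etale a.left →
    (∀ i, IsPullback (c'.ι.app i) (α.app i) a (c.ι.app i)) →
      Nonempty (IsColimit ((Over.forget S).mapCocone c')))
  (h₄ : ∀ (D' : I ⥤ Over S) (α : D' ⟶ D), NatTrans.Equifibered α → (∀ i, Etale (α.app i).left) →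
    (∀ i, IsSeparated (α.app i).left) →
    ∃ (c' : Cocone D') (a : c'.pt ⟶ c.pt), Etale a.left ∧
      ∀ i, IsPullback (c'.ι.app i) (α.app i) a (c.ι.app i))

include h₃ h₄ in
theorem exists_chart_datum {X : Sp S} (hX : IsAlgSpace X)
    (σ : ∀ i, (yon S).obj (D.obj i) ⟶ X)
    (hσ : ∀ ⦃i j : I⦄ (φ : i ⟶ j), (yon S).map (D.map φ) ≫ σ j = σ i)
    {W : Over S} [IsAffine W.left] (b : (yon S).obj W ⟶ X) (hb : RepWith @Etale b) :
    ∃ (A : Over S) (a : A ⟶ c.pt) (ψ : (yon S).obj A ⟶ X), Etale a.left ∧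
      (∀ i, (yon S).map (pullback.snd (c.ι.app i) a) ≫ ψ =
        (yon S).map (pullback.fst (c.ι.app i) a) ≫ σ i) ∧
      (∀ i (y : ↥(D.obj i).left), Points.ofPt (σ i) y ∈ Set.range (Points.ofPt b) →
        (c.ι.app i).left y ∈ Set.range a.left) := by
  let P : ∀ i, ChartPB (σ i) b := fun i => (nonempty_chartPB hX (σ i) b).some
  obtain ⟨c', a, hae, hsq⟩ := h₄ (chartFunctor σ hσ P) (chartα σ hσ P)
    (chartα_equifibered σ hσ P) (fun i => (P i).etale_pD hb) (fun i => (P i).isSeparated_pD)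
  obtain ⟨hcol'⟩ := h₃ (chartFunctor σ hσ P) (chartα σ hσ P) c' a hae hsq
  have hc' : IsColimit c' := isColimitOfReflects (Over.forget S) hcol'
  let t : Cocone (chartFunctor σ hσ P) :=
    { pt := W
      ι := { app := fun i => (P i).pW
             naturality := fun i j φ => by
               have := chartFunctor_map_pW σ hσ P φ
               simp only [Functor.const_obj_obj, Functor.const_obj_map, Category.comp_id]
               exact this } }
  let g : c'.pt ⟶ W := hc'.desc t
  have hg : ∀ i, c'.ι.app i ≫ g = (P i).pW := fun i => hc'.fac t i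
  refine ⟨c'.pt, a, (yon S).map g ≫ b, hae, fun i => ?_, fun i y hy => ?_⟩
  · let θ : pullback (c.ι.app i) a ⟶ (chartFunctor σ hσ P).obj i :=
      (hsq i).lift (pullback.snd (c.ι.app i) a) (pullback.fst (c.ι.app i) a)
        pullback.condition.symm
    have hθ1 : θ ≫ c'.ι.app i = pullback.snd (c.ι.app i) a := (hsq i).lift_fst _ _ _
    have hθ2 : θ ≫ (P i).pD = pullback.fst (c.ι.app i) a := (hsq i).lift_snd _ _ _
    calc (yon S).map (pullback.snd (c.ι.app i) a) ≫ (yon S).map g ≫ b
        = (yon S).map (θ ≫ c'.ι.app i ≫ g) ≫ b := by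
          rw [← Category.assoc, ← Functor.map_comp, ← hθ1, Category.assoc]
      _ = (yon S).map θ ≫ (yon S).map (P i).pW ≫ b := by
          rw [hg i, Functor.map_comp, Category.assoc]
      _ = (yon S).map θ ≫ (yon S).map (P i).pD ≫ σ i :=
          congrArg (fun k => (yon S).map θ ≫ k) (P i).sq.w.symm
      _ = (yon S).map (pullback.fst (c.ι.app i) a) ≫ σ i := by
          rw [← Category.assoc, ← Functor.map_comp, hθ2]
  · obtain ⟨w, hw⟩ := hy
    obtain ⟨u, hu1, -⟩ := exists_of_ofPt_eq_of_isPullback (P i).sq y w hw.symm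
    refine ⟨(c'.ι.app i).left u, ?_⟩
    have e : c'.ι.app i ≫ a = (P i).pD ≫ c.ι.app i := (hsq i).w
    have e' := congrArg (fun k => k.left) e
    simp only [Over.comp_left] at e'
    rw [← hu1, ← Scheme.Hom.comp_apply, ← Scheme.Hom.comp_apply]
    exact congrArg (fun k : (P i).U.left ⟶ c.pt.left => k u) e'

end datum

end Groth.Agent.Lib.Helper15.Colim3
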