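import Groth.Agent.Lib.Helper15.Colim1
import Groth.Agent.Lib.Helper15.Colim3
import Groth.Agent.Lib.Helper3.AlgSpHasAtMor

set_option autoImplicit false
set_option backward.isDefEq.respectTransparency.types false
universe w v u
open CategoryTheory CategoryTheory.Limits AlgebraicGeometry Opposite
open AlgSp

namespace Groth.Agent.Lib.Helper15.Colim4

open Groth.Agent.Lib.Helper3 Groth.Agent.Lib.Helper15.Colim2 Groth.Agent.Lib.Helper15.Colim3

variable {S : Scheme.{u}} {I : Type v} [Category.{w} I]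

theorem exists_preimage_of_isPullback {P X Y Z : Scheme.{u}} {fst : P ⟶ X} {snd : P ⟶ Y}
    {f : X ⟶ Z} {g : Y ⟶ Z} (sq : IsPullback fst snd f g) (x : ↥X) (y : ↥Y) (h : f x = g y) :
    ∃ z : ↥P, fst z = x ∧ snd z = y := by
  obtain ⟨z, hz1, hz2⟩ := Scheme.Pullback.exists_preimage_pullback x y h
  refine ⟨sq.isoPullback.inv z, ?_, ?_⟩
  · rw [← Scheme.Hom.comp_apply, sq.isoPullback_inv_fst, hz1]
  · rw [← Scheme.Hom.comp_apply, sq.isoPullback_inv_snd, hz2]

section main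
variable {D : I ⥤ Over S} {c : Cocone D}
  (h₁ : IsColimit ((Over.forget S).mapCocone c))
  (h₂ : ∀ x : ↥c.pt.left, ∃ (i : I) (y : ↥(D.obj i).left), (c.ι.app i).left y = x)
  (h₃ : ∀ (D' : I ⥤ Over S) (α : D' ⟶ D) (c' : Cocone D') (a : c'.pt ⟶ c.pt), Etale a.left →
    (∀ i, IsPullback (c'.ι.app i) (α.app i) a (c.ι.app i)) →
      Nonempty (IsColimit ((Over.forget S).mapCocone c')))
  (h₄ : ∀ (D' : I ⥤ Over S) (α : D' ⟶ D), NatTrans.Equifibered α → (∀ i, Etale (α.app i).left) →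
    (∀ i, IsSeparated (α.app i).left) →
    ∃ (c' : Cocone D') (a : c'.pt ⟶ c.pt), Etale a.left ∧
      ∀ i, IsPullback (c'.ι.app i) (α.app i) a (c.ι.app i))

include h₂ h₃ h₄ in
theorem exists_local_datum {X : Sp S} (hX : IsAlgSpace X)
    (σ : ∀ i, (yon S).obj (D.obj i) ⟶ X)
    (hσ : ∀ ⦃i j : I⦄ (φ : i ⟶ j), (yon S).map (D.map φ) ≫ σ j = σ i) (x : ↥c.pt.left) :
    ∃ (A : Over S) (a : A ⟶ c.pt) (ψ : (yon S).obj A ⟶ X), Etale a.left ∧
      (∀ i, (yon S).map (pullback.snd (c.ι.app i) a) ≫ ψ =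
        (yon S).map (pullback.fst (c.ι.app i) a) ≫ σ i) ∧ x ∈ Set.range a.left := by
  obtain ⟨U, p, hpe, hps⟩ := hX.atlas
  obtain ⟨i, y, rfl⟩ := h₂ x
  obtain ⟨u, hu⟩ := exists_ofPt_eq p hps (Points.ofPt (σ i) y)
  obtain ⟨W₀, hW, huW, -⟩ := TopologicalSpace.Opens.isBasis_iff_nbhd.mp
    U.left.isBasis_affineOpens (U := ⊤) (x := u) trivial
  let W' : U.left.Opens := W₀
  have hW' : IsAffineOpen W' := hW
  haveI : IsAffine (Over.mk (W'.ι ≫ U.hom)).left := hW'
  obtain ⟨A, a, ψ, hae, hcond, hpt⟩ := exists_chart_datum h₃ h₄ hX σ hσ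
    (chartRestrict p W') (chartRestrict_etale p hpe W')
  refine ⟨A, a, ψ, hae, hcond, hpt i y ⟨⟨u, huW⟩, ?_⟩⟩
  rw [ofPt_chartRestrict]
  exact hu

include h₂ h₃ h₄ in
theorem exists_desc {X : Sp S} (hX : IsAlgSpace X)
    (σ : ∀ i, (yon S).obj (D.obj i) ⟶ X)
    (hσ : ∀ ⦃i j : I⦄ (φ : i ⟶ j), (yon S).map (D.map φ) ≫ σ j = σ i) :
    ∃ Ψ : (yon S).obj c.pt ⟶ X, ∀ i, (yon S).map (c.ι.app i) ≫ Ψ = σ i := by
  choose A a ψ hae hcond hx using exists_local_datum h₂ h₃ h₄ hX σ hσ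
  have hfl : ∀ k, Flat (a k).left := fun k => by
    haveI := hae k
    infer_instance
  have hfp : ∀ k, LocallyOfFinitePresentation (a k).left := fun k => by
    haveI := hae k
    infer_instance
  obtain ⟨Ψ, hΨ⟩ := Colim1.exists_glue_of_cover A a hfl hfp (fun v => ⟨v, hx v⟩) ψ
    (fun k l Z g₁ g₂ hg => chart_compat h₃ hX σ (a k) (a l) (hae k) (hae l) (ψ k) (ψ l)
      (hcond k) (hcond l) g₁ g₂ hg)
  refine ⟨Ψ, fun i => ?_⟩
  have het : ∀ k, Etale (pullback.fst (c.ι.app i) (a k)).left := fun k =>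
    etale_pullback_fst (c.ι.app i) (a k) (hae k)
  refine Colim1.hom_ext_of_cover (fun k => pullback (c.ι.app i) (a k))
    (fun k => pullback.fst (c.ι.app i) (a k))
    (fun k => by haveI := het k; infer_instance) (fun k => by haveI := het k; infer_instance)
    (fun v => ?_) _ _ (fun k => ?_)
  · obtain ⟨z, hz⟩ := hx ((c.ι.app i).left v)
    have sq := (IsPullback.of_hasPullback (c.ι.app i) (a ((c.ι.app i).left v))).map (Over.forget S)
    obtain ⟨t, ht1, -⟩ := exists_preimage_of_isPullback sq v z hz.symm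
    exact ⟨(c.ι.app i).left v, t, ht1⟩
  · calc (yon S).map (pullback.fst (c.ι.app i) (a k)) ≫ (yon S).map (c.ι.app i) ≫ Ψ
        = (yon S).map (pullback.snd (c.ι.app i) (a k) ≫ a k) ≫ Ψ := by
          rw [← Category.assoc, ← Functor.map_comp, pullback.condition]
      _ = (yon S).map (pullback.snd (c.ι.app i) (a k)) ≫ ψ k := by
          rw [Functor.map_comp, Category.assoc, hΨ k]
      _ = (yon S).map (pullback.fst (c.ι.app i) (a k)) ≫ σ i := hcond k i

include h₁ h₂ h₃ h₄ in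
theorem main : Nonempty (IsColimit ((AlgSp.ofScheme S).mapCocone c)) := by
  have hex : ∀ s : Cocone (D ⋙ AlgSp.ofScheme S),
      ∃ Ψ : (yon S).obj c.pt ⟶ s.pt.obj, ∀ i, (yon S).map (c.ι.app i) ≫ Ψ = (s.ι.app i).hom := by
    intro s
    refine exists_desc h₂ h₃ h₄ s.pt.property (fun i => (s.ι.app i).hom) (fun i j φ => ?_)
    have := s.ι.naturality φ
    have h2 := congrArg (fun k => k.hom) this
    simp only [Functor.const_obj_obj, Functor.const_obj_map, Category.comp_id] at h2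
    exact h2
  refine ⟨{ desc := fun s => ObjectProperty.homMk (hex s).choose
            fac := fun s i => ?_
            uniq := fun s m hm => ?_ }⟩
  · apply ObjectProperty.hom_ext
    exact (hex s).choose_spec i
  · apply ObjectProperty.hom_ext
    refine hom_ext_of_isColimit c h₁ s.pt.property _ _ (fun i => ?_)
    have := congrArg (fun k => k.hom) (hm i)
    exact this.trans ((hex s).choose_spec i).symm

end main

end Groth.Agent.Lib.Helper15.Colim4
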