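import Groth.Agent.Lib.Helper15.Colim6

set_option autoImplicit false
set_option backward.isDefEq.respectTransparency.types false
universe w v u
open CategoryTheory CategoryTheory.Limits AlgebraicGeometry Opposite
open AlgSp

namespace Groth.Agent.Lib.Helper15.Colim7

open Groth.Agent.Lib.Helper3 Groth.Agent.Lib.Helper15.Colim6

variable {S : Scheme.{u}}

theorem isEtaleMor_comp {X Y Z : Sp S} {f : X ⟶ Y} {g : Y ⟶ Z} (hf : IsEtaleMor f)
    (hg : IsEtaleMor g) : IsEtaleMor (f ≫ g) := fun U φ hφ => by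
  rw [← Category.assoc]
  exact hg _ (hf φ hφ)

variable {B : AlgSp.Space S} {P : ObjectProperty (Over B)}
  (hP : ∀ T : Over B, P T ↔ AlgSp.IsSeparatedMor T.hom.hom) {I : Type v} [Category.{w} I]
  {D : I ⥤ P.FullSubcategory} {c : Cocone D}
  (h₄ : ∀ (D' : I ⥤ P.FullSubcategory) (α : D' ⟶ D) (c' : Cocone D') (a : c'.pt ⟶ c.pt),
    AlgSp.IsEtaleMor a.hom.left.hom → AlgSp.IsSeparatedMor a.hom.left.hom →
    (∀ i, IsPullback (c'.ι.app i).hom.left.hom (α.app i).hom.left.hom a.hom.left.hom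
      (c.ι.app i).hom.left.hom) → Nonempty (IsColimit c'))
  (h₅ : ∀ (D' : I ⥤ P.FullSubcategory) (α : D' ⟶ D),
    (∀ ⦃i j : I⦄ (g : i ⟶ j), IsPullback (D'.map g).hom.left.hom (α.app i).hom.left.hom
      (α.app j).hom.left.hom (D.map g).hom.left.hom) →
    (∀ i, AlgSp.IsEtaleMor (α.app i).hom.left.hom) →
    (∀ i, AlgSp.IsSeparatedMor (α.app i).hom.left.hom) →
      ∃ (c' : Cocone D') (a : c'.pt ⟶ c.pt), AlgSp.IsEtaleMor a.hom.left.hom ∧
        AlgSp.IsSeparatedMor a.hom.left.hom ∧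
        ∀ i, IsPullback (c'.ι.app i).hom.left.hom (α.app i).hom.left.hom a.hom.left.hom
          (c.ι.app i).hom.left.hom)

theorem hf_cocone ⦃i j : I⦄ (φ : i ⟶ j) :
    hm P (D.map φ) ≫ hm P (c.ι.app j) = hm P (c.ι.app i) := by
  rw [← hm_comp, c.w φ]

/-- the chart datum condition -/
def Cond {X : Sp S} (σ : ∀ i, sp P (D.obj i) ⟶ X) (A : P.FullSubcategory) (a : A ⟶ c.pt)
    (ψ : sp P A ⟶ X) : Prop :=
  ∀ i, pullback.snd (hm P (c.ι.app i)) (hm P a) ≫ ψ =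
    pullback.fst (hm P (c.ι.app i)) (hm P a) ≫ σ i

include hP h₄ h₅ in
theorem exists_chart_datum {X : Sp S} (hX : IsAlgSpace X) (tX : X ⟶ B.obj)
    (σ : ∀ i, sp P (D.obj i) ⟶ X)
    (hσ : ∀ ⦃i j : I⦄ (φ : i ⟶ j), hm P (D.map φ) ≫ σ j = σ i)
    (hσt : ∀ i, σ i ≫ tX = str P (D.obj i))
    {W : Over S} [IsAffine W.left] (b : (yon S).obj W ⟶ X) (hb : RepWith @Etale b) :
    ∃ (A : P.FullSubcategory) (a : A ⟶ c.pt) (ψ : sp P A ⟶ X), IsEtaleMor (hm P a) ∧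
      IsSeparatedMor (hm P a) ∧ ψ ≫ tX = str P A ∧ Cond σ A a ψ ∧
      (∀ i (y : Points (sp P (D.obj i))), Points.map (σ i) y ∈ Set.range (Points.ofPt b) →
        Points.map (hm P (c.ι.app i)) y ∈ Set.range (Points.map (hm P a))) := by
  have hN : IsAlgSpace ((yon S).obj W) := IsAlgSpace.yon_obj W
  have hms : IsSeparatedMor b := isSeparatedMor_yon_of_isAffine hX b
  have hNs : IsSeparatedMor (b ≫ tX) := isSeparatedMor_yon_of_isAffine B.property (b ≫ tX)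
  have hbe : IsEtaleMor b := isEtaleMor_of_repWith_etale hb
  obtain ⟨c', a, hae, has, hsq⟩ := h₅ (PBF hP D hX σ hσ hN b hms) (PBFα hP D hX σ hσ hN b hms)
    (PBF_equifibered hP D hX σ hσ hN b hms)
    (fun i => Groth.Agent.Lib.Helper3.isEtaleMor_of_isPullback hN hX (isAlgSpace_sp (D.obj i))
      (isAlgSpace_sp ((PBF hP D hX σ hσ hN b hms).obj i)) b (σ i) (pullback.snd (σ i) b)
      (pullback.fst (σ i) b) (IsPullback.of_hasPullback (σ i) b).flip hbe)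
    (fun i => isSeparatedMor_of_isPullback (IsPullback.of_hasPullback (σ i) b).flip hms)
  obtain ⟨hc'⟩ := h₄ (PBF hP D hX σ hσ hN b hms) (PBFα hP D hX σ hσ hN b hms) c' a hae has hsq
  let t := PBFcocone hP D hX tX σ hσ hσt hN b hms hNs
  let g : c'.pt ⟶ t.pt := hc'.desc t
  let gg : sp P c'.pt ⟶ (yon S).obj W := hm P g
  let ci : ∀ i, pullback (σ i) b ⟶ sp P c'.pt := fun i => hm P (c'.ι.app i)
  have hg : ∀ i, ci i ≫ gg = pullback.snd (σ i) b := fun i =>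
    congrArg (hm P) (hc'.fac t i)
  have hsq' : ∀ i, IsPullback (ci i) (pullback.fst (σ i) b) (hm P a) (hm P (c.ι.app i)) := hsq
  refine ⟨c'.pt, a, gg ≫ b, hae, has, ?_, fun i => ?_, fun i y hy => ?_⟩
  · rw [Category.assoc]
    exact hm_str g
  · let θ : pullback (hm P (c.ι.app i)) (hm P a) ⟶ pullback (σ i) b :=
      (hsq' i).lift (pullback.snd (hm P (c.ι.app i)) (hm P a))
        (pullback.fst (hm P (c.ι.app i)) (hm P a)) pullback.condition.symm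
    have hθ1 : θ ≫ ci i = pullback.snd (hm P (c.ι.app i)) (hm P a) :=
      (hsq' i).lift_fst _ _ _
    have hθ2 : θ ≫ pullback.fst (σ i) b = pullback.fst (hm P (c.ι.app i)) (hm P a) :=
      (hsq' i).lift_snd _ _ _
    calc pullback.snd (hm P (c.ι.app i)) (hm P a) ≫ gg ≫ b
        = θ ≫ (ci i ≫ gg) ≫ b := by
          rw [← hθ1, Category.assoc, Category.assoc]
      _ = θ ≫ pullback.snd (σ i) b ≫ b := by rw [hg i]
      _ = θ ≫ pullback.fst (σ i) b ≫ σ i := by rw [pullback.condition]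
      _ = pullback.fst (hm P (c.ι.app i)) (hm P a) ≫ σ i := by
          rw [← Category.assoc, hθ2]
  · obtain ⟨w, hw⟩ := hy
    obtain ⟨z, hz1, -⟩ := Points.exists_of_isPullback (IsPullback.of_hasPullback (σ i) b) y
      (Points.ofScheme W w) (by rw [← hw, Points.ofPt_eq_map_ofScheme])
    refine ⟨Points.map (ci i) z, ?_⟩
    have e : ci i ≫ hm P a = pullback.fst (σ i) b ≫ hm P (c.ι.app i) := (hsq' i).w
    calc Points.map (hm P a) (Points.map (ci i) z)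
        = Points.map (ci i ≫ hm P a) z := (Points.map_comp _ _ _).symm
      _ = Points.map (pullback.fst (σ i) b ≫ hm P (c.ι.app i)) z := by rw [e]
      _ = Points.map (hm P (c.ι.app i)) (Points.map (pullback.fst (σ i) b) z) :=
          Points.map_comp _ _ _
      _ = Points.map (hm P (c.ι.app i)) y := by rw [hz1]

include hP h₄ in
/-- Two chart data agree on overlaps. -/
theorem chart_compat {X : Sp S} (hX : IsAlgSpace X) (σ : ∀ i, sp P (D.obj i) ⟶ X)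
    {A₁ A₂ : P.FullSubcategory} (a₁ : A₁ ⟶ c.pt) (a₂ : A₂ ⟶ c.pt)
    (he₁ : IsEtaleMor (hm P a₁)) (hs₁ : IsSeparatedMor (hm P a₁))
    (he₂ : IsEtaleMor (hm P a₂)) (hs₂ : IsSeparatedMor (hm P a₂))
    (ψ₁ : sp P A₁ ⟶ X) (ψ₂ : sp P A₂ ⟶ X) (hψ₁ : Cond σ A₁ a₁ ψ₁) (hψ₂ : Cond σ A₂ a₂ ψ₂)
    {Z : Sp S} (g₁ : Z ⟶ sp P A₁) (g₂ : Z ⟶ sp P A₂) (hg : g₁ ≫ hm P a₁ = g₂ ≫ hm P a₂) :
    g₁ ≫ ψ₁ = g₂ ≫ ψ₂ := by
  let pr₁ := pullback.fst (hm P a₁) (hm P a₂)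
  let pr₂ := pullback.snd (hm P a₁) (hm P a₂)
  let a₁₂ : pullback (hm P a₁) (hm P a₂) ⟶ sp P c.pt := pr₁ ≫ hm P a₁
  have ha₁₂ : a₁₂ = pr₂ ≫ hm P a₂ := pullback.condition
  have hA₁₂ : IsAlgSpace (pullback (hm P a₁) (hm P a₂)) :=
    isAlgSpace_of_isPullback' (isAlgSpace_sp c.pt) (isAlgSpace_sp A₁) (isAlgSpace_sp A₂)
      (IsPullback.of_hasPullback _ _)
  have sq : IsPullback pr₂ pr₁ (hm P a₂) (hm P a₁) :=
    (IsPullback.of_hasPullback (hm P a₁) (hm P a₂)).flip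
  have hpr₁e : IsEtaleMor pr₁ :=
    Groth.Agent.Lib.Helper3.isEtaleMor_of_isPullback (isAlgSpace_sp A₂) (isAlgSpace_sp c.pt)
      (isAlgSpace_sp A₁) hA₁₂ (hm P a₂) (hm P a₁) pr₂ pr₁ sq he₂
  have he₁₂ : IsEtaleMor a₁₂ := isEtaleMor_comp hpr₁e he₁
  have hs₁₂ : IsSeparatedMor a₁₂ :=
    isSeparatedMor_comp (isSeparatedMor_of_isPullback sq hs₂) hs₁
  have hNs : IsSeparatedMor (a₁₂ ≫ str P c.pt) :=
    isSeparatedMor_comp hs₁₂ (isSeparatedMor_str hP c.pt)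
  let f : ∀ i, sp P (D.obj i) ⟶ sp P c.pt := fun i => hm P (c.ι.app i)
  have hf : ∀ ⦃i j : I⦄ (φ : i ⟶ j), hm P (D.map φ) ≫ f j = f i := fun i j φ => hf_cocone φ
  have hft : ∀ i, f i ≫ str P c.pt = str P (D.obj i) := fun i => hm_str (c.ι.app i)
  let c'' := PBFcocone hP D (isAlgSpace_sp c.pt) (str P c.pt) f hf hft hA₁₂ a₁₂ hs₁₂ hNs
  let a'' : c''.pt ⟶ c.pt := mkHom a₁₂ rfl
  obtain ⟨hc''⟩ := h₄ (PBF hP D (isAlgSpace_sp c.pt) f hf hA₁₂ a₁₂ hs₁₂)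
    (PBFα hP D (isAlgSpace_sp c.pt) f hf hA₁₂ a₁₂ hs₁₂) c'' a'' he₁₂ hs₁₂
    (fun i => (IsPullback.of_hasPullback (f i) a₁₂).flip)
  have key : pr₁ ≫ ψ₁ = pr₂ ≫ ψ₂ := by
    refine hom_ext_of_isColimit hP c'' hc'' hX (pr₁ ≫ ψ₁) (pr₂ ≫ ψ₂) (fun i => ?_)
    change pullback.snd (f i) a₁₂ ≫ pr₁ ≫ ψ₁ = pullback.snd (f i) a₁₂ ≫ pr₂ ≫ ψ₂
    have c1 : pullback.fst (f i) a₁₂ ≫ f i = (pullback.snd (f i) a₁₂ ≫ pr₁) ≫ hm P a₁ := by
      rw [Category.assoc]; exact pullback.condition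
    have c2 : pullback.fst (f i) a₁₂ ≫ f i = (pullback.snd (f i) a₁₂ ≫ pr₂) ≫ hm P a₂ := by
      rw [Category.assoc, ← ha₁₂]; exact pullback.condition
    have e1 : pullback.snd (f i) a₁₂ ≫ pr₁ ≫ ψ₁ = pullback.fst (f i) a₁₂ ≫ σ i := by
      calc pullback.snd (f i) a₁₂ ≫ pr₁ ≫ ψ₁
          = (pullback.lift (pullback.fst (f i) a₁₂) (pullback.snd (f i) a₁₂ ≫ pr₁) c1 ≫
              pullback.snd (f i) (hm P a₁)) ≫ ψ₁ := by rw [pullback.lift_snd, Category.assoc]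
        _ = pullback.lift (pullback.fst (f i) a₁₂) (pullback.snd (f i) a₁₂ ≫ pr₁) c1 ≫
              pullback.fst (f i) (hm P a₁) ≫ σ i := by rw [Category.assoc, hψ₁ i]
        _ = pullback.fst (f i) a₁₂ ≫ σ i := by rw [← Category.assoc, pullback.lift_fst]
    have e2 : pullback.snd (f i) a₁₂ ≫ pr₂ ≫ ψ₂ = pullback.fst (f i) a₁₂ ≫ σ i := by
      calc pullback.snd (f i) a₁₂ ≫ pr₂ ≫ ψ₂
          = (pullback.lift (pullback.fst (f i) a₁₂) (pullback.snd (f i) a₁₂ ≫ pr₂) c2 ≫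
              pullback.snd (f i) (hm P a₂)) ≫ ψ₂ := by rw [pullback.lift_snd, Category.assoc]
        _ = pullback.lift (pullback.fst (f i) a₁₂) (pullback.snd (f i) a₁₂ ≫ pr₂) c2 ≫
              pullback.fst (f i) (hm P a₂) ≫ σ i := by rw [Category.assoc, hψ₂ i]
        _ = pullback.fst (f i) a₁₂ ≫ σ i := by rw [← Category.assoc, pullback.lift_fst]
    rw [e1, e2]
  calc g₁ ≫ ψ₁ = (pullback.lift g₁ g₂ hg ≫ pr₁) ≫ ψ₁ := by rw [pullback.lift_fst]
    _ = pullback.lift g₁ g₂ hg ≫ pr₂ ≫ ψ₂ := by rw [Category.assoc, key]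
    _ = g₂ ≫ ψ₂ := by rw [← Category.assoc, pullback.lift_snd]

section main
variable (h₃ : ∀ x : AlgSp.Points c.pt.obj.left.obj, ∃ (i : I)
    (y : AlgSp.Points (D.obj i).obj.left.obj), AlgSp.Points.map (c.ι.app i).hom.left.hom y = x)

include hP h₃ h₄ h₅ in
theorem exists_local_datum {X : Sp S} (hX : IsAlgSpace X) (tX : X ⟶ B.obj)
    (σ : ∀ i, sp P (D.obj i) ⟶ X)
    (hσ : ∀ ⦃i j : I⦄ (φ : i ⟶ j), hm P (D.map φ) ≫ σ j = σ i)
    (hσt : ∀ i, σ i ≫ tX = str P (D.obj i)) (x : Points (sp P c.pt)) :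
    ∃ (A : P.FullSubcategory) (a : A ⟶ c.pt) (ψ : sp P A ⟶ X), IsEtaleMor (hm P a) ∧
      IsSeparatedMor (hm P a) ∧ ψ ≫ tX = str P A ∧ Cond σ A a ψ ∧
      x ∈ Set.range (Points.map (hm P a)) := by
  obtain ⟨U, p, hpe, hps⟩ := hX.atlas
  obtain ⟨i, y, rfl⟩ := h₃ x
  obtain ⟨u, hu⟩ := exists_ofPt_eq p hps (Points.map (σ i) y)
  obtain ⟨W₀, hW, huW, -⟩ := TopologicalSpace.Opens.isBasis_iff_nbhd.mp
    U.left.isBasis_affineOpens (U := ⊤) (x := u) trivial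
  let W' : U.left.Opens := W₀
  have hW' : IsAffineOpen W' := hW
  haveI : IsAffine (Over.mk (W'.ι ≫ U.hom)).left := hW'
  obtain ⟨A, a, ψ, hae, has, hψt, hcond, hpt⟩ := exists_chart_datum hP h₄ h₅ hX tX σ hσ hσt
    (chartRestrict p W') (chartRestrict_etale p hpe W')
  refine ⟨A, a, ψ, hae, has, hψt, hcond, hpt i y ⟨⟨u, huW⟩, ?_⟩⟩
  rw [ofPt_chartRestrict]
  exact hu

include hP h₃ h₄ h₅ in
theorem exists_desc {X : Sp S} (hX : IsAlgSpace X) (tX : X ⟶ B.obj)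
    (σ : ∀ i, sp P (D.obj i) ⟶ X)
    (hσ : ∀ ⦃i j : I⦄ (φ : i ⟶ j), hm P (D.map φ) ≫ σ j = σ i)
    (hσt : ∀ i, σ i ≫ tX = str P (D.obj i)) :
    ∃ Ψ : sp P c.pt ⟶ X, Ψ ≫ tX = str P c.pt ∧ ∀ i, hm P (c.ι.app i) ≫ Ψ = σ i := by
  choose A a ψ hae has hψt hcond hx using exists_local_datum hP h₄ h₅ h₃ hX tX σ hσ hσt
  have hls : Colim5.LocSurj (fun x => sp P (A x)) (fun x => hm P (a x)) :=
    Colim5.locSurj_of_etale_surjective (isAlgSpace_sp c.pt) (fun x => isAlgSpace_sp (A x)) hae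
      (fun x => ⟨x, hx x⟩)
  obtain ⟨Ψ, hΨ⟩ := Colim5.exists_glue' hls ψ (fun k l T g₁ g₂ hg =>
    chart_compat hP h₄ hX σ (a k) (a l) (hae k) (has k) (hae l) (has l) (ψ k) (ψ l)
      (hcond k) (hcond l) g₁ g₂ hg)
  refine ⟨Ψ, ?_, fun i => ?_⟩
  · refine Colim5.hom_ext_of_locSurj hls _ _ (fun k => ?_)
    rw [← Category.assoc, hΨ k, hψt k]
    exact (hm_str (a k)).symm
  · have hls' : Colim5.LocSurj (fun k => pullback (hm P (c.ι.app i)) (hm P (a k)))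
        (fun k => pullback.fst (hm P (c.ι.app i)) (hm P (a k))) :=
      hls.baseChange (hm P (c.ι.app i)) _ _ (fun k => pullback.snd (hm P (c.ι.app i)) (hm P (a k)))
        (fun k => IsPullback.of_hasPullback _ _)
    refine Colim5.hom_ext_of_locSurj hls' _ _ (fun k => ?_)
    calc pullback.fst (hm P (c.ι.app i)) (hm P (a k)) ≫ hm P (c.ι.app i) ≫ Ψ
        = pullback.snd (hm P (c.ι.app i)) (hm P (a k)) ≫ hm P (a k) ≫ Ψ := by
          rw [← Category.assoc, pullback.condition, Category.assoc]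
      _ = pullback.snd (hm P (c.ι.app i)) (hm P (a k)) ≫ ψ k := by rw [hΨ k]
      _ = pullback.fst (hm P (c.ι.app i)) (hm P (a k)) ≫ σ i := hcond k i

include hP h₃ h₄ h₅ in
theorem main (h₂ : IsColimit c) : Nonempty (IsColimit (P.ι.mapCocone c)) := by
  have hex : ∀ s : Cocone (D ⋙ P.ι), ∃ Ψ : sp P c.pt ⟶ s.pt.left.obj,
      Ψ ≫ s.pt.hom.hom = str P c.pt ∧ ∀ i, hm P (c.ι.app i) ≫ Ψ = (s.ι.app i).left.hom := by
    intro s
    refine exists_desc hP h₄ h₅ h₃ s.pt.left.property s.pt.hom.hom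
      (fun i => (s.ι.app i).left.hom) (fun i j φ => ?_) (fun i => ?_)
    · have := s.ι.naturality φ
      have h2 := congrArg (fun k => k.left.hom) this
      simp only [Functor.const_obj_obj, Functor.const_obj_map, Category.comp_id] at h2
      exact h2
    · have := Over.w (s.ι.app i)
      exact congrArg (fun k => k.hom) this
  refine ⟨{ desc := fun s => Over.homMk (ObjectProperty.homMk (hex s).choose) (by
              apply ObjectProperty.hom_ext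
              exact (hex s).choose_spec.1)
            fac := fun s i => ?_
            uniq := fun s m hm' => ?_ }⟩
  · apply Over.OverMorphism.ext
    apply ObjectProperty.hom_ext
    exact (hex s).choose_spec.2 i
  · apply Over.OverMorphism.ext
    apply ObjectProperty.hom_ext
    refine hom_ext_of_isColimit hP c h₂ s.pt.left.property _ _ (fun i => ?_)
    have := congrArg (fun k => k.left.hom) (hm' i)
    exact this.trans ((hex s).choose_spec.2 i).symm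

end main

end Groth.Agent.Lib.Helper15.Colim7
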