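import Groth.Agent.Lib.Helper15.Colim7

set_option autoImplicit false
set_option backward.isDefEq.respectTransparency.types false
universe w v u
open CategoryTheory CategoryTheory.Limits AlgebraicGeometry Opposite
open AlgSp

namespace Groth.Agent.Lib.Helper15.Colim8

open Groth.Agent.Lib.Helper3

variable {S : Scheme.{u}} {B : AlgSp.Space S}

/-- underlying sheaf of an object -/
abbrev sp (Y : Over B) : Sp S := Y.left.obj
/-- structure map -/
abbrev str (Y : Over B) : sp Y ⟶ B.obj := Y.hom.hom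
/-- underlying map of sheaves -/
abbrev hm {Y Y' : Over B} (f : Y ⟶ Y') : sp Y ⟶ sp Y' := f.left.hom

theorem hm_str {Y Y' : Over B} (f : Y ⟶ Y') : hm f ≫ str Y' = str Y := by
  have := Over.w f
  exact congrArg (fun k => k.hom) this

theorem hm_comp {Y Y' Y'' : Over B} (f : Y ⟶ Y') (g : Y' ⟶ Y'') :
    hm (f ≫ g) = hm f ≫ hm g := rfl

theorem hm_id (Y : Over B) : hm (𝟙 Y) = 𝟙 _ := rfl

theorem hom_ext' {Y Y' : Over B} {f g : Y ⟶ Y'} (h : hm f = hm g) : f = g := by
  apply Over.OverMorphism.ext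
  apply ObjectProperty.hom_ext
  exact h

/-- morphisms from maps of sheaves over `B` -/
def mkHom {Y Y' : Over B} (f : sp Y ⟶ sp Y') (w : f ≫ str Y' = str Y) : Y ⟶ Y' :=
  Over.homMk (ObjectProperty.homMk f) (by
    apply ObjectProperty.hom_ext
    exact w)

@[simp] theorem hm_mkHom {Y Y' : Over B} (f : sp Y ⟶ sp Y') (w : f ≫ str Y' = str Y) :
    hm (mkHom f w) = f := rfl

/-- objects from algebraic spaces over `B` -/
def mkObj (E : Sp S) (hE : IsAlgSpace E) (e : E ⟶ B.obj) : Over B :=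
  Over.mk (ObjectProperty.homMk e : (⟨E, hE⟩ : Space S) ⟶ B)

theorem isAlgSpace_sp (Y : Over B) : IsAlgSpace (sp Y) := Y.left.property

section PBO
variable {I : Type v} [Category.{w} I] (F : I ⥤ Over B)
  {M : Sp S} (hM : IsAlgSpace M) (tM : M ⟶ B.obj)
  (f : ∀ i, sp (F.obj i) ⟶ M) (hf : ∀ ⦃i j : I⦄ (φ : i ⟶ j), hm (F.map φ) ≫ f j = f i)
  (hft : ∀ i, f i ≫ tM = str (F.obj i))
  {N' : Sp S} (m : N' ⟶ M)

/-- transition maps of `i ↦ F_i ×_M N` -/
noncomputable def PBOmap ⦃i j : I⦄ (φ : i ⟶ j) : pullback (f i) m ⟶ pullback (f j) m :=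
  pullback.lift (pullback.fst (f i) m ≫ hm (F.map φ)) (pullback.snd (f i) m) (by
    rw [Category.assoc, hf φ]; exact pullback.condition)

theorem PBOmap_fst ⦃i j : I⦄ (φ : i ⟶ j) :
    PBOmap F f hf m φ ≫ pullback.fst (f j) m = pullback.fst (f i) m ≫ hm (F.map φ) :=
  pullback.lift_fst _ _ _

theorem PBOmap_snd ⦃i j : I⦄ (φ : i ⟶ j) :
    PBOmap F f hf m φ ≫ pullback.snd (f j) m = pullback.snd (f i) m :=
  pullback.lift_snd _ _ _

theorem PBOmap_id (i : I) : PBOmap F f hf m (𝟙 i) = 𝟙 _ := by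
  apply pullback.hom_ext
  · rw [PBOmap_fst, F.map_id, hm_id, Category.comp_id, Category.id_comp]
  · rw [PBOmap_snd, Category.id_comp]

theorem PBOmap_comp ⦃i j k : I⦄ (φ : i ⟶ j) (ψ : j ⟶ k) :
    PBOmap F f hf m (φ ≫ ψ) = PBOmap F f hf m φ ≫ PBOmap F f hf m ψ := by
  apply pullback.hom_ext
  · rw [PBOmap_fst, Category.assoc, PBOmap_fst, ← Category.assoc, PBOmap_fst, F.map_comp,
      hm_comp, Category.assoc]
  · rw [PBOmap_snd, Category.assoc, PBOmap_snd, PBOmap_snd]

theorem PBOmap_str ⦃i j : I⦄ (φ : i ⟶ j) :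
    PBOmap F f hf m φ ≫ pullback.fst (f j) m ≫ str (F.obj j) =
      pullback.fst (f i) m ≫ str (F.obj i) := by
  rw [← Category.assoc, PBOmap_fst, Category.assoc, hm_str]

end PBO

section PBO
variable {I : Type v} [Category.{w} I] (F : I ⥤ Over B)
  {M : Sp S} (hM : IsAlgSpace M) (tM : M ⟶ B.obj)
  (f : ∀ i, sp (F.obj i) ⟶ M) (hf : ∀ ⦃i j : I⦄ (φ : i ⟶ j), hm (F.map φ) ≫ f j = f i)
  (hft : ∀ i, f i ≫ tM = str (F.obj i))
  {N : Over B} (m : sp N ⟶ M) (hmN : m ≫ tM = str N)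

/-- The functor `i ↦ F_i ×_M N`. -/
noncomputable def PBO : I ⥤ Over B where
  obj i := mkObj (pullback (f i) m)
    (isAlgSpace_of_isPullback' hM (isAlgSpace_sp (F.obj i)) (isAlgSpace_sp N)
      (IsPullback.of_hasPullback _ _))
    (pullback.fst (f i) m ≫ str (F.obj i))
  map {i j} φ := mkHom (PBOmap F f hf m φ) (PBOmap_str F f hf m φ)
  map_id i := hom_ext' (PBOmap_id F f hf m i)
  map_comp {i j k} φ ψ := hom_ext' (PBOmap_comp F f hf m φ ψ)

/-- The projection to `F`. -/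
noncomputable def PBOα : PBO F hM f hf m ⟶ F where
  app i := mkHom (pullback.fst (f i) m) rfl
  naturality i j φ := by
    apply hom_ext'
    exact PBOmap_fst F f hf m φ

theorem hm_PBOα_app (i : I) :
    hm ((PBOα F hM f hf m).app i) = pullback.fst (f i) m := rfl

theorem hm_PBO_map_snd ⦃i j : I⦄ (φ : i ⟶ j) :
    hm ((PBO F hM f hf m).map φ) ≫ pullback.snd (f j) m = pullback.snd (f i) m :=
  PBOmap_snd F f hf m φ

theorem hm_PBO_map_fst ⦃i j : I⦄ (φ : i ⟶ j) :
    hm ((PBO F hM f hf m).map φ) ≫ pullback.fst (f j) m =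
      pullback.fst (f i) m ≫ hm (F.map φ) :=
  PBOmap_fst F f hf m φ

theorem PBO_equifibered ⦃i j : I⦄ (φ : i ⟶ j) :
    IsPullback (hm ((PBO F hM f hf m).map φ))
      (hm ((PBOα F hM f hf m).app i)) (hm ((PBOα F hM f hf m).app j))
      (hm (F.map φ)) := by
  have comm : hm ((PBO F hM f hf m).map φ) ≫ pullback.fst (f j) m =
      pullback.fst (f i) m ≫ hm (F.map φ) := PBOmap_fst F f hf m φ
  have hleft : IsPullback (hm ((PBO F hM f hf m).map φ) ≫ pullback.snd (f j) m)
      (pullback.fst (f i) m) m (hm (F.map φ) ≫ f j) := by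
    rw [hm_PBO_map_snd, hf φ]
    exact (IsPullback.of_hasPullback (f i) m).flip
  exact IsPullback.of_right (h₁₂ := pullback.snd (f j) m) (v₁₃ := m) (h₂₂ := f j)
    hleft comm (IsPullback.of_hasPullback (f j) m).flip

include hft hmN in
theorem PBO_snd_str (i : I) :
    pullback.snd (f i) m ≫ str N = pullback.fst (f i) m ≫ str (F.obj i) := by
  rw [← hmN, ← Category.assoc, ← pullback.condition, Category.assoc, hft]

/-- The constant-cocone transformation to `N`. -/
noncomputable def PBOι :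
    PBO F hM f hf m ⟶ (Functor.const I).obj N where
  app i := mkHom (pullback.snd (f i) m) (PBO_snd_str F tM f hft m hmN i)
  naturality i j φ := by
    apply hom_ext'
    exact (PBOmap_snd F f hf m φ).trans (Category.comp_id _).symm

theorem hm_PBOι_app (i : I) :
    hm ((PBOι F hM tM f hf hft m hmN).app i) = pullback.snd (f i) m := rfl

end PBO

end Groth.Agent.Lib.Helper15.Colim8
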