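import Groth.Agent.Lib.Helper15.Colim8
import Groth.Agent.S10210

set_option autoImplicit false
set_option backward.isDefEq.respectTransparency.types false
universe w v u
open CategoryTheory CategoryTheory.Limits AlgebraicGeometry Opposite
open AlgSp

namespace Groth.Agent.Lib.Helper15.Colim9

open Groth.Agent.Lib.Helper3 Groth.Agent.Lib.Helper15.Colim8

variable {S : Scheme.{u}} {B : AlgSp.Space S} {I : Type v} [Category.{w} I]
  (D : I ⥤ Over B) (c : Cocone D)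

/-- A system etale over the cocone `c`: an object `K` etale over `c.pt` together with a diagram
`F` over `D` which is its base change. -/
structure Sys where
  K : Over B
  k : K ⟶ c.pt
  hk : IsEtaleMor (hm k)
  F : I ⥤ Over B
  α : F ⟶ D
  ι : F ⟶ (Functor.const I).obj K
  sq : ∀ i, IsPullback (hm (ι.app i)) (hm (α.app i)) (hm k) (hm (c.ι.app i))

variable {D c}

theorem cocone_w ⦃i j : I⦄ (φ : i ⟶ j) : hm (D.map φ) ≫ hm (c.ι.app j) = hm (c.ι.app i) := by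
  rw [← hm_comp, c.w φ]

namespace Sys

variable (Ξ : Sys D c)

theorem ι_w ⦃i j : I⦄ (φ : i ⟶ j) : hm (Ξ.F.map φ) ≫ hm (Ξ.ι.app j) = hm (Ξ.ι.app i) := by
  have := Ξ.ι.naturality φ
  have h2 := congrArg hm this
  rw [hm_comp, hm_comp] at h2
  rw [h2]
  exact Category.comp_id _

theorem α_w ⦃i j : I⦄ (φ : i ⟶ j) :
    hm (Ξ.F.map φ) ≫ hm (Ξ.α.app j) = hm (Ξ.α.app i) ≫ hm (D.map φ) := by
  have := Ξ.α.naturality φ
  exact congrArg hm this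

/-- the base change of a system along an etale map `N → K` -/
noncomputable def pull {N : Over B} (m : sp N ⟶ sp Ξ.K) (hmN : m ≫ str Ξ.K = str N)
    (hmet : IsEtaleMor m) : Sys D c where
  K := N
  k := mkHom (m ≫ hm Ξ.k) (by rw [Category.assoc, hm_str, hmN])
  hk := Colim7.isEtaleMor_comp hmet Ξ.hk
  F := PBO Ξ.F (isAlgSpace_sp Ξ.K) (fun i => hm (Ξ.ι.app i)) Ξ.ι_w m
  α := PBOα Ξ.F (isAlgSpace_sp Ξ.K) (fun i => hm (Ξ.ι.app i)) Ξ.ι_w m ≫ Ξ.α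
  ι := PBOι Ξ.F (isAlgSpace_sp Ξ.K) (str Ξ.K) (fun i => hm (Ξ.ι.app i)) Ξ.ι_w
    (fun i => hm_str _) m hmN
  sq i := (IsPullback.of_hasPullback (hm (Ξ.ι.app i)) m).flip.paste_vert (Ξ.sq i)

@[simp] theorem pull_K {N : Over B} (m : sp N ⟶ sp Ξ.K) (hmN : m ≫ str Ξ.K = str N)
    (hmet : IsEtaleMor m) : (Ξ.pull m hmN hmet).K = N := rfl

theorem hm_pull_k {N : Over B} (m : sp N ⟶ sp Ξ.K) (hmN : m ≫ str Ξ.K = str N)
    (hmet : IsEtaleMor m) : hm (Ξ.pull m hmN hmet).k = m ≫ hm Ξ.k := rfl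

theorem hm_pull_ι {N : Over B} (m : sp N ⟶ sp Ξ.K) (hmN : m ≫ str Ξ.K = str N)
    (hmet : IsEtaleMor m) (i : I) :
    hm ((Ξ.pull m hmN hmet).ι.app i) = pullback.snd (hm (Ξ.ι.app i)) m := rfl

theorem hm_pull_α {N : Over B} (m : sp N ⟶ sp Ξ.K) (hmN : m ≫ str Ξ.K = str N)
    (hmet : IsEtaleMor m) (i : I) :
    hm ((Ξ.pull m hmN hmet).α.app i) = pullback.fst (hm (Ξ.ι.app i)) m ≫ hm (Ξ.α.app i) := rfl

theorem hm_pull_F_map_snd {N : Over B} (m : sp N ⟶ sp Ξ.K) (hmN : m ≫ str Ξ.K = str N)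
    (hmet : IsEtaleMor m) ⦃i j : I⦄ (φ : i ⟶ j) :
    hm ((Ξ.pull m hmN hmet).F.map φ) ≫ pullback.snd (hm (Ξ.ι.app j)) m =
      pullback.snd (hm (Ξ.ι.app i)) m :=
  PBOmap_snd _ _ _ _ φ

theorem hm_pull_F_map_fst {N : Over B} (m : sp N ⟶ sp Ξ.K) (hmN : m ≫ str Ξ.K = str N)
    (hmet : IsEtaleMor m) ⦃i j : I⦄ (φ : i ⟶ j) :
    hm ((Ξ.pull m hmN hmet).F.map φ) ≫ pullback.fst (hm (Ξ.ι.app j)) m =
      pullback.fst (hm (Ξ.ι.app i)) m ≫ hm (Ξ.F.map φ) :=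
  PBOmap_fst _ _ _ _ φ

/-- first projection of the pulled back system -/
noncomputable def pullT {N : Over B} (m : sp N ⟶ sp Ξ.K) (hmN : m ≫ str Ξ.K = str N)
    (hmet : IsEtaleMor m) (i : I) : sp ((Ξ.pull m hmN hmet).F.obj i) ⟶ sp (Ξ.F.obj i) :=
  pullback.fst (hm (Ξ.ι.app i)) m

theorem pullT_ι {N : Over B} (m : sp N ⟶ sp Ξ.K) (hmN : m ≫ str Ξ.K = str N)
    (hmet : IsEtaleMor m) (i : I) :
    Ξ.pullT m hmN hmet i ≫ hm (Ξ.ι.app i) = hm ((Ξ.pull m hmN hmet).ι.app i) ≫ m :=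
  pullback.condition

theorem pullT_α {N : Over B} (m : sp N ⟶ sp Ξ.K) (hmN : m ≫ str Ξ.K = str N)
    (hmet : IsEtaleMor m) (i : I) :
    Ξ.pullT m hmN hmet i ≫ hm (Ξ.α.app i) = hm ((Ξ.pull m hmN hmet).α.app i) := rfl

theorem pull_isPullback {N : Over B} (m : sp N ⟶ sp Ξ.K) (hmN : m ≫ str Ξ.K = str N)
    (hmet : IsEtaleMor m) (i : I) :
    IsPullback (Ξ.pullT m hmN hmet i) (hm ((Ξ.pull m hmN hmet).ι.app i)) (hm (Ξ.ι.app i)) m :=
  IsPullback.of_hasPullback _ _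

end Sys

/-- A morphism of systems (over a map `m` of the apexes over `c.pt`). -/
structure SysHom (Ξ' Ξ : Sys D c) where
  m : sp Ξ'.K ⟶ sp Ξ.K
  hmk : m ≫ hm Ξ.k = hm Ξ'.k
  t : ∀ i, sp (Ξ'.F.obj i) ⟶ sp (Ξ.F.obj i)
  ht_ι : ∀ i, t i ≫ hm (Ξ.ι.app i) = hm (Ξ'.ι.app i) ≫ m
  ht_α : ∀ i, t i ≫ hm (Ξ.α.app i) = hm (Ξ'.α.app i)
  sq : ∀ i, IsPullback (t i) (hm (Ξ'.ι.app i)) (hm (Ξ.ι.app i)) m

/-- the canonical morphism from a pulled back system -/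
noncomputable def Sys.pullHom (Ξ : Sys D c) {N : Over B} (m : sp N ⟶ sp Ξ.K)
    (hmN : m ≫ str Ξ.K = str N) (hmet : IsEtaleMor m) : SysHom (Ξ.pull m hmN hmet) Ξ where
  m := m
  hmk := rfl
  t := Ξ.pullT m hmN hmet
  ht_ι := Ξ.pullT_ι m hmN hmet
  ht_α := Ξ.pullT_α m hmN hmet
  sq := Ξ.pull_isPullback m hmN hmet

/-- the identity system -/
noncomputable def Sys.id (D : I ⥤ Over B) (c : Cocone D) : Sys D c where
  K := c.pt
  k := 𝟙 _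
  hk := fun U φ hφ => by
    have : φ ≫ hm (𝟙 c.pt) = φ := Category.comp_id _
    rw [this]; exact hφ
  F := D
  α := 𝟙 D
  ι := c.ι
  sq i := by
    have h1 : hm ((𝟙 D : D ⟶ D).app i) = 𝟙 _ := rfl
    have h2 : hm (𝟙 c.pt) = 𝟙 _ := rfl
    rw [h1, h2]
    exact IsPullback.id_vert _


section FF

variable
  (h₁' : ∀ (U U' : Over B) (u : U ⟶ c.pt) (u' : U' ⟶ c.pt), AlgSp.IsEtaleMor u.left.hom →
    AlgSp.IsEtaleMor u'.left.hom →
    ∀ (DU DU' : I ⥤ Over B) (αU : DU ⟶ D) (αU' : DU' ⟶ D) (ιU : DU ⟶ (Functor.const I).obj U)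
      (ιU' : DU' ⟶ (Functor.const I).obj U'),
      (∀ i, IsPullback (ιU.app i).left.hom (αU.app i).left.hom u.left.hom (c.ι.app i).left.hom) →
      (∀ i, IsPullback (ιU'.app i).left.hom (αU'.app i).left.hom u'.left.hom
        (c.ι.app i).left.hom) →
      ∀ (β : DU ⟶ DU'), β ≫ αU' = αU →
        ∃! m : U ⟶ U', m ≫ u' = u ∧ ∀ i, ιU.app i ≫ m = β.app i ≫ ιU'.app i)

include h₁' in
/-- Full faithfulness of base change, in terms of maps of sheaves. -/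
theorem FF (Ξ : Sys D c) (U' : Over B) (u' : U' ⟶ c.pt) (hu' : IsEtaleMor (hm u'))
    (β : ∀ i, sp (Ξ.F.obj i) ⟶ sp U')
    (hβn : ∀ ⦃i j : I⦄ (φ : i ⟶ j), hm (Ξ.F.map φ) ≫ β j = β i)
    (hβ : ∀ i, β i ≫ hm u' = hm (Ξ.α.app i) ≫ hm (c.ι.app i)) :
    ∃! m : sp Ξ.K ⟶ sp U', m ≫ hm u' = hm Ξ.k ∧ ∀ i, hm (Ξ.ι.app i) ≫ m = β i := by
  let X : Sp S := sp c.pt
  have hX : IsAlgSpace X := isAlgSpace_sp c.pt
  let DU' : I ⥤ Over B := PBO D hX (fun i => hm (c.ι.app i)) cocone_w (hm u')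
  let αU' : DU' ⟶ D := PBOα D hX (fun i => hm (c.ι.app i)) cocone_w (hm u')
  let ιU' : DU' ⟶ (Functor.const I).obj U' :=
    PBOι D hX (str c.pt) (fun i => hm (c.ι.app i)) cocone_w (fun i => hm_str _) (hm u')
      (hm_str u')
  let βl : ∀ i, sp (Ξ.F.obj i) ⟶ pullback (hm (c.ι.app i)) (hm u') := fun i =>
    pullback.lift (hm (Ξ.α.app i)) (β i) (hβ i).symm
  have hβl1 : ∀ i, βl i ≫ pullback.fst (hm (c.ι.app i)) (hm u') = hm (Ξ.α.app i) :=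
    fun i => pullback.lift_fst _ _ _
  have hβl2 : ∀ i, βl i ≫ pullback.snd (hm (c.ι.app i)) (hm u') = β i :=
    fun i => pullback.lift_snd _ _ _
  let β' : Ξ.F ⟶ DU' :=
    { app := fun i => mkHom (βl i) (by
        change βl i ≫ pullback.fst (hm (c.ι.app i)) (hm u') ≫ str (D.obj i) = _
        rw [← Category.assoc, hβl1, hm_str])
      naturality := fun i j φ => by
        apply hom_ext'
        change hm (Ξ.F.map φ) ≫ βl j = βl i ≫ PBOmap D (fun i => hm (c.ι.app i)) cocone_w (hm u') φ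
        apply pullback.hom_ext
        · rw [Category.assoc, hβl1, Category.assoc, PBOmap_fst, ← Category.assoc, hβl1]
          exact Ξ.α_w φ
        · rw [Category.assoc, hβl2, Category.assoc, PBOmap_snd, hβl2]
          exact hβn φ }
  have hβ'α : β' ≫ αU' = Ξ.α := by
    apply NatTrans.ext
    funext i
    apply hom_ext'
    exact hβl1 i
  obtain ⟨m₀, ⟨hm1, hm2⟩, huniq⟩ := h₁' Ξ.K U' Ξ.k u' Ξ.hk hu' Ξ.F DU' Ξ.α αU' Ξ.ι ιU' Ξ.sq
    (fun i => (IsPullback.of_hasPullback (hm (c.ι.app i)) (hm u')).flip) β' hβ'α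
  refine ⟨hm m₀, ⟨?_, fun i => ?_⟩, ?_⟩
  · rw [← hm_comp, hm1]
  · have := congrArg hm (hm2 i)
    rw [hm_comp, hm_comp] at this
    rw [this]
    exact hβl2 i
  · rintro m' ⟨hm'1, hm'2⟩
    let m'' : Ξ.K ⟶ U' := mkHom m' (by
      rw [← hm_str u', ← Category.assoc, hm'1, hm_str])
    have := huniq m'' ⟨by apply hom_ext'; exact hm'1, fun i => by
      apply hom_ext'
      change hm (Ξ.ι.app i) ≫ m' = βl i ≫ pullback.snd (hm (c.ι.app i)) (hm u')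
      rw [hm'2, hβl2]⟩
    rw [← this]
    rfl

include h₁' in
theorem FF_ext (Ξ : Sys D c) (U' : Over B) (u' : U' ⟶ c.pt) (hu' : IsEtaleMor (hm u'))
    (m m' : sp Ξ.K ⟶ sp U') (h1 : m ≫ hm u' = hm Ξ.k) (h2 : m' ≫ hm u' = hm Ξ.k)
    (h : ∀ i, hm (Ξ.ι.app i) ≫ m = hm (Ξ.ι.app i) ≫ m') : m = m' := by
  obtain ⟨m₀, -, huniq⟩ := FF h₁' Ξ U' u' hu' (fun i => hm (Ξ.ι.app i) ≫ m)
    (fun i j φ => by rw [← Category.assoc, Ξ.ι_w φ])
    (fun i => by rw [Category.assoc, h1]; exact (Ξ.sq i).w)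
  rw [huniq m ⟨h1, fun i => rfl⟩, huniq m' ⟨h2, fun i => (h i).symm⟩]

end FF

end Groth.Agent.Lib.Helper15.Colim9
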