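import Groth.Agent.Lib.lead.QFCodim
import Groth.Agent.Lib.Helper3.AlgSpNoethChart
import Groth.Agent.Lib.Helper3.AlgSpFlatFieldPt
import Groth.Agent.Lib.Helper3.FieldOfDiscrete
import Groth.Agent.Lib.Helper3.AlgSpHasAtMor
import Groth.Agent.S9945

set_option autoImplicit false
set_option backward.isDefEq.respectTransparency.types false
universe u
open CategoryTheory CategoryTheory.Limits AlgebraicGeometry AlgSp

namespace Groth.Agent.Lib.Helper15.OnePointSp

open Groth.Agent.Lib.Helper3 Groth.Agent.Lib.lead.QFCodim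

variable {S : Scheme.{u}}

/-- specializations inside a discrete subset are trivial. -/
theorem eq_of_specializes_of_isDiscrete {T : Type*} [TopologicalSpace T] {A : Set T}
    (hA : IsDiscrete A) {x y : T} (hx : x ∈ A) (hy : y ∈ A) (h : x ⤳ y) : x = y := by
  haveI : DiscreteTopology ↥A := hA.to_subtype
  have h' : (⟨x, hx⟩ : ↥A) ⤳ ⟨y, hy⟩ :=
    (Topology.IsInducing.subtypeVal.specializes_iff).1 h
  exact congrArg Subtype.val h'.eq

/-- **Etale charts of a locally Noetherian one-point sheaf are discrete.** -/
theorem discreteTopology_chart_of_subsingleton {Z : Sp S} (hN : IsLocNoethSp Z)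
    [Subsingleton (Points Z)] {U : Over S} (a : (yon S).obj U ⟶ Z) (ha : RepWith @Etale a) :
    DiscreteTopology ↥U.left := by
  haveI : IsLocallyNoetherian U.left := isLocallyNoetherian_of_isLocNoethSp hN a ha
  obtain ⟨R, s, t, sq⟩ := exists_pullback_charts a ha.1 a
  haveI hs : Etale s.left := ha.2 a ((yon S).map t) s sq.flip
  haveI ht : Etale t.left := ha.2 a ((yon S).map s) t sq
  haveI : LocallyQuasiFinite s.left := Groth.Agent.S9945.W1.locallyQuasiFinite_of_etale s.left
  refine discreteTopology_of_forall_specializes_eq U.left fun z z' hzz' => ?_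
  obtain ⟨η, hη, hdim⟩ := exists_specializes_dim_zero U.left z'
  obtain ⟨r, hr1, hr2⟩ := exists_of_ofPt_eq_of_isPullback sq η z (Subsingleton.elim _ _)
  have hηz : η ⤳ t.left r := by rw [hr2]; exact hη.trans hzz'
  obtain ⟨r', hr'r, hr'⟩ := (Flat.generalizingMap t.left) hηz
  have h1 : s.left r' ⤳ η := by
    rw [← hr1]; exact hr'r.map s.left.continuous
  have h2 : s.left r' = η := eq_of_specializes_of_dim_zero U.left hdim h1
  have hrr : r' = r :=
    eq_of_specializes_of_isDiscrete (s.left.isDiscrete_preimage_singleton η) h2 hr1 hr'r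
  have hηz' : η = z := by rw [← hr', hrr, hr2]
  subst hηz'
  exact (hzz'.antisymm hη).eq

end Groth.Agent.Lib.Helper15.OnePointSp

namespace Groth.Agent.Lib.Helper15.OnePointSp

open Groth.Agent.Lib.Helper3 Groth.Agent.Lib.lead.QFCodim

variable {S : Scheme.{u}}

/-- every etale chart of a reduced sheaf is reduced. -/
theorem isReduced_chart {Z : Sp S} (hr : EtaleLocally (fun U => IsReduced U) Z) {V : Over S}
    (b : (yon S).obj V ⟶ Z) (hb : RepWith @Etale b) : IsReduced V.left := by
  obtain ⟨U, a, hae, has, hU⟩ := hr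
  obtain ⟨W, pE, pU, sq⟩ := exists_pullback_charts b hb.1 a
  have hpU : Etale pU.left := hb.2 a ((yon S).map pE) pU sq
  have hpE : Etale pE.left := hae.2 b ((yon S).map pU) pE sq.flip
  have hpEs : Surjective pE.left := has.2 b ((yon S).map pU) pE sq.flip
  have : IsReduced U.left := hU
  have hWr : IsReduced W.left := isReduced_of_etale_scheme pU.left
  exact isReduced_of_flat_surjective pE.left

/-- forward direction of the characterization of one-point reduced locally Noetherian spaces -/
theorem exists_lfp_flat_surjective_fieldPt {Z : Sp S} (hZ : IsAlgSpace Z)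
    (hr : EtaleLocally (fun U => IsReduced U) Z) (hN : IsLocNoethSp Z)
    [Nonempty (Points Z)] [Subsingleton (Points Z)] :
    ∃ (k : Type u) (_ : Field k) (str : Spec (CommRingCat.of k) ⟶ S)
      (p : (yon S).obj (Over.mk str) ⟶ Z), RepWith @Etale p ∧ IsSurjectiveMor p := by
  obtain ⟨U, a, hae, has⟩ := hZ.atlas
  obtain ⟨x⟩ := (inferInstance : Nonempty (Points Z))
  obtain ⟨u₀, -⟩ := exists_ofPt_eq a has x
  haveI : IsReduced U.left := isReduced_chart hr a hae
  haveI : DiscreteTopology ↥U.left := discreteTopology_chart_of_subsingleton hN a hae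
  obtain ⟨k, hk, j, hj, -⟩ := exists_field_openImmersion_of_discrete U.left u₀
  let str : Spec (CommRingCat.of k) ⟶ S := j ≫ U.hom
  let jO : Over.mk str ⟶ U := Over.homMk j rfl
  refine ⟨k, hk, str, (yon S).map jO ≫ a, ?_, ?_⟩
  · exact MorphismProperty.comp_mem _ _ _
      ((repWith_yon_map_iff _ jO).2 (inferInstanceAs (Etale j))) hae
  · intro y
    exact ⟨Points.ofScheme _ (IsLocalRing.closedPoint k), Subsingleton.elim _ _⟩

/-- backward direction: local Noetherianity. -/
theorem isLocNoethSp_of_lfp_flat_surjective_fieldPt {Z : Sp S} (hZ : IsAlgSpace Z)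
    (k : Type u) [Field k] (str : Spec (CommRingCat.of k) ⟶ S)
    (p : (yon S).obj (Over.mk str) ⟶ Z) (hpp : LocP @LocallyOfFinitePresentation p)
    (hpf : LocP @Flat p) (hps : IsSurjectiveMor p) : IsLocNoethSp Z := by
  obtain ⟨U, a, hae, has⟩ := hZ.atlas
  refine ⟨U, a, hae, has, ?_⟩
  have hrep : Representable p := hZ.representable_from_yon p
  obtain ⟨W, pK, pU, sq⟩ := exists_pullback_charts p hrep a
  haveI hpK : Etale pK.left := hae.2 p ((yon S).map pU) pK sq.flip
  haveI hflat : Flat pU.left :=
    hpf ((yon S).map pK) a pU ((repWith_yon_map_iff _ _).2 hpK) hae sq.w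
  haveI hlfp : LocallyOfFinitePresentation pU.left :=
    hpp ((yon S).map pK) a pU ((repWith_yon_map_iff _ _).2 hpK) hae sq.w
  haveI hsurj : Surjective pU.left :=
    ((Groth.Agent.S9906.repWith_surjective_iff p hrep).2 hps).2 a ((yon S).map pK) pU sq
  haveI : IsLocallyNoetherian (Spec (CommRingCat.of k)) := inferInstance
  haveI hWn : IsLocallyNoetherian W.left :=
    LocallyOfFiniteType.isLocallyNoetherian (show W.left ⟶ Spec (CommRingCat.of k) from pK.left)
  exact isLocallyNoetherian_of_flat_lfp_surjective pU.left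

/-- the stalks of a reduced discrete scheme are fields. -/
theorem isField_stalk_of_discrete (W : Scheme.{u}) [IsReduced W] [DiscreteTopology ↥W] (w : ↥W) :
    IsField ↥(W.presheaf.stalk w) := by
  haveI : Subsingleton (PrimeSpectrum ↥(W.presheaf.stalk w)) := by
    refine ⟨fun P Q => ?_⟩
    have hinj : Function.Injective (W.fromSpecStalk w) :=
      (inferInstance : IsPreimmersion (W.fromSpecStalk w)).isEmbedding.injective
    apply hinj
    have hP : W.fromSpecStalk w P ⤳ w := by
      have : W.fromSpecStalk w P ∈ Set.range (W.fromSpecStalk w) := ⟨P, rfl⟩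
      rw [Scheme.range_fromSpecStalk] at this; exact this
    have hQ : W.fromSpecStalk w Q ⤳ w := by
      have : W.fromSpecStalk w Q ∈ Set.range (W.fromSpecStalk w) := ⟨Q, rfl⟩
      rw [Scheme.range_fromSpecStalk] at this; exact this
    exact hP.eq.trans hQ.eq.symm
  exact isField_of_isReduced_of_subsingleton_primeSpectrum _

theorem isRegularLocalRing_of_isField (A : Type u) [CommRing A] (hA : IsField A) :
    IsRegularLocalRing A := by
  letI := hA.toField
  infer_instance

end Groth.Agent.Lib.Helper15.OnePointSp
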