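import Groth.Agent.Lib.Helper4.DvrRed
import Groth.Agent.Lib.Helper4.DvrGen
import Groth.Agent.Lib.Helper3.AlgSpChartPts
import Groth.Agent.Lib.Helper3.AlgSpHasAtMor
import Groth.Agent.Lib.Helper15.OnePointSp
import Groth.Agent.S9906
import Groth.Prelude.Def_AlgSp4

set_option autoImplicit false
universe u
open CategoryTheory CategoryTheory.Limits AlgebraicGeometry Opposite MorphismProperty

namespace Groth.Agent.Lib.Helper15.DvrSp

open AlgSp Groth.Agent.Lib.Helper3

section general

variable {S : Scheme.{u}}

/-- Base change of a chart along a morphism of representable targets. -/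
theorem exists_chart_baseChange {X X' : Sp S} {T T' U : Over S} (s : X ⟶ (yon S).obj T)
    (k : T' ⟶ T) (fst : X' ⟶ X) (snd : X' ⟶ (yon S).obj T')
    (sq : IsPullback fst snd s ((yon S).map k)) (p : (yon S).obj U ⟶ X) (h : U ⟶ T)
    (hh : p ≫ s = (yon S).map h) :
    ∃ t : (yon S).obj (pullback h k) ⟶ X',
      IsPullback ((yon S).map (pullback.fst h k)) t p fst ∧
        t ≫ snd = (yon S).map (pullback.snd h k) := by
  have sqT : IsPullback ((yon S).map (pullback.fst h k)) ((yon S).map (pullback.snd h k))
      ((yon S).map h) ((yon S).map k) := (IsPullback.of_hasPullback h k).map (yon S)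
  have hw : ((yon S).map (pullback.fst h k) ≫ p) ≫ s =
      (yon S).map (pullback.snd h k) ≫ (yon S).map k := by
    rw [Category.assoc, hh, sqT.w]
  refine ⟨sq.lift _ _ hw, ?_, sq.lift_snd _ _ hw⟩
  refine IsPullback.of_bot ?_ (sq.lift_fst _ _ hw).symm sq
  rw [sq.lift_snd, hh]
  exact sqT

/-- A universally closed morphism to a representable sheaf is closed on points. -/
theorem isClosedMap_of_isUnivClosedMor {X : Sp S} {T : Over S} (s : X ⟶ (yon S).obj T)
    (hs : IsUnivClosedMor s) : IsClosedMap (Points.map s) :=
  hs (IsAlgSpace.yon_obj T) (𝟙 _) (𝟙 _) s (IsPullback.of_horiz_isIso ⟨by simp⟩)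

/-- Reducedness passes to the base change along an open immersion of representable targets. -/
theorem etaleLocally_isReduced_baseChange {X X' : Sp S} {T T' : Over S} (s : X ⟶ (yon S).obj T)
    (k : T' ⟶ T) (hk : IsOpenImmersion k.left) (fst : X' ⟶ X) (snd : X' ⟶ (yon S).obj T')
    (sq : IsPullback fst snd s ((yon S).map k))
    (hX : EtaleLocally (fun U => IsReduced U) X) : EtaleLocally (fun U => IsReduced U) X' := by
  obtain ⟨U, p, hpe, hps, hU⟩ := hX
  obtain ⟨h, hh⟩ := (yon S).map_surjective (p ≫ s)
  obtain ⟨t, sqt, -⟩ := exists_chart_baseChange s k fst snd sq p h hh.symm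
  refine ⟨pullback h k, t, MorphismProperty.of_isPullback sqt hpe,
    MorphismProperty.of_isPullback sqt hps, ?_⟩
  have sqL : IsPullback (pullback.fst h k).left (pullback.snd h k).left h.left k.left :=
    (IsPullback.of_hasPullback h k).map (Over.forget S)
  haveI : IsOpenImmersion (pullback.fst h k).left :=
    MorphismProperty.of_isPullback (P := @IsOpenImmersion) sqL.flip hk
  haveI : IsReduced U.left := hU
  exact isReduced_of_isOpenImmersion (pullback.fst h k).left

end general

section fibre

variable {R : Type u} [CommRing R] [IsLocalRing R]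

/-- the special fibre via the quotient `R ⧸ 𝔪`. -/
theorem isReduced_fiber_closedPoint {X : Scheme.{u}} (f : X ⟶ Spec (CommRingCat.of R))
    (hred : IsReduced (pullback f (Spec.map (CommRingCat.ofHom (IsLocalRing.residue R))))) :
    IsReduced (f.fiber (IsLocalRing.closedPoint R)) := by
  let y : Spec (CommRingCat.of R) := IsLocalRing.closedPoint R
  have key := Scheme.Spec.map_residueFieldIso_inv_eq_fromSpecResidueField (CommRingCat.of R) y
  have hbij := Ideal.bijective_algebraMap_quotient_residueField (IsLocalRing.maximalIdeal R)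
  let e : (R ⧸ IsLocalRing.maximalIdeal R) ≃+* (IsLocalRing.maximalIdeal R).ResidueField :=
    RingEquiv.ofBijective _ hbij
  let eC : CommRingCat.of (IsLocalRing.ResidueField R) ≅
      CommRingCat.of (IsLocalRing.maximalIdeal R).ResidueField := e.toCommRingCatIso
  have he : CommRingCat.ofHom (IsLocalRing.residue R) ≫ eC.hom =
      CommRingCat.ofHom (algebraMap R (IsLocalRing.maximalIdeal R).ResidueField) := by
    ext r
    rfl
  let i : Spec ((Spec (CommRingCat.of R)).residueField y) ⟶
      Spec (CommRingCat.of (IsLocalRing.ResidueField R)) :=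
    Spec.map (Scheme.Spec.residueFieldIso (CommRingCat.of R) y).inv ≫ Spec.map eC.hom
  have hi : (Spec (CommRingCat.of R)).fromSpecResidueField y =
      i ≫ Spec.map (CommRingCat.ofHom (IsLocalRing.residue R)) := by
    rw [← key, Category.assoc, ← Spec.map_comp (CommRingCat.ofHom (IsLocalRing.residue R))]
    exact congrArg (fun m => Spec.map (Scheme.Spec.residueFieldIso (CommRingCat.of R) y).inv ≫
      Spec.map m) he.symm
  haveI : IsIso i := inferInstance
  let j : pullback f ((Spec (CommRingCat.of R)).fromSpecResidueField y) ⟶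
      pullback f (Spec.map (CommRingCat.ofHom (IsLocalRing.residue R))) :=
    pullback.map _ _ _ _ (𝟙 _) i (𝟙 _) (by simp) (by rw [Category.comp_id, hi])
  haveI : IsIso j := by
    dsimp only [j]
    infer_instance
  haveI : IsOpenImmersion j := IsOpenImmersion.of_isIso j
  have hj : IsReduced (pullback f ((Spec (CommRingCat.of R)).fromSpecResidueField y)) :=
    isReduced_of_isOpenImmersion j
  exact hj

end fibre

section redLocus

theorem isReduced_stalk_of_mem {X : Scheme.{u}} {V : X.Opens} (hV : IsAffineOpen V)
    (hr : _root_.IsReduced Γ(X, V)) (x : X) (hxV : x ∈ V) :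
    _root_.IsReduced (X.presheaf.stalk x) := by
  letI := X.presheaf.algebra_section_stalk ⟨x, hxV⟩
  haveI := hV.isLocalization_stalk ⟨x, hxV⟩
  exact isReduced_localizationPreserves (hV.primeIdealOf ⟨x, hxV⟩).asIdeal.primeCompl _ hr

/-- the set of points with a reduced affine open neighbourhood -/
def redSet (X : Scheme.{u}) : Set X :=
  {x | ∃ V : X.Opens, IsAffineOpen V ∧ x ∈ V ∧ _root_.IsReduced Γ(X, V)}

theorem isOpen_redSet (X : Scheme.{u}) : IsOpen (redSet X) := by
  rw [isOpen_iff_forall_mem_open]
  rintro x ⟨V, hV, hxV, hr⟩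
  exact ⟨V, fun y hy => ⟨V, hV, hy, hr⟩, V.isOpen, hxV⟩

/-- the open locus of points with a reduced affine open neighbourhood -/
def redLocus (X : Scheme.{u}) : X.Opens := ⟨redSet X, isOpen_redSet X⟩

theorem isReduced_redLocus (X : Scheme.{u}) : IsReduced (redLocus X).toScheme := by
  apply +allowSynthFailures isReduced_of_isReduced_stalk
  intro w
  obtain ⟨V, hV, hxV, hr⟩ : (redLocus X).ι w ∈ redSet X := w.2
  have h1 := isReduced_stalk_of_mem hV hr _ hxV
  have hiso : IsIso ((redLocus X).ι.stalkMap w) := inferInstance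
  exact isReduced_of_injective (inv ((redLocus X).ι.stalkMap w)).hom
    ((ConcreteCategory.bijective_of_isIso (inv ((redLocus X).ι.stalkMap w))).injective)

end redLocus

section main

variable (R : Type u) [CommRing R] [IsDomain R] [IsDiscreteValuationRing R]

/-- A flat, locally of finite type, closed-on-points morphism from a sheaf with an atlas to
`Spec` of a DVR whose special fibre is reduced has a reduced atlas. -/
theorem exists_reduced_atlas {X : Sp (Spec (CommRingCat.of R))}
    (hat : ∃ (U : Over (Spec (CommRingCat.of R))) (p : (yon _).obj U ⟶ X),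
      RepWith @Etale p ∧ RepWith @Surjective p)
    (s : X ⟶ (yon (Spec (CommRingCat.of R))).obj (Over.mk (𝟙 _)))
    (hcl : IsClosedMap (Points.map s)) (hlft : LocP @LocallyOfFiniteType s)
    (hfl : LocP @Flat s)
    (h0 : ∀ (X0 : Sp (Spec (CommRingCat.of R))) (fst : X0 ⟶ X)
      (snd : X0 ⟶ (yon (Spec (CommRingCat.of R))).obj
        (Over.mk (Spec.map (CommRingCat.ofHom (IsLocalRing.residue R))))),
      IsPullback fst snd s ((yon (Spec (CommRingCat.of R))).map
        (Over.homMk (Spec.map (CommRingCat.ofHom (IsLocalRing.residue R))) (Category.comp_id _) :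
          Over.mk (Spec.map (CommRingCat.ofHom (IsLocalRing.residue R))) ⟶ Over.mk (𝟙 _))) →
      EtaleLocally (fun U => IsReduced U) X0) :
    EtaleLocally (fun U => IsReduced U) X := by
  obtain ⟨U, p, hpe, hps⟩ := hat
  let T : Over (Spec (CommRingCat.of R)) := Over.mk (𝟙 _)
  obtain ⟨h, hh⟩ := (yon (Spec (CommRingCat.of R))).map_surjective (p ≫ s)
  have hcomm : p ≫ s = (yon (Spec (CommRingCat.of R))).map h ≫ 𝟙 _ := by
    rw [hh, Category.comp_id]
  let g : U.left ⟶ Spec (CommRingCat.of R) := h.left
  haveI hgfl : Flat g := hfl p (𝟙 _) h hpe (repWith_id _ T) hcomm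
  haveI hglft : LocallyOfFiniteType g := hlft p (𝟙 _) h hpe (repWith_id _ T) hcomm
  -- the special fibre of the chart is reduced
  let k0 : Over.mk (Spec.map (CommRingCat.ofHom (IsLocalRing.residue R))) ⟶ T :=
    Over.homMk (Spec.map (CommRingCat.ofHom (IsLocalRing.residue R))) (Category.comp_id _)
  have sq0 := IsPullback.of_hasPullback s ((yon (Spec (CommRingCat.of R))).map k0)
  have hX0 := h0 _ _ _ sq0
  obtain ⟨t, sqt, -⟩ := exists_chart_baseChange s k0 _ _ sq0 p h hh.symm
  have hte : RepWith @Etale t := MorphismProperty.of_isPullback sqt hpe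
  haveI hred0 : IsReduced (pullback h k0).left :=
    Groth.Agent.Lib.Helper15.OnePointSp.isReduced_chart hX0 t hte
  have sqL : IsPullback (pullback.fst h k0).left (pullback.snd h k0).left g
      (Spec.map (CommRingCat.ofHom (IsLocalRing.residue R))) :=
    (IsPullback.of_hasPullback h k0).map (Over.forget _)
  have hredf : IsReduced (g.fiber (IsLocalRing.closedPoint R)) := by
    apply isReduced_fiber_closedPoint
    haveI : IsOpenImmersion sqL.isoPullback.inv := IsOpenImmersion.of_isIso _
    exact isReduced_of_isOpenImmersion sqL.isoPullback.inv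
  -- the reduced locus of the chart contains the special fibre
  let W : U.left.Opens := redLocus U.left
  have hW : ∀ u : U.left, g u = IsLocalRing.closedPoint R → u ∈ W := fun u hu =>
    Groth.Agent.Lib.Helper4.DvrRed.exists_reduced_nbhd g hredf u hu
  -- every point of `X` comes from the reduced locus
  have himg : ∀ x : Points X, ∃ u : U.left, u ∈ W ∧ Points.ofPt p u = x := by
    by_contra hne
    push Not at hne
    obtain ⟨x0, hx0⟩ := hne
    let A : Set (Points X) := Points.ofPt p '' (W : Set U.left)
    have hA : IsOpen A := isOpenMap_ofPt p hpe _ W.isOpen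
    have hC : IsClosed (Points.map s '' Aᶜ) := hcl _ hA.isClosed_compl
    let C : Set (Spec (CommRingCat.of R)) := (Points.schemeHomeo T) ⁻¹' (Points.map s '' Aᶜ)
    have hCc : IsClosed C := hC.preimage (Points.schemeHomeo T).continuous
    have hx0A : x0 ∈ Aᶜ := by
      rintro ⟨u, hu, hux⟩
      exact hx0 u hu hux
    have hmem : (Points.schemeHomeo T).symm (Points.map s x0) ∈ C := by
      change (Points.schemeHomeo T) ((Points.schemeHomeo T).symm (Points.map s x0)) ∈
        (Points.map s '' Aᶜ)
      rw [Homeomorph.apply_symm_apply]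
      exact ⟨x0, hx0A, rfl⟩
    have hcp : IsLocalRing.closedPoint R ∈ C :=
      (IsLocalRing.specializes_closedPoint
        ((Points.schemeHomeo T).symm (Points.map s x0))).mem_closed hCc hmem
    obtain ⟨z, hzA, hz⟩ := hcp
    obtain ⟨u, rfl⟩ := exists_ofPt_eq p hps z
    have h1 : Points.map s (Points.ofPt p u) = Points.schemeHomeo T (g u) := by
      rw [Points.map_ofPt, ← hh, Points.ofPt_eq, Function.comp_apply, Points.map_yon_map_apply]
    rw [h1] at hz
    have hgu : g u = IsLocalRing.closedPoint R := (Points.schemeHomeo T).injective hz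
    exact hzA ⟨u, hW u hgu, rfl⟩
  -- the restricted chart
  refine ⟨Over.mk (W.ι ≫ U.hom), chartRestrict p W, chartRestrict_etale p hpe W, ?_,
    isReduced_redLocus U.left⟩
  rw [Groth.Agent.S9906.repWith_surjective_iff _ (chartRestrict_etale p hpe W).1]
  intro x
  obtain ⟨u, huW, rfl⟩ := himg x
  refine ⟨Points.schemeHomeo _ ⟨u, huW⟩, ?_⟩
  have := congrFun (Points.ofPt_eq (chartRestrict p W)) ⟨u, huW⟩
  rw [Function.comp_apply] at this
  rw [← this, ofPt_chartRestrict]
  rfl

end main

end Groth.Agent.Lib.Helper15.DvrSp
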