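import Groth.Agent.Lib.Helper22.SchGeomConn14
import Groth.Agent.Lib.Helper15.DvrSp
import Groth.Agent.Lib.Helper3.AlgSpChartPts
import Groth.Agent.Lib.Helper3.AlgSpPoints
import Groth.Agent.Lib.Helper3.AlgSpFibre
import Groth.Agent.Lib.Helper3.AlgSpLocSrc2
import Groth.Agent.Lib.Helper3.SpCoprod
import Groth.Agent.S9906

set_option autoImplicit false
universe u
open CategoryTheory CategoryTheory.Limits AlgebraicGeometry Opposite MorphismProperty
open AlgSp

namespace Groth.Agent.Lib.Helper15.ConnBC

open Groth.Agent.Lib.Helper3 Groth.Agent.Lib.Helper15 Groth.Agent.Lib.Helper15.DvrSp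
set_option backward.isDefEq.respectTransparency.types false

section Top

variable {A B : Type*} [TopologicalSpace A] [TopologicalSpace B]

/-- an open continuous surjection with connected fibres induces a bijection on connected
components -/
theorem bijective_connectedComponentsMap {f : A → B} (hc : Continuous f) (ho : IsOpenMap f)
    (hs : Function.Surjective f) (hfib : ∀ b, _root_.IsConnected (f ⁻¹' {b})) :
    Function.Bijective hc.connectedComponentsMap := by
  have hq : Topology.IsQuotientMap f := ho.isQuotientMap hc hs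
  constructor
  · intro a b hab
    obtain ⟨a, rfl⟩ := ConnectedComponents.surjective_coe a
    obtain ⟨b, rfl⟩ := ConnectedComponents.surjective_coe b
    rw [Continuous.connectedComponentsMap_mk, Continuous.connectedComponentsMap_mk,
      ConnectedComponents.coe_eq_coe] at hab
    rw [ConnectedComponents.coe_eq_coe, ← hq.isCoinducing.preimage_connectedComponent hfib a,
      ← hq.isCoinducing.preimage_connectedComponent hfib b, hab]
  · intro c
    obtain ⟨x, rfl⟩ := ConnectedComponents.surjective_coe c
    obtain ⟨x', rfl⟩ := hs x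
    exact ⟨ConnectedComponents.mk x', Continuous.connectedComponentsMap_mk _ _⟩

/-- an open continuous surjection with connected fibres onto a connected space has connected
source -/
theorem connectedSpace_of_fibres {f : A → B} (hc : Continuous f) (ho : IsOpenMap f)
    (hs : Function.Surjective f) (hfib : ∀ b, _root_.IsConnected (f ⁻¹' {b})) [ConnectedSpace B] :
    ConnectedSpace A := by
  have hq : Topology.IsQuotientMap f := ho.isQuotientMap hc hs
  obtain ⟨b⟩ := (inferInstance : Nonempty B)
  obtain ⟨a, rfl⟩ := hs b
  refine connectedSpace_iff_connectedComponent.mpr ⟨a, ?_⟩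
  rw [← hq.isCoinducing.preimage_connectedComponent hfib a,
    PreconnectedSpace.connectedComponent_eq_univ, Set.preimage_univ]

end Top

section Sch

open Groth.Agent.Lib.Helper22.SchGeomConn

/-- the structure morphism of the spectrum of a field extension of a separably closed field is
geometrically connected -/
theorem geometricallyConnected_specMap_of_isSepClosed {k F : Type u} [Field k] [IsSepClosed k]
    [Field F] [Algebra k F] :
    GeometricallyConnected (Spec.map (CommRingCat.ofHom (algebraMap k F))) := by
  apply geometricallyConnected_specMap_of_sepClosedIn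
  intro α hα
  exact minpoly.mem_range_of_degree_eq_one k α
    (IsSepClosed.degree_eq_one_of_irreducible k (minpoly.irreducible hα.isIntegral) hα)

/-- fibres of `X_K ⟶ X` are connected over a separably closed field -/
theorem isConnected_fibre_bcπ {k : Type u} [Field k] [IsSepClosed k] {X : Scheme.{u}}
    (f : X ⟶ Spec (CommRingCat.of k)) (K : Type u) [Field K] [Algebra k K] (x : X) :
    _root_.IsConnected (FBase.bcπ f K ⁻¹' {x}) := by
  letI : Algebra k (X.residueField x) :=
    (Groth.Agent.Lib.Helper18.GeomIrrGen.resMap f x).toAlgebra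
  haveI : GeometricallyConnected (X.fromSpecResidueField x ≫ f) := by
    rw [Groth.Agent.Lib.Helper18.GeomIrrGen.fromSpecResidueField_comp f x]
    exact geometricallyConnected_specMap_of_isSepClosed
  have h := isPreconnected_preimage_range f (X.fromSpecResidueField x) K
  rw [Scheme.range_fromSpecResidueField] at h
  obtain ⟨y, hy⟩ := surjective_bcπ f K x
  exact ⟨⟨y, hy⟩, h⟩

/-- for any pullback square over `Spec K ⟶ Spec k` with `k` separably closed, the projection is
open, surjective and has connected fibres -/
theorem sch_fst_props {k K : Type u} [Field k] [IsSepClosed k] [Field K] [Algebra k K]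
    {U P : Scheme.{u}} (h : U ⟶ Spec (CommRingCat.of k)) (π : P ⟶ U)
    (r : P ⟶ Spec (CommRingCat.of K))
    (sq : IsPullback π r h (Spec.map (CommRingCat.ofHom (algebraMap k K)))) :
    IsOpenMap π ∧ Function.Surjective π ∧ ∀ u, _root_.IsConnected (π ⁻¹' {u}) := by
  have hπ : π = sq.isoPullback.hom ≫ FBase.bcπ h K := (sq.isoPullback_hom_fst).symm
  set e := sq.isoPullback with he
  have hfun : (π : P → U) = (FBase.bcπ h K : _ → U) ∘ (e.hom : P → _) := by
    rw [hπ]; rfl
  refine ⟨?_, ?_, ?_⟩
  · rw [hfun]
    exact (isOpenMap_bcπ h K).comp e.hom.homeomorph.isOpenMap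
  · rw [hfun]
    exact (surjective_bcπ h K).comp e.hom.homeomorph.surjective
  · intro u
    have : (π ⁻¹' {u} : Set P) = (e.inv : _ → P) '' (FBase.bcπ h K ⁻¹' {u}) := by
      ext p
      simp only [Set.mem_preimage, Set.mem_singleton_iff, Set.mem_image]
      constructor
      · intro hp
        refine ⟨e.hom p, ?_, ?_⟩
        · rw [← hp, hfun]; rfl
        · rw [← Scheme.Hom.comp_apply, e.hom_inv_id]; rfl
      · rintro ⟨q, hq, rfl⟩
        rw [hfun, Function.comp_apply, ← Scheme.Hom.comp_apply, e.inv_hom_id]
        exact hq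
    rw [this]
    exact (isConnected_fibre_bcπ h K u).image _ e.inv.continuous.continuousOn

end Sch

section Sp

variable {S : Scheme.{u}}

/-- a morphism of schemes over `S` all of whose base changes are open, surjective and have
connected fibres -/
def ConnFib {T T' : Over S} (c : T' ⟶ T) : Prop :=
  ∀ ⦃U : Over S⦄ (h : U ⟶ T), IsOpenMap (pullback.fst h c).left ∧
    Function.Surjective (pullback.fst h c).left ∧
      ∀ u, _root_.IsConnected ((pullback.fst h c).left ⁻¹' {u})

theorem connFib_of_isSepClosed {k K : Type u} [Field k] [IsSepClosed k] [Field K] [Algebra k K]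
    {T T' : Over S} (c : T' ⟶ T) (eT : T.left = Spec (CommRingCat.of k))
    (eT' : T'.left = Spec (CommRingCat.of K))
    (hc : c.left = eqToHom eT' ≫ Spec.map (CommRingCat.ofHom (algebraMap k K)) ≫ eqToHom eT.symm) :
    ConnFib c := by
  intro U h
  have sq := (IsPullback.of_hasPullback h c).map (Over.forget S)
  simp only [Over.forget_obj, Over.forget_map] at sq
  rw [hc] at sq
  have sq2 : IsPullback (pullback.fst h c).left ((pullback.snd h c).left ≫ eqToHom eT')
      (h.left ≫ eqToHom eT) (Spec.map (CommRingCat.ofHom (algebraMap k K))) := by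
    refine IsPullback.of_iso sq (Iso.refl _) (Iso.refl _) (eqToIso eT') (eqToIso eT) ?_ ?_ ?_ ?_
    · simp
    · simp
    · simp
    · simp
  exact sch_fst_props _ _ _ sq2

/-- core lemma: base change of an algebraic space along a `ConnFib` morphism of schemes -/
theorem core {Z Z' : Sp S} (hZ : IsAlgSpace Z) {T T' : Over S} (c : T' ⟶ T) (hc : ConnFib c)
    (s : Z ⟶ (yon S).obj T) (fst : Z' ⟶ Z) (snd : Z' ⟶ (yon S).obj T')
    (sq : IsPullback fst snd s ((yon S).map c)) :
    IsOpenMap (Points.map fst) ∧ Function.Surjective (Points.map fst) ∧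
      ∀ z, _root_.IsConnected (Points.map fst ⁻¹' {z}) := by
  obtain ⟨U, a, hae, has⟩ := hZ.atlas
  obtain ⟨h, hh⟩ := (yon S).map_surjective (a ≫ s)
  obtain ⟨t, sqt, -⟩ := exists_chart_baseChange s c fst snd sq a h hh.symm
  obtain ⟨ho, hs, hf⟩ := hc h
  set π := pullback.fst h c with hπ
  have hte : RepWith @Etale t := MorphismProperty.of_isPullback sqt hae
  have hts : RepWith @Surjective t := MorphismProperty.of_isPullback sqt has
  have key : ∀ p, Points.map fst (Points.ofPt t p) = Points.ofPt a (π.left p) := by
    intro p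
    rw [Points.map_ofPt, ← sqt.w, Points.ofPt_yon_map_comp]
  refine ⟨?_, ?_, ?_⟩
  · intro O hO
    have : Points.map fst '' O = Points.ofPt a '' (π.left '' (Points.ofPt t ⁻¹' O)) := by
      ext z
      constructor
      · rintro ⟨z', hz', rfl⟩
        obtain ⟨p, rfl⟩ := exists_ofPt_eq t hts z'
        exact ⟨π.left p, ⟨p, hz', rfl⟩, (key p).symm⟩
      · rintro ⟨_, ⟨p, hp, rfl⟩, rfl⟩
        exact ⟨Points.ofPt t p, hp, key p⟩
    rw [this]
    exact isOpenMap_ofPt a hae _ (ho _ ((Points.continuous_ofPt t).isOpen_preimage _ hO))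
  · intro z
    obtain ⟨u, rfl⟩ := exists_ofPt_eq a has z
    obtain ⟨p, rfl⟩ := hs u
    exact ⟨Points.ofPt t p, key p⟩
  · intro z
    obtain ⟨u, rfl⟩ := exists_ofPt_eq a has z
    have : Points.map fst ⁻¹' {Points.ofPt a u} = Points.ofPt t '' (π.left ⁻¹' {u}) := by
      ext z'
      constructor
      · intro hz'
        have hz'' : Points.map a (Points.ofScheme U u) = Points.map fst z' := by
          rw [← Points.ofPt_eq_map_ofScheme]; exact hz'.symm
        obtain ⟨w, hw1, hw2⟩ := Points.exists_of_isPullback sqt _ _ hz''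
        obtain ⟨p, rfl⟩ := (Points.schemeHomeo _).surjective w
        refine ⟨p, ?_, ?_⟩
        · apply (Points.schemeHomeo U).injective
          rw [← Points.map_yon_map_apply]
          exact hw1
        · rw [Points.ofPt_eq_map_ofScheme]; exact hw2
      · rintro ⟨p, hp, rfl⟩
        show Points.map fst (Points.ofPt t p) = _
        rw [key p, hp]
    rw [this]
    exact (hf u).image _ (Points.continuous_ofPt t).continuousOn

theorem bijective_pi0 {Z Z' : Sp S} (hZ : IsAlgSpace Z) {T T' : Over S} (c : T' ⟶ T)
    (hc : ConnFib c) (s : Z ⟶ (yon S).obj T) (fst : Z' ⟶ Z) (snd : Z' ⟶ (yon S).obj T')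
    (sq : IsPullback fst snd s ((yon S).map c)) :
    Function.Bijective (Points.continuous_map fst).connectedComponentsMap := by
  obtain ⟨ho, hs, hf⟩ := core hZ c hc s fst snd sq
  exact bijective_connectedComponentsMap _ ho hs hf

theorem connectedSpace_bc {Z Z' : Sp S} (hZ : IsAlgSpace Z) {T T' : Over S} (c : T' ⟶ T)
    (hc : ConnFib c) (s : Z ⟶ (yon S).obj T) (fst : Z' ⟶ Z) (snd : Z' ⟶ (yon S).obj T')
    (sq : IsPullback fst snd s ((yon S).map c)) [ConnectedSpace (Points Z)] :
    ConnectedSpace (Points Z') := by
  obtain ⟨ho, hs, hf⟩ := core hZ c hc s fst snd sq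
  exact connectedSpace_of_fibres (Points.continuous_map fst) ho hs hf

/-- the product with a representable is the pullback over the base -/
theorem isPullback_prod_base (X : Sp S) (T' : Over S) :
    IsPullback (prod.fst : X ⨯ (yon S).obj T' ⟶ X) prod.snd (SpCoprod.isTerminalYonBase.from X)
      ((yon S).map (Over.homMk T'.hom : T' ⟶ Over.mk (𝟙 S))) := by
  have := IsPullback.of_is_product (prodIsProd X ((yon S).obj T')) (SpCoprod.isTerminalYonBase (S := S))
  have e : (yon S).map (Over.homMk T'.hom : T' ⟶ Over.mk (𝟙 S)) =
      SpCoprod.isTerminalYonBase.from ((yon S).obj T') := SpCoprod.isTerminalYonBase.hom_ext _ _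
  rw [e]
  exact this

/-- the product with a representable is compatible with base change -/
theorem isPullback_prod_map (X : Sp S) {T' T'' : Over S} (c : T'' ⟶ T') :
    IsPullback (prod.map (𝟙 X) ((yon S).map c)) prod.snd prod.snd ((yon S).map c) := by
  have hr := isPullback_prod_base X T'
  have hb := isPullback_prod_base X T''
  refine IsPullback.of_right ?_ (by simp) hr
  have e1 : prod.map (𝟙 X) ((yon S).map c) ≫ (prod.fst : X ⨯ (yon S).obj T' ⟶ X) = prod.fst := by
    simp
  have e2 : (yon S).map c ≫ (yon S).map (Over.homMk T'.hom : T' ⟶ Over.mk (𝟙 S)) =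
      (yon S).map (Over.homMk T''.hom : T'' ⟶ Over.mk (𝟙 S)) := SpCoprod.isTerminalYonBase.hom_ext _ _
  rw [e1, e2]
  exact hb

/-- base change along a surjective morphism of schemes is surjective on points -/
theorem surjective_map_of_isPullback {Z Z' : Sp S} {T T' : Over S} (c : T' ⟶ T)
    (hc : Surjective c.left) (s : Z ⟶ (yon S).obj T) (fst : Z' ⟶ Z) (snd : Z' ⟶ (yon S).obj T')
    (sq : IsPullback fst snd s ((yon S).map c)) : Function.Surjective (Points.map fst) := by
  have h1 : RepWith @Surjective ((yon S).map c) := (repWith_yon_map_iff @Surjective c).2 hc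
  have h2 : RepWith @Surjective fst := MorphismProperty.of_isPullback sq.flip h1
  exact (Groth.Agent.S9906.repWith_surjective_iff fst h2.rep).1 h2

end Sp

end Groth.Agent.Lib.Helper15.ConnBC
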