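import Groth.Agent.Lib.Helper15.ConnFibFlat
import Groth.Agent.Lib.Helper22.GeomConn

/-!
# Base field extensions over a separably closed field (helper15)
-/

set_option autoImplicit false
set_option backward.isDefEq.respectTransparency false
set_option backward.isDefEq.respectTransparency.types false

universe u

namespace Groth.Agent.Lib.Helper15.ConnFib

open CategoryTheory Limits Opposite AlgebraicGeometry TensorProduct

theorem connected_fibre_field {k K : Type u} [Field k] [IsSepClosed k] [Field K] [Algebra k K]
    {S : Scheme.{u}} (a : S ⟶ Spec (CommRingCat.of k))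
    (Ω : Type u) [Field Ω] (s : Spec (CommRingCat.of Ω) ⟶ S) :
    ConnectedSpace ↥(pullback (pullback.fst a (Spec.map (CommRingCat.ofHom (algebraMap k K)))) s) := by
  let j : Spec (CommRingCat.of K) ⟶ Spec (CommRingCat.of k) :=
    Spec.map (CommRingCat.ofHom (algebraMap k K))
  let e : pullback (pullback.fst a j) s ≅ pullback (s ≫ a) j :=
    pullbackSymmetry (pullback.fst a j) s ≪≫ pullbackRightPullbackFstIso a j s
  let φ' : CommRingCat.of k ⟶ CommRingCat.of Ω := Spec.preimage (s ≫ a)
  have hφ' : Spec.map φ' = s ≫ a := Spec.map_preimage _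
  letI : Algebra k Ω := φ'.hom.toAlgebra
  have h1 : CommRingCat.ofHom (algebraMap k Ω) = φ' := rfl
  haveI : ConnectedSpace (PrimeSpectrum K) := inferInstance
  haveI h2 : ConnectedSpace (PrimeSpectrum (Ω ⊗[k] K)) :=
    Groth.Agent.Lib.Helper22.GeomConn.geomConn_of_isSepClosed (S := K) Ω
  haveI h3 : ConnectedSpace ↥(Spec (CommRingCat.of (Ω ⊗[k] K))) := h2
  let e2 : pullback (Spec.map (CommRingCat.ofHom (algebraMap k Ω))) j ≅
      Spec (CommRingCat.of (Ω ⊗[k] K)) := pullbackSpecIso k Ω K
  haveI h4 : ConnectedSpace ↥(pullback (Spec.map (CommRingCat.ofHom (algebraMap k Ω))) j) :=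
    Function.Surjective.connectedSpace (f := e2.inv) e2.inv.homeomorph.surjective e2.inv.continuous
  haveI h5 : ConnectedSpace ↥(pullback (s ≫ a) j) := by
    rw [← hφ', ← h1]
    exact h4
  exact Function.Surjective.connectedSpace (f := e.inv) e.inv.homeomorph.surjective e.inv.continuous

theorem field_main {k K : Type u} [Field k] [IsSepClosed k] [Field K] [Algebra k K]
    {S : Scheme.{u}} (a : S ⟶ Spec (CommRingCat.of k)) (F : EtCoh.Ab S) :
    Function.Bijective (((EtCoh.pullPushAdj
      (pullback.fst a (Spec.map (CommRingCat.ofHom (algebraMap k K))))).unit.app F).hom.app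
        (op (EtCoh.top S))) := by
  haveI : Flat (Spec.map (CommRingCat.ofHom (algebraMap k K))) := by
    rw [HasRingHomProperty.Spec_iff (P := @Flat)]
    exact RingHom.Flat.of_isField (Field.toIsField k) _
  exact flat_main _ (fun Ω _ _ s => connected_fibre_field a Ω s) F

end Groth.Agent.Lib.Helper15.ConnFib
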