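import Groth.Agent.Lib.Helper15.ConnFibMain

/-!
# Flat quasi-compact morphisms with connected geometric fibres (helper15)
-/

set_option autoImplicit false
set_option backward.isDefEq.respectTransparency false
set_option backward.isDefEq.respectTransparency.types false

universe u

namespace Groth.Agent.Lib.Helper15.ConnFib

open CategoryTheory Limits Opposite AlgebraicGeometry

lemma surjective_of_connected_fibres {T S : Scheme.{u}} (f : T ⟶ S)
    (hc : ∀ (Ω : Type u) [Field Ω] [IsAlgClosed Ω] (s : Spec (CommRingCat.of Ω) ⟶ S),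
      ConnectedSpace ↥(pullback f s)) : Surjective f := by
  constructor
  intro x₀
  let Ω := AlgebraicClosure (S.residueField x₀)
  let s : Spec (CommRingCat.of Ω) ⟶ S :=
    Spec.map (CommRingCat.ofHom (algebraMap (S.residueField x₀) Ω)) ≫ S.fromSpecResidueField x₀
  have hs : ∀ a, s a = x₀ := fun a => by
    change (S.fromSpecResidueField x₀) _ = x₀
    exact Scheme.fromSpecResidueField_apply x₀ _
  haveI : ConnectedSpace ↥(pullback f s) := hc Ω s
  obtain ⟨z⟩ : Nonempty ↥(pullback f s) := inferInstance
  refine ⟨(pullback.fst f s) z, ?_⟩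
  have h1 := congrArg (fun φ : pullback f s ⟶ S => φ z) (pullback.condition (f := f) (g := s))
  simp only [Scheme.Hom.comp_apply] at h1
  rw [h1]
  exact hs _

theorem flat_main {T S : Scheme.{u}} (f : T ⟶ S) [Flat f] [QuasiCompact f]
    (hc : ∀ (Ω : Type u) [Field Ω] [IsAlgClosed Ω] (s : Spec (CommRingCat.of Ω) ⟶ S),
      ConnectedSpace ↥(pullback f s))
    (F : EtCoh.Ab S) :
    Function.Bijective (((EtCoh.pullPushAdj f).unit.app F).hom.app (op (EtCoh.top S))) := by
  haveI := surjective_of_connected_fibres f hc
  have hsub : ∀ (S' : Scheme.{u}) (g : S' ⟶ S), Topology.IsQuotientMap (pullback.snd f g).base := by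
    intro S' g
    exact Flat.isQuotientMap_of_surjective _
  exact main f F hc hsub

end Groth.Agent.Lib.Helper15.ConnFib
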