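import Groth.Agent.Lib.Helper23.SecColim
import Groth.Agent.Lib.Helper23.EtGlue2

/-!
# Local equality of sections of an abelian etale sheaf at a point (helper15)
-/

set_option autoImplicit false
set_option backward.isDefEq.respectTransparency false
set_option backward.isDefEq.respectTransparency.types false

universe u

namespace Groth.Agent.Lib.Helper15.LocEqLib

open CategoryTheory Limits Opposite AlgebraicGeometry GrothendieckTopology
open Groth.Agent.Lib.Helper23.EtSite Groth.Agent.Lib.Helper23.EtGlue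
open Groth.Agent.Lib.Helper23.SecColim

variable {X : Scheme.{u}} (G : EtCoh.Ab X)

/-- two sections agree on an etale neighbourhood of the point `w` -/
def LocEq (P : X.Etale) (a b : G.obj.obj (op P)) (w : P.left) : Prop :=
  ∃ (N : X.Etale) (k : N ⟶ P) (n : N.left), k.left n = w ∧ G.obj.map k.op a = G.obj.map k.op b

variable {G}

lemma LocEq.refl (P : X.Etale) (a : G.obj.obj (op P)) (w : P.left) : LocEq G P a a w :=
  ⟨P, 𝟙 P, w, rfl, rfl⟩

lemma LocEq.symm {P : X.Etale} {a b : G.obj.obj (op P)} {w : P.left} (h : LocEq G P a b w) :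
    LocEq G P b a w := by
  obtain ⟨N, k, n, hn, hk⟩ := h
  exact ⟨N, k, n, hn, hk.symm⟩

lemma map_comp_apply' {P Q R : X.Etale} (k : R ⟶ Q) (m : Q ⟶ P) (a : G.obj.obj (op P)) :
    G.obj.map (k ≫ m).op a = G.obj.map k.op (G.obj.map m.op a) := by
  rw [op_comp, Functor.map_comp]
  rfl

/-- local equality is compatible with composition -/
lemma LocEq.of_map {P' P : X.Etale} (m : P' ⟶ P) {a b : G.obj.obj (op P)} {w' : P'.left}
    (h : LocEq G P' (G.obj.map m.op a) (G.obj.map m.op b) w') : LocEq G P a b (m.left w') := by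
  obtain ⟨N, k, n, hn, hk⟩ := h
  refine ⟨N, k ≫ m, n, ?_, ?_⟩
  · have : (k ≫ m).left = k.left ≫ m.left := rfl
    rw [this, Scheme.Hom.comp_apply, hn]
  · rw [map_comp_apply', map_comp_apply', hk]

/-- local equality pulls back -/
lemma LocEq.map {P' P : X.Etale} (m : P' ⟶ P) {a b : G.obj.obj (op P)} {w' : P'.left}
    (h : LocEq G P a b (m.left w')) : LocEq G P' (G.obj.map m.op a) (G.obj.map m.op b) w' := by
  obtain ⟨N, k, n, hn, hk⟩ := h
  obtain ⟨z, hz1, hz2⟩ := Scheme.Pullback.exists_preimage_pullback (f := k.left) (g := m.left) n w' hn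
  refine ⟨fp k m, fp₂ k m, z, hz2, ?_⟩
  rw [← map_comp_apply', ← map_comp_apply', ← fp_cond, map_comp_apply', map_comp_apply', hk]

lemma LocEq.trans {P : X.Etale} {a b c : G.obj.obj (op P)} {w : P.left} (h₁ : LocEq G P a b w)
    (h₂ : LocEq G P b c w) : LocEq G P a c w := by
  obtain ⟨N, k, n, hn, hk⟩ := h₁
  have h₂' : LocEq G N (G.obj.map k.op b) (G.obj.map k.op c) n := LocEq.map k (hn ▸ h₂)
  obtain ⟨N', k', n', hn', hk'⟩ := h₂'
  refine ⟨N', k' ≫ k, n', ?_, ?_⟩
  · have : (k' ≫ k).left = k'.left ≫ k.left := rfl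
    rw [this, Scheme.Hom.comp_apply, hn', hn]
  · rw [map_comp_apply', map_comp_apply', hk, hk']

lemma isOpen_setOf_locEq (P : X.Etale) (a b : G.obj.obj (op P)) :
    IsOpen {w : P.left | LocEq G P a b w} := by
  have : {w : P.left | LocEq G P a b w} =
      ⋃ (N : X.Etale) (k : N ⟶ P) (_ : G.obj.map k.op a = G.obj.map k.op b), Set.range k.left := by
    ext w
    simp only [Set.mem_ofPred_eq, Set.mem_iUnion, Set.mem_range, exists_prop]
    constructor
    · rintro ⟨N, k, n, hn, hk⟩
      exact ⟨N, k, hk, n, hn⟩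
    · rintro ⟨N, k, hk, n, hn⟩
      exact ⟨N, k, n, hn, hk⟩
  rw [this]
  exact isOpen_iUnion fun N => isOpen_iUnion fun k => isOpen_iUnion fun _ => isOpen_range_left k

/-- sections which are locally equal everywhere are equal -/
lemma eq_of_forall_locEq (P : X.Etale) (a b : G.obj.obj (op P)) (h : ∀ w, LocEq G P a b w) :
    a = b := by
  let G' : EtDesc.Sh X := (sheafCompose _ (forget AddCommGrpCat.{u+1})).obj G
  let R : Sieve P :=
    { arrows := fun N k => G.obj.map k.op a = G.obj.map k.op b
      downward_closed := by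
        intro N N' k hk m
        rw [map_comp_apply', map_comp_apply', hk] }
  have hR : R ∈ X.smallEtaleTopology P := by
    apply sieve_mem_of_forall_point
    intro w
    obtain ⟨N, k, n, hn, hk⟩ := h w
    exact ⟨N, k, hk, n, hn⟩
  have hsep := ((isSheaf_iff_isSheaf_of_type _ _).1 G'.2).isSeparated _ hR
  apply hsep.ext
  intro N k hk
  exact hk

end Groth.Agent.Lib.Helper15.LocEqLib
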