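import Groth.Agent.Lib.Helper15.GermLift
import Groth.Agent.Lib.Helper15.LocEq
import Groth.Agent.S0658

/-!
# Agreement loci of sections of an inverse image sheaf are locally constant along fibres (helper15)
-/

set_option autoImplicit false
set_option backward.isDefEq.respectTransparency false
set_option backward.isDefEq.respectTransparency.types false

universe u

namespace Groth.Agent.Lib.Helper15.ConnFib

open CategoryTheory Limits Opposite AlgebraicGeometry GrothendieckTopology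
open Groth.Agent.Lib.Helper23.EtSite Groth.Agent.Lib.Helper23.EtGlue
open Groth.Agent.Lib.Helper23.SecColim
open Groth.Agent.Lib.Helper15.GermLift Groth.Agent.Lib.Helper15.LocEqLib

variable {X S : Scheme.{u}} (f : X ⟶ S) (F : EtCoh.Ab S)

set_option maxHeartbeats 1600000 in
/-- along a scheme `T` mapping to a single geometric point of `U`, the locus where `η t` and `b`
agree is locally constant -/
theorem exists_nhd_const (U : S.Etale) (t : F.obj.obj (op U))
    (b : ((EtCoh.pull f).obj F).obj.obj (op ((EtCoh.bc f).obj U)))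
    {Ω : Type u} [Field Ω] (s : Spec (CommRingCat.of Ω) ⟶ U.left) {T : Scheme.{u}}
    (τ : T ⟶ Spec (CommRingCat.of Ω)) (jU : T ⟶ ((EtCoh.bc f).obj U).left)
    (hj : jU ≫ (pullback.fst U.hom f : ((EtCoh.bc f).obj U).left ⟶ U.left) = τ ≫ s) (z : T) :
    ∃ O : Set T, IsOpen O ∧ z ∈ O ∧
      ((∀ z' ∈ O, LocEq ((EtCoh.pull f).obj F) ((EtCoh.bc f).obj U) (η f F U t) b (jU z')) ∨
        (∀ z' ∈ O, ¬ LocEq ((EtCoh.pull f).obj F) ((EtCoh.bc f).obj U) (η f F U t) b (jU z'))) := by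
  let G := (EtCoh.pull f).obj F
  let Ωz := SeparableClosure (T.residueField z)
  let ζ : Spec (CommRingCat.of Ωz) ⟶ T := geomPt z
  let ξ : Spec (CommRingCat.of Ωz) ⟶ X := (ζ ≫ jU) ≫ ((EtCoh.bc f).obj U).hom
  let Φ := Scheme.pointSmallEtale ξ
  let p : Φ.fiber.obj ((EtCoh.bc f).obj U) := Over.homMk (ζ ≫ jU) rfl
  obtain ⟨V, g, t₂, N, k, y, hp, hk⟩ := exists_local_lift f F ξ U b p
  let t₁ : F.obj.obj (op V) := F.obj.map g.op t
  let BU : Scheme.{u} := ((EtCoh.bc f).obj U).left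
  let BV : Scheme.{u} := ((EtCoh.bc f).obj V).left
  let bg : BV ⟶ BU := ((EtCoh.bc f).map g).left
  haveI : Etale bg := etale_left ((EtCoh.bc f).map g)
  let fU : BU ⟶ U.left := pullback.fst U.hom f
  let fV : BV ⟶ V.left := pullback.fst V.hom f
  let Z' : Scheme.{u} := pullback jU bg
  let pr1 : Z' ⟶ T := pullback.fst jU bg
  let pr2 : Z' ⟶ BV := pullback.snd jU bg
  let gl : V.left ⟶ U.left := g.left
  haveI : Etale gl := etale_left g
  let D : Scheme.{u} := pullback gl s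
  let dV : D ⟶ V.left := pullback.fst gl s
  let dΩ : D ⟶ Spec (CommRingCat.of Ω) := pullback.snd gl s
  haveI : DiscreteTopology D := Groth.Agent.S0658.discreteTopology_of_etale Ω D dΩ
  have hsq : bg ≫ fU = fV ≫ gl := (EtCoh.isPullback_bc_map f g).w
  have hc : (pr2 ≫ fV) ≫ gl = (pr1 ≫ τ) ≫ s := by
    rw [Category.assoc, ← hsq, ← Category.assoc, ← pullback.condition, Category.assoc, hj,
      Category.assoc]
  let c : Z' ⟶ D := pullback.lift (pr2 ≫ fV) (pr1 ≫ τ) hc
  have hcdV : c ≫ dV = pr2 ≫ fV := pullback.lift_fst _ _ _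
  let yk : Spec (CommRingCat.of Ωz) ⟶ BV := (Φ.fiber.map k y).left
  have hyk : yk ≫ bg = ζ ≫ jU := congrArg (fun φ => φ.left) hp
  let z₀ : Spec (CommRingCat.of Ωz) ⟶ Z' := pullback.lift ζ yk hyk.symm
  let z0 : Z' := z₀ default
  have hz01 : pr1 z0 = z := by
    have h1 : z₀ ≫ pr1 = ζ := pullback.lift_fst _ _ _
    have h2 := congrArg (fun φ : Spec (CommRingCat.of Ωz) ⟶ T => φ default) h1
    simp only [Scheme.Hom.comp_apply] at h2
    rw [geomPt_apply] at h2
    exact h2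
  have hz02 : pr2 z0 ∈ Set.range k.left := by
    have h1 : z₀ ≫ pr2 = yk := pullback.lift_snd _ _ _
    have h2 := congrArg (fun φ : Spec (CommRingCat.of Ωz) ⟶ BV => φ default) h1
    simp only [Scheme.Hom.comp_apply] at h2
    have h3 : yk = y.left ≫ k.left := rfl
    rw [h3, Scheme.Hom.comp_apply] at h2
    exact ⟨_, h2.symm⟩
  let d : D := c z0
  let O' : Set Z' := pr2 ⁻¹' (Set.range k.left) ∩ c ⁻¹' {d}
  have hO' : IsOpen O' :=
    ((isOpen_range_left k).preimage pr2.continuous).inter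
      ((isOpen_discrete {d}).preimage c.continuous)
  have hO : IsOpen (pr1 '' O') := pr1.isOpenMap _ hO'
  refine ⟨pr1 '' O', hO, ⟨z0, ⟨hz02, rfl⟩, hz01⟩, ?_⟩
  let v0 : V.left := dV d
  have hB : G.obj.map ((EtCoh.bc f).map g).op (η f F U t) = η f F V t₁ := unit_map f F g t
  -- facts on points of `O'`
  have key : ∀ z'' ∈ O', bg (pr2 z'') = jU (pr1 z'') ∧ fV (pr2 z'') = v0 ∧
      LocEq G ((EtCoh.bc f).obj V) (G.obj.map ((EtCoh.bc f).map g).op b) (η f F V t₂) (pr2 z'') := by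
    rintro z'' ⟨⟨n, hn⟩, hd⟩
    refine ⟨?_, ?_, ⟨N, k, n, hn, hk⟩⟩
    · have h1 := congrArg (fun φ : Z' ⟶ BU => φ z'') (pullback.condition (f := jU) (g := bg))
      simp only [Scheme.Hom.comp_apply] at h1
      exact h1.symm
    · have h1 := congrArg (fun φ : Z' ⟶ V.left => φ z'') hcdV
      simp only [Scheme.Hom.comp_apply] at h1
      have hd' : c z'' = d := hd
      rw [hd'] at h1
      exact h1.symm
  by_cases E : ∃ (V' : S.Etale) (g' : V' ⟶ V) (v' : V'.left), g'.left v' = v0 ∧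
      F.obj.map g'.op t₁ = F.obj.map g'.op t₂
  · left
    rintro _ ⟨z'', hz'', rfl⟩
    obtain ⟨h1, h2, h3⟩ := key z'' hz''
    obtain ⟨V', g', v', hv', hE⟩ := E
    obtain ⟨n3, hn3, -⟩ := exists_point_bc f g' (pr2 z'') v' (hv'.trans h2.symm)
    have h4 : LocEq G ((EtCoh.bc f).obj V) (η f F V t₁) (η f F V t₂) (pr2 z'') :=
      ⟨(EtCoh.bc f).obj V', (EtCoh.bc f).map g', n3, hn3, by
        rw [unit_map, unit_map, hE]⟩
    have h5 : LocEq G ((EtCoh.bc f).obj V) (G.obj.map ((EtCoh.bc f).map g).op (η f F U t))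
        (G.obj.map ((EtCoh.bc f).map g).op b) (pr2 z'') := by
      rw [hB]
      exact h4.trans h3.symm
    have h6 := LocEq.of_map ((EtCoh.bc f).map g) h5
    have h7 : ((EtCoh.bc f).map g).left (pr2 z'') = jU (pr1 z'') := h1
    rw [h7] at h6
    exact h6
  · right
    rintro _ ⟨z'', hz'', rfl⟩ hL
    obtain ⟨h1, h2, h3⟩ := key z'' hz''
    have h7 : ((EtCoh.bc f).map g).left (pr2 z'') = jU (pr1 z'') := h1
    rw [← h7] at hL
    have h5 := LocEq.map ((EtCoh.bc f).map g) hL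
    rw [hB] at h5
    obtain ⟨N', k', n', hn', hk'⟩ := h5.trans h3
    obtain ⟨V', g', v', hv', hE⟩ := exists_nhd_of_eq_on f F V t₁ t₂ N' k' hk' n'
    refine E ⟨V', g', v', ?_, hE⟩
    rw [hv', hn']
    exact h2

end Groth.Agent.Lib.Helper15.ConnFib
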