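import Groth.Agent.Lib.Helper15.ConnFibSat

/-!
# Global sections under a universally submersive morphism with connected geometric fibres (helper15)
-/

set_option autoImplicit false
set_option backward.isDefEq.respectTransparency false
set_option backward.isDefEq.respectTransparency.types false

universe u

namespace Groth.Agent.Lib.Helper15.ConnFib

open CategoryTheory Limits Opposite AlgebraicGeometry GrothendieckTopology
open Groth.Agent.Lib.Helper23.EtSite Groth.Agent.Lib.Helper23.EtGlue
open Groth.Agent.Lib.Helper23.SecColim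
open Groth.Agent.Lib.Helper15.GermLift Groth.Agent.Lib.Helper15.LocEqLib

variable {X S : Scheme.{u}} (f : X ⟶ S) (F : EtCoh.Ab S)

variable (hc : ∀ (Ω : Type u) [Field Ω] [IsAlgClosed Ω] (s : Spec (CommRingCat.of Ω) ⟶ S),
  ConnectedSpace ↥(pullback f s))
variable (hsub : ∀ (S' : Scheme.{u}) (g : S' ⟶ S), Topology.IsQuotientMap (pullback.snd f g).base)

include hsub in
lemma surjective_of_hsub : Surjective f := by
  constructor
  intro x₀
  obtain ⟨q, hq⟩ := (hsub S (𝟙 S)).surjective x₀
  refine ⟨(pullback.fst f (𝟙 S)) q, ?_⟩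
  have h1 := congrArg (fun φ : pullback f (𝟙 S) ⟶ S => φ q) (pullback.condition (f := f) (g := 𝟙 S))
  simp only [Scheme.Hom.comp_apply] at h1
  rw [h1]
  exact hq

lemma bc_map_comp_apply {T' T U : S.Etale} (m : T' ⟶ T) (h : T ⟶ U)
    (a : ((EtCoh.pull f).obj F).obj.obj (op ((EtCoh.bc f).obj U))) :
    ((EtCoh.pull f).obj F).obj.map ((EtCoh.bc f).map (m ≫ h)).op a =
      ((EtCoh.pull f).obj F).obj.map ((EtCoh.bc f).map m).op
        (((EtCoh.pull f).obj F).obj.map ((EtCoh.bc f).map h).op a) := by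
  rw [Functor.map_comp, map_comp_apply']

include hc hsub in
/-- local existence of a lift around every point of the base -/
theorem exists_local (a' : ((EtCoh.pull f).obj F).obj.obj (op ((EtCoh.bc f).obj (EtCoh.top S))))
    (x₀ : S) :
    ∃ (T : S.Etale) (h : T ⟶ EtCoh.top S) (t : F.obj.obj (op T)),
      η f F T t = ((EtCoh.pull f).obj F).obj.map ((EtCoh.bc f).map h).op a' ∧
      x₀ ∈ Set.range h.left := by
  let G := (EtCoh.pull f).obj F
  haveI := surjective_of_hsub f hsub
  obtain ⟨x, hx⟩ := f.surjective x₀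
  let Btop : Scheme.{u} := ((EtCoh.bc f).obj (EtCoh.top S)).left
  obtain ⟨w, -, hw⟩ := Scheme.Pullback.exists_preimage_pullback (f := 𝟙 S) (g := f) x₀ x hx.symm
  let w' : Btop := w
  let ξ := geomPt w' ≫ ((EtCoh.bc f).obj (EtCoh.top S)).hom
  let Φ := Scheme.pointSmallEtale ξ
  let p : Φ.fiber.obj ((EtCoh.bc f).obj (EtCoh.top S)) := Over.homMk (geomPt w') rfl
  obtain ⟨V, g, t₂, N, k, y, hp, hk⟩ := exists_local_lift f F ξ (EtCoh.top S) a' p
  let b : G.obj.obj (op ((EtCoh.bc f).obj V)) := G.obj.map ((EtCoh.bc f).map g).op a'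
  let BV : Scheme.{u} := ((EtCoh.bc f).obj V).left
  let fV : BV ⟶ V.left := pullback.fst V.hom f
  let yl : Spec (CommRingCat.of (SeparableClosure (Btop.residueField w'))) ⟶ N.left := y.left
  let wV : BV := k.left (yl default)
  have hwV : wV ∈ Wset f F V t₂ b := ⟨N, k, yl default, rfl, hk.symm⟩
  let E : V.left.Opens := ⟨fV '' (Wset f F V t₂ b), isOpen_image_Wset f F hc hsub V t₂ b⟩
  let Vx : S.Etale := opn V E
  let ι : Vx ⟶ V := opnι V E
  refine ⟨Vx, ι ≫ g, F.obj.map ι.op t₂, ?_, ?_⟩
  · rw [bc_map_comp_apply, ← unit_map]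
    apply eq_of_forall_locEq
    intro q
    apply LocEq.map
    have hsq := (EtCoh.isPullback_bc_map f ι).w
    have h1 := congrArg (fun φ : ((EtCoh.bc f).obj Vx).left ⟶ V.left => φ q) hsq
    simp only [Scheme.Hom.comp_apply] at h1
    have h2 : ι.left ((pullback.fst Vx.hom f : ((EtCoh.bc f).obj Vx).left ⟶ Vx.left) q) ∈
        (E : Set V.left) := by
      have : ι.left = E.ι := rfl
      rw [this]
      exact (Subtype.property _)
    have h2' : fV (((EtCoh.bc f).map ι).left q) ∈ (E : Set V.left) := Set.mem_of_eq_of_mem h1 h2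
    obtain ⟨w₁, hw₁, hww⟩ := h2'
    exact saturated f F hc V t₂ b w₁ _ hww hw₁
  · -- the point
    have h1 : fV wV ∈ (E : Set V.left) := ⟨wV, hwV, rfl⟩
    refine ⟨(⟨fV wV, h1⟩ : E), ?_⟩
    have h2 : (ι ≫ g).left = E.ι ≫ g.left := rfl
    rw [h2, Scheme.Hom.comp_apply]
    change g.left (fV wV) = x₀
    have h4 : g.left ≫ 𝟙 S = V.hom := Over.w g.hom
    have h5 : g.left = V.hom := (Category.comp_id _).symm.trans h4
    rw [h5]
    have h6 := congrArg (fun φ : BV ⟶ S => φ wV) (pullback.condition (f := V.hom) (g := f))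
    simp only [Scheme.Hom.comp_apply] at h6
    refine (h6 : V.hom (fV wV) = f ((pullback.snd V.hom f : BV ⟶ X) wV)).trans ?_
    -- the image of wV in X is x
    have h7 : k.left ≫ ((EtCoh.bc f).obj V).hom = N.hom := Over.w k.hom
    have h8 : y.left ≫ N.hom = ξ := Over.w y
    have h9 : (pullback.snd V.hom f : BV ⟶ X) wV = x := by
      have h10 : yl ≫ N.hom = ξ := h8
      have h11 : (yl ≫ k.left) ≫ ((EtCoh.bc f).obj V).hom = ξ := by
        rw [Category.assoc, h7, h10]
      have h12 := congrArg (fun φ : Spec (CommRingCat.of (SeparableClosure (Btop.residueField w'))) ⟶ X =>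
        φ default) h11
      have h13 : ξ default = x := by
        change ((EtCoh.bc f).obj (EtCoh.top S)).hom (geomPt w' default) = x
        rw [geomPt_apply]
        exact hw
      exact h12.trans h13
    exact (congrArg (fun z => f z) h9).trans hx

include hc hsub in
/-- global sections of `F` and of its inverse image agree, for a universally submersive morphism
with connected geometric fibres -/
theorem main :
    Function.Bijective (((EtCoh.pullPushAdj f).unit.app F).hom.app (op (EtCoh.top S))) := by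
  haveI := surjective_of_hsub f hsub
  have hinj : ∀ U : S.Etale, Function.Injective (η f F U) := fun U =>
    Groth.Agent.Lib.Helper23.EtUnit.unit_app_injective_of_surjective f F U
  refine ⟨hinj _, ?_⟩
  intro a'
  let G := (EtCoh.pull f).obj F
  let a : G.obj.obj (op ((EtCoh.bc f).obj (EtCoh.top S))) := a'
  let F' : EtDesc.Sh S := (sheafCompose _ (forget AddCommGrpCat.{u+1})).obj F
  let R : Sieve (EtCoh.top S) :=
    { arrows := fun T h => ∃ t : F.obj.obj (op T), η f F T t = G.obj.map ((EtCoh.bc f).map h).op a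
      downward_closed := by
        rintro T T' h ⟨t, ht⟩ m
        refine ⟨F.obj.map m.op t, ?_⟩
        rw [bc_map_comp_apply, ← ht, unit_map] }
  have hR : R ∈ S.smallEtaleTopology (EtCoh.top S) := by
    apply sieve_mem_of_forall_point
    intro x₀
    obtain ⟨T, h, t, ht, hx⟩ := exists_local f F hc hsub a x₀
    exact ⟨T, h, ⟨t, ht⟩, hx⟩
  let x : Presieve.FamilyOfElements F'.obj R.arrows := fun T h hh => hh.choose
  have hx : ∀ (T : S.Etale) (h : T ⟶ EtCoh.top S) (hh : R.arrows h),
      η f F T (x h hh) = G.obj.map ((EtCoh.bc f).map h).op a := fun T h hh => hh.choose_spec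
  have hcompat : x.Compatible := by
    intro T₁ T₂ Z m₁ m₂ h₁ h₂ hh₁ hh₂ hcomm
    apply hinj Z
    change η f F Z (F.obj.map m₁.op (x h₁ hh₁)) = η f F Z (F.obj.map m₂.op (x h₂ hh₂))
    rw [← unit_map, ← unit_map, hx, hx, ← bc_map_comp_apply, ← bc_map_comp_apply, hcomm]
  have hsheaf := (isSheaf_iff_isSheaf_of_type _ _).1 F'.2
  have hsf : Presieve.IsSheafFor F'.obj R.arrows := hsheaf R hR
  let s : F.obj.obj (op (EtCoh.top S)) := hsf.amalgamate x hcompat
  have hs : ∀ (T : S.Etale) (h : T ⟶ EtCoh.top S) (hh : R.arrows h),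
      F.obj.map h.op s = x h hh := fun T h hh => hsf.valid_glue hcompat h hh
  refine ⟨s, ?_⟩
  change η f F (EtCoh.top S) s = a
  apply eq_of_forall_locEq
  intro w
  obtain ⟨T, h, hh, ⟨v', hv'⟩⟩ := exists_arrow_of_mem R hR
    ((pullback.fst (EtCoh.top S).hom f :
      ((EtCoh.bc f).obj (EtCoh.top S)).left ⟶ (EtCoh.top S).left) w)
  obtain ⟨n', hn'1, hn'2⟩ := exists_point_bc f h w v' hv'
  refine ⟨(EtCoh.bc f).obj T, (EtCoh.bc f).map h, n', hn'1, ?_⟩
  rw [unit_map, hs T h hh, hx]

end Groth.Agent.Lib.Helper15.ConnFib
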