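import Groth.Agent.Lib.Helper15.ConnFibKey

/-!
# Saturation and openness of agreement loci (helper15)
-/

set_option autoImplicit false
set_option backward.isDefEq.respectTransparency false
set_option backward.isDefEq.respectTransparency.types false

universe u

namespace Groth.Agent.Lib.Helper15.ConnFib

open CategoryTheory Limits Opposite AlgebraicGeometry GrothendieckTopology
open Groth.Agent.Lib.Helper23.EtSite Groth.Agent.Lib.Helper23.EtGlue
open Groth.Agent.Lib.Helper23.SecColim
open Groth.Agent.Lib.Helper15.GermLift Groth.Agent.Lib.Helper15.LocEqLib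

variable {X S : Scheme.{u}} (f : X ⟶ S) (F : EtCoh.Ab S)

/-- the agreement locus -/
def Wset (U : S.Etale) (t : F.obj.obj (op U))
    (b : ((EtCoh.pull f).obj F).obj.obj (op ((EtCoh.bc f).obj U))) :
    Set ((EtCoh.bc f).obj U).left :=
  {w | LocEq ((EtCoh.pull f).obj F) ((EtCoh.bc f).obj U) (η f F U t) b w}

lemma isOpen_Wset (U : S.Etale) (t : F.obj.obj (op U))
    (b : ((EtCoh.pull f).obj F).obj.obj (op ((EtCoh.bc f).obj U))) : IsOpen (Wset f F U t b) :=
  isOpen_setOf_locEq _ _ _

variable (hc : ∀ (Ω : Type u) [Field Ω] [IsAlgClosed Ω] (s : Spec (CommRingCat.of Ω) ⟶ S),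
  ConnectedSpace ↥(pullback f s))

include hc in
/-- the agreement locus is a union of fibres -/
theorem saturated (U : S.Etale) (t : F.obj.obj (op U))
    (b : ((EtCoh.pull f).obj F).obj.obj (op ((EtCoh.bc f).obj U)))
    (w₁ w₂ : ((EtCoh.bc f).obj U).left)
    (h : (pullback.fst U.hom f : ((EtCoh.bc f).obj U).left ⟶ U.left) w₁ =
      (pullback.fst U.hom f : ((EtCoh.bc f).obj U).left ⟶ U.left) w₂)
    (h₁ : w₁ ∈ Wset f F U t b) : w₂ ∈ Wset f F U t b := by
  let BU : Scheme.{u} := ((EtCoh.bc f).obj U).left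
  let Ul : Scheme.{u} := U.left
  let fU : BU ⟶ Ul := pullback.fst U.hom f
  let u : Ul := fU w₁
  let Ω := AlgebraicClosure (Ul.residueField u)
  let s : Spec (CommRingCat.of Ω) ⟶ Ul :=
    Spec.map (CommRingCat.ofHom (algebraMap (Ul.residueField u) Ω)) ≫ Ul.fromSpecResidueField u
  have hs : ∀ a, s a = u := fun a => by
    change (Ul.fromSpecResidueField u) _ = u
    exact Scheme.fromSpecResidueField_apply u _
  let Z : Scheme.{u} := pullback fU s
  let jU : Z ⟶ BU := pullback.fst fU s
  let τ : Z ⟶ Spec (CommRingCat.of Ω) := pullback.snd fU s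
  have hj : jU ≫ fU = τ ≫ s := pullback.condition
  -- connectedness
  haveI : ConnectedSpace ↥(pullback f (s ≫ U.hom)) := hc Ω (s ≫ U.hom)
  let e : pullback f (s ≫ U.hom) ≅ Z :=
    pullbackSymmetry f (s ≫ U.hom) ≪≫ (pullbackRightPullbackFstIso U.hom f s).symm ≪≫
      pullbackSymmetry s (pullback.fst U.hom f)
  haveI : ConnectedSpace Z :=
    Function.Surjective.connectedSpace (f := e.hom) e.hom.homeomorph.surjective e.hom.continuous
  -- points
  obtain ⟨z₁, hz₁, -⟩ := Scheme.Pullback.exists_preimage_pullback (f := fU) (g := s) w₁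
    (default : Spec (CommRingCat.of Ω)) (hs _).symm
  obtain ⟨z₂, hz₂, -⟩ := Scheme.Pullback.exists_preimage_pullback (f := fU) (g := s) w₂
    (default : Spec (CommRingCat.of Ω)) ((hs _).trans h).symm
  let A : Set Z := jU ⁻¹' (Wset f F U t b)
  have hloc : ∀ z : Z, ∃ O : Set Z, IsOpen O ∧ z ∈ O ∧ (O ⊆ A ∨ O ⊆ Aᶜ) := by
    intro z
    obtain ⟨O, hO, hz, hor⟩ := exists_nhd_const f F U t b s τ jU hj z
    refine ⟨O, hO, hz, ?_⟩
    rcases hor with h1 | h1
    · exact Or.inl fun z' hz' => h1 z' hz'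
    · exact Or.inr fun z' hz' => h1 z' hz'
  have hAo : IsOpen A := by
    rw [isOpen_iff_forall_mem_open]
    intro z hz
    obtain ⟨O, hO, hzO, hor⟩ := hloc z
    rcases hor with h1 | h1
    · exact ⟨O, h1, hO, hzO⟩
    · exact absurd hz (h1 hzO)
  have hAc : IsOpen Aᶜ := by
    rw [isOpen_iff_forall_mem_open]
    intro z hz
    obtain ⟨O, hO, hzO, hor⟩ := hloc z
    rcases hor with h1 | h1
    · exact absurd (h1 hzO) hz
    · exact ⟨O, h1, hO, hzO⟩
  have hclopen : IsClopen A := ⟨⟨hAc⟩, hAo⟩
  rcases isClopen_iff.1 hclopen with h0 | h0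
  · have : z₁ ∈ A := by
      change jU z₁ ∈ Wset f F U t b
      rw [hz₁]
      exact h₁
    rw [h0] at this
    exact absurd this (Set.notMem_empty _)
  · have : z₂ ∈ A := by rw [h0]; trivial
    have h2 : jU z₂ ∈ Wset f F U t b := this
    rw [hz₂] at h2
    exact h2

variable (hsub : ∀ (S' : Scheme.{u}) (g : S' ⟶ S), Topology.IsQuotientMap (pullback.snd f g).base)

include hc hsub in
/-- the image of the agreement locus is open -/
theorem isOpen_image_Wset (U : S.Etale) (t : F.obj.obj (op U))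
    (b : ((EtCoh.pull f).obj F).obj.obj (op ((EtCoh.bc f).obj U))) :
    IsOpen ((pullback.fst U.hom f : ((EtCoh.bc f).obj U).left ⟶ U.left) '' (Wset f F U t b)) := by
  let BU : Scheme.{u} := ((EtCoh.bc f).obj U).left
  let fU : BU ⟶ U.left := pullback.fst U.hom f
  have hq : Topology.IsQuotientMap fU := by
    have h1 : (pullbackSymmetry U.hom f).hom ≫ pullback.snd f U.hom = fU :=
      pullbackSymmetry_hom_comp_snd _ _
    have h2 : Topology.IsQuotientMap (pullback.snd f U.hom) := hsub U.left U.hom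
    have h3 : Topology.IsQuotientMap (pullbackSymmetry U.hom f).hom :=
      (pullbackSymmetry U.hom f).hom.homeomorph.isQuotientMap
    have h4 := h2.comp h3
    have h5 : (fU : BU → U.left) = (pullback.snd f U.hom) ∘ (pullbackSymmetry U.hom f).hom := by
      rw [← h1]
      rfl
    rw [h5]
    exact h4
  change IsOpen (fU '' (Wset f F U t b))
  rw [← hq.isOpen_preimage]
  have hsat : fU ⁻¹' (fU '' (Wset f F U t b)) = Wset f F U t b := by
    apply Set.Subset.antisymm
    · rintro w ⟨w', hw', hww'⟩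
      exact saturated f F hc U t b w' w hww' hw'
    · exact Set.subset_preimage_image _ _
  rw [hsat]
  exact isOpen_Wset f F U t b

end Groth.Agent.Lib.Helper15.ConnFib
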