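import Groth.Agent.Lib.Helper15.ConnBC
import Groth.Agent.Lib.Helper18.GeomConnFin
import Groth.Agent.Lib.Helper3.AlgSpQC7

/-!
# Helper15 — connectedness of `Z_Ω` from the finite subextensions, for algebraic spaces
-/

set_option autoImplicit false
universe u
open CategoryTheory CategoryTheory.Limits AlgebraicGeometry Topology TopologicalSpace TensorProduct
open AlgSp

namespace Groth.Agent.Lib.Helper15.ConnFin

open Groth.Agent.Lib.Helper3 Groth.Agent.Lib.Helper15 Groth.Agent.Lib.Helper15.ConnBC Groth.Agent.Lib.Helper15.DvrSp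
open Groth.Agent.Lib.Helper22 Groth.Agent.Lib.Helper18 Groth.Agent.Lib.Helper18.GeomConnFin
set_option backward.isDefEq.respectTransparency.types false

section Sch

variable {k : Type u} [Field k] {X : Scheme.{u}} (f : X ⟶ Spec (CommRingCat.of k))
  {Ω : Type u} [Field Ω] [Algebra k Ω]

/-- scheme-level core of helper18's argument: a clopen subset of `X_Ω` both of whose halves map
onto every `X_K` (`K` finite) cannot exist. -/
theorem false_of_clopen_images [Algebra.IsAlgebraic k Ω] (x₀ : X)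
    (V : Set ↥(FBase.bc f Ω)) (hV : IsClopen V)
    (h : ∀ K : IntermediateField k Ω, FiniteDimensional k K →
      SchBC.bcMap f K Ω '' V = Set.univ ∧ SchBC.bcMap f K Ω '' Vᶜ = Set.univ) : False := by
  let κ : Type u := IsLocalRing.ResidueField (X.presheaf.stalk x₀)
  letI : Algebra k κ := (GeomIrrGen.resMap f x₀).toAlgebra
  let g : Spec (CommRingCat.of κ) ⟶ X := X.fromSpecResidueField x₀
  have hg : g ≫ f = Spec.map (CommRingCat.ofHom (algebraMap k κ)) :=
    GeomIrrGen.fromSpecResidueField_comp f x₀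
  have hW : IsClopen ((gK f g hg Ω) ⁻¹' V) := hV.preimage (gK f g hg Ω).continuous
  obtain ⟨e, he, hWe⟩ := PrimeSpectrum.isClopen_iff.mp hW
  obtain ⟨K, hKfin, e', he'⟩ := exists_finite_mem_range (κ := κ) e
  obtain ⟨hp1, hp2⟩ := h K hKfin
  obtain ⟨y₀⟩ : Nonempty (PrimeSpectrum (κ ⊗[k] K)) := inferInstance
  obtain ⟨v₁, hv₁V, hv₁⟩ : (gK f g hg K) y₀ ∈ SchBC.bcMap f K Ω '' V := hp1 ▸ Set.mem_univ _
  obtain ⟨v₂, hv₂V, hv₂⟩ : (gK f g hg K) y₀ ∈ SchBC.bcMap f K Ω '' Vᶜ := hp2 ▸ Set.mem_univ _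
  obtain ⟨w₁, hw₁v, hw₁y⟩ := exists_lift f g hg K v₁ y₀ hv₁
  obtain ⟨w₂, hw₂v, hw₂y⟩ := exists_lift f g hg K v₂ y₀ hv₂
  have h1 : w₁ ∈ (gK f g hg Ω) ⁻¹' V := by
    show (gK f g hg Ω) w₁ ∈ V
    rw [hw₁v]; exact hv₁V
  have h2 : w₂ ∉ (gK f g hg Ω) ⁻¹' V := by
    show (gK f g hg Ω) w₂ ∉ V
    rw [hw₂v]; exact hv₂V
  rw [hWe] at h1 h2
  have key : ∀ w : PrimeSpectrum (κ ⊗[k] Ω),
      w ∈ PrimeSpectrum.basicOpen e ↔ e' ∉ ((ρ (κ := κ) K) w).asIdeal := by
    intro w
    rw [PrimeSpectrum.mem_basicOpen, ← he']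
    rfl
  have h3 := (key w₁).mp h1
  rw [hw₁y, ← hw₂y] at h3
  exact h2 ((key w₂).mpr h3)

end Sch

section Sp

variable {S : Scheme.{u}}

theorem isOpenMap_fst_left {T T' U : Over S} (c : T' ⟶ T) [UniversallyOpen c.left] (h : U ⟶ T) :
    IsOpenMap (pullback.fst h c).left := by
  have sq := (IsPullback.of_hasPullback h c).map (Over.forget S)
  simp only [Over.forget_obj, Over.forget_map] at sq
  haveI : UniversallyOpen (pullback.fst h c).left :=
    MorphismProperty.of_isPullback (P := @UniversallyOpen) sq.flip inferInstance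
  exact (pullback.fst h c).left.isOpenMap

theorem isClosedMap_fst_left {T T' U : Over S} (c : T' ⟶ T) [UniversallyClosed c.left]
    (h : U ⟶ T) : IsClosedMap (pullback.fst h c).left := by
  have sq := (IsPullback.of_hasPullback h c).map (Over.forget S)
  simp only [Over.forget_obj, Over.forget_map] at sq
  haveI : UniversallyClosed (pullback.fst h c).left :=
    MorphismProperty.of_isPullback (P := @UniversallyClosed) sq.flip inferInstance
  exact (pullback.fst h c).left.isClosedMap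

/-- base change of an algebraic space along a universally open morphism of schemes is open on
points -/
theorem isOpenMap_map_of_isPullback {Z Z' : Sp S} (hZ : IsAlgSpace Z) {T T' : Over S} (c : T' ⟶ T)
    (hc : ∀ ⦃U : Over S⦄ (h : U ⟶ T), IsOpenMap (pullback.fst h c).left)
    (s : Z ⟶ (yon S).obj T) (fst : Z' ⟶ Z) (snd : Z' ⟶ (yon S).obj T')
    (sq : IsPullback fst snd s ((yon S).map c)) : IsOpenMap (Points.map fst) := by
  obtain ⟨U, a, hae, has⟩ := hZ.atlas
  obtain ⟨h, hh⟩ := (yon S).map_surjective (a ≫ s)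
  obtain ⟨t, sqt, -⟩ := exists_chart_baseChange s c fst snd sq a h hh.symm
  have ho := hc h
  set π := pullback.fst h c with hπ
  have hts : RepWith @Surjective t := MorphismProperty.of_isPullback sqt has
  have key : ∀ p, Points.map fst (Points.ofPt t p) = Points.ofPt a (π.left p) := by
    intro p
    rw [Points.map_ofPt, ← sqt.w, Points.ofPt_yon_map_comp]
  intro O hO
  have : Points.map fst '' O = Points.ofPt a '' (π.left '' (Points.ofPt t ⁻¹' O)) := by
    ext z
    constructor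
    · rintro ⟨z', hz', rfl⟩
      obtain ⟨p, rfl⟩ := exists_ofPt_eq t hts z'
      exact ⟨π.left p, ⟨p, hz', rfl⟩, (key p).symm⟩
    · rintro ⟨_, ⟨p, hp, rfl⟩, rfl⟩
      exact ⟨Points.ofPt t p, hp, key p⟩
  rw [this]
  exact isOpenMap_ofPt a hae _ (ho _ ((Points.continuous_ofPt t).isOpen_preimage _ hO))

/-- base change of an algebraic space along a universally closed morphism of schemes is closed on
points -/
theorem isClosedMap_map_of_isPullback {Z Z' : Sp S} (hZ : IsAlgSpace Z) {T T' : Over S}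
    (c : T' ⟶ T) (hc : ∀ ⦃U : Over S⦄ (h : U ⟶ T), IsClosedMap (pullback.fst h c).left)
    (s : Z ⟶ (yon S).obj T) (fst : Z' ⟶ Z) (snd : Z' ⟶ (yon S).obj T')
    (sq : IsPullback fst snd s ((yon S).map c)) : IsClosedMap (Points.map fst) := by
  obtain ⟨U, a, hae, has⟩ := hZ.atlas
  obtain ⟨h, hh⟩ := (yon S).map_surjective (a ≫ s)
  obtain ⟨t, sqt, -⟩ := exists_chart_baseChange s c fst snd sq a h hh.symm
  have hcl := hc h
  set π := pullback.fst h c with hπ
  have key : ∀ p, Points.map fst (Points.ofPt t p) = Points.ofPt a (π.left p) := by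
    intro p
    rw [Points.map_ofPt, ← sqt.w, Points.ofPt_yon_map_comp]
  have hq : IsQuotientMap (Points.ofPt a) :=
    (isOpenMap_ofPt a hae).isQuotientMap (Points.continuous_ofPt a)
      (fun z => exists_ofPt_eq a has z)
  intro C hC
  rw [← hq.isClosed_preimage]
  have : Points.ofPt a ⁻¹' (Points.map fst '' C) = π.left '' (Points.ofPt t ⁻¹' C) := by
    ext u
    constructor
    · rintro ⟨z', hz', hz''⟩
      have hz3 : Points.map a (Points.ofScheme U u) = Points.map fst z' := by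
        rw [← Points.ofPt_eq_map_ofScheme]; exact hz''.symm
      obtain ⟨w, hw1, hw2⟩ := Points.exists_of_isPullback sqt _ _ hz3
      obtain ⟨p, rfl⟩ := (Points.schemeHomeo _).surjective w
      refine ⟨p, ?_, ?_⟩
      · show Points.ofPt t p ∈ C
        rw [Points.ofPt_eq_map_ofScheme]
        exact hw2 ▸ hz'
      · apply (Points.schemeHomeo U).injective
        rw [← Points.map_yon_map_apply]
        exact hw1
    · rintro ⟨p, hp, rfl⟩
      exact ⟨Points.ofPt t p, hp, key p⟩
  rw [this]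
  exact hcl _ (hC.preimage (Points.continuous_ofPt t))

/-- variant of `exists_chart_baseChange` for an arbitrary pullback square of schemes over `S` -/
theorem exists_chart_of_isPullback {X X' : Sp S} {T T' U P : Over S} (s : X ⟶ (yon S).obj T)
    (k : T' ⟶ T) (fst : X' ⟶ X) (snd : X' ⟶ (yon S).obj T')
    (sq : IsPullback fst snd s ((yon S).map k)) (p : (yon S).obj U ⟶ X) (h : U ⟶ T)
    (hh : p ≫ s = (yon S).map h) (π : P ⟶ U) (st : P ⟶ T') (sqP : IsPullback π st h k) :
    ∃ t : (yon S).obj P ⟶ X',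
      IsPullback ((yon S).map π) t p fst ∧ t ≫ snd = (yon S).map st := by
  have sqT : IsPullback ((yon S).map π) ((yon S).map st) ((yon S).map h) ((yon S).map k) :=
    sqP.map (yon S)
  have hw : ((yon S).map π ≫ p) ≫ s = (yon S).map st ≫ (yon S).map k := by
    rw [Category.assoc, hh, sqT.w]
  refine ⟨sq.lift _ _ hw, ?_, sq.lift_snd _ _ hw⟩
  refine IsPullback.of_bot ?_ (sq.lift_fst _ _ hw).symm sq
  rw [sq.lift_snd, hh]
  exact sqT

end Sp

section Main

variable {S : Scheme.{u}} {k : Type u} [Field k] (σ : Spec (CommRingCat.of k) ⟶ S)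

/-- `Spec L` as a scheme over `S` -/
noncomputable abbrev TL (L : Type u) [Field L] [Algebra k L] : Over S :=
  Over.mk (Spec.map (CommRingCat.ofHom (algebraMap k L)) ≫ σ)

/-- `Spec L ⟶ Spec k` over `S` -/
noncomputable abbrev cL (L : Type u) [Field L] [Algebra k L] : TL σ L ⟶ Over.mk σ :=
  Over.homMk (Spec.map (CommRingCat.ofHom (algebraMap k L))) rfl

/-- `Spec L ⟶ Spec K` over `S` -/
noncomputable def cKL (K L : Type u) [Field K] [Field L] [Algebra k K] [Algebra k L] [Algebra K L]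
    [IsScalarTower k K L] : TL σ L ⟶ TL σ K :=
  Over.homMk (Spec.map (CommRingCat.ofHom (algebraMap K L))) (by
    show Spec.map _ ≫ Spec.map _ ≫ σ = Spec.map _ ≫ σ
    rw [← Category.assoc, ← Spec.map_comp, ← CommRingCat.ofHom_comp,
      ← IsScalarTower.algebraMap_eq])

theorem cKL_cL (K L : Type u) [Field K] [Field L] [Algebra k K] [Algebra k L] [Algebra K L]
    [IsScalarTower k K L] : cKL σ K L ≫ cL σ K = cL σ L := by
  ext
  show Spec.map _ ≫ Spec.map _ = Spec.map _
  rw [← Spec.map_comp, ← CommRingCat.ofHom_comp, ← IsScalarTower.algebraMap_eq]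

variable {U : Over S} (h₀ : U ⟶ Over.mk σ)

/-- the base change `U_L` as a scheme over `S` -/
noncomputable abbrev UL (L : Type u) [Field L] [Algebra k L] : Over S :=
  Over.mk (FBase.bcπ (k := k) h₀.left L ≫ U.hom)

noncomputable abbrev πL (L : Type u) [Field L] [Algebra k L] : UL σ h₀ L ⟶ U :=
  Over.homMk (FBase.bcπ (k := k) h₀.left L) rfl

noncomputable def strL (L : Type u) [Field L] [Algebra k L] : UL σ h₀ L ⟶ TL σ L :=
  Over.homMk (FBase.bcStr (k := k) h₀.left L) (by
    show FBase.bcStr (k := k) h₀.left L ≫ Spec.map _ ≫ σ = FBase.bcπ (k := k) h₀.left L ≫ U.hom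
    rw [← Over.w h₀, ← Category.assoc, ← Category.assoc]
    congr 1
    exact pullback.condition.symm)

theorem sqU (L : Type u) [Field L] [Algebra k L] :
    IsPullback (πL σ h₀ L) (strL σ h₀ L) h₀ (cL σ L) := by
  refine IsPullback.of_map (Over.forget S) ?_ ?_
  · ext
    exact pullback.condition
  · exact IsPullback.of_hasPullback (h₀.left : U.left ⟶ Spec (CommRingCat.of k)) _

noncomputable def bcMapO (K L : Type u) [Field K] [Field L] [Algebra k K] [Algebra k L]
    [Algebra K L] [IsScalarTower k K L] : UL σ h₀ L ⟶ UL σ h₀ K :=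
  Over.homMk (SchBC.bcMap (k := k) h₀.left K L) (by
    show SchBC.bcMap (k := k) h₀.left K L ≫ FBase.bcπ (k := k) h₀.left K ≫ U.hom =
      FBase.bcπ (k := k) h₀.left L ≫ U.hom
    rw [← Category.assoc, SchBC.bcMap_bcπ])

theorem sqUKL (K L : Type u) [Field K] [Field L] [Algebra k K] [Algebra k L]
    [Algebra K L] [IsScalarTower k K L] :
    IsPullback (bcMapO σ h₀ K L) (strL σ h₀ L) (strL σ h₀ K) (cKL σ K L) := by
  refine IsPullback.of_map (Over.forget S) ?_ ?_
  · ext
    exact SchBC.bcMap_bcStr (k := k) h₀.left K L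
  · exact SchBC.isPullback_bcMap (k := k) h₀.left K L

variable {Ω : Type u} [Field Ω] [Algebra k Ω]

/-- If `Z_K` is connected for all finite subextensions `K` of the algebraic extension `Ω/k`,
then `Z_Ω` is connected (algebraic spaces over a field point of `S`). -/
theorem connectedSpace_of_forall_finite [Algebra.IsAlgebraic k Ω]
    {Z : Sp S} (hZ : IsAlgSpace Z) (s : Z ⟶ (yon S).obj (Over.mk σ))
    {ZΩ : Sp S} (fstΩ : ZΩ ⟶ Z) (sndΩ : ZΩ ⟶ (yon S).obj (TL σ Ω))
    (sqΩ : IsPullback fstΩ sndΩ s ((yon S).map (cL σ Ω)))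
    (h : ∀ K : IntermediateField k Ω, FiniteDimensional k K →
      ∃ (ZK : Sp S) (fstK : ZK ⟶ Z) (sndK : ZK ⟶ (yon S).obj (TL σ K)),
        IsPullback fstK sndK s ((yon S).map (cL σ K)) ∧ ConnectedSpace (Points ZK)) :
    ConnectedSpace (Points ZΩ) := by
  obtain ⟨U, a, hae, has⟩ := hZ.atlas
  obtain ⟨h₀, hh⟩ := (yon S).map_surjective (a ≫ s)
  -- nonemptiness
  obtain ⟨Z0, fst0, snd0, sq0, hconn0⟩ := h ⊥ inferInstance
  obtain ⟨z0⟩ : Nonempty (Points Z0) := inferInstance
  obtain ⟨u₀, hu₀⟩ := exists_ofPt_eq a has (Points.map fst0 z0)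
  have hsurjΩ : Function.Surjective (Points.map fstΩ) :=
    surjective_map_of_isPullback (cL σ Ω)
      (GeomDesc.surjective_specMap_field (algebraMap k Ω)) s fstΩ sndΩ sqΩ
  obtain ⟨zΩ, -⟩ := hsurjΩ (Points.map fst0 z0)
  haveI : Nonempty (Points ZΩ) := ⟨zΩ⟩
  -- the chart of `Z_Ω`
  obtain ⟨tΩ, sqtΩ, htΩ⟩ := exists_chart_of_isPullback s (cL σ Ω) fstΩ sndΩ sqΩ a h₀ hh.symm
    (πL σ h₀ Ω) (strL σ h₀ Ω) (sqU σ h₀ Ω)
  haveI : PreconnectedSpace (Points ZΩ) := by
    rw [preconnectedSpace_iff_clopen]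
    intro V hV
    by_contra hcon
    push Not at hcon
    obtain ⟨hVne, hVuniv⟩ := hcon
    have hVne' : V.Nonempty := hVne
    have hVcne : (Vᶜ).Nonempty := Set.nonempty_compl.mpr hVuniv
    let V' : Set ↥(FBase.bc (k := k) h₀.left Ω) := Points.ofPt tΩ ⁻¹' V
    have hV' : IsClopen V' := hV.preimage (Points.continuous_ofPt tΩ)
    refine false_of_clopen_images (k := k) h₀.left u₀ V' hV' ?_
    intro K hKfin
    obtain ⟨ZK, fstK, sndK, sqK, hconnK⟩ := h K hKfin
    -- the transition map `Z_Ω ⟶ Z_K`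
    have hwb : fstΩ ≫ s = (sndΩ ≫ (yon S).map (cKL σ K Ω)) ≫ (yon S).map (cL σ K) := by
      rw [Category.assoc, ← Functor.map_comp, cKL_cL, sqΩ.w]
    let bK : ZΩ ⟶ ZK := sqK.lift fstΩ (sndΩ ≫ (yon S).map (cKL σ K Ω)) hwb
    have hbK1 : bK ≫ fstK = fstΩ := sqK.lift_fst _ _ _
    have hbK2 : bK ≫ sndK = sndΩ ≫ (yon S).map (cKL σ K Ω) := sqK.lift_snd _ _ _
    have sqZK : IsPullback bK sndΩ sndK ((yon S).map (cKL σ K Ω)) := by
      refine IsPullback.of_right ?_ hbK2 sqK
      rw [hbK1, ← Functor.map_comp, cKL_cL]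
      exact sqΩ
    have hZK : IsAlgSpace ZK := isAlgSpace_of_isPullback' (IsAlgSpace.yon_obj _) hZ
      (IsAlgSpace.yon_obj _) sqK
    -- open and closed
    haveI : Subsingleton ↥(Spec (CommRingCat.of K)) := SchGeomIrr.subsingleton_spec_field
    haveI : UniversallyOpen (cKL σ K Ω).left := by
      show UniversallyOpen (Spec.map (CommRingCat.ofHom (algebraMap K Ω)))
      infer_instance
    haveI : Algebra.IsAlgebraic K Ω := Algebra.IsAlgebraic.tower_top (K := k) K
    haveI : IsIntegralHom (cKL σ K Ω).left := by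
      show IsIntegralHom (Spec.map (CommRingCat.ofHom (algebraMap K Ω)))
      rw [IsIntegralHom.SpecMap_iff]
      exact algebraMap_isIntegral_iff.mpr inferInstance
    have hopen : IsOpenMap (Points.map bK) :=
      isOpenMap_map_of_isPullback hZK (cKL σ K Ω) (fun _ h => isOpenMap_fst_left _ h)
        sndK bK sndΩ sqZK
    have hclosed : IsClosedMap (Points.map bK) :=
      isClosedMap_map_of_isPullback hZK (cKL σ K Ω) (fun _ h => isClosedMap_fst_left _ h)
        sndK bK sndΩ sqZK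
    have hp1 : Points.map bK '' V = Set.univ :=
      IsClopen.eq_univ ⟨hclosed V hV.1, hopen V hV.2⟩ (hVne'.image _)
    have hp2 : Points.map bK '' Vᶜ = Set.univ :=
      IsClopen.eq_univ ⟨hclosed _ hV.compl.1, hopen _ hV.compl.2⟩ (hVcne.image _)
    -- the chart of `Z_K`
    obtain ⟨tK, sqtK, htK⟩ := exists_chart_of_isPullback s (cL σ K) fstK sndK sqK a h₀ hh.symm
      (πL σ h₀ K) (strL σ h₀ K) (sqU σ h₀ K)
    have hcomm : (yon S).map (bcMapO σ h₀ K Ω) ≫ tK = tΩ ≫ bK := by
      apply sqK.hom_ext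
      · rw [Category.assoc, ← sqtK.w, ← Category.assoc, ← Functor.map_comp, Category.assoc, hbK1,
          ← sqtΩ.w]
        congr 2
        ext
        exact SchBC.bcMap_bcπ (k := k) h₀.left K Ω
      · rw [Category.assoc, htK, ← Functor.map_comp, Category.assoc, hbK2, ← Category.assoc, htΩ,
          ← Functor.map_comp, (sqUKL σ h₀ K Ω).w]
    have sqL : IsPullback ((yon S).map (bcMapO σ h₀ K Ω)) tΩ tK bK := by
      refine IsPullback.of_bot ?_ hcomm sqZK
      rw [htΩ, htK]
      exact (sqUKL σ h₀ K Ω).map (yon S)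
    have hlift : ∀ (W : Set (Points ZΩ)), Points.map bK '' W = Set.univ →
        SchBC.bcMap (k := k) h₀.left K Ω '' (Points.ofPt tΩ ⁻¹' W) = Set.univ := by
      intro W hW
      rw [Set.eq_univ_iff_forall]
      intro q
      obtain ⟨z, hzW, hz⟩ : Points.ofPt tK q ∈ Points.map bK '' W := hW ▸ Set.mem_univ _
      have hz3 : Points.map tK (Points.ofScheme (UL σ h₀ K) q) = Points.map bK z := by
        rw [← Points.ofPt_eq_map_ofScheme]; exact hz.symm
      obtain ⟨w, hw1, hw2⟩ := Points.exists_of_isPullback sqL _ _ hz3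
      obtain ⟨p, rfl⟩ := (Points.schemeHomeo _).surjective w
      refine ⟨p, ?_, ?_⟩
      · show Points.ofPt tΩ p ∈ W
        rw [Points.ofPt_eq_map_ofScheme]
        exact hw2 ▸ hzW
      · apply (Points.schemeHomeo (UL σ h₀ K)).injective
        show Points.schemeHomeo (UL σ h₀ K) ((bcMapO σ h₀ K Ω).left p) = _
        rw [← Points.map_yon_map_apply]
        exact hw1
    exact ⟨hlift V hp1, hlift Vᶜ hp2⟩
  exact ConnectedSpace.mk ‹_›

end Main

end Groth.Agent.Lib.Helper15.ConnFin
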