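import Mathlib

set_option autoImplicit false
universe v u w
open CategoryTheory CategoryTheory.Limits

namespace Groth.Agent.Lib.Helper15.Cosh

variable {C : Type u} [Category.{v} C] [HasPullbacks C] (W : MorphismProperty C)
  [W.IsStableUnderBaseChange] [W.IsStableUnderComposition] (D : ObjectProperty C)

/-- abelian cosheaves for the covers `W` -/
def IsCosh : ObjectProperty (C ⥤ AddCommGrpCat.{w}) := fun F =>
  ∀ ⦃Y X : C⦄ (π : Y ⟶ X), W π → Function.Surjective (F.map π).hom ∧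
    (F.map π).hom.ker = ((F.map (pullback.fst π π)).hom - (F.map (pullback.snd π π)).hom).range

variable {W D}
variable (hD : ∀ X : C, ∃ (Y : C) (π : Y ⟶ X), W π ∧ D Y)
variable {F G : C ⥤ AddCommGrpCat.{w}} (hF : IsCosh W F) (hG : IsCosh W G)
  (γ : D.ι ⋙ F ⟶ D.ι ⋙ G)

omit [HasPullbacks C] in
/-- naturality of `γ` on elements -/
theorem γ_nat {Y' Y : C} (hY' : D Y') (hY : D Y) (f : Y' ⟶ Y) (y : F.obj Y') :
    γ.app ⟨Y, hY⟩ ((F.map f).hom y) = (G.map f).hom (γ.app ⟨Y', hY'⟩ y) := by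
  have := γ.naturality (ObjectProperty.homMk f : (⟨Y', hY'⟩ : D.FullSubcategory) ⟶ ⟨Y, hY⟩)
  exact congrArg (fun φ => φ.hom y) this

omit [W.IsStableUnderBaseChange] [W.IsStableUnderComposition] in
include hD hF in
/-- the candidate map kills the kernel -/
theorem kills {Y X : C} (π : Y ⟶ X) (hπ : W π) (hY : D Y) (y : F.obj Y)
    (hy : (F.map π).hom y = 0) : (G.map π).hom (γ.app ⟨Y, hY⟩ y) = 0 := by
  have hk : y ∈ (F.map π).hom.ker := hy
  rw [(hF π hπ).2] at hk
  obtain ⟨z, rfl⟩ := hk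
  obtain ⟨Y', ρ, hρ, hY'⟩ := hD (pullback π π)
  obtain ⟨z', rfl⟩ := (hF ρ hρ).1 z
  have e1 : ((F.map (pullback.fst π π)).hom - (F.map (pullback.snd π π)).hom) ((F.map ρ).hom z') =
      (F.map (ρ ≫ pullback.fst π π)).hom z' - (F.map (ρ ≫ pullback.snd π π)).hom z' := by
    rw [AddMonoidHom.sub_apply, F.map_comp, F.map_comp]
    rfl
  rw [e1, map_sub, map_sub, γ_nat γ hY' hY, γ_nat γ hY' hY]
  rw [sub_eq_zero]
  have e2 : ∀ (f : Y' ⟶ Y) (t : G.obj Y'), (G.map π).hom ((G.map f).hom t) = (G.map (f ≫ π)).hom t := by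
    intro f t
    rw [G.map_comp]; rfl
  rw [e2, e2, Category.assoc, Category.assoc, pullback.condition]

/-- the chosen cover -/
noncomputable def cY (X : C) : C := (hD X).choose
/-- the chosen cover -/
noncomputable def cπ (X : C) : cY hD X ⟶ X := (hD X).choose_spec.choose
omit [HasPullbacks C] [W.IsStableUnderBaseChange] [W.IsStableUnderComposition] in
theorem cπ_mem (X : C) : W (cπ hD X) := (hD X).choose_spec.choose_spec.1
omit [HasPullbacks C] [W.IsStableUnderBaseChange] [W.IsStableUnderComposition] in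
theorem cY_mem (X : C) : D (cY hD X) := (hD X).choose_spec.choose_spec.2

/-- the extension on elements -/
noncomputable def αfun (X : C) (x : F.obj X) : G.obj X :=
  (G.map (cπ hD X)).hom (γ.app ⟨cY hD X, cY_mem hD X⟩
    (Function.surjInv (hF (cπ hD X) (cπ_mem hD X)).1 x))

omit [W.IsStableUnderBaseChange] [W.IsStableUnderComposition] in
theorem αfun_spec (X : C) (y : F.obj (cY hD X)) :
    αfun hD hF γ X ((F.map (cπ hD X)).hom y) =
      (G.map (cπ hD X)).hom (γ.app ⟨cY hD X, cY_mem hD X⟩ y) := by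
  unfold αfun
  rw [← sub_eq_zero, ← map_sub, ← map_sub]
  apply kills hD hF γ (cπ hD X) (cπ_mem hD X) (cY_mem hD X)
  rw [map_sub, sub_eq_zero]
  exact Function.surjInv_eq (hF (cπ hD X) (cπ_mem hD X)).1 _

/-- general covers compute the extension -/
theorem αfun_cover {Y₁ X : C} (π₁ : Y₁ ⟶ X) (hY₁ : D Y₁) (y : F.obj Y₁) :
    αfun hD hF γ X ((F.map π₁).hom y) = (G.map π₁).hom (γ.app ⟨Y₁, hY₁⟩ y) := by
  obtain ⟨Y'', σ, hσ, hY''⟩ := hD (pullback π₁ (cπ hD X))
  have hq₁ : W (pullback.fst π₁ (cπ hD X)) := W.pullback_fst _ _ (cπ_mem hD X)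
  have hτ : W (σ ≫ pullback.fst π₁ (cπ hD X)) := W.comp_mem _ _ hσ hq₁
  obtain ⟨y'', rfl⟩ := (hF _ hτ).1 y
  have eF : ∀ {A B E : C} (f : A ⟶ B) (g : B ⟶ E) (t : F.obj A),
      (F.map g).hom ((F.map f).hom t) = (F.map (f ≫ g)).hom t := by
    intro A B E f g t; rw [F.map_comp]; rfl
  have eG : ∀ {A B E : C} (f : A ⟶ B) (g : B ⟶ E) (t : G.obj A),
      (G.map g).hom ((G.map f).hom t) = (G.map (f ≫ g)).hom t := by
    intro A B E f g t; rw [G.map_comp]; rfl
  have hcomm : (σ ≫ pullback.fst π₁ (cπ hD X)) ≫ π₁ = (σ ≫ pullback.snd π₁ (cπ hD X)) ≫ cπ hD X := by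
    rw [Category.assoc, Category.assoc, pullback.condition]
  rw [eF, hcomm, ← eF, αfun_spec, γ_nat γ hY'' (cY_mem hD X), eG, ← hcomm, ← eG,
    ← γ_nat γ hY'' hY₁]

/-- the extension as a natural transformation -/
noncomputable def α : F ⟶ G where
  app X := AddCommGrpCat.ofHom (AddMonoidHom.mk' (αfun hD hF γ X) (by
    intro x x'
    obtain ⟨y, rfl⟩ := (hF (cπ hD X) (cπ_mem hD X)).1 x
    obtain ⟨y', rfl⟩ := (hF (cπ hD X) (cπ_mem hD X)).1 x'
    rw [← map_add, αfun_spec, αfun_spec, αfun_spec, map_add, map_add]))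
  naturality X' X f := by
    ext x'
    obtain ⟨y', rfl⟩ := (hF (cπ hD X') (cπ_mem hD X')).1 x'
    change αfun hD hF γ X ((F.map f).hom ((F.map (cπ hD X')).hom y')) =
      (G.map f).hom (αfun hD hF γ X' ((F.map (cπ hD X')).hom y'))
    rw [αfun_spec]
    have eF : (F.map f).hom ((F.map (cπ hD X')).hom y') = (F.map (cπ hD X' ≫ f)).hom y' := by
      rw [F.map_comp]; rfl
    rw [eF, αfun_cover hD hF γ (cπ hD X' ≫ f) (cY_mem hD X'), G.map_comp]
    rfl

theorem α_app_of_mem (X : C) (hX : D X) (x : F.obj X) :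
    ((α hD hF γ).app X).hom x = (γ.app ⟨X, hX⟩).hom x := by
  change αfun hD hF γ X x = _
  have h1 := αfun_cover hD hF γ (𝟙 X) hX x
  rw [F.map_id, G.map_id] at h1
  exact h1

variable (W D) in
/-- the restriction functor from cosheaves -/
abbrev restr : (IsCosh.{v, u, w} W).FullSubcategory ⥤ (D.FullSubcategory ⥤ AddCommGrpCat.{w}) :=
  ObjectProperty.ι (IsCosh.{v, u, w} W) ⋙
    (Functor.whiskeringLeft D.FullSubcategory C AddCommGrpCat.{w}).obj D.ι

include hD in
theorem full_faithful : (restr.{v, u, w} W D).Full ∧ (restr.{v, u, w} W D).Faithful := by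
  constructor
  · refine ⟨fun {F G} γ => ?_⟩
    refine ⟨ObjectProperty.homMk (α hD F.property γ), ?_⟩
    ext ⟨X, hX⟩ x
    exact α_app_of_mem hD F.property γ X hX x
  · refine ⟨fun {F G} a b hab => ?_⟩
    apply ObjectProperty.hom_ext
    ext X x
    obtain ⟨Y, π, hπ, hY⟩ := hD X
    obtain ⟨y, rfl⟩ := (F.property π hπ).1 x
    have na := a.hom.naturality π
    have nb := b.hom.naturality π
    have h1 : (a.hom.app X).hom ((F.obj.map π).hom y) = (G.obj.map π).hom ((a.hom.app Y).hom y) :=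
      congrArg (fun φ => φ.hom y) na
    have h2 : (b.hom.app X).hom ((F.obj.map π).hom y) = (G.obj.map π).hom ((b.hom.app Y).hom y) :=
      congrArg (fun φ => φ.hom y) nb
    have h3 : (a.hom.app Y).hom y = (b.hom.app Y).hom y := by
      have := congrArg (fun (φ : (restr.{v, u, w} W D).obj F ⟶ (restr.{v, u, w} W D).obj G) =>
        (φ.app ⟨Y, hY⟩).hom y) hab
      exact this
    exact h1.trans ((congrArg _ h3).trans h2.symm)

end Groth.Agent.Lib.Helper15.Cosh
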