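import Groth.Agent.S1386
import Groth.Agent.Lib.Helper15.AlgSpFlatAt

set_option autoImplicit false
universe u
open AlgebraicGeometry CategoryTheory Limits

namespace Groth.Agent.Lib.Helper15.CritOk

theorem critHyp : AlgSpFlatAt.CritHyp.{u} := fun h l => Groth.Agent.S1386.result h l

end Groth.Agent.Lib.Helper15.CritOk
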