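import Mathlib

set_option autoImplicit false
universe v u
open CategoryTheory CategoryTheory.Limits

namespace Groth.Agent.Lib.Helper15.Cube

variable {C : Type u} [Category.{v} C]

/-- Two-level base change along a composite `s ≫ pW`: the map `F` between the pullbacks along
`s ≫ pW` is a base change of the map `γ` between the pullbacks along `pW`. -/
theorem exists_cube {U V W K' T GU GV UT VT : C} (h : U ⟶ V) (l : V ⟶ W) (pW : K' ⟶ W) (s : T ⟶ K')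
    {g₁U : GU ⟶ U} {g₂U : GU ⟶ K'} (sqU : IsPullback g₁U g₂U (h ≫ l) pW)
    {g₁V : GV ⟶ V} {g₂V : GV ⟶ K'} (sqV : IsPullback g₁V g₂V l pW) (γ : GU ⟶ GV)
    (hγ1 : γ ≫ g₁V = g₁U ≫ h) (hγ2 : γ ≫ g₂V = g₂U)
    {pU : UT ⟶ U} {qU : UT ⟶ T} (sqUT : IsPullback pU qU (h ≫ l) (s ≫ pW))
    {pV : VT ⟶ V} {qV : VT ⟶ T} (sqVT : IsPullback pV qV l (s ≫ pW)) (F : UT ⟶ VT)
    (hF1 : F ≫ pV = pU ≫ h) (hF2 : F ≫ qV = qU) :
    ∃ (A : UT ⟶ GU) (B : VT ⟶ GV), A ≫ g₁U = pU ∧ B ≫ g₁V = pV ∧ IsPullback A F γ B ∧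
      IsPullback A qU g₂U s ∧ IsPullback B qV g₂V s := by
  let B : VT ⟶ GV := sqV.lift pV (qV ≫ s) (by rw [Category.assoc]; exact sqVT.w)
  have hB1 : B ≫ g₁V = pV := sqV.lift_fst _ _ _
  have hB2 : B ≫ g₂V = qV ≫ s := sqV.lift_snd _ _ _
  let A : UT ⟶ GU := sqU.lift pU (qU ≫ s) (by rw [Category.assoc]; exact sqUT.w)
  have hA1 : A ≫ g₁U = pU := sqU.lift_fst _ _ _
  have hA2 : A ≫ g₂U = qU ≫ s := sqU.lift_snd _ _ _
  have sqB : IsPullback B qV g₂V s := by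
    refine IsPullback.of_right ?_ hB2 sqV
    rw [hB1]
    exact sqVT
  have sqA : IsPullback A qU g₂U s := by
    refine IsPullback.of_right ?_ hA2 sqU
    rw [hA1]
    exact sqUT
  have hcomm : A ≫ γ = F ≫ B := by
    apply sqV.hom_ext
    · rw [Category.assoc, hγ1, ← Category.assoc, hA1, Category.assoc, hB1, hF1]
    · rw [Category.assoc, hγ2, hA2, Category.assoc, hB2, ← Category.assoc, hF2]
  have sq : IsPullback A F γ B := by
    refine IsPullback.of_bot ?_ hcomm sqB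
    rw [hF2, hγ2]
    exact sqA
  exact ⟨A, B, hA1, hB1, sq, sqA, sqB⟩

end Groth.Agent.Lib.Helper15.Cube
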