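import Groth.Agent.Lib.Helper3.AlgSpSmLocal2
import Groth.Prelude.Def_AlgSpCov

set_option autoImplicit false
universe u
open CategoryTheory CategoryTheory.Limits AlgebraicGeometry Opposite MorphismProperty

namespace Groth.Agent.Lib.Helper15.ESL

open AlgSp Groth.Agent.Lib.Helper3

variable {S : Scheme.{u}}

/-- The three hypotheses: etale local on the source, smooth local on the base, stable under
postcomposition with open immersions. -/
structure Hyp (P : MorphismProperty (Sp S)) : Prop where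
  h1 : IsLocalOnSource (IsEtCover (S := S)) P
  h2 : IsLocalOnBase (IsSmCover (S := S)) P
  h3 : ∀ ⦃X Y Z : Sp S⦄, IsAlgSpace X → IsAlgSpace Y → IsAlgSpace Z → ∀ (f : X ⟶ Y) (j : Y ⟶ Z),
    P f → RepWith @IsOpenImmersion j → P (f ≫ j)

variable {P : MorphismProperty (Sp S)}

namespace Hyp

theorem precomp (hP : Hyp P) {X Y Z : Sp S} (hX : IsAlgSpace X) (hY : IsAlgSpace Y)
    (hZ : IsAlgSpace Z) (f : X ⟶ Y) (g : Y ⟶ Z) (hf : IsEtaleMor f) (hg : P g) : P (f ≫ g) := by
  have key := hP.h1 (optFam X Y) (optHom f (𝟙 Y)) hY (by rintro (_ | _); exacts [hX, hY])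
    ⟨by rintro (_ | _); exacts [hf, isEtaleMor_id Y],
      fun y => ⟨some PUnit.unit, y, Points.map_id y⟩⟩ g hZ
  exact key.1 hg none

theorem baseChange (hP : Hyp P) {X Y X' Y' : Sp S} (hX : IsAlgSpace X) (hY : IsAlgSpace Y)
    (hX' : IsAlgSpace X') (hY' : IsAlgSpace Y') (f : X ⟶ Y) (g : Y' ⟶ Y) (f' : X' ⟶ Y')
    (g' : X' ⟶ X) (sq : IsPullback g' f' f g) (hg : LocP @Smooth g) (hf : P f) : P f' := by
  have key := hP.h2 (optFam Y' Y) (optHom g (𝟙 Y)) hY (by rintro (_ | _); exacts [hY', hY])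
    ⟨by rintro (_ | _); exacts [hg, locP_smooth_id Y],
      fun y => ⟨some PUnit.unit, y, Points.map_id y⟩⟩ f hX (optFam X' X) (optMap f' f)
    (optHom g' (𝟙 X)) (by rintro (_ | _); exacts [hX', hX])
    (by rintro (_ | _); exacts [sq, IsPullback.of_id_fst])
  exact key.1 hf none

/-- Descent along one etale morphism surjective on points. -/
theorem of_etale_surj (hP : Hyp P) {X' X Y : Sp S} (hX' : IsAlgSpace X') (hX : IsAlgSpace X)
    (hY : IsAlgSpace Y) (a : X' ⟶ X) (f : X ⟶ Y) (ha : IsEtaleMor a)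
    (hs : Function.Surjective (Points.map a)) (h : P (a ≫ f)) : P f := by
  refine (hP.h1 (fun _ : PUnit.{u+1} => X') (fun _ => a) hX (fun _ => hX')
    ⟨fun _ => ha, fun x => ⟨PUnit.unit, hs x⟩⟩ f hY).2 fun _ => h

/-- Descent along one smooth morphism surjective on points. -/
theorem descend (hP : Hyp P) {X Y X' Y' : Sp S} (hX : IsAlgSpace X) (hY : IsAlgSpace Y)
    (hX' : IsAlgSpace X') (hY' : IsAlgSpace Y') (f : X ⟶ Y) (g : Y' ⟶ Y) (f' : X' ⟶ Y')
    (g' : X' ⟶ X) (sq : IsPullback g' f' f g) (hg : LocP @Smooth g)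
    (hs : Function.Surjective (Points.map g)) (hf' : P f') : P f := by
  refine (hP.h2 (fun _ : PUnit.{u+1} => Y') (fun _ => g) hY (fun _ => hY')
    ⟨fun _ => hg, fun y => ⟨PUnit.unit, hs y⟩⟩ f hX (fun _ => X') (fun _ => f') (fun _ => g')
    (fun _ => hX') (fun _ => sq)).2 fun _ => hf'

set_option backward.isDefEq.respectTransparency.types false in
theorem of_iso_comp (hP : Hyp P) {X' X Y : Sp S} (hX' : IsAlgSpace X') (hX : IsAlgSpace X)
    (hY : IsAlgSpace Y) (a : X' ⟶ X) [IsIso a] (f : X ⟶ Y) : P (a ≫ f) ↔ P f := by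
  constructor
  · intro h
    have := hP.precomp hX hX' hY (inv a) (a ≫ f)
      (isEtaleMor_of_repWith_etale (MorphismProperty.of_isIso (RepWith @Etale) (inv a))) h
    simpa using this
  · intro h
    exact hP.precomp hX' hX hY a f
      (isEtaleMor_of_repWith_etale (MorphismProperty.of_isIso (RepWith @Etale) a)) h

set_option backward.isDefEq.respectTransparency.types false in
theorem comp_iso (hP : Hyp P) {X Y Y' : Sp S} (hX : IsAlgSpace X) (hY : IsAlgSpace Y)
    (hY' : IsAlgSpace Y') (f : X ⟶ Y) (j : Y ⟶ Y') [IsIso j] : P (f ≫ j) ↔ P f := by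
  constructor
  · intro h
    have := hP.h3 hX hY' hY (f ≫ j) (inv j) h
      (MorphismProperty.of_isIso (RepWith @IsOpenImmersion) (inv j))
    simpa using this
  · intro h
    exact hP.h3 hX hY hY' f j h (MorphismProperty.of_isIso (RepWith @IsOpenImmersion) j)

end Hyp

end Groth.Agent.Lib.Helper15.ESL
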