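import Groth.Agent.Lib.Helper15.ESL9
import Groth.Agent.Lib.Helper3.AlgSpLocP3
import Mathlib.RingTheory.RingHom.StandardSmooth
import Mathlib.AlgebraicGeometry.Morphisms.Etale

set_option autoImplicit false
universe u
open CategoryTheory CategoryTheory.Limits AlgebraicGeometry Opposite MorphismProperty

namespace Groth.Agent.Lib.Helper15.ESL

open AlgSp Groth.Agent.Lib.Helper3 MvPolynomial TensorProduct

variable {S : Scheme.{u}} {P : MorphismProperty (Sp S)}

section LemB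

variable {R : Type u} [CommRing R] (τ : Spec (CommRingCat.of R) ⟶ S)

/-- (Lemma B) The main claim for a standard smooth algebra over an affine base. -/
theorem mcall_standardSmooth (hP : Hyp P) (B : Type u) [CommRing B] [Algebra R B]
    (hB : (algebraMap R B).IsStandardSmooth) {X : Sp S} (hX : IsAlgSpace X)
    (f : X ⟶ (yon S).obj (ov τ R)) :
    MCall P f ((yon S).map (ovMap τ (Algebra.ofId R B))) := by
  have hA : ∀ T : Over S, IsAlgSpace ((yon S).obj T) := IsAlgSpace.yon_obj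
  obtain ⟨n, χ, hχC, hχe⟩ := RingHom.IsStandardSmooth.exists_etale_mvPolynomial hB
  have hcm : ∀ r : R, χ (algebraMap R (MvPolynomial (Fin n) R) r) = algebraMap R B r := by
    intro r
    exact congrArg (fun g => g r) hχC
  let χa : MvPolynomial (Fin n) R →ₐ[R] B := { χ with commutes' := hcm }
  have hfac : Algebra.ofId R B = χa.comp (Algebra.ofId R (MvPolynomial (Fin n) R)) := by
    ext
  have hce : IsEtaleMor ((yon S).map (ovMap τ χa)) := by
    rw [isEtaleMor_yon_map_iff, ovMap_left]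
    exact (HasRingHomProperty.Spec_iff (P := @Etale)).2 hχe
  rw [hfac, ovMap_comp, Functor.map_comp]
  intro W p q hW sq w hw
  exact mc_of_factor hP hX (hA _) (hA _) (hA _) hW hce sq (mcall_affine τ hP (Fin n) hX f) w hw

end LemB

section LemC

set_option backward.isDefEq.respectTransparency.types false in
/-- (Lemma C) The main claim for a smooth morphism of schemes. -/
theorem mcall_scheme (hP : Hyp P) {V₀ Y₀ : Over S} (ψ : V₀ ⟶ Y₀) (hψ : Smooth ψ.left)
    {X : Sp S} (hX : IsAlgSpace X) (f : X ⟶ (yon S).obj Y₀) :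
    MCall P f ((yon S).map ψ) := by
  have hA : ∀ T : Over S, IsAlgSpace ((yon S).obj T) := IsAlgSpace.yon_obj
  intro W p q hW sq w hw
  obtain ⟨v₀, hv₀⟩ := (Points.schemeHomeo V₀).surjective (Points.map q w)
  obtain ⟨U, hU, V', hV', hv₀V', e, hss⟩ := Smooth.exists_isStandardSmooth ψ.left v₀
  letI : Algebra ↑Γ(Y₀.left, U) ↑Γ(V₀.left, V') := (ψ.left.appLE U V' e).hom.toAlgebra
  let τ : Spec (CommRingCat.of ↑Γ(Y₀.left, U)) ⟶ S := hU.fromSpec ≫ Y₀.hom
  have hnat : hV'.fromSpec ≫ ψ.left =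
      Spec.map (CommRingCat.ofHom (algebraMap ↑Γ(Y₀.left, U) ↑Γ(V₀.left, V'))) ≫ hU.fromSpec :=
    (IsAffineOpen.SpecMap_appLE_fromSpec ψ.left hU hV' e).symm
  let j₁ : ov τ ↑Γ(Y₀.left, U) ⟶ Y₀ := Over.homMk hU.fromSpec (by
    change hU.fromSpec ≫ Y₀.hom = Spec.map (𝟙 _) ≫ hU.fromSpec ≫ Y₀.hom
    rw [Spec.map_id, Category.id_comp])
  let c₁ : ov τ ↑Γ(V₀.left, V') ⟶ V₀ := Over.homMk hV'.fromSpec (by
    change hV'.fromSpec ≫ V₀.hom = Spec.map _ ≫ hU.fromSpec ≫ Y₀.hom
    rw [← Over.w ψ, ← Category.assoc, hnat, Category.assoc])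
  have hkey : c₁ ≫ ψ = ovMap τ (Algebra.ofId ↑Γ(Y₀.left, U) ↑Γ(V₀.left, V')) ≫ j₁ := by
    ext : 1
    exact hnat
  have hj₁ : IsEtaleMor ((yon S).map j₁) := by
    rw [isEtaleMor_yon_map_iff]
    have : IsOpenImmersion j₁.left := inferInstanceAs (IsOpenImmersion hU.fromSpec)
    infer_instance
  have hc₁ : IsEtaleMor ((yon S).map c₁) := by
    rw [isEtaleMor_yon_map_iff]
    have : IsOpenImmersion c₁.left := inferInstanceAs (IsOpenImmersion hV'.fromSpec)
    infer_instance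
  obtain ⟨v₁, hv₁⟩ : ∃ v₁ : ↥(Spec Γ(V₀.left, V')), hV'.fromSpec v₁ = v₀ := by
    have : v₀ ∈ Set.range hV'.fromSpec := by
      rw [hV'.range_fromSpec]
      exact hv₀V'
    exact this
  have H : MCall P f ((yon S).map c₁ ≫ (yon S).map ψ) := by
    rw [← Functor.map_comp, hkey, Functor.map_comp]
    intro W' p' q' hW' sq' w' hw'
    have sqj := IsPullback.of_hasPullback f ((yon S).map j₁)
    have hT : IsAlgSpace (pullback f ((yon S).map j₁)) :=
      isAlgSpace_of_isPullback' (hA _) hX (hA _) sqj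
    exact mc_of_base hP hX (hA _) (hA _) (hA _) hW' hj₁ sq'
      (mcall_standardSmooth τ hP _ hss hT _) w' hw'
  refine mc_of_cover hP hX (hA _) (hA _) (hA _) hW hc₁ sq H w
    (Points.schemeHomeo (ov τ ↑Γ(V₀.left, V')) v₁) ?_ hw
  rw [Points.map_yon_map_apply, ← hv₀]
  congr 1
  exact hv₁.symm

end LemC

section LemD

set_option backward.isDefEq.respectTransparency.types false in
/-- (Lemma D) The main claim for a smooth morphism of algebraic spaces. -/
theorem mcall_smooth (hP : Hyp P) {X Y V : Sp S} (hX : IsAlgSpace X) (hY : IsAlgSpace Y)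
    (hV : IsAlgSpace V) (f : X ⟶ Y) (b : V ⟶ Y) (hb : LocP @Smooth b) : MCall P f b := by
  have hA : ∀ T : Over S, IsAlgSpace ((yon S).obj T) := IsAlgSpace.yon_obj
  intro W p q hW sq w hw
  obtain ⟨Y₀, j₀, hj₀e, hj₀s⟩ := hY.atlas
  obtain ⟨V₀, u, ψ, -, -, hee, hes, -, hcomm⟩ := exists_chart_over hV hY b j₀ hj₀e
  have hψ : Smooth ψ.left := hb _ _ ψ hee hj₀e hcomm
  have he : IsEtaleMor (u ≫ pullback.fst b j₀) := isEtaleMor_of_repWith_etale hee
  have hj₀ : IsEtaleMor j₀ := isEtaleMor_of_repWith_etale hj₀e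
  obtain ⟨v₀, hv₀⟩ := exists_ofPt_eq (u ≫ pullback.fst b j₀) (hes hj₀s) (Points.map q w)
  have H : MCall P f ((u ≫ pullback.fst b j₀) ≫ b) := by
    rw [hcomm]
    intro W' p' q' hW' sq' w' hw'
    have sqj := IsPullback.of_hasPullback f j₀
    have hT : IsAlgSpace (pullback f j₀) := isAlgSpace_of_isPullback' hY hX (hA _) sqj
    exact mc_of_base hP hX hY (hA _) (hA _) hW' hj₀ sq' (mcall_scheme hP ψ hψ hT _) w' hw'
  refine mc_of_cover hP hX hY hV (hA _) hW he sq H w (Points.schemeHomeo V₀ v₀) ?_ hw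
  rw [← hv₀, Points.ofPt_eq_map_ofScheme]
  rfl

end LemD

section Final

theorem Hyp.locality (hP : Hyp P) {X Y : Sp S} (hX : IsAlgSpace X) (hY : IsAlgSpace Y)
    (f : X ⟶ Y) :
    P f ↔ ∀ x : Points X, ∃ (V W U : Sp S) (b : V ⟶ Y) (p : W ⟶ X) (q : W ⟶ V) (e : U ⟶ W)
      (v : Points U), IsAlgSpace V ∧ IsAlgSpace W ∧ IsAlgSpace U ∧ LocP @Smooth b ∧
      IsPullback p q f b ∧ IsEtaleMor e ∧ Points.map (e ≫ p) v = x ∧ P (e ≫ q) := by
  constructor
  · intro hf x
    refine ⟨Y, X, X, 𝟙 Y, 𝟙 X, f, 𝟙 X, x, hY, hX, hX, locP_smooth_id Y, IsPullback.of_id_fst,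
      isEtaleMor_id X, ?_, ?_⟩
    · rw [Category.id_comp]
      exact Points.map_id x
    · rwa [Category.id_comp]
  · intro H
    refine hP.of_forall_good hX hY f fun x => ?_
    obtain ⟨V, W, U, b, p, q, e, v, hV, hW, hU, hb, sq, he, hx, hPe⟩ := H x
    have hgood : Good P q (Points.map e v) := ⟨U, e, hU, he, ⟨v, rfl⟩, hPe⟩
    have := mcall_smooth hP hX hY hV f b hb W p q hW sq _ hgood
    rwa [← Points.map_comp, hx] at this

theorem Hyp.isEtaleSmoothLocalST (hP : Hyp P) : IsEtaleSmoothLocalST P where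
  precomp := fun _ _ _ hX hY hZ f g hf hg => hP.precomp hX hY hZ f g hf hg
  baseChange := fun _ _ _ _ hX hY hX' hY' f g f' g' sq hg hf =>
    hP.baseChange hX hY hX' hY' f g f' g' sq hg hf
  locality := fun _ _ hX hY f => hP.locality hX hY f

end Final

end Groth.Agent.Lib.Helper15.ESL
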