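import Mathlib.AlgebraicGeometry.Morphisms.Etale
import Mathlib.AlgebraicGeometry.Morphisms.FormallyUnramified
import Mathlib.AlgebraicGeometry.Morphisms.Separated
import Mathlib.RingTheory.Unramified.LocalStructure
import Mathlib.AlgebraicGeometry.ResidueField

set_option autoImplicit false
universe u
open CategoryTheory CategoryTheory.Limits AlgebraicGeometry Opposite MorphismProperty

namespace Groth.Agent.Lib.Helper15.ESL

/-- Every field-valued point of the target has at most `n` lifts. -/
def DegLE {Y Z : Scheme.{u}} (g : Y ⟶ Z) (n : ℕ) : Prop :=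
  ∀ (Ω : Type u) [Field Ω] (z : Spec (.of Ω) ⟶ Z),
    Set.encard {y : Spec (.of Ω) ⟶ Y | y ≫ g = z} ≤ n

theorem isEmpty_of_degLE_zero {Y Z : Scheme.{u}} (g : Y ⟶ Z) (h : DegLE g 0) : IsEmpty Y := by
  constructor
  intro y
  have := h (Y.residueField y) (Y.fromSpecResidueField y ≫ g)
  have hmem : Y.fromSpecResidueField y ∈
      {y' : Spec (.of (Y.residueField y)) ⟶ Y | y' ≫ g = Y.fromSpecResidueField y ≫ g} := rfl
  have h1 : (1 : ℕ∞) ≤ Set.encard {y' : Spec (.of (Y.residueField y)) ⟶ Y |
      y' ≫ g = Y.fromSpecResidueField y ≫ g} :=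
    Set.one_le_encard_iff_nonempty.2 ⟨_, hmem⟩
  have h2 := h1.trans this
  simp at h2

section Diag

variable {Y Z : Scheme.{u}} (g : Y ⟶ Z) [IsSeparated g]

/-- The complement of the diagonal. -/
noncomputable def offDiag : (pullback g g).Opens :=
  ⟨(Set.range (pullback.diagonal g).base)ᶜ,
    (pullback.diagonal g).isClosedEmbedding.isClosed_range.isOpen_compl⟩

theorem degLE_offDiag_fst {n : ℕ} (h : DegLE g (n + 1)) :
    DegLE ((offDiag g).ι ≫ pullback.fst g g) n := by
  intro Ω _ y₀
  set L' := {w : Spec (.of Ω) ⟶ (offDiag g).toScheme | w ≫ (offDiag g).ι ≫ pullback.fst g g = y₀}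
  set L := {y : Spec (.of Ω) ⟶ Y | y ≫ g = y₀ ≫ g}
  have hL := h Ω (y₀ ≫ g)
  have hy₀ : y₀ ∈ L := rfl
  have hinj : Set.InjOn (fun w : Spec (.of Ω) ⟶ (offDiag g).toScheme =>
      w ≫ (offDiag g).ι ≫ pullback.snd g g) L' := by
    intro w hw w' hw' e
    simp only [L', Set.mem_ofPred_eq] at hw hw'
    rw [← cancel_mono (offDiag g).ι]
    apply pullback.hom_ext
    · simp only [Category.assoc]; rw [hw, hw']
    · simpa only [Category.assoc] using e
  have himg : (fun w : Spec (.of Ω) ⟶ (offDiag g).toScheme =>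
      w ≫ (offDiag g).ι ≫ pullback.snd g g) '' L' ⊆ L \ {y₀} := by
    rintro _ ⟨w, hw, rfl⟩
    simp only [L', Set.mem_ofPred_eq] at hw
    refine ⟨?_, ?_⟩
    · simp only [L, Set.mem_ofPred_eq, Category.assoc]
      rw [← pullback.condition, ← hw]
      simp only [Category.assoc]
    · intro e
      simp only [Set.mem_singleton_iff] at e
      have hfac : w ≫ (offDiag g).ι = y₀ ≫ pullback.diagonal g := by
        apply pullback.hom_ext
        · simp only [Category.assoc, pullback.diagonal_fst, Category.comp_id]; exact hw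
        · simp only [Category.assoc, pullback.diagonal_snd, Category.comp_id]; exact e
      obtain ⟨pt⟩ : Nonempty (Spec (CommRingCat.of Ω)) := inferInstance
      have h1 : (w ≫ (offDiag g).ι).base pt ∈ (offDiag g).1 := by
        rw [Scheme.Hom.comp_base, TopCat.comp_app]
        exact ((w.base pt)).2
      rw [hfac] at h1
      exact h1 ⟨y₀.base pt, by rw [Scheme.Hom.comp_base, TopCat.comp_app]⟩
  have h3 : L'.encard ≤ (L \ {y₀}).encard := by
    rw [← hinj.encard_image]
    exact Set.encard_le_encard himg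
  have h4 : (L \ {y₀}).encard + 1 = L.encard := Set.encard_sdiff_singleton_add_one hy₀
  have h5 : (L \ {y₀}).encard + 1 ≤ (n : ℕ∞) + 1 := by rw [h4]; exact_mod_cast hL
  have h6 : (L \ {y₀}).encard ≤ n := by
    exact (ENat.add_le_add_iff_right (by simp)).1 h5
  exact h3.trans h6

end Diag

end Groth.Agent.Lib.Helper15.ESL
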