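import Mathlib.RingTheory.Unramified.LocalStructure
import Mathlib.RingTheory.Etale.StandardEtale
import Mathlib.Data.Set.Card.Arithmetic

set_option autoImplicit false
universe u
open Polynomial

namespace Groth.Agent.Lib.Helper15.ESL

/-- Homs out of a standard etale algebra over `ζ` are bounded by the degree. -/
theorem encard_homs_standardEtale {A B : Type u} [CommRing A] [CommRing B] [Algebra A B]
    (Pr : StandardEtalePresentation A B) {Ω : Type u} [Field Ω] (ζ : A →+* Ω) :
    Set.encard {η : B →+* Ω | η.comp (algebraMap A B) = ζ} ≤ Pr.f.natDegree := by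
  classical
  letI := ζ.toAlgebra
  have hf0 : Pr.f.map ζ ≠ 0 := (Pr.monic_f.map ζ).ne_zero
  set R : Set Ω := ((Pr.f.map ζ).roots.toFinset : Set Ω)
  have hmaps : Set.MapsTo (fun η : B →+* Ω => η Pr.x)
      {η : B →+* Ω | η.comp (algebraMap A B) = ζ} R := by
    intro η hη
    simp only [R, Finset.mem_coe, Multiset.mem_toFinset, mem_roots hf0, IsRoot.def, eval_map]
    have h0 : aeval Pr.x Pr.f = 0 := Pr.hasMap.1
    have : η (aeval Pr.x Pr.f) = 0 := by rw [h0, map_zero]
    rw [aeval_def, hom_eval₂] at this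
    rw [← hη]
    exact this
  have hinj : Set.InjOn (fun η : B →+* Ω => η Pr.x)
      {η : B →+* Ω | η.comp (algebraMap A B) = ζ} := by
    intro η hη η' hη' e
    have hc : ∀ (θ : B →+* Ω), θ.comp (algebraMap A B) = ζ → ∀ r : A,
        θ (algebraMap A B r) = algebraMap A Ω r := by
      intro θ hθ r
      change (θ.comp (algebraMap A B)) r = ζ r
      rw [hθ]
    let a : B →ₐ[A] Ω := { η with commutes' := hc η hη }
    let a' : B →ₐ[A] Ω := { η' with commutes' := hc η' hη' }
    have : a = a' := Pr.hom_ext e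
    ext b
    exact congrArg (fun k : B →ₐ[A] Ω => k b) this
  calc Set.encard {η : B →+* Ω | η.comp (algebraMap A B) = ζ}
      ≤ R.encard := by
        rw [← hinj.encard_image]
        exact Set.encard_le_encard hmaps.image_subset
    _ ≤ Pr.f.natDegree := by
      simp only [R, Set.encard_coe_eq_coe_finsetCard]
      have h1 : (Pr.f.map ζ).roots.toFinset.card ≤ (Pr.f.map ζ).natDegree :=
        (Multiset.toFinset_card_le _).trans (card_roots' _)
      have h2 : (Pr.f.map ζ).natDegree = Pr.f.natDegree := Pr.monic_f.natDegree_map ζ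
      exact_mod_cast h2 ▸ h1

end Groth.Agent.Lib.Helper15.ESL

namespace Groth.Agent.Lib.Helper15.ESL

open Algebra in
theorem exists_bound_homs (A B : Type u) [CommRing A] [CommRing B] [Algebra A B]
    [Algebra.Etale A B] :
    ∃ n : ℕ, ∀ (Ω : Type u) [Field Ω] (ζ : A →+* Ω),
      Set.encard {η : B →+* Ω | η.comp (algebraMap A B) = ζ} ≤ n := by
  classical
  have key : ∀ Q : PrimeSpectrum B, ∃ f : B, f ∉ Q.asIdeal ∧
      IsStandardEtale A (Localization.Away f) := by
    intro Q
    have : FormallyEtale A (Localization.AtPrime Q.asIdeal) :=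
      have : FormallyEtale B (Localization.AtPrime Q.asIdeal) :=
        .of_isLocalization Q.asIdeal.primeCompl
      FormallyEtale.comp A B _
    exact IsEtaleAt.exists_isStandardEtale (R := A) Q.asIdeal
  choose f hfQ hf using key
  have hspan : Ideal.span (Set.range f) = ⊤ := by
    by_contra h
    obtain ⟨M, hM, hle⟩ := Ideal.exists_le_maximal _ h
    exact hfQ ⟨M, hM.isPrime⟩ (hle (Ideal.subset_span ⟨⟨M, hM.isPrime⟩, rfl⟩))
  obtain ⟨s, hs, hs1⟩ := (Ideal.span_eq_top_iff_finite _).1 hspan
  have hstd : ∀ b ∈ s, IsStandardEtale A (Localization.Away b) := by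
    intro b hb
    obtain ⟨Q, rfl⟩ := hs hb
    exact hf Q
  -- degrees
  let d : B → ℕ := fun b => if hb : b ∈ s then
    (hstd b hb).nonempty_standardEtalePresentation.some.f.natDegree else 0
  refine ⟨∑ b ∈ s, d b, fun Ω _ ζ => ?_⟩
  set L := {η : B →+* Ω | η.comp (algebraMap A B) = ζ}
  have hcover : L ⊆ ⋃ b ∈ s, {η ∈ L | η b ≠ 0} := by
    intro η hη
    by_contra hcon
    simp only [Set.mem_iUnion, Set.mem_ofPred_eq, not_exists, not_and, not_not] at hcon
    have h1 : (1 : B) ∈ Ideal.span (s : Set B) := by rw [hs1]; trivial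
    have hker : Ideal.span (s : Set B) ≤ RingHom.ker η :=
      Ideal.span_le.2 fun b hb => hcon b hb hη
    have := hker h1
    simp [RingHom.mem_ker] at this
  have hb : ∀ b ∈ s, Set.encard {η ∈ L | η b ≠ 0} ≤ d b := by
    intro b hbs
    simp only [d, dif_pos hbs]
    have := hstd b hbs
    set Pr := (hstd b hbs).nonempty_standardEtalePresentation.some
    refine le_trans ?_ (encard_homs_standardEtale Pr ζ)
    -- injection by lifting
    let Φ : {η : B →+* Ω // η ∈ L ∧ η b ≠ 0} → (Localization.Away b →+* Ω) := fun η =>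
      IsLocalization.Away.lift b (g := η.1) (isUnit_iff_ne_zero.2 η.2.2)
    have hΦ : ∀ η, (Φ η).comp (algebraMap B (Localization.Away b)) = η.1 := fun η =>
      IsLocalization.Away.lift_comp _ _
    have hΦinj : Function.Injective Φ := by
      intro η η' e
      apply Subtype.ext
      rw [← hΦ η, ← hΦ η', e]
    have hΦmem : ∀ η, Φ η ∈ {θ : Localization.Away b →+* Ω |
        θ.comp (algebraMap A (Localization.Away b)) = ζ} := by
      intro η
      simp only [Set.mem_ofPred_eq]
      rw [IsScalarTower.algebraMap_eq A B (Localization.Away b), ← RingHom.comp_assoc, hΦ η]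
      exact η.2.1
    have : Set.encard {η : B →+* Ω | η ∈ L ∧ η b ≠ 0} =
        Set.encard (Set.range Φ) := by
      rw [← Set.image_univ, hΦinj.injOn.encard_image, Set.encard_univ]
      rfl
    rw [show {η ∈ L | η b ≠ 0} = {η : B →+* Ω | η ∈ L ∧ η b ≠ 0} from rfl, this]
    exact Set.encard_le_encard (Set.range_subset_iff.2 hΦmem)
  calc L.encard ≤ (⋃ b ∈ s, {η ∈ L | η b ≠ 0}).encard := Set.encard_le_encard hcover
    _ ≤ ∑ b ∈ s, ({η ∈ L | η b ≠ 0}).encard := Finset.set_encard_biUnion_le _ _
    _ ≤ ∑ b ∈ s, (d b : ℕ∞) := Finset.sum_le_sum hb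
    _ = ((∑ b ∈ s, d b : ℕ) : ℕ∞) := by push_cast; rfl

end Groth.Agent.Lib.Helper15.ESL
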