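import Groth.Agent.Lib.Helper15.ESL2
import Groth.Agent.Lib.Helper15.ESL2b

set_option autoImplicit false
universe u
open CategoryTheory CategoryTheory.Limits AlgebraicGeometry Opposite MorphismProperty

namespace Groth.Agent.Lib.Helper15.ESL

theorem exists_degLE_SpecMap {A B : CommRingCat.{u}} (φ : A ⟶ B) [Etale (Spec.map φ)] :
    ∃ n : ℕ, DegLE (Spec.map φ) n := by
  have hφ : φ.hom.Etale := (HasRingHomProperty.Spec_iff (P := @Etale)).1 inferInstance
  algebraize [φ.hom]
  obtain ⟨n, hn⟩ := exists_bound_homs A B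
  refine ⟨n, fun Ω _ z => ?_⟩
  obtain ⟨ζ, rfl⟩ := Spec.map_surjective z
  refine le_trans ?_ (hn Ω ζ.hom)
  have hinj : Set.InjOn (fun y : Spec (.of Ω) ⟶ Spec B => (Spec.preimage y).hom)
      {y | y ≫ Spec.map φ = Spec.map ζ} := by
    intro y _ y' _ e
    have : Spec.preimage y = Spec.preimage y' := CommRingCat.hom_ext e
    rw [← Spec.map_preimage y, ← Spec.map_preimage y', this]
  rw [← hinj.encard_image]
  apply Set.encard_le_encard
  rintro _ ⟨y, hy, rfl⟩
  simp only [Set.mem_ofPred_eq] at hy ⊢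
  have : Spec.map (φ ≫ Spec.preimage y) = Spec.map ζ := by
    rw [Spec.map_comp, Spec.map_preimage]; exact hy
  have h2 := Spec.map_injective this
  change (Spec.preimage y).hom.comp φ.hom = ζ.hom
  rw [← h2]; rfl

end Groth.Agent.Lib.Helper15.ESL
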