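import Groth.Agent.Lib.Helper15.ESL1
import Groth.Agent.Lib.Helper15.ESL2c
import Groth.Agent.Lib.Helper15.UnivDescend
import Groth.Agent.Lib.Helper3.AlgSpEtMono
import Mathlib.AlgebraicGeometry.Morphisms.UniversallyOpen

set_option autoImplicit false
universe u
open CategoryTheory CategoryTheory.Limits AlgebraicGeometry Opposite MorphismProperty

namespace Groth.Agent.Lib.Helper15.ESL

open AlgSp Groth.Agent.Lib.Helper3

variable {S : Scheme.{u}}

theorem isPullback_of_comp_mono {C : Type*} [Category C] {A B D E F : C} {fst : A ⟶ B}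
    {snd : A ⟶ D} {f : B ⟶ E} {g : D ⟶ E} (i : E ⟶ F) [Mono i]
    (h : IsPullback fst snd (f ≫ i) (g ≫ i)) : IsPullback fst snd f g where
  w := by rw [← cancel_mono i]; simpa only [Category.assoc] using h.w
  isLimit' := ⟨PullbackCone.IsLimit.mk _
    (fun s => h.lift s.fst s.snd (by
      rw [← Category.assoc, s.condition, Category.assoc]))
    (fun s => h.lift_fst _ _ _) (fun s => h.lift_snd _ _ _)
    (fun s m h1 h2 => h.hom_ext (by rw [h1, h.lift_fst]) (by rw [h2, h.lift_snd]))⟩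

section OffDiagSnd

variable {Y Z : Scheme.{u}} (g : Y ⟶ Z) [IsSeparated g]

theorem degLE_offDiag_snd {n : ℕ} (h : DegLE g (n + 1)) :
    DegLE ((offDiag g).ι ≫ pullback.snd g g) n := by
  intro Ω _ y₀
  set L' := {w : Spec (.of Ω) ⟶ (offDiag g).toScheme | w ≫ (offDiag g).ι ≫ pullback.snd g g = y₀}
  set L := {y : Spec (.of Ω) ⟶ Y | y ≫ g = y₀ ≫ g}
  have hL := h Ω (y₀ ≫ g)
  have hy₀ : y₀ ∈ L := rfl
  have hinj : Set.InjOn (fun w : Spec (.of Ω) ⟶ (offDiag g).toScheme =>
      w ≫ (offDiag g).ι ≫ pullback.fst g g) L' := by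
    intro w hw w' hw' e
    simp only [L', Set.mem_ofPred_eq] at hw hw'
    rw [← cancel_mono (offDiag g).ι]
    apply pullback.hom_ext
    · simpa only [Category.assoc] using e
    · simp only [Category.assoc]; rw [hw, hw']
  have himg : (fun w : Spec (.of Ω) ⟶ (offDiag g).toScheme =>
      w ≫ (offDiag g).ι ≫ pullback.fst g g) '' L' ⊆ L \ {y₀} := by
    rintro _ ⟨w, hw, rfl⟩
    simp only [L', Set.mem_ofPred_eq] at hw
    refine ⟨?_, ?_⟩
    · simp only [L, Set.mem_ofPred_eq, Category.assoc]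
      rw [pullback.condition, ← hw]
      simp only [Category.assoc]
    · intro e
      simp only [Set.mem_singleton_iff] at e
      have hfac : w ≫ (offDiag g).ι = y₀ ≫ pullback.diagonal g := by
        apply pullback.hom_ext
        · simp only [Category.assoc, pullback.diagonal_fst, Category.comp_id]; exact e
        · simp only [Category.assoc, pullback.diagonal_snd, Category.comp_id]; exact hw
      obtain ⟨pt⟩ : Nonempty (Spec (CommRingCat.of Ω)) := inferInstance
      have h1 : (w ≫ (offDiag g).ι).base pt ∈ (offDiag g).1 := by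
        rw [Scheme.Hom.comp_base, TopCat.comp_app]
        exact ((w.base pt)).2
      rw [hfac] at h1
      exact h1 ⟨y₀.base pt, by rw [Scheme.Hom.comp_base, TopCat.comp_app]⟩
  have h3 : L'.encard ≤ (L \ {y₀}).encard := by
    rw [← hinj.encard_image]
    exact Set.encard_le_encard himg
  have h4 : (L \ {y₀}).encard + 1 = L.encard := Set.encard_sdiff_singleton_add_one hy₀
  have h5 : (L \ {y₀}).encard + 1 ≤ (n : ℕ∞) + 1 := by rw [h4]; exact_mod_cast hL
  have h6 : (L \ {y₀}).encard ≤ n := by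
    exact (ENat.add_le_add_iff_right (by simp)).1 h5
  exact h3.trans h6

end OffDiagSnd


section Step

variable {P : MorphismProperty (Sp S)}

/-- The image of an etale morphism of schemes, as an object over `S`, with the factorisation. -/
theorem exists_image_factor {Y Z : Over S} (g : Y ⟶ Z) [Etale g.left] :
    ∃ (Z₁ : Over S) (g₁ : Y ⟶ Z₁) (j : Z₁ ⟶ Z), g₁ ≫ j = g ∧ IsOpenImmersion j.left ∧
      Etale g₁.left ∧ Function.Surjective g₁.left.base := by
  let U : Z.left.Opens := ⟨Set.range g.left.base, g.left.isOpenMap.isOpen_range⟩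
  have hr : Set.range g.left.base ⊆ Set.range U.ι.base := by
    rw [Scheme.Opens.range_ι]; exact le_refl _
  let g₁0 : Y.left ⟶ U.toScheme := IsOpenImmersion.lift U.ι g.left hr
  have hg₁0 : g₁0 ≫ U.ι = g.left := IsOpenImmersion.lift_fac _ _ _
  refine ⟨Over.mk (U.ι ≫ Z.hom), Over.homMk g₁0 (by
    change g₁0 ≫ U.ι ≫ Z.hom = Y.hom
    rw [← Category.assoc, hg₁0, CategoryTheory.Over.w]), Over.homMk U.ι rfl, ?_, ?_, ?_, ?_⟩
  · ext; exact hg₁0
  · change IsOpenImmersion U.ι; infer_instance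
  · change Etale g₁0
    have : Etale (g₁0 ≫ U.ι) := by rw [hg₁0]; infer_instance
    exact MorphismProperty.of_postcomp (W := @Etale) (W' := @Etale) g₁0 U.ι inferInstance this
  · intro z
    have hz : (U.ι.base z) ∈ Set.range g.left.base := z.2
    obtain ⟨y, hy⟩ := hz
    refine ⟨y, ?_⟩
    apply U.ι.isOpenEmbedding.injective
    change (g₁0 ≫ U.ι).base y = _
    rw [hg₁0]; exact hy


theorem postcomp_step (hP : Hyp P) {n : ℕ}
    (IH : ∀ {Y Z : Over S} (g : Y ⟶ Z) [Etale g.left] [IsSeparated g.left], DegLE g.left n →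
      ∀ {X : Sp S}, IsAlgSpace X → ∀ f : X ⟶ (yon S).obj Y, P f → P (f ≫ (yon S).map g))
    {Y Z : Over S} (g : Y ⟶ Z) [Etale g.left] [IsSeparated g.left] (hdeg : DegLE g.left (n + 1))
    {X : Sp S} (hX : IsAlgSpace X) (f : X ⟶ (yon S).obj Y) (hf : P f) :
    P (f ≫ (yon S).map g) := by
  -- scheme-level objects
  have hYhom : pullback.snd g.left g.left ≫ Y.hom = pullback.fst g.left g.left ≫ Y.hom := by
    rw [← CategoryTheory.Over.w g, ← Category.assoc, ← Category.assoc, pullback.condition]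
  let PBo : Over S := Over.mk (pullback.fst g.left g.left ≫ Y.hom)
  let p1 : PBo ⟶ Y := Over.homMk (pullback.fst g.left g.left) rfl
  let p2 : PBo ⟶ Y := Over.homMk (pullback.snd g.left g.left) hYhom
  let Δ : Y ⟶ PBo := Over.homMk (pullback.diagonal g.left) (by
    change pullback.diagonal g.left ≫ pullback.fst g.left g.left ≫ Y.hom = Y.hom
    rw [← Category.assoc, pullback.diagonal_fst, Category.id_comp])
  let Y'o : Over S := Over.mk ((offDiag g.left).ι ≫ PBo.hom)
  let ι' : Y'o ⟶ PBo := Over.homMk (offDiag g.left).ι rfl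
  let s : Y'o ⟶ Y := ι' ≫ p1
  let t : Y'o ⟶ Y := ι' ≫ p2
  have hp12 : p1 ≫ g = p2 ≫ g := by ext; exact pullback.condition
  have hst : s ≫ g = t ≫ g := by simp only [s, t, Category.assoc, hp12]
  have hΔ1 : Δ ≫ p1 = 𝟙 Y := by ext; exact pullback.diagonal_fst _
  have hΔ2 : Δ ≫ p2 = 𝟙 Y := by ext; exact pullback.diagonal_snd _
  have sqO : IsPullback p1 p2 g g :=
    UnivDescend.isPullback_over_of_left hp12 (IsPullback.of_hasPullback g.left g.left)
  have sqY : IsPullback ((yon S).map p1) ((yon S).map p2) ((yon S).map g) ((yon S).map g) :=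
    sqO.map (yon S)
  have hse : Etale s.left := by
    change Etale ((offDiag g.left).ι ≫ pullback.fst g.left g.left); infer_instance
  have hte : Etale t.left := by
    change Etale ((offDiag g.left).ι ≫ pullback.snd g.left g.left); infer_instance
  have hts : IsSeparated t.left := by
    change IsSeparated ((offDiag g.left).ι ≫ pullback.snd g.left g.left); infer_instance
  have htdeg : DegLE t.left n := degLE_offDiag_snd g.left hdeg
  -- image factorisation
  obtain ⟨Z₁, g₁, j, hg₁j, hjo, hg₁e, hg₁s⟩ := exists_image_factor g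
  -- sheaf-level
  have hYa := IsAlgSpace.yon_obj (S := S) Y
  have hZa := IsAlgSpace.yon_obj (S := S) Z
  have hZ₁a := IsAlgSpace.yon_obj (S := S) Z₁
  have hPBa := IsAlgSpace.yon_obj (S := S) PBo
  have hY'a := IsAlgSpace.yon_obj (S := S) Y'o
  let F := f ≫ (yon S).map g
  let Q := pullback F ((yon S).map g)
  let πX : Q ⟶ X := pullback.fst _ _
  let πY : Q ⟶ (yon S).obj Y := pullback.snd _ _
  have sqQ : IsPullback πX πY F ((yon S).map g) := IsPullback.of_hasPullback _ _
  have hQa : IsAlgSpace Q := isAlgSpace_of_isPullback' hZa hX hYa sqQ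
  -- kappa
  have hκw : (πX ≫ f) ≫ (yon S).map g = πY ≫ (yon S).map g := by
    rw [Category.assoc]; exact sqQ.w
  let κ : Q ⟶ (yon S).obj PBo := sqY.lift (πX ≫ f) πY hκw
  have hκ1 : κ ≫ (yon S).map p1 = πX ≫ f := sqY.lift_fst _ _ _
  have hκ2 : κ ≫ (yon S).map p2 = πY := sqY.lift_snd _ _ _
  have sqA : IsPullback κ πX ((yon S).map p1) f := by
    refine IsPullback.of_right ?_ hκ1 sqY.flip
    rw [hκ2]
    exact sqQ.flip
  -- c₁
  let c₁ : X ⟶ Q := sqQ.lift (𝟙 X) f (by rw [Category.id_comp])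
  have hc₁X : c₁ ≫ πX = 𝟙 X := sqQ.lift_fst _ _ _
  have hc₁Y : c₁ ≫ πY = f := sqQ.lift_snd _ _ _
  have hc₁κ : f ≫ (yon S).map Δ = c₁ ≫ κ := by
    apply sqY.hom_ext
    · rw [Category.assoc, ← Functor.map_comp, hΔ1, CategoryTheory.Functor.map_id, Category.comp_id,
        Category.assoc, hκ1, ← Category.assoc, hc₁X, Category.id_comp]
    · rw [Category.assoc, ← Functor.map_comp, hΔ2, CategoryTheory.Functor.map_id, Category.comp_id,
        Category.assoc, hκ2, hc₁Y]
  have sqB : IsPullback f c₁ ((yon S).map Δ) κ := by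
    refine IsPullback.of_bot ?_ hc₁κ sqA
    rw [hc₁X, ← Functor.map_comp, hΔ1, CategoryTheory.Functor.map_id]
    exact IsPullback.of_vert_isIso ⟨by rw [Category.id_comp, Category.comp_id]⟩
  -- c₂
  let Q₂ := pullback f ((yon S).map s)
  let ρX : Q₂ ⟶ X := pullback.fst _ _
  let ρY : Q₂ ⟶ (yon S).obj Y'o := pullback.snd _ _
  have sqQ₂ : IsPullback ρX ρY f ((yon S).map s) := IsPullback.of_hasPullback _ _
  have hQ₂a : IsAlgSpace Q₂ := isAlgSpace_of_isPullback' hYa hX hY'a sqQ₂
  have hc₂w : ρX ≫ F = (ρY ≫ (yon S).map t) ≫ (yon S).map g := by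
    change ρX ≫ f ≫ (yon S).map g = _
    rw [← Category.assoc, sqQ₂.w, Category.assoc, Category.assoc, ← Functor.map_comp,
      ← Functor.map_comp, hst]
  let c₂ : Q₂ ⟶ Q := sqQ.lift ρX (ρY ≫ (yon S).map t) hc₂w
  have hc₂X : c₂ ≫ πX = ρX := sqQ.lift_fst _ _ _
  have hc₂Y : c₂ ≫ πY = ρY ≫ (yon S).map t := sqQ.lift_snd _ _ _
  have hc₂κ : ρY ≫ (yon S).map ι' = c₂ ≫ κ := by
    apply sqY.hom_ext
    · rw [Category.assoc, ← Functor.map_comp, Category.assoc, hκ1, ← Category.assoc, hc₂X]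
      exact sqQ₂.w.symm
    · rw [Category.assoc, ← Functor.map_comp, Category.assoc, hκ2, hc₂Y]
  have sqC : IsPullback ρY c₂ ((yon S).map ι') κ := by
    refine IsPullback.of_bot ?_ hc₂κ sqA
    rw [hc₂X, ← Functor.map_comp]
    exact sqQ₂.flip
  -- etaleness of the two pieces
  have hΔe : IsEtaleMor ((yon S).map Δ) := by
    rw [isEtaleMor_yon_map_iff]
    change Etale (pullback.diagonal g.left); infer_instance
  have hι'e : IsEtaleMor ((yon S).map ι') := by
    rw [isEtaleMor_yon_map_iff]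
    change Etale (offDiag g.left).ι; infer_instance
  have hc₁e : IsEtaleMor c₁ :=
    isEtaleMor_of_isPullback hYa hPBa hQa hX _ _ _ _ sqB hΔe
  have hc₂e : IsEtaleMor c₂ :=
    isEtaleMor_of_isPullback hY'a hPBa hQa hQ₂a _ _ _ _ sqC hι'e
  -- joint surjectivity
  have hsurj : ∀ q : Points Q, (∃ x : Points X, Points.map c₁ x = q) ∨
      ∃ x : Points Q₂, Points.map c₂ x = q := by
    intro q
    obtain ⟨pt, hpt⟩ := (Points.schemeHomeo PBo).surjective (Points.map κ q)
    by_cases hin : pt ∈ Set.range (pullback.diagonal g.left).base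
    · left
      obtain ⟨y, rfl⟩ := hin
      have := Points.map_yon_map_apply Δ y
      obtain ⟨z, -, hz⟩ := Points.exists_of_isPullback sqB (Points.schemeHomeo Y y) q
        (by rw [this]; exact hpt)
      exact ⟨z, hz⟩
    · right
      have hmem : pt ∈ (offDiag g.left).1 := hin
      have := Points.map_yon_map_apply ι' (⟨pt, hmem⟩ : (offDiag g.left).toScheme)
      obtain ⟨z, -, hz⟩ := Points.exists_of_isPullback sqC
        (Points.schemeHomeo Y'o (⟨pt, hmem⟩ : (offDiag g.left).toScheme)) q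
        (by rw [this]; exact hpt)
      exact ⟨z, hz⟩
  -- P πY
  have hρY : P ρY := hP.baseChange hX hYa hQ₂a hY'a f ((yon S).map s) ρY ρX sqQ₂
    (locP_smooth_of_isEtaleMor ((isEtaleMor_yon_map_iff s).2 hse)) hf
  have hρYt : P (ρY ≫ (yon S).map t) := IH t htdeg hQ₂a ρY hρY
  have hπY : P πY := by
    refine (hP.h1 (optFam X Q₂) (optHom c₁ c₂) hQa (by rintro (_ | _); exacts [hX, hQ₂a])
      ⟨by rintro (_ | _); exacts [hc₁e, hc₂e], fun q => ?_⟩ πY hYa).2 ?_
    · rcases hsurj q with ⟨x, hx⟩ | ⟨x, hx⟩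
      · exact ⟨none, x, hx⟩
      · exact ⟨some PUnit.unit, x, hx⟩
    · rintro (_ | _)
      · change P (c₁ ≫ πY); rw [hc₁Y]; exact hf
      · change P (c₂ ≫ πY); rw [hc₂Y]; exact hρYt
  -- descend along g₁
  have hgeq : (yon S).map g = (yon S).map g₁ ≫ (yon S).map j := by
    rw [← Functor.map_comp, hg₁j]
  have hjmono : Mono ((yon S).map j) := by
    have : Mono j.left := by have := hjo; infer_instance
    have : Mono j := (Over.forget S).mono_of_mono_map this
    infer_instance
  have sqQ₁ : IsPullback πX πY (f ≫ (yon S).map g₁) ((yon S).map g₁) := by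
    apply isPullback_of_comp_mono ((yon S).map j)
    rw [Category.assoc, ← hgeq]
    exact sqQ
  have hg₁sm : LocP @Smooth ((yon S).map g₁) :=
    locP_smooth_of_isEtaleMor ((isEtaleMor_yon_map_iff g₁).2 hg₁e)
  have hg₁surj : Function.Surjective (Points.map ((yon S).map g₁)) := by
    rw [Points.map_yon_map_eq]
    exact (Points.schemeHomeo Z₁).surjective.comp
      (hg₁s.comp (Points.schemeHomeo Y).symm.surjective)
  have h1 : P (f ≫ (yon S).map g₁) :=
    hP.descend hX hZ₁a hQa hYa _ _ πY πX sqQ₁ hg₁sm hg₁surj hπY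
  have h2 := hP.h3 hX hZ₁a hZa (f ≫ (yon S).map g₁) ((yon S).map j) h1
    ((repWith_yon_map_iff _ _).2 hjo)
  rw [Category.assoc, ← hgeq] at h2
  exact h2


theorem postcomp_etale_scheme (hP : Hyp P) (n : ℕ) :
    ∀ {Y Z : Over S} (g : Y ⟶ Z) [Etale g.left] [IsSeparated g.left], DegLE g.left n →
      ∀ {X : Sp S}, IsAlgSpace X → ∀ f : X ⟶ (yon S).obj Y, P f → P (f ≫ (yon S).map g) := by
  induction n with
  | zero =>
    intro Y Z g _ _ hdeg X hX f hf
    have : IsEmpty Y.left := isEmpty_of_degLE_zero g.left hdeg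
    have hgo : IsOpenImmersion g.left := inferInstance
    exact hP.h3 hX (IsAlgSpace.yon_obj Y) (IsAlgSpace.yon_obj Z) f _ hf
      ((repWith_yon_map_iff _ _).2 hgo)
  | succ n IH =>
    intro Y Z g _ _ hdeg X hX f hf
    exact postcomp_step hP IH g hdeg hX f hf

end Step

section Affine

theorem degLE_of_iso {Y Y' Z Z' : Scheme.{u}} (e : Y ≅ Y') (e' : Z ≅ Z') (g : Y ⟶ Z) (g' : Y' ⟶ Z')
    (w : g ≫ e'.hom = e.hom ≫ g') {n : ℕ} (h : DegLE g' n) : DegLE g n := by
  intro Ω _ z
  refine le_trans ?_ (h Ω (z ≫ e'.hom))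
  have hinj : Set.InjOn (fun y : Spec (.of Ω) ⟶ Y => y ≫ e.hom) {y | y ≫ g = z} := by
    intro y _ y' _ h
    exact (cancel_mono e.hom).1 h
  rw [← hinj.encard_image]
  apply Set.encard_le_encard
  rintro _ ⟨y, hy, rfl⟩
  simp only [Set.mem_ofPred_eq] at hy ⊢
  rw [Category.assoc, ← w, ← Category.assoc, hy]

theorem exists_degLE_of_isAffine {Y Z : Scheme.{u}} [IsAffine Y] [IsAffine Z] (g : Y ⟶ Z)
    [Etale g] : ∃ n : ℕ, DegLE g n := by
  have w : g ≫ Z.isoSpec.hom = Y.isoSpec.hom ≫ Spec.map g.appTop :=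
    (Scheme.isoSpec_hom_naturality g).symm
  have : Etale (Spec.map g.appTop) := by
    have h1 : Spec.map g.appTop = Y.isoSpec.inv ≫ g ≫ Z.isoSpec.hom := by
      rw [w, Iso.inv_hom_id_assoc]
    rw [h1]; infer_instance
  obtain ⟨n, hn⟩ := exists_degLE_SpecMap g.appTop
  exact ⟨n, degLE_of_iso Y.isoSpec Z.isoSpec g _ w hn⟩

end Affine

end Groth.Agent.Lib.Helper15.ESL
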