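import Groth.Agent.Lib.Helper15.ESL3
import Groth.Agent.Lib.Helper3.AlgSpIntegralDim

set_option autoImplicit false
universe u
open CategoryTheory CategoryTheory.Limits AlgebraicGeometry Opposite MorphismProperty

namespace Groth.Agent.Lib.Helper15.ESL

open AlgSp Groth.Agent.Lib.Helper3

variable {S : Scheme.{u}} {P : MorphismProperty (Sp S)}

/-- Source-local criterion with a small index set taken from an atlas. -/
theorem Hyp.of_local (hP : Hyp P) {X Y : Sp S} (hX : IsAlgSpace X) (hY : IsAlgSpace Y) (f : X ⟶ Y)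
    (H : ∀ x : Points X, ∃ (X' : Sp S) (a : X' ⟶ X), IsAlgSpace X' ∧ IsEtaleMor a ∧
      x ∈ Set.range (Points.map a) ∧ P (a ≫ f)) : P f := by
  obtain ⟨U₀, a₀, ha₀e, ha₀s⟩ := hX.atlas
  choose X' a hX' hae hxa hPa using fun u : ↥U₀.left => H (Points.ofPt a₀ u)
  refine (hP.h1 X' a hX hX' ⟨hae, fun x => ?_⟩ f hY).2 hPa
  obtain ⟨u, rfl⟩ := exists_ofPt_eq a₀ ha₀s x
  exact ⟨u, hxa u⟩

/-- Base-local criterion with a small index set taken from an atlas. -/
theorem Hyp.of_local_base (hP : Hyp P) {X Y : Sp S} (hX : IsAlgSpace X) (hY : IsAlgSpace Y)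
    (f : X ⟶ Y)
    (H : ∀ y : Points Y, ∃ (Y' X' : Sp S) (b : Y' ⟶ Y) (f' : X' ⟶ Y') (b' : X' ⟶ X),
      IsAlgSpace Y' ∧ IsAlgSpace X' ∧ LocP @Smooth b ∧ y ∈ Set.range (Points.map b) ∧
      IsPullback b' f' f b ∧ P f') : P f := by
  obtain ⟨V₀, b₀, hb₀e, hb₀s⟩ := hY.atlas
  choose Y' X' b f' b' hY' hX' hb hyb sq hPf using fun v : ↥V₀.left => H (Points.ofPt b₀ v)
  refine (hP.h2 Y' b hY hY' ⟨hb, fun y => ?_⟩ f hX X' f' b' hX' sq).2 hPf
  obtain ⟨v, rfl⟩ := exists_ofPt_eq b₀ hb₀s y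
  exact ⟨v, hyb v⟩

/-- Postcomposition with an etale morphism to an affine scheme. -/
theorem Hyp.postcomp_etale_affine (hP : Hyp P) {X Y : Sp S} (hX : IsAlgSpace X) (hY : IsAlgSpace Y)
    {W : Over S} [IsAffine W.left] (f : X ⟶ Y) (g : Y ⟶ (yon S).obj W) (hg : IsEtaleMor g)
    (hf : P f) : P (f ≫ g) := by
  have hWa := IsAlgSpace.yon_obj (S := S) W
  refine hP.of_local hX hWa _ fun x => ?_
  obtain ⟨V, b, v, hV, hbe, hv⟩ := exists_affine_chart_through hY (Points.map f x)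
  have hVa := IsAlgSpace.yon_obj (S := S) V
  have sq := IsPullback.of_hasPullback f b
  have hX'a : IsAlgSpace (pullback f b) := isAlgSpace_of_isPullback' hY hX hVa sq
  have hbE : IsEtaleMor b := isEtaleMor_of_repWith_etale hbe
  have hfstE : IsEtaleMor (pullback.fst f b) :=
    isEtaleMor_of_isPullback hVa hY hX hX'a b f _ _ sq.flip hbE
  obtain ⟨z, hz, -⟩ := Points.exists_of_isPullback sq x (Points.ofScheme V v)
    (by rw [← hv, Points.ofPt_eq_map_ofScheme])
  have hf' : P (pullback.snd f b) :=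
    hP.baseChange hX hY hX'a hVa f b _ _ sq (locP_smooth_of_isEtaleMor hbE) hf
  obtain ⟨φ, hφ⟩ := (yon S).map_surjective (b ≫ g)
  have hφe : Etale φ.left := (repWith_yon_map_iff _ _).1 (hφ ▸ hg b hbe)
  have : IsSeparated φ.left := inferInstance
  obtain ⟨n, hn⟩ := exists_degLE_of_isAffine φ.left
  have key := postcomp_etale_scheme hP n φ hn hX'a (pullback.snd f b) hf'
  refine ⟨pullback f b, pullback.fst f b, hX'a, hfstE, ⟨z, hz⟩, ?_⟩
  rw [← Category.assoc, sq.w, Category.assoc, ← hφ]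
  exact key

/-- Postcomposition with an etale morphism of algebraic spaces. -/
theorem Hyp.postcomp_etale (hP : Hyp P) {X Y Z : Sp S} (hX : IsAlgSpace X) (hY : IsAlgSpace Y)
    (hZ : IsAlgSpace Z) (f : X ⟶ Y) (g : Y ⟶ Z) (hg : IsEtaleMor g) (hf : P f) : P (f ≫ g) := by
  refine hP.of_local_base hX hZ _ fun z => ?_
  obtain ⟨W, c, w, hW, hce, hw⟩ := exists_affine_chart_through hZ z
  have hWa := IsAlgSpace.yon_obj (S := S) W
  have hcE : IsEtaleMor c := isEtaleMor_of_repWith_etale hce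
  -- Y_W
  have sq1 := IsPullback.of_hasPullback g c
  have hYW : IsAlgSpace (pullback g c) := isAlgSpace_of_isPullback' hZ hY hWa sq1
  have hgW : IsEtaleMor (pullback.snd g c) :=
    isEtaleMor_of_isPullback hY hZ hWa hYW g c _ _ sq1 hg
  have hcY : IsEtaleMor (pullback.fst g c) :=
    isEtaleMor_of_isPullback hWa hZ hY hYW c g _ _ sq1.flip hcE
  -- T
  have sq2 := IsPullback.of_hasPullback f (pullback.fst g c)
  have hT : IsAlgSpace (pullback f (pullback.fst g c)) :=
    isAlgSpace_of_isPullback' hY hX hYW sq2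
  have hfW : P (pullback.snd f (pullback.fst g c)) :=
    hP.baseChange hX hY hT hYW f _ _ _ sq2 (locP_smooth_of_isEtaleMor hcY) hf
  have key := hP.postcomp_etale_affine hT hYW _ (pullback.snd g c) hgW hfW
  have sq3 : IsPullback (pullback.fst f (pullback.fst g c))
      (pullback.snd f (pullback.fst g c) ≫ pullback.snd g c) (f ≫ g) c :=
    sq2.paste_vert sq1
  refine ⟨(yon S).obj W, _, c, _, _, hWa, hT, locP_smooth_of_isEtaleMor hcE, ?_, sq3, key⟩
  exact ⟨Points.ofScheme W w, by rw [← hw, Points.ofPt_eq_map_ofScheme]⟩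

end Groth.Agent.Lib.Helper15.ESL
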