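import Groth.Agent.Lib.Helper15.ESL4

set_option autoImplicit false
universe u
open CategoryTheory CategoryTheory.Limits AlgebraicGeometry Opposite MorphismProperty

namespace Groth.Agent.Lib.Helper15.ESL

open AlgSp Groth.Agent.Lib.Helper3

variable {S : Scheme.{u}} (P : MorphismProperty (Sp S))

/-- `f` has `P` on some etale neighbourhood of the point `x`. -/
def Good {X Y : Sp S} (f : X ⟶ Y) (x : Points X) : Prop :=
  ∃ (X' : Sp S) (a : X' ⟶ X), IsAlgSpace X' ∧ IsEtaleMor a ∧ x ∈ Set.range (Points.map a) ∧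
    P (a ≫ f)

variable {P}

theorem isEtaleMor_comp {X Y Z : Sp S} {f : X ⟶ Y} {g : Y ⟶ Z} (hf : IsEtaleMor f)
    (hg : IsEtaleMor g) : IsEtaleMor (f ≫ g) := fun U φ hφ => by
  rw [← Category.assoc]
  exact hg _ (hf φ hφ)

theorem Hyp.of_forall_good (hP : Hyp P) {X Y : Sp S} (hX : IsAlgSpace X) (hY : IsAlgSpace Y)
    (f : X ⟶ Y) (H : ∀ x, Good P f x) : P f :=
  hP.of_local hX hY f H

theorem good_of_P {X Y : Sp S} (hX : IsAlgSpace X) (f : X ⟶ Y) (hf : P f) (x : Points X) :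
    Good P f x :=
  ⟨X, 𝟙 X, hX, isEtaleMor_id X, ⟨x, Points.map_id x⟩, by rwa [Category.id_comp]⟩

/-- (F2a) -/
theorem Good.of_precomp {X₁ X Y : Sp S} {a : X₁ ⟶ X} (ha : IsEtaleMor a) {f : X ⟶ Y}
    {x₁ : Points X₁} (h : Good P (a ≫ f) x₁) : Good P f (Points.map a x₁) := by
  obtain ⟨X', a', hX', ha', ⟨z, hz⟩, hPa⟩ := h
  refine ⟨X', a' ≫ a, hX', isEtaleMor_comp ha' ha, ⟨z, ?_⟩, by rwa [Category.assoc]⟩
  rw [Points.map_comp, hz]

/-- (F2b) -/
theorem Good.precomp (hP : Hyp P) {X₁ X Y : Sp S} (hX₁ : IsAlgSpace X₁) (hX : IsAlgSpace X)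
    (hY : IsAlgSpace Y) {a : X₁ ⟶ X} (ha : IsEtaleMor a) {f : X ⟶ Y} {x₁ : Points X₁}
    (h : Good P f (Points.map a x₁)) : Good P (a ≫ f) x₁ := by
  obtain ⟨X', a', hX', ha', ⟨z, hz⟩, hPa⟩ := h
  have sq := IsPullback.of_hasPullback a' a
  have hT : IsAlgSpace (pullback a' a) := isAlgSpace_of_isPullback' hX hX' hX₁ sq
  have h1 : IsEtaleMor (pullback.snd a' a) :=
    isEtaleMor_of_isPullback hX' hX hX₁ hT a' a _ _ sq ha'
  have h2 : IsEtaleMor (pullback.fst a' a) :=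
    isEtaleMor_of_isPullback hX₁ hX hX' hT a a' _ _ sq.flip ha
  obtain ⟨t, -, ht⟩ := Points.exists_of_isPullback sq z x₁ hz
  refine ⟨pullback a' a, pullback.snd a' a, hT, h1, ⟨t, ht⟩, ?_⟩
  rw [← Category.assoc, ← sq.w, Category.assoc]
  exact hP.precomp hT hX' hY _ _ h2 hPa

/-- (F3) -/
theorem Good.postcomp (hP : Hyp P) {X Y Y₂ : Sp S} (hY : IsAlgSpace Y)
    (hY₂ : IsAlgSpace Y₂) {f : X ⟶ Y} {j : Y ⟶ Y₂} (hj : IsEtaleMor j) {x : Points X}
    (h : Good P f x) : Good P (f ≫ j) x := by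
  obtain ⟨X', a', hX', ha', hx, hPa⟩ := h
  refine ⟨X', a', hX', ha', hx, ?_⟩
  rw [← Category.assoc]
  exact hP.postcomp_etale hX' hY hY₂ _ j hj hPa

/-- (F4) -/
theorem Good.baseChange (hP : Hyp P) {X Y V W : Sp S} (hX : IsAlgSpace X) (hY : IsAlgSpace Y)
    (hV : IsAlgSpace V) (hW : IsAlgSpace W) {f : X ⟶ Y} {b : V ⟶ Y} {p : W ⟶ X} {q : W ⟶ V}
    (sq : IsPullback p q f b) (hb : LocP @Smooth b) {w : Points W}
    (h : Good P f (Points.map p w)) : Good P q w := by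
  obtain ⟨X', a', hX', ha', ⟨z, hz⟩, hPa⟩ := h
  have sq' := IsPullback.of_hasPullback a' p
  have hT : IsAlgSpace (pullback a' p) := isAlgSpace_of_isPullback' hX hX' hW sq'
  have h1 : IsEtaleMor (pullback.snd a' p) :=
    isEtaleMor_of_isPullback hX' hX hW hT a' p _ _ sq' ha'
  obtain ⟨t, -, ht⟩ := Points.exists_of_isPullback sq' z w hz
  refine ⟨pullback a' p, pullback.snd a' p, hT, h1, ⟨t, ht⟩, ?_⟩
  have big : IsPullback (pullback.fst a' p) (pullback.snd a' p ≫ q) (a' ≫ f) b :=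
    sq'.paste_vert sq
  exact hP.baseChange hX' hY hT hV (a' ≫ f) b _ _ big hb hPa


variable (P) in
/-- The main claim for the pair `(f, b)`: goodness descends along the projection of any fibre
product. -/
def MCall {X Y V : Sp S} (f : X ⟶ Y) (b : V ⟶ Y) : Prop :=
  ∀ (W : Sp S) (p : W ⟶ X) (q : W ⟶ V), IsAlgSpace W → IsPullback p q f b →
    ∀ w : Points W, Good P q w → Good P f (Points.map p w)

set_option backward.isDefEq.respectTransparency.types false in
theorem MCall.of_one {X Y V W : Sp S} (hW : IsAlgSpace W) {f : X ⟶ Y} {b : V ⟶ Y} {p : W ⟶ X}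
    {q : W ⟶ V} (sq : IsPullback p q f b)
    (H : ∀ w : Points W, Good P q w → Good P f (Points.map p w)) : MCall P f b := by
  intro W' p' q' hW' sq' w' hw'
  let e : W' ⟶ W := sq.lift p' q' sq'.w
  have he1 : e ≫ p = p' := sq.lift_fst _ _ _
  have he2 : e ≫ q = q' := sq.lift_snd _ _ _
  have : IsIso e := by
    refine ⟨sq'.lift p q sq.w, ?_, ?_⟩
    · apply sq'.hom_ext
      · rw [Category.assoc, sq'.lift_fst, he1, Category.id_comp]
      · rw [Category.assoc, sq'.lift_snd, he2, Category.id_comp]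
    · apply sq.hom_ext
      · rw [Category.assoc, he1, sq'.lift_fst, Category.id_comp]
      · rw [Category.assoc, he2, sq'.lift_snd, Category.id_comp]
  have hee : IsEtaleMor e :=
    isEtaleMor_of_repWith_etale (MorphismProperty.of_isIso (RepWith @Etale) e)
  have h1 : Good P (e ≫ q) w' := by rw [he2]; exact hw'
  have h2 := H _ (Good.of_precomp hee h1)
  rw [← Points.map_comp, he1] at h2
  exact h2

/-- (R-X) -/
theorem mc_of_precomp (hP : Hyp P) {X₁ X Y V W : Sp S} (hX₁ : IsAlgSpace X₁) (hX : IsAlgSpace X)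
    (hY : IsAlgSpace Y) (hV : IsAlgSpace V) (hW : IsAlgSpace W) {a : X₁ ⟶ X} (ha : IsEtaleMor a)
    {f : X ⟶ Y} {b : V ⟶ Y} {p : W ⟶ X} {q : W ⟶ V} (sq : IsPullback p q f b)
    (H : MCall P (a ≫ f) b) (w : Points W) (x₁ : Points X₁)
    (hx : Points.map a x₁ = Points.map p w) (hw : Good P q w) : Good P f (Points.map p w) := by
  have sq' := IsPullback.of_hasPullback a p
  have hT : IsAlgSpace (pullback a p) := isAlgSpace_of_isPullback' hX hX₁ hW sq'
  have hr : IsEtaleMor (pullback.snd a p) :=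
    isEtaleMor_of_isPullback hX₁ hX hW hT a p _ _ sq' ha
  obtain ⟨t, ht1, ht2⟩ := Points.exists_of_isPullback sq' x₁ w hx
  have big : IsPullback (pullback.fst a p) (pullback.snd a p ≫ q) (a ≫ f) b := sq'.paste_vert sq
  have h1 : Good P (pullback.snd a p ≫ q) t :=
    Good.precomp hP hT hW hV hr (by rw [ht2]; exact hw)
  have h2 := H _ _ _ hT big t h1
  rw [ht1] at h2
  have h3 := Good.of_precomp ha h2
  rwa [hx] at h3

/-- (R-V) -/
theorem mc_of_cover (hP : Hyp P) {X Y V V₁ W : Sp S} (hX : IsAlgSpace X)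
    (hY : IsAlgSpace Y) (hV : IsAlgSpace V) (hV₁ : IsAlgSpace V₁) (hW : IsAlgSpace W)
    {c : V₁ ⟶ V} (hc : IsEtaleMor c)
    {f : X ⟶ Y} {b : V ⟶ Y} {p : W ⟶ X} {q : W ⟶ V} (sq : IsPullback p q f b)
    (H : MCall P f (c ≫ b)) (w : Points W) (v₁ : Points V₁)
    (hv : Points.map q w = Points.map c v₁) (hw : Good P q w) : Good P f (Points.map p w) := by
  have sq' := IsPullback.of_hasPullback q c
  have hT : IsAlgSpace (pullback q c) := isAlgSpace_of_isPullback' hV hW hV₁ sq'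
  obtain ⟨t, ht1, ht2⟩ := Points.exists_of_isPullback sq' w v₁ hv
  have big : IsPullback (pullback.fst q c ≫ p) (pullback.snd q c) f (c ≫ b) :=
    sq'.paste_horiz sq
  have h1 : Good P (pullback.snd q c) t :=
    Good.baseChange hP hW hV hV₁ hT sq' (locP_smooth_of_isEtaleMor hc) (by rw [ht1]; exact hw)
  have h2 := H _ _ _ hT big t h1
  rwa [Points.map_comp, ht1] at h2

/-- (R-A) -/
theorem mc_of_factor (hP : Hyp P) {X Y V V' W : Sp S} (hX : IsAlgSpace X)
    (hY : IsAlgSpace Y) (hV : IsAlgSpace V) (hV' : IsAlgSpace V') (hW : IsAlgSpace W)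
    {c : V ⟶ V'} (hc : IsEtaleMor c) {f : X ⟶ Y} {b' : V' ⟶ Y} {p : W ⟶ X} {q : W ⟶ V}
    (sq : IsPullback p q f (c ≫ b')) (H : MCall P f b') (w : Points W) (hw : Good P q w) :
    Good P f (Points.map p w) := by
  have sq' := IsPullback.of_hasPullback f b'
  have hT : IsAlgSpace (pullback f b') := isAlgSpace_of_isPullback' hY hX hV' sq'
  have hγw : p ≫ f = (q ≫ c) ≫ b' := by rw [Category.assoc]; exact sq.w
  let γ : W ⟶ pullback f b' := sq'.lift p (q ≫ c) hγw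
  have hγ1 : γ ≫ pullback.fst f b' = p := sq'.lift_fst _ _ _
  have hγ2 : γ ≫ pullback.snd f b' = q ≫ c := sq'.lift_snd _ _ _
  obtain ⟨W₀, a₀, hW₀, ha₀, ⟨z, hz⟩, hPa⟩ := hw
  have sqγ : IsPullback γ q (pullback.snd f b') c := by
    refine IsPullback.of_right ?_ hγ2 sq'
    rw [hγ1]
    exact sq
  have hγe : IsEtaleMor γ :=
    isEtaleMor_of_isPullback hV hV' hT hW c _ _ _ sqγ.flip hc
  have h1 : Good P (pullback.snd f b') (Points.map γ w) := by
    refine ⟨W₀, a₀ ≫ γ, hW₀, isEtaleMor_comp ha₀ hγe, ⟨z, by rw [Points.map_comp, hz]⟩, ?_⟩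
    rw [Category.assoc, hγ2, ← Category.assoc]
    exact hP.postcomp_etale hW₀ hV hV' _ c hc hPa
  have h2 := H _ _ _ hT sq' _ h1
  rwa [← Points.map_comp, hγ1] at h2

/-- (R-Y) for a smooth morphism factoring through an etale chart of the base. -/
theorem mc_of_base (hP : Hyp P) {X Y Y₁ V W : Sp S} (hX : IsAlgSpace X)
    (hY : IsAlgSpace Y) (hY₁ : IsAlgSpace Y₁) (hV : IsAlgSpace V) (hW : IsAlgSpace W)
    {j : Y₁ ⟶ Y} (hj : IsEtaleMor j) {f : X ⟶ Y} {b₁ : V ⟶ Y₁} {p : W ⟶ X} {q : W ⟶ V}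
    (sq : IsPullback p q f (b₁ ≫ j)) (H : MCall P (pullback.snd f j) b₁) (w : Points W)
    (hw : Good P q w) : Good P f (Points.map p w) := by
  have sq' := IsPullback.of_hasPullback f j
  have hT : IsAlgSpace (pullback f j) := isAlgSpace_of_isPullback' hY hX hY₁ sq'
  have ha : IsEtaleMor (pullback.fst f j) :=
    isEtaleMor_of_isPullback hY₁ hY hX hT j f _ _ sq'.flip hj
  have hp₁w : p ≫ f = (q ≫ b₁) ≫ j := by rw [Category.assoc]; exact sq.w
  let p₁ : W ⟶ pullback f j := sq'.lift p (q ≫ b₁) hp₁w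
  have hp1 : p₁ ≫ pullback.fst f j = p := sq'.lift_fst _ _ _
  have hp2 : p₁ ≫ pullback.snd f j = q ≫ b₁ := sq'.lift_snd _ _ _
  have sq₁ : IsPullback p₁ q (pullback.snd f j) b₁ := by
    refine IsPullback.of_right ?_ hp2 sq'
    rw [hp1]
    exact sq
  have h2 := H _ _ _ hW sq₁ w hw
  have h3 := Good.postcomp hP hY₁ hY hj h2
  rw [← sq'.w] at h3
  have h4 := Good.of_precomp ha h3
  rwa [← Points.map_comp, hp1] at h4

end Groth.Agent.Lib.Helper15.ESL
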