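import Mathlib.Algebra.MvPolynomial.Equiv
import Mathlib.Algebra.MvPolynomial.Rename
import Mathlib.LinearAlgebra.Matrix.Adjugate
import Mathlib.RingTheory.Localization.Away.Basic
import Mathlib.RingTheory.Localization.FractionRing
import Mathlib.RingTheory.Polynomial.Basic
import Mathlib.RingTheory.Ideal.Quotient.Operations

set_option autoImplicit false
universe u
open MvPolynomial

namespace Groth.Agent.Lib.Helper15.ESL

section Vdm

variable {σ : Type} [DecidableEq σ] (I : Finset (σ →₀ ℕ))

/-- exponent of the `α`-monomial in the `i`-th block of variables -/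
noncomputable def vExp (i : ↥I) (α : σ →₀ ℕ) : (↥I × σ) →₀ ℕ := Finsupp.mapDomain (Prod.mk i) α

theorem vExp_apply (i j : ↥I) (α : σ →₀ ℕ) (k : σ) :
    vExp I i α (j, k) = if i = j then α k else 0 := by
  classical
  unfold vExp
  split_ifs with h
  · subst h
    exact Finsupp.mapDomain_apply (Prod.mk_right_injective i) α k
  · apply Finsupp.mapDomain_of_notMem_range
    rintro ⟨k', hk'⟩
    exact h (congrArg Prod.fst hk')

variable (A : Type u) [CommRing A]

/-- The generalized Vandermonde matrix. -/
noncomputable def vMat : Matrix ↥I ↥I (MvPolynomial (↥I × σ) A) :=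
  fun i α => monomial (vExp I i α.1) 1

/-- its determinant -/
noncomputable def vDet : MvPolynomial (↥I × σ) A := (vMat I A).det

theorem map_vDet {B : Type u} [CommRing B] (f : A →+* B) : map f (vDet I A) = vDet I B := by
  unfold vDet
  rw [RingHom.map_det]
  congr 1
  ext i α : 2
  simp [vMat, map_monomial]

theorem coeff_vDet [Nontrivial A] :
    coeff (∑ i : ↥I, vExp I i i.1) (vDet I A) = 1 := by
  classical
  unfold vDet
  rw [Matrix.det_apply, coeff_sum]
  have hterm : ∀ π : Equiv.Perm ↥I, ∏ i, vMat I A (π i) i =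
      monomial (∑ i : ↥I, vExp I (π i) i.1) 1 := by
    intro π
    simp only [vMat]
    rw [← monomial_sum_one]
  have hinj : ∀ π : Equiv.Perm ↥I,
      (∑ i : ↥I, vExp I (π i) i.1) = (∑ i : ↥I, vExp I i i.1) → π = 1 := by
    intro π h
    ext j : 1
    have hj : ∀ k : σ, ((π⁻¹ j : ↥I) : σ →₀ ℕ) k = (j : σ →₀ ℕ) k := by
      intro k
      have := congrArg (fun e : (↥I × σ) →₀ ℕ => e (j, k)) h
      simp only [Finsupp.coe_finsetSum, Finset.sum_apply, vExp_apply] at this
      rw [Finset.sum_eq_single (π⁻¹ j), Finset.sum_eq_single j] at this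
      · simpa using this
      · intro b _ hb; rw [if_neg hb]
      · intro h; exact absurd (Finset.mem_univ _) h
      · intro b _ hb
        rw [if_neg]
        intro hb'
        exact hb (by rw [← hb']; simp)
      · intro h; exact absurd (Finset.mem_univ _) h
    have h2 : π⁻¹ j = j := Subtype.ext (Finsupp.ext hj)
    have h3 : π (π⁻¹ j) = π j := by rw [h2]
    simpa using h3.symm
  rw [Finset.sum_eq_single (1 : Equiv.Perm ↥I)]
  · have h1 := hterm 1
    simp only [Equiv.Perm.coe_one, id_eq] at h1
    simp only [Equiv.Perm.sign_one, one_smul, Equiv.Perm.coe_one, id_eq]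
    rw [h1, coeff_monomial, if_pos rfl]
  · intro π _ hπ
    rw [hterm, coeff_smul, coeff_monomial, if_neg (fun h => hπ (hinj π h)), smul_zero]
  · intro h; exact absurd (Finset.mem_univ _) h

theorem vDet_ne_zero [Nontrivial A] : vDet I A ≠ 0 := by
  intro h
  have := coeff_vDet I A
  rw [h, coeff_zero] at this
  exact zero_ne_one this

end Vdm


section Cover

theorem exists_mulVec_notMem {A : Type*} [CommRing A] {ι : Type*} [Fintype ι] [DecidableEq ι]
    (M : Matrix ι ι A) (c : ι → A) (hM : IsUnit M.det) (β : ι) (hβ : IsUnit (c β))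
    (p : Ideal A) (hp : p ≠ ⊤) : ∃ i, (M.mulVec c) i ∉ p := by
  by_contra hcon
  push Not at hcon
  have h1 : (M.adjugate.mulVec (M.mulVec c)) β ∈ p := by
    simp only [Matrix.mulVec, dotProduct]
    exact Submodule.sum_mem _ fun i _ => Ideal.mul_mem_left _ _ (hcon i)
  rw [Matrix.mulVec_mulVec, Matrix.adjugate_mul, Matrix.smul_mulVec, Matrix.one_mulVec,
    Pi.smul_apply, smul_eq_mul] at h1
  exact hp (Ideal.eq_top_of_isUnit_mem _ h1 (hM.mul hβ))

end Cover

section Surj

variable {σ : Type} [DecidableEq σ] (I : Finset (σ →₀ ℕ))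

theorem exists_prime_over_vDet (R : Type u) [CommRing R] (p : Ideal R) [p.IsPrime] :
    ∃ q : Ideal (Localization.Away (vDet I R)), q.IsPrime ∧
      q.comap (algebraMap R (Localization.Away (vDet I R))) = p := by
  let D := MvPolynomial (↥I × σ) (R ⧸ p)
  let K := FractionRing D
  let φ : MvPolynomial (↥I × σ) R →+* K :=
    (algebraMap D K).comp (map (Ideal.Quotient.mk p))
  have hδ : IsUnit (φ (vDet I R)) := by
    rw [isUnit_iff_ne_zero]
    change algebraMap D K (map (Ideal.Quotient.mk p) (vDet I R)) ≠ 0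
    rw [map_vDet]
    intro h
    exact vDet_ne_zero I (R ⧸ p) ((IsFractionRing.injective D K) (by rw [h, map_zero]))
  let ψ : Localization.Away (vDet I R) →+* K := IsLocalization.Away.lift (vDet I R) hδ
  refine ⟨RingHom.ker ψ, RingHom.ker_isPrime ψ, ?_⟩
  ext r
  rw [Ideal.mem_comap, RingHom.mem_ker]
  have h1 : ψ (algebraMap R _ r) = algebraMap D K (C (Ideal.Quotient.mk p r)) := by
    rw [IsScalarTower.algebraMap_apply R (MvPolynomial (↥I × σ) R) (Localization.Away (vDet I R))]
    change ψ (algebraMap _ _ (C r)) = _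
    rw [IsLocalization.Away.lift_eq]
    change algebraMap D K (map (Ideal.Quotient.mk p) (C r)) = _
    rw [map_C]
  rw [h1]
  constructor
  · intro h
    have h2 : (C (Ideal.Quotient.mk p r) : D) = 0 :=
      (IsFractionRing.injective D K) (by rw [h, map_zero])
    have h3 : Ideal.Quotient.mk p r = 0 := C_injective _ _ (by rw [h2, C_0])
    exact Ideal.Quotient.eq_zero_iff_mem.1 h3
  · intro h
    rw [Ideal.Quotient.eq_zero_iff_mem.2 h, C_0, map_zero]

end Surj

end Groth.Agent.Lib.Helper15.ESL
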