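import Groth.Agent.Lib.Helper15.ESL6
import Mathlib.RingTheory.RingHom.Smooth
import Mathlib.RingTheory.Smooth.Basic
import Mathlib.RingTheory.TensorProduct.MvPolynomial

set_option autoImplicit false
universe u
open MvPolynomial TensorProduct

namespace Groth.Agent.Lib.Helper15.ESL

theorem smooth_rename_of_injective {σ τ : Type*} [Finite τ] (R : Type*) [CommRing R] (f : σ → τ)
    (hf : Function.Injective f) :
    (rename f : MvPolynomial σ R →ₐ[R] MvPolynomial τ R).toRingHom.Smooth := by
  classical
  let e₀ : ↥(Set.range f)ᶜ ⊕ σ ≃ τ := (Equiv.sumComm _ _).trans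
    (((Equiv.ofInjective f hf).sumCongr (Equiv.refl _)).trans (Equiv.Set.sumCompl _))
  let e : MvPolynomial ↥(Set.range f)ᶜ (MvPolynomial σ R) ≃ₐ[R] MvPolynomial τ R :=
    (sumAlgEquiv R _ _).symm.trans (renameEquiv R e₀)
  have h1 : (rename f : MvPolynomial σ R →ₐ[R] MvPolynomial τ R).toRingHom =
      e.toAlgHom.toRingHom.comp (algebraMap (MvPolynomial σ R) _) := by
    apply MvPolynomial.ringHom_ext
    · intro r
      simp [e]
    · intro k
      simp [e, e₀]
  rw [h1]
  refine RingHom.Smooth.comp ?_ (RingHom.Smooth.of_bijective e.bijective)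
  rw [RingHom.smooth_algebraMap]
  exact ⟨inferInstance, inferInstance⟩

section Rings

variable {σ : Type} [DecidableEq σ] (I : Finset (σ →₀ ℕ))
variable (R : Type u) [CommRing R]

/-- the `i`-th tautological point -/
noncomputable def phiHom (i : ↥I) : MvPolynomial σ R →ₐ[R] Localization.Away (vDet I R) :=
  aeval (fun k => algebraMap (MvPolynomial (↥I × σ) R) _ (X (i, k)))

theorem phiHom_eq (i : ↥I) : (phiHom I R i).toRingHom =
    (algebraMap (MvPolynomial (↥I × σ) R) (Localization.Away (vDet I R))).comp
      (rename (Prod.mk i) : MvPolynomial σ R →ₐ[R] MvPolynomial (↥I × σ) R).toRingHom := by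
  apply MvPolynomial.ringHom_ext
  · intro r
    simp [phiHom, IsScalarTower.algebraMap_apply R (MvPolynomial (↥I × σ) R)
      (Localization.Away (vDet I R))]
  · intro k
    simp [phiHom]

theorem phiHom_smooth [Finite σ] (i : ↥I) : (phiHom I R i).toRingHom.Smooth := by
  rw [phiHom_eq]
  refine RingHom.Smooth.comp (smooth_rename_of_injective R _ (Prod.mk_right_injective i)) ?_
  rw [RingHom.smooth_algebraMap]
  exact Algebra.Smooth.of_isLocalization_Away (R := MvPolynomial (↥I × σ) R)
    (A := Localization.Away (vDet I R)) (vDet I R)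

theorem phiHom_monomial (i α : ↥I) :
    phiHom I R i (monomial α.1 1) = algebraMap _ _ (vMat I R i α) := by
  have := congrArg (fun f => f (monomial α.1 (1 : R))) (phiHom_eq I R i)
  simp only [AlgHom.toRingHom_eq_coe, RingHom.coe_coe, RingHom.coe_comp, Function.comp_apply,
    rename_monomial] at this
  rw [this]
  rfl

variable (C : Type u) [CommRing C] [Algebra R C]

/-- the pulled back `i`-th tautological point -/
noncomputable def rhoHom (i : ↥I) :
    MvPolynomial σ C →ₐ[C] C ⊗[R] Localization.Away (vDet I R) :=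
  aeval (fun k => (1 : C) ⊗ₜ[R] algebraMap (MvPolynomial (↥I × σ) R) _ (X (i, k)))

theorem rhoHom_comp_map (i : ↥I) :
    (rhoHom I R C i).toRingHom.comp (map (algebraMap R C)) =
      (Algebra.TensorProduct.includeRight :
        Localization.Away (vDet I R) →ₐ[R] C ⊗[R] Localization.Away (vDet I R)).toRingHom.comp
        (phiHom I R i).toRingHom := by
  apply MvPolynomial.ringHom_ext
  · intro r
    simp [rhoHom, phiHom, Algebra.TensorProduct.algebraMap_apply]
  · intro k
    simp [rhoHom, phiHom]

theorem exists_rhoHom_notMem (g : MvPolynomial σ C) (hg : g.support ⊆ I) (β : σ →₀ ℕ)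
    (hβI : β ∈ I) (hβ : IsUnit (coeff β g))
    (ω : Ideal (C ⊗[R] Localization.Away (vDet I R))) (hω : ω ≠ ⊤) :
    ∃ i : ↥I, rhoHom I R C i g ∉ ω := by
  classical
  let ψ : MvPolynomial (↥I × σ) R →+* C ⊗[R] Localization.Away (vDet I R) :=
    (Algebra.TensorProduct.includeRight :
        Localization.Away (vDet I R) →ₐ[R] C ⊗[R] Localization.Away (vDet I R)).toRingHom.comp
      (algebraMap _ _)
  let M : Matrix ↥I ↥I (C ⊗[R] Localization.Away (vDet I R)) := ψ.mapMatrix (vMat I R)
  let c : ↥I → C ⊗[R] Localization.Away (vDet I R) := fun α => algebraMap C _ (coeff α.1 g)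
  have hM : IsUnit M.det := by
    have h1 : M.det = ψ (vDet I R) := (RingHom.map_det ψ (vMat I R)).symm
    rw [h1]
    have h2 : IsUnit (algebraMap (MvPolynomial (↥I × σ) R) (Localization.Away (vDet I R))
        (vDet I R)) := IsLocalization.Away.algebraMap_isUnit (vDet I R)
    exact h2.map (Algebra.TensorProduct.includeRight :
        Localization.Away (vDet I R) →ₐ[R] C ⊗[R] Localization.Away (vDet I R))
  have key : ∀ i : ↥I, rhoHom I R C i g = M.mulVec c i := by
    intro i
    have hterm : ∀ α : ↥I, rhoHom I R C i (monomial α.1 (coeff α.1 g)) = M i α * c α := by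
      intro α
      have h1 : monomial α.1 (coeff α.1 g) =
          MvPolynomial.C (coeff α.1 g) * map (algebraMap R C) (monomial α.1 (1 : R)) := by
        rw [map_monomial, map_one, C_mul_monomial, mul_one]
      have h2 := congrArg (fun f => f (monomial α.1 (1 : R))) (rhoHom_comp_map I R C i)
      simp only [AlgHom.toRingHom_eq_coe, RingHom.coe_coe, RingHom.coe_comp,
        Function.comp_apply] at h2
      rw [h1, map_mul, h2, phiHom_monomial, mul_comm]
      simp [M, c, ψ, rhoHom]
    conv_lhs => rw [g.as_sum]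
    rw [map_sum, Finset.sum_subset hg, ← Finset.sum_coe_sort I]
    · simp only [Matrix.mulVec, dotProduct]
      exact Finset.sum_congr rfl fun α _ => hterm α
    · intro α _ hα
      rw [notMem_support_iff.1 hα, monomial_zero, map_zero]
  obtain ⟨i, hi⟩ := exists_mulVec_notMem M c hM ⟨β, hβI⟩ (hβ.map _) ω hω
  exact ⟨i, by rw [key]; exact hi⟩

end Rings

end Groth.Agent.Lib.Helper15.ESL
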