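import Groth.Agent.Lib.Helper15.ESL5
import Groth.Agent.Lib.Helper15.ESL7a
import Groth.Agent.Lib.Helper15.UnivDescend
import Groth.Agent.Lib.Helper3.SmoothEt6
import Groth.Agent.Lib.Helper3.AlgSpLocP4

set_option autoImplicit false
universe u
open CategoryTheory CategoryTheory.Limits AlgebraicGeometry Opposite MorphismProperty

namespace Groth.Agent.Lib.Helper15.ESL

open AlgSp Groth.Agent.Lib.Helper3 MvPolynomial TensorProduct

variable {S : Scheme.{u}} {P : MorphismProperty (Sp S)}

section Ov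

variable {R : Type u} [CommRing R] (τ : Spec (CommRingCat.of R) ⟶ S)

/-- The scheme over `S` attached to an `R`-algebra. -/
noncomputable abbrev ov (A : Type u) [CommRing A] [Algebra R A] : Over S :=
  Over.mk (Spec.map (CommRingCat.ofHom (algebraMap R A)) ≫ τ)

/-- The morphism over `S` attached to a map of `R`-algebras. -/
noncomputable def ovMap {A B : Type u} [CommRing A] [CommRing B] [Algebra R A] [Algebra R B]
    (h : A →ₐ[R] B) : ov τ B ⟶ ov τ A :=
  Over.homMk (Spec.map (CommRingCat.ofHom h.toRingHom)) (by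
    change Spec.map _ ≫ Spec.map _ ≫ τ = Spec.map _ ≫ τ
    rw [← Category.assoc, ← Spec.map_comp, ← CommRingCat.ofHom_comp]
    congr 3
    exact h.comp_algebraMap)

@[simp] theorem ovMap_left {A B : Type u} [CommRing A] [CommRing B] [Algebra R A] [Algebra R B]
    (h : A →ₐ[R] B) : (ovMap τ h).left = Spec.map (CommRingCat.ofHom h.toRingHom) := rfl

theorem ovMap_comp {A B D : Type u} [CommRing A] [CommRing B] [CommRing D] [Algebra R A]
    [Algebra R B] [Algebra R D] (h : A →ₐ[R] B) (k : B →ₐ[R] D) :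
    ovMap τ (k.comp h) = ovMap τ k ≫ ovMap τ h := by
  ext : 1
  change Spec.map _ = Spec.map _ ≫ Spec.map _
  rw [← Spec.map_comp]
  rfl

theorem isPullback_ovMap {A B A' B' : Type u} [CommRing A] [CommRing B] [CommRing A']
    [CommRing B'] [Algebra R A] [Algebra R B] [Algebra R A'] [Algebra R B']
    (h₁ : A →ₐ[R] B) (v₁ : A →ₐ[R] A') (v₂ : B →ₐ[R] B') (h₂ : A' →ₐ[R] B')
    (po : IsPushout (CommRingCat.ofHom h₁.toRingHom) (CommRingCat.ofHom v₁.toRingHom)
      (CommRingCat.ofHom v₂.toRingHom) (CommRingCat.ofHom h₂.toRingHom)) :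
    IsPullback ((yon S).map (ovMap τ v₂)) ((yon S).map (ovMap τ h₂)) ((yon S).map (ovMap τ h₁))
      ((yon S).map (ovMap τ v₁)) := by
  have h := isPullback_SpecMap_of_isPushout _ _ _ _ po
  have w : ovMap τ v₂ ≫ ovMap τ h₁ = ovMap τ h₂ ≫ ovMap τ v₁ := by
    ext : 1
    exact h.w
  exact (UnivDescend.isPullback_over_of_left w h).map (yon S)

theorem map_ovMap_apply {A B : Type u} [CommRing A] [CommRing B] [Algebra R A] [Algebra R B]
    (h : A →ₐ[R] B) (x : ↥(Spec (CommRingCat.of B))) :
    Points.map ((yon S).map (ovMap τ h)) (Points.schemeHomeo (ov τ B) x) =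
      Points.schemeHomeo (ov τ A) (Spec.map (CommRingCat.ofHom h.toRingHom) x) :=
  Points.map_yon_map_apply (ovMap τ h) x

theorem locP_smooth_ovMap {A B : Type u} [CommRing A] [CommRing B] [Algebra R A] [Algebra R B]
    (h : A →ₐ[R] B) (hh : h.toRingHom.Smooth) : LocP @Smooth ((yon S).map (ovMap τ h)) := by
  refine locP_of_repWith isEtLocal_smooth _ ((repWith_yon_map_iff @Smooth _).2 ?_)
  rw [ovMap_left]
  exact (HasRingHomProperty.Spec_iff (P := @Smooth)).2 hh

end Ov

section Core

attribute [local instance] MvPolynomial.algebraMvPolynomial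

variable (R C : Type u) [CommRing R] [CommRing C] [Algebra R C]

/-- `R[t] → C[t]` -/
noncomputable def qHom (σ : Type) : MvPolynomial σ R →ₐ[R] MvPolynomial σ C :=
  IsScalarTower.toAlgHom R (MvPolynomial σ R) (MvPolynomial σ C)

theorem qHom_toRingHom (σ : Type) :
    (qHom R C σ).toRingHom = MvPolynomial.map (algebraMap R C) := rfl

theorem core' (hP : Hyp P) (τ : Spec (CommRingCat.of R) ⟶ S) (σ : Type) [Finite σ]
    (g : MvPolynomial σ C) (β : σ →₀ ℕ) (hβ : IsUnit (coeff β g))
    (H : ∀ pt : ↥(Spec (CommRingCat.of (MvPolynomial σ C))), g ∉ pt.asIdeal →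
      Good P ((yon S).map (ovMap τ (qHom R C σ)))
        (Points.schemeHomeo (ov τ (MvPolynomial σ C)) pt)) :
    P ((yon S).map (ovMap τ (Algebra.ofId R C))) := by
  classical
  let I : Finset (σ →₀ ℕ) := insert β g.support
  have hgI : g.support ⊆ I := Finset.subset_insert _ _
  have hβI : β ∈ I := Finset.mem_insert_self _ _
  let f₀ : R →ₐ[R] C := Algebra.ofId R C
  let π : R →ₐ[R] MvPolynomial σ R := Algebra.ofId _ _
  let q := qHom R C σ
  let pC : C →ₐ[R] MvPolynomial σ C := IsScalarTower.toAlgHom R C _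
  let π'' : R →ₐ[R] Localization.Away (vDet I R) := Algebra.ofId _ _
  let q'' : Localization.Away (vDet I R) →ₐ[R] C ⊗[R] Localization.Away (vDet I R) :=
    Algebra.TensorProduct.includeRight
  let πC'' : C →ₐ[R] C ⊗[R] Localization.Away (vDet I R) := Algebra.TensorProduct.includeLeft
  let ρ : ↥I → (MvPolynomial σ C →ₐ[R] C ⊗[R] Localization.Away (vDet I R)) :=
    fun i => (rhoHom I R C i).restrictScalars R
  have hA : ∀ T : Over S, IsAlgSpace ((yon S).obj T) := IsAlgSpace.yon_obj
  have sqW : IsPullback ((yon S).map (ovMap τ pC)) ((yon S).map (ovMap τ q))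
      ((yon S).map (ovMap τ f₀)) ((yon S).map (ovMap τ π)) :=
    isPullback_ovMap τ f₀ π pC q
      (CommRingCat.isPushout_of_isPushout R C (MvPolynomial σ R) (MvPolynomial σ C))
  have sqW'' : IsPullback ((yon S).map (ovMap τ πC'')) ((yon S).map (ovMap τ q''))
      ((yon S).map (ovMap τ f₀)) ((yon S).map (ovMap τ π'')) :=
    isPullback_ovMap τ f₀ π'' πC'' q''
      (CommRingCat.isPushout_tensorProduct R C (Localization.Away (vDet I R)))
  have e1 : ∀ i, (ρ i).comp pC = πC'' := by
    intro i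
    ext c
    simp [ρ, pC, πC'', rhoHom, Algebra.TensorProduct.algebraMap_apply]
  have e2 : ∀ i, (phiHom I R i).comp π = π'' := by
    intro i
    ext
  have e3 : ∀ i, (ρ i).comp q = q''.comp (phiHom I R i) := by
    intro i
    apply AlgHom.coe_ringHom_injective
    exact rhoHom_comp_map I R C i
  have sqi : ∀ i, IsPullback ((yon S).map (ovMap τ (ρ i))) ((yon S).map (ovMap τ q''))
      ((yon S).map (ovMap τ q)) ((yon S).map (ovMap τ (phiHom I R i))) := by
    intro i
    refine IsPullback.of_right ?_ ?_ sqW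
    · rw [← Functor.map_comp, ← Functor.map_comp, ← ovMap_comp, ← ovMap_comp, e1, e2]
      exact sqW''
    · rw [← Functor.map_comp, ← Functor.map_comp, ← ovMap_comp, ← ovMap_comp, e3]
  have hgood : ∀ w, Good P ((yon S).map (ovMap τ q'')) w := by
    intro w
    obtain ⟨w0, rfl⟩ := (Points.schemeHomeo (ov τ (C ⊗[R] Localization.Away (vDet I R)))).surjective w
    obtain ⟨i, hi⟩ := exists_rhoHom_notMem I R C g hgI β hβI hβ w0.asIdeal w0.isPrime.ne_top
    refine Good.baseChange hP (hA _) (hA _) (hA _) (hA _) (sqi i)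
      (locP_smooth_ovMap τ _ (phiHom_smooth I R i)) ?_
    rw [map_ovMap_apply]
    apply H
    exact hi
  have hq'' : P ((yon S).map (ovMap τ q'')) := hP.of_forall_good (hA _) (hA _) _ hgood
  refine hP.descend (hA _) (hA _) (hA _) (hA _) _ _ _ _ sqW'' (locP_smooth_ovMap τ _ ?_) ?_ hq''
  · change (algebraMap R (Localization.Away (vDet I R))).Smooth
    rw [IsScalarTower.algebraMap_eq R (MvPolynomial (↥I × σ) R) (Localization.Away (vDet I R))]
    refine RingHom.Smooth.comp ?_ ?_
    · rw [RingHom.smooth_algebraMap]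
      exact ⟨inferInstance, inferInstance⟩
    · rw [RingHom.smooth_algebraMap]
      exact Algebra.Smooth.of_isLocalization_Away (R := MvPolynomial (↥I × σ) R)
        (A := Localization.Away (vDet I R)) (vDet I R)
  · intro y
    obtain ⟨y0, rfl⟩ := (Points.schemeHomeo (ov τ R)).surjective y
    have : y0.asIdeal.IsPrime := y0.isPrime
    obtain ⟨q0, hq0, hq0'⟩ := exists_prime_over_vDet I R y0.asIdeal
    refine ⟨Points.schemeHomeo (ov τ (Localization.Away (vDet I R))) ⟨q0, hq0⟩, ?_⟩
    refine (map_ovMap_apply τ π'' (⟨q0, hq0⟩ : PrimeSpectrum _)).trans ?_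
    congr 1
    apply PrimeSpectrum.ext
    exact hq0'

end Core

end Groth.Agent.Lib.Helper15.ESL
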