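import Groth.Agent.Lib.Helper15.ESL7b
import Groth.Agent.Lib.Helper3.SchImRed
import Mathlib.RingTheory.MvPolynomial.Localization

set_option autoImplicit false
universe u
open CategoryTheory CategoryTheory.Limits AlgebraicGeometry Opposite MorphismProperty

namespace Groth.Agent.Lib.Helper15.ESL

open AlgSp Groth.Agent.Lib.Helper3 MvPolynomial TensorProduct

variable {S : Scheme.{u}} {P : MorphismProperty (Sp S)}

section Wrapper

attribute [local instance] MvPolynomial.algebraMvPolynomial

theorem exists_coeff_notMem {C : Type*} [CommRing C] {σ : Type*} (g : MvPolynomial σ C)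
    (w : Ideal (MvPolynomial σ C)) (hg : g ∉ w) : ∃ β, MvPolynomial.C (coeff β g) ∉ w := by
  by_contra hcon
  push Not at hcon
  apply hg
  rw [g.as_sum]
  refine Submodule.sum_mem _ fun α _ => ?_
  have : monomial α (coeff α g) = MvPolynomial.C (coeff α g) * monomial α 1 := by
    rw [C_mul_monomial, mul_one]
  rw [this]
  exact Ideal.mul_mem_right _ _ (hcon α)

variable (R C : Type u) [CommRing R] [CommRing C] [Algebra R C]

theorem affine_point (hP : Hyp P) (τ : Spec (CommRingCat.of R) ⟶ S) (σ : Type) [Finite σ]
    (w : ↥(Spec (CommRingCat.of (MvPolynomial σ C))))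
    (hw : Good P ((yon S).map (ovMap τ (qHom R C σ)))
      (Points.schemeHomeo (ov τ (MvPolynomial σ C)) w)) :
    Good P ((yon S).map (ovMap τ (Algebra.ofId R C)))
      (Points.schemeHomeo (ov τ C)
        (Spec.map (CommRingCat.ofHom (algebraMap C (MvPolynomial σ C))) w)) := by
  obtain ⟨W₀, a₀, hW₀, ha₀, hwr, hPa⟩ := hw
  have hA : ∀ T : Over S, IsAlgSpace ((yon S).obj T) := IsAlgSpace.yon_obj
  have hopen : IsOpen (Set.range (Points.map a₀)) :=
    (SchIm.isOpenMap_map_of_isEtaleMor hW₀ (hA _) ha₀).isOpen_range
  let U : Set (PrimeSpectrum (MvPolynomial σ C)) :=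
    (Points.schemeHomeo (ov τ (MvPolynomial σ C))) ⁻¹' (Set.range (Points.map a₀))
  have hU : IsOpen U := hopen.preimage (Points.schemeHomeo (ov τ (MvPolynomial σ C))).continuous
  have hwU : w ∈ U := hwr
  obtain ⟨_, ⟨g, rfl⟩, hwg, hgU⟩ :=
    PrimeSpectrum.isTopologicalBasis_basic_opens.exists_subset_of_mem_open hwU hU
  have hgw : g ∉ w.asIdeal := hwg
  obtain ⟨β, hβ⟩ := exists_coeff_notMem g w.asIdeal hgw
  let lam : C →ₐ[R] Localization.Away (coeff β g) := IsScalarTower.toAlgHom R C _
  let lamt : MvPolynomial σ C →ₐ[R] MvPolynomial σ (Localization.Away (coeff β g)) :=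
    MvPolynomial.mapAlgHom lam
  have hq : qHom R (Localization.Away (coeff β g)) σ = lamt.comp (qHom R C σ) := by
    apply AlgHom.coe_ringHom_injective
    change MvPolynomial.map (algebraMap R (Localization.Away (coeff β g))) =
      (MvPolynomial.map (algebraMap C (Localization.Away (coeff β g)))).comp
        (MvPolynomial.map (algebraMap R C))
    refine RingHom.ext fun p => ?_
    rw [RingHom.comp_apply, MvPolynomial.map_map, ← IsScalarTower.algebraMap_eq]
  have hf : Algebra.ofId R (Localization.Away (coeff β g)) = lam.comp (Algebra.ofId R C) := by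
    ext
  have hlam_et : IsEtaleMor ((yon S).map (ovMap τ lam)) := by
    rw [isEtaleMor_yon_map_iff]
    have : IsOpenImmersion (ovMap τ lam).left :=
      inferInstanceAs (IsOpenImmersion (Spec.map (CommRingCat.ofHom
        (algebraMap C (Localization.Away (coeff β g))))))
    infer_instance
  have hlamt_et : IsEtaleMor ((yon S).map (ovMap τ lamt)) := by
    rw [isEtaleMor_yon_map_iff]
    have hloc : IsLocalization.Away (MvPolynomial.C (σ := σ) (coeff β g))
        (MvPolynomial σ (Localization.Away (coeff β g))) := by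
      have := MvPolynomial.isLocalization (σ := σ) (Submonoid.powers (coeff β g))
        (Localization.Away (coeff β g))
      rwa [Submonoid.map_powers] at this
    have : IsOpenImmersion (ovMap τ lamt).left :=
      IsOpenImmersion.of_isLocalization (S := MvPolynomial σ (Localization.Away (coeff β g)))
        (MvPolynomial.C (σ := σ) (coeff β g))
    infer_instance
  have key : P ((yon S).map (ovMap τ (Algebra.ofId R (Localization.Away (coeff β g))))) := by
    refine core' R (Localization.Away (coeff β g)) hP τ σ
      (MvPolynomial.map (algebraMap C (Localization.Away (coeff β g))) g) β ?_ ?_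
    · rw [coeff_map]
      exact IsLocalization.Away.algebraMap_isUnit (coeff β g)
    · intro pt hpt
      rw [hq, ovMap_comp, Functor.map_comp]
      refine Good.precomp hP (hA _) (hA _) (hA _) hlamt_et ?_
      rw [map_ovMap_apply]
      have hmem : (Spec.map (CommRingCat.ofHom lamt.toRingHom) pt) ∈ U := hgU hpt
      obtain ⟨z, hz⟩ := hmem
      exact ⟨W₀, a₀, hW₀, ha₀, ⟨z, hz⟩, hPa⟩
  refine ⟨(yon S).obj (ov τ (Localization.Away (coeff β g))), (yon S).map (ovMap τ lam), hA _,
    hlam_et, ?_, ?_⟩
  · have hx : (Spec.map (CommRingCat.ofHom (algebraMap C (MvPolynomial σ C))) w) ∈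
        Set.range (PrimeSpectrum.comap (algebraMap C (Localization.Away (coeff β g)))) := by
      rw [PrimeSpectrum.localization_away_comap_range _ (coeff β g)]
      exact hβ
    obtain ⟨x1, hx1⟩ := hx
    refine ⟨Points.schemeHomeo (ov τ (Localization.Away (coeff β g))) x1, ?_⟩
    refine (map_ovMap_apply τ lam x1).trans ?_
    congr 1
  · rw [← Functor.map_comp, ← ovMap_comp, ← hf]
    exact key

end Wrapper

end Groth.Agent.Lib.Helper15.ESL
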