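import Groth.Agent.Lib.Helper15.ESL8
import Groth.Agent.Lib.Helper3.AlgSpIntegralDim

set_option autoImplicit false
universe u
open CategoryTheory CategoryTheory.Limits AlgebraicGeometry Opposite MorphismProperty

namespace Groth.Agent.Lib.Helper15.ESL

open AlgSp Groth.Agent.Lib.Helper3 MvPolynomial TensorProduct

variable {S : Scheme.{u}} {P : MorphismProperty (Sp S)}

section AffCore

attribute [local instance] MvPolynomial.algebraMvPolynomial

variable {R : Type u} [CommRing R] (τ : Spec (CommRingCat.of R) ⟶ S)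

/-- An affine scheme over `ov τ R` is of the form `ov τ C`. -/
theorem exists_ov_iso (X₁ : Over S) (hX₁ : IsAffine X₁.left) (φ : X₁ ⟶ ov τ R) :
    ∃ (C : Type u) (_ : CommRing C) (_ : Algebra R C) (ε : ov τ C ⟶ X₁), IsIso ε ∧
      ε ≫ φ = ovMap τ (Algebra.ofId R C) := by
  let e := X₁.left.isoSpec
  obtain ⟨θ, hθ⟩ := Spec.map_surjective (e.inv ≫ φ.left)
  letI : Algebra R ↑Γ(X₁.left, ⊤) := θ.hom.toAlgebra
  have hw : e.inv ≫ X₁.hom = (ov τ ↑Γ(X₁.left, ⊤)).hom := by
    have h1 : φ.left ≫ (ov τ R).hom = X₁.hom := Over.w φ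
    change _ = Spec.map θ ≫ τ
    rw [hθ, ← h1, Category.assoc]
    congr 2
    change Spec.map (𝟙 _) ≫ τ = τ
    rw [Spec.map_id, Category.id_comp]
  let ε : ov τ ↑Γ(X₁.left, ⊤) ⟶ X₁ := Over.homMk e.inv hw
  have hε : IsIso ε := by
    have : IsIso ((Over.forget S).map ε) := inferInstanceAs (IsIso e.inv)
    exact isIso_of_reflects_iso ε (Over.forget S)
  refine ⟨↑Γ(X₁.left, ⊤), inferInstance, inferInstance, ε, hε, ?_⟩
  ext : 1
  change e.inv ≫ φ.left = Spec.map θ
  exact hθ.symm

variable (R) in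
theorem isPullback_sqW (C : Type u) [CommRing C] [Algebra R C] (σ : Type) :
    IsPullback ((yon S).map (ovMap τ (IsScalarTower.toAlgHom R C (MvPolynomial σ C))))
      ((yon S).map (ovMap τ (qHom R C σ))) ((yon S).map (ovMap τ (Algebra.ofId R C)))
      ((yon S).map (ovMap τ (Algebra.ofId R (MvPolynomial σ R)))) :=
  isPullback_ovMap τ (Algebra.ofId R C) (Algebra.ofId R (MvPolynomial σ R))
    (IsScalarTower.toAlgHom R C (MvPolynomial σ C)) (qHom R C σ)
    (CommRingCat.isPushout_of_isPushout R C (MvPolynomial σ R) (MvPolynomial σ C))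

set_option backward.isDefEq.respectTransparency.types false in
/-- (Lemma A) The main claim for affine space over an affine base. -/
theorem mcall_affine (hP : Hyp P) (σ : Type) [Finite σ] {X : Sp S} (hX : IsAlgSpace X)
    (f : X ⟶ (yon S).obj (ov τ R)) :
    MCall P f ((yon S).map (ovMap τ (Algebra.ofId R (MvPolynomial σ R)))) := by
  intro W p q hW sq w hw
  have hA : ∀ T : Over S, IsAlgSpace ((yon S).obj T) := IsAlgSpace.yon_obj
  obtain ⟨X₁, a, x₁, hX₁aff, hae, hx₁⟩ := exists_affine_chart_through hX (Points.map p w)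
  have ha : IsEtaleMor a := isEtaleMor_of_repWith_etale hae
  obtain ⟨φ, hφ⟩ := (yon S).map_surjective (a ≫ f)
  obtain ⟨C, _, _, ε, hε, hεφ⟩ := exists_ov_iso τ X₁ hX₁aff φ
  have hεe : IsEtaleMor ((yon S).map ε) :=
    isEtaleMor_of_repWith_etale (MorphismProperty.of_isIso (RepWith @Etale) ((yon S).map ε))
  have hcomp : ((yon S).map ε ≫ a) ≫ f = (yon S).map (ovMap τ (Algebra.ofId R C)) := by
    rw [Category.assoc, ← hφ, ← Functor.map_comp, hεφ]
  have H : MCall P (((yon S).map ε ≫ a) ≫ f)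
      ((yon S).map (ovMap τ (Algebra.ofId R (MvPolynomial σ R)))) := by
    rw [hcomp]
    refine MCall.of_one (hA _) (isPullback_sqW R τ C σ) ?_
    intro w' hw'
    obtain ⟨w0, rfl⟩ := (Points.schemeHomeo (ov τ (MvPolynomial σ C))).surjective w'
    rw [map_ovMap_apply]
    exact affine_point R C hP τ σ w0 hw'
  refine mc_of_precomp hP (hA _) hX (hA _) (hA _) hW (isEtaleMor_comp hεe ha) sq H w
    (Points.schemeHomeo (ov τ C) ((inv ε).left x₁)) ?_ hw
  rw [Points.map_comp, Points.map_yon_map_apply, ← hx₁, Points.ofPt_eq_map_ofScheme]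
  congr 1
  change Points.schemeHomeo X₁ (((inv ε).left ≫ ε.left) x₁) = Points.schemeHomeo X₁ x₁
  rw [← Over.comp_left, IsIso.inv_hom_id]
  rfl

end AffCore

end Groth.Agent.Lib.Helper15.ESL
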