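import Groth.Prelude.Def_BlowUp2
import Groth.Agent.Lib.Helper29.IdealComap
import Groth.Agent.Lib.Helper29.EffCart4
import Mathlib.AlgebraicGeometry.Morphisms.UniversallyOpen
import Mathlib.AlgebraicGeometry.Morphisms.Flat
import Mathlib.RingTheory.Flat.FaithfullyFlat.Algebra

set_option autoImplicit false
universe u
open CategoryTheory CategoryTheory.Limits AlgebraicGeometry Opposite TopologicalSpace

namespace Groth.Agent.Lib.Helper15.EffCartDescent

section Ring
variable {B : Type*} [CommRing B]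

theorem span_quot_eq_top (G : Set B) (t : B) (ht : t ∈ nonZeroDivisors B)
    (h : Ideal.span G = Ideal.span {t}) :
    Ideal.span {c : B | ∃ g ∈ G, g = t * c} = ⊤ := by
  have key : ∀ y ∈ Ideal.span G, ∀ c : B, y = t * c →
      c ∈ Ideal.span {c : B | ∃ g ∈ G, g = t * c} := by
    intro y hy
    refine Submodule.span_induction
      (p := fun y _ => ∀ c : B, y = t * c → c ∈ Ideal.span {c : B | ∃ g ∈ G, g = t * c})
      ?_ ?_ ?_ ?_ hy
    · intro x hx c hc
      exact Ideal.subset_span ⟨x, hx, hc⟩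
    · intro c hc
      have : c = 0 := (mul_cancel_left_mem_nonZeroDivisors ht).1 (by rw [← hc, mul_zero])
      rw [this]; exact Ideal.zero_mem _
    · intro x y hx hy ihx ihy c hc
      have hx' : x ∈ Ideal.span {t} := h ▸ hx
      have hy' : y ∈ Ideal.span {t} := h ▸ hy
      obtain ⟨cx, rfl⟩ := Ideal.mem_span_singleton'.1 hx'
      obtain ⟨cy, rfl⟩ := Ideal.mem_span_singleton'.1 hy'
      have hc' : t * (cx + cy) = t * c := by rw [← hc]; ring
      have : cx + cy = c := (mul_cancel_left_mem_nonZeroDivisors ht).1 hc'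
      rw [← this]
      exact Ideal.add_mem _ (ihx cx (mul_comm _ _)) (ihy cy (mul_comm _ _))
    · intro a x hx ihx c hc
      have hx' : x ∈ Ideal.span {t} := h ▸ hx
      obtain ⟨cx, rfl⟩ := Ideal.mem_span_singleton'.1 hx'
      have hc' : t * (a * cx) = t * c := by rw [← hc, smul_eq_mul]; ring
      have : a * cx = c := (mul_cancel_left_mem_nonZeroDivisors ht).1 hc'
      rw [← this]
      exact Ideal.mul_mem_left _ _ (ihx cx (mul_comm _ _))
  have htm : t ∈ Ideal.span G := h ▸ Ideal.mem_span_singleton_self t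
  exact (Ideal.eq_top_iff_one _).2 (key t htm 1 (mul_one t).symm)

theorem exists_notMem_prime (G : Set B) (t : B) (ht : t ∈ nonZeroDivisors B)
    (h : Ideal.span G = Ideal.span {t}) (p : Ideal B) [hp : p.IsPrime] :
    ∃ c g : B, c ∉ p ∧ g ∈ G ∧ g = t * c := by
  by_contra hcon
  push Not at hcon
  have hle : Ideal.span {c : B | ∃ g ∈ G, g = t * c} ≤ p := by
    rw [Ideal.span_le]
    rintro c ⟨g, hg, hgc⟩
    by_contra hc
    exact hcon c g hc hg hgc
  rw [span_quot_eq_top G t ht h] at hle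
  exact hp.ne_top (top_le_iff.1 hle)

theorem eq_span_of_faithfullyFlat {A : Type*} [CommRing A] (ρ : A →+* B) (hρ : ρ.FaithfullyFlat)
    (I : Ideal A) (s : A) (hmap : I.map ρ = Ideal.span {ρ s}) (hnzd : ρ s ∈ nonZeroDivisors B) :
    s ∈ nonZeroDivisors A ∧ I = Ideal.span {s} := by
  refine ⟨mem_nonZeroDivisors_of_injective hρ.injective hnzd, ?_⟩
  algebraize [ρ]
  have ff : Module.FaithfullyFlat A B := hρ
  apply Ideal.map_injective_of_faithfullyFlat (A := A) (B := B)
  change I.map ρ = (Ideal.span {s}).map ρ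
  rw [hmap, Ideal.map_span, Set.image_singleton]

end Ring

open Groth.Agent.Lib.Helper29.EffCart

/-- membership in a basic open through the prime of a point -/
theorem mem_basicOpen_of_notMem_comap {X : Scheme.{u}} (U : X.Opens) (x : X) (hx : x ∈ U)
    (c : Γ(X, U))
    (hc : c ∉ Ideal.comap (X.presheaf.germ U x hx).hom
      (IsLocalRing.maximalIdeal (X.presheaf.stalk x))) : x ∈ X.basicOpen c := by
  rw [Scheme.mem_basicOpen _ _ x hx]
  by_contra hnu
  exact hc (by rw [Ideal.mem_comap]; exact (IsLocalRing.mem_maximalIdeal _).2 hnu)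

theorem faithfullyFlat_appLE_of_surjOn {W U : Scheme.{u}} (q : W ⟶ U) [Flat q]
    (U' : U.affineOpens) (W' : W.affineOpens) (e : W'.1 ≤ q ⁻¹ᵁ U'.1)
    (hsurj : ∀ x ∈ U'.1, ∃ w ∈ W'.1, q w = x) :
    (q.appLE U'.1 W'.1 e).hom.FaithfullyFlat := by
  rw [RingHom.FaithfullyFlat.iff_flat_and_comap_surjective]
  refine ⟨HasRingHomProperty.appLE (P := @Flat) q inferInstance U' W' e, ?_⟩
  intro p'
  have hU' : IsAffineOpen U'.1 := U'.2
  have hW' : IsAffineOpen W'.1 := W'.2
  let x' : U'.1 := hU'.isoSpec.inv p'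
  have hx' : hU'.primeIdealOf x' = p' := by
    have h1 : (hU'.isoSpec.inv ≫ hU'.isoSpec.hom) p' = p' := by rw [Iso.inv_hom_id]; rfl
    exact h1
  obtain ⟨w, hw, hqw⟩ := hsurj x'.1 x'.2
  refine ⟨hW'.primeIdealOf ⟨w, hw⟩, ?_⟩
  have := IsAffineOpen.comap_primeIdealOf_appLE (f := q) U'.1 hU' W'.1 hW' e hw
  rw [← hx']
  refine this.trans ?_
  congr 1
  exact Subtype.ext hqw

/-- Effective Cartier ideals descend along flat, locally finitely presented, surjective morphisms. -/
theorem isEffCartierIdeal_of_comap {W U : Scheme.{u}} (q : W ⟶ U) [Flat q]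
    [LocallyOfFinitePresentation q] [Surjective q] (I : U.IdealSheafData)
    (h : BlowUp.IsEffCartierIdeal (I.comap q)) : BlowUp.IsEffCartierIdeal I := by
  intro u
  obtain ⟨w, rfl⟩ := q.surjective u
  obtain ⟨_, ⟨U₀o, hU₀a, rfl⟩, hu₀, -⟩ :=
    U.isBasis_affineOpens.exists_subset_of_mem_open (Set.mem_univ (q w)) isOpen_univ
  let U₀ : U.affineOpens := ⟨U₀o, hU₀a⟩
  obtain ⟨W₀, hwW₀, hle, t, ht, hIt⟩ :=
    exists_affine_principal_nzd_le (I.comap q) h w (q ⁻¹ᵁ U₀.1) hu₀
  have hmap := ideal_comap_eq_map I q U₀ W₀ hle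
  rw [hIt] at hmap
  -- the prime of `w`
  let 𝔮 : Ideal Γ(W, W₀.1) := Ideal.comap (W.presheaf.germ W₀.1 w hwW₀).hom
    (IsLocalRing.maximalIdeal (W.presheaf.stalk w))
  have h𝔮 : 𝔮.IsPrime := Ideal.comap_isPrime _ _
  obtain ⟨c, g₀, hc, ⟨s, hs, rfl⟩, hsc⟩ := exists_notMem_prime
    ((q.appLE U₀.1 W₀.1 hle).hom '' (I.ideal U₀ : Set Γ(U, U₀.1))) t ht hmap.symm 𝔮
  have hwc : w ∈ W.basicOpen c := mem_basicOpen_of_notMem_comap W₀.1 w hwW₀ c hc
  -- the open image
  have hNopen : IsOpen (q '' (W.basicOpen c : Set W)) := q.isOpenMap _ (W.basicOpen c).isOpen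
  obtain ⟨g, hgle, hug⟩ := U₀.2.exists_basicOpen_le
    (V := ⟨q '' (W.basicOpen c : Set W), hNopen⟩) ⟨q w, ⟨w, hwc, rfl⟩⟩ hu₀
  let r : Γ(W, W₀.1) := c * (q.appLE U₀.1 W₀.1 hle).hom g
  have hr : W.basicOpen r = W.basicOpen c ⊓ (W₀.1 ⊓ q ⁻¹ᵁ (U.basicOpen g)) := by
    rw [Scheme.basicOpen_mul, Scheme.basicOpen_appLE]
  have e' : W.basicOpen r ≤ q ⁻¹ᵁ (U.basicOpen g) := by
    rw [hr]
    exact inf_le_right.trans inf_le_right
  have hsurj : ∀ x ∈ (U.affineBasicOpen g).1, ∃ w' ∈ (W.affineBasicOpen r).1, q w' = x := by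
    intro x hx
    obtain ⟨w', hw'c, rfl⟩ := hgle hx
    refine ⟨w', ?_, rfl⟩
    change w' ∈ W.basicOpen r
    rw [hr]
    exact ⟨hw'c, W.basicOpen_le c hw'c, hx⟩
  have hff : (q.appLE (U.basicOpen g) (W.basicOpen r) e').hom.FaithfullyFlat :=
    faithfullyFlat_appLE_of_surjOn q (U.affineBasicOpen g) (W.affineBasicOpen r) e' hsurj
  -- restriction maps
  have instB := W₀.2.isLocalization_basicOpen r
  have hmapB : (W.presheaf.map (homOfLE (W.basicOpen_le r)).op).hom = algebraMap _ _ := rfl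
  let resA := (U.presheaf.map (homOfLE (U.basicOpen_le g)).op).hom
  let resB := (W.presheaf.map (homOfLE (W.basicOpen_le r)).op).hom
  have hcomm : ∀ a : Γ(U, U₀.1),
      (q.appLE (U.basicOpen g) (W.basicOpen r) e').hom (resA a) =
        resB ((q.appLE U₀.1 W₀.1 hle).hom a) := by
    intro a
    have h1 : U.presheaf.map (homOfLE (U.basicOpen_le g)).op ≫
        q.appLE (U.basicOpen g) (W.basicOpen r) e' =
        q.appLE U₀.1 W₀.1 hle ≫ W.presheaf.map (homOfLE (W.basicOpen_le r)).op := by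
      rw [Scheme.Hom.map_appLE, Scheme.Hom.appLE_map]
    exact congr($(h1).hom a)
  have hmap' : (I.ideal (U.affineBasicOpen g)).map
      (q.appLE (U.basicOpen g) (W.basicOpen r) e').hom = Ideal.span {resB t} := by
    have h1 := ideal_comap_eq_map I q (U.affineBasicOpen g) (W.affineBasicOpen r) e'
    have h2 := (I.comap q).map_ideal_basicOpen W₀ r
    rw [hIt, Ideal.map_span, Set.image_singleton] at h2
    exact h1.symm.trans h2.symm
  have hunit_r : IsUnit (resB r) := RingedSpace.isUnit_res_basicOpen _ r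
  have hunit_c : IsUnit (resB c) := by
    have : resB r = resB c * resB ((q.appLE U₀.1 W₀.1 hle).hom g) := map_mul resB _ _
    rw [this] at hunit_r
    exact isUnit_of_mul_isUnit_left hunit_r
  have hnzd_t : resB t ∈ nonZeroDivisors Γ(W, W.basicOpen r) := by
    change (W.presheaf.map (homOfLE (W.basicOpen_le r)).op).hom t ∈ _
    rw [hmapB]
    exact IsLocalization.map_nonZeroDivisors_le (Submonoid.powers r) _ ⟨t, ht, rfl⟩
  have hs' : (q.appLE (U.basicOpen g) (W.basicOpen r) e').hom (resA s) =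
      resB t * resB c := by
    rw [hcomm, hsc, map_mul]
  have hfin := eq_span_of_faithfullyFlat
    (q.appLE (U.basicOpen g) (W.basicOpen r) e').hom hff
    (I.ideal (U.affineBasicOpen g)) (resA s)
    (hmap'.trans (by rw [hs']; exact (Ideal.span_singleton_mul_right_unit hunit_c _).symm))
    (by rw [hs']; exact mul_mem hnzd_t hunit_c.mem_nonZeroDivisors)
  exact ⟨U.affineBasicOpen g, hug, resA s, hfin.1, hfin.2⟩

end Groth.Agent.Lib.Helper15.EffCartDescent
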