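import Groth.Agent.Lib.Helper15.EffCartDescent

set_option autoImplicit false
universe u
open CategoryTheory CategoryTheory.Limits AlgebraicGeometry Opposite TopologicalSpace

namespace Groth.Agent.Lib.Helper15.EffCartDescent

open Groth.Agent.Lib.Helper29.EffCart

/-- Pointwise descent of effective Cartier ideals along a flat, locally finitely presented morphism. -/
theorem exists_principal_nzd_of_comap {W U : Scheme.{u}} (q : W ⟶ U) [Flat q]
    [LocallyOfFinitePresentation q] (I : U.IdealSheafData)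
    (h : BlowUp.IsEffCartierIdeal (I.comap q)) (w : W) :
    ∃ U' : U.affineOpens, q w ∈ U'.1 ∧
      ∃ f : Γ(U, U'.1), f ∈ nonZeroDivisors Γ(U, U'.1) ∧ I.ideal U' = Ideal.span {f} := by
  obtain ⟨_, ⟨U₀o, hU₀a, rfl⟩, hu₀, -⟩ :=
    U.isBasis_affineOpens.exists_subset_of_mem_open (Set.mem_univ (q w)) isOpen_univ
  let U₀ : U.affineOpens := ⟨U₀o, hU₀a⟩
  obtain ⟨W₀, hwW₀, hle, t, ht, hIt⟩ :=
    exists_affine_principal_nzd_le (I.comap q) h w (q ⁻¹ᵁ U₀.1) hu₀
  have hmap := ideal_comap_eq_map I q U₀ W₀ hle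
  rw [hIt] at hmap
  -- the prime of `w`
  let 𝔮 : Ideal Γ(W, W₀.1) := Ideal.comap (W.presheaf.germ W₀.1 w hwW₀).hom
    (IsLocalRing.maximalIdeal (W.presheaf.stalk w))
  have h𝔮 : 𝔮.IsPrime := Ideal.comap_isPrime _ _
  obtain ⟨c, g₀, hc, ⟨s, hs, rfl⟩, hsc⟩ := exists_notMem_prime
    ((q.appLE U₀.1 W₀.1 hle).hom '' (I.ideal U₀ : Set Γ(U, U₀.1))) t ht hmap.symm 𝔮
  have hwc : w ∈ W.basicOpen c := mem_basicOpen_of_notMem_comap W₀.1 w hwW₀ c hc
  -- the open image
  have hNopen : IsOpen (q '' (W.basicOpen c : Set W)) := q.isOpenMap _ (W.basicOpen c).isOpen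
  obtain ⟨g, hgle, hug⟩ := U₀.2.exists_basicOpen_le
    (V := ⟨q '' (W.basicOpen c : Set W), hNopen⟩) ⟨q w, ⟨w, hwc, rfl⟩⟩ hu₀
  let r : Γ(W, W₀.1) := c * (q.appLE U₀.1 W₀.1 hle).hom g
  have hr : W.basicOpen r = W.basicOpen c ⊓ (W₀.1 ⊓ q ⁻¹ᵁ (U.basicOpen g)) := by
    rw [Scheme.basicOpen_mul, Scheme.basicOpen_appLE]
  have e' : W.basicOpen r ≤ q ⁻¹ᵁ (U.basicOpen g) := by
    rw [hr]
    exact inf_le_right.trans inf_le_right
  have hsurj : ∀ x ∈ (U.affineBasicOpen g).1, ∃ w' ∈ (W.affineBasicOpen r).1, q w' = x := by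
    intro x hx
    obtain ⟨w', hw'c, rfl⟩ := hgle hx
    refine ⟨w', ?_, rfl⟩
    change w' ∈ W.basicOpen r
    rw [hr]
    exact ⟨hw'c, W.basicOpen_le c hw'c, hx⟩
  have hff : (q.appLE (U.basicOpen g) (W.basicOpen r) e').hom.FaithfullyFlat :=
    faithfullyFlat_appLE_of_surjOn q (U.affineBasicOpen g) (W.affineBasicOpen r) e' hsurj
  -- restriction maps
  have instB := W₀.2.isLocalization_basicOpen r
  have hmapB : (W.presheaf.map (homOfLE (W.basicOpen_le r)).op).hom = algebraMap _ _ := rfl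
  let resA := (U.presheaf.map (homOfLE (U.basicOpen_le g)).op).hom
  let resB := (W.presheaf.map (homOfLE (W.basicOpen_le r)).op).hom
  have hcomm : ∀ a : Γ(U, U₀.1),
      (q.appLE (U.basicOpen g) (W.basicOpen r) e').hom (resA a) =
        resB ((q.appLE U₀.1 W₀.1 hle).hom a) := by
    intro a
    have h1 : U.presheaf.map (homOfLE (U.basicOpen_le g)).op ≫
        q.appLE (U.basicOpen g) (W.basicOpen r) e' =
        q.appLE U₀.1 W₀.1 hle ≫ W.presheaf.map (homOfLE (W.basicOpen_le r)).op := by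
      rw [Scheme.Hom.map_appLE, Scheme.Hom.appLE_map]
    exact congr($(h1).hom a)
  have hmap' : (I.ideal (U.affineBasicOpen g)).map
      (q.appLE (U.basicOpen g) (W.basicOpen r) e').hom = Ideal.span {resB t} := by
    have h1 := ideal_comap_eq_map I q (U.affineBasicOpen g) (W.affineBasicOpen r) e'
    have h2 := (I.comap q).map_ideal_basicOpen W₀ r
    rw [hIt, Ideal.map_span, Set.image_singleton] at h2
    exact h1.symm.trans h2.symm
  have hunit_r : IsUnit (resB r) := RingedSpace.isUnit_res_basicOpen _ r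
  have hunit_c : IsUnit (resB c) := by
    have : resB r = resB c * resB ((q.appLE U₀.1 W₀.1 hle).hom g) := map_mul resB _ _
    rw [this] at hunit_r
    exact isUnit_of_mul_isUnit_left hunit_r
  have hnzd_t : resB t ∈ nonZeroDivisors Γ(W, W.basicOpen r) := by
    change (W.presheaf.map (homOfLE (W.basicOpen_le r)).op).hom t ∈ _
    rw [hmapB]
    exact IsLocalization.map_nonZeroDivisors_le (Submonoid.powers r) _ ⟨t, ht, rfl⟩
  have hs' : (q.appLE (U.basicOpen g) (W.basicOpen r) e').hom (resA s) =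
      resB t * resB c := by
    rw [hcomm, hsc, map_mul]
  have hfin := eq_span_of_faithfullyFlat
    (q.appLE (U.basicOpen g) (W.basicOpen r) e').hom hff
    (I.ideal (U.affineBasicOpen g)) (resA s)
    (hmap'.trans (by rw [hs']; exact (Ideal.span_singleton_mul_right_unit hunit_c _).symm))
    (by rw [hs']; exact mul_mem hnzd_t hunit_c.mem_nonZeroDivisors)
  exact ⟨U.affineBasicOpen g, hug, resA s, hfin.1, hfin.2⟩


end Groth.Agent.Lib.Helper15.EffCartDescent
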