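import Groth.Prelude.Def_BlowUp2
import Mathlib.AlgebraicGeometry.IdealSheaf.Basic
import Mathlib.RingTheory.Localization.Away.Basic
import Mathlib.RingTheory.Flat.Localization
import Mathlib.Algebra.Ring.NonZeroDivisors

set_option autoImplicit false
universe u
open CategoryTheory CategoryTheory.Limits AlgebraicGeometry Opposite TopologicalSpace

namespace Groth.Agent.Lib.Helper15.EffCartMul

section Ring
variable {R : Type*} [CommRing R]

/-- if `I * J = (f)` with `f` a nonzerodivisor, then the quotients `a b / f` generate the unit ideal -/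
theorem span_quot_eq_top (I J : Ideal R) (f : R) (hf : f ∈ nonZeroDivisors R)
    (h : I * J = Ideal.span {f}) :
    Ideal.span {c : R | ∃ a ∈ I, ∃ b ∈ J, a * b = c * f} = ⊤ := by
  have key : ∀ r ∈ I * J, ∀ c : R, r = c * f →
      c ∈ Ideal.span {c : R | ∃ a ∈ I, ∃ b ∈ J, a * b = c * f} := by
    intro r hr
    refine Submodule.mul_induction_on' (M := I) (N := J)
      (C := fun r _ => ∀ c : R, r = c * f →
        c ∈ Ideal.span {c : R | ∃ a ∈ I, ∃ b ∈ J, a * b = c * f}) ?_ ?_ hr
    · intro a ha b hb c hc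
      exact Ideal.subset_span ⟨a, ha, b, hb, hc⟩
    · intro x hx y hy ihx ihy c hc
      have hx' : x ∈ Ideal.span {f} := h ▸ hx
      have hy' : y ∈ Ideal.span {f} := h ▸ hy
      obtain ⟨cx, rfl⟩ := Ideal.mem_span_singleton'.1 hx'
      obtain ⟨cy, rfl⟩ := Ideal.mem_span_singleton'.1 hy'
      have hc' : (cx + cy) * f = c * f := by rw [← hc]; ring
      have : cx + cy = c := (mul_cancel_right_mem_nonZeroDivisors hf).1 hc'
      rw [← this]
      exact Ideal.add_mem _ (ihx cx rfl) (ihy cy rfl)
  have hfm : f ∈ I * J := h ▸ Ideal.mem_span_singleton_self f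
  exact (Ideal.eq_top_iff_one _).2 (key f hfm 1 (one_mul f).symm)

theorem exists_notMem_prime (I J : Ideal R) (f : R) (hf : f ∈ nonZeroDivisors R)
    (h : I * J = Ideal.span {f}) (p : Ideal R) [hp : p.IsPrime] :
    ∃ c a b : R, c ∉ p ∧ a ∈ I ∧ b ∈ J ∧ a * b = c * f := by
  by_contra hcon
  push Not at hcon
  have hle : Ideal.span {c : R | ∃ a ∈ I, ∃ b ∈ J, a * b = c * f} ≤ p := by
    rw [Ideal.span_le]
    rintro c ⟨a, ha, b, hb, hab⟩
    by_contra hc
    exact hcon c a b hc ha hb hab
  rw [span_quot_eq_top I J f hf h] at hle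
  exact hp.ne_top (top_le_iff.1 hle)

theorem map_eq_span_of_away (I J : Ideal R) (f : R) (hf : f ∈ nonZeroDivisors R)
    (h : I * J = Ideal.span {f}) (c a b : R) (ha : a ∈ I) (hb : b ∈ J) (hab : a * b = c * f)
    (R' : Type*) [CommRing R'] [Algebra R R'] [IsLocalization.Away c R'] :
    algebraMap R R' a ∈ nonZeroDivisors R' ∧
      I.map (algebraMap R R') = Ideal.span {algebraMap R R' a} := by
  have hcu : IsUnit (algebraMap R R' c) := IsLocalization.Away.algebraMap_isUnit c
  have hfl : algebraMap R R' f ∈ nonZeroDivisors R' :=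
    IsLocalization.map_nonZeroDivisors_le (Submonoid.powers c) R' ⟨f, hf, rfl⟩
  constructor
  · have hprod : algebraMap R R' a * algebraMap R R' b ∈ nonZeroDivisors R' := by
      rw [← map_mul, hab, map_mul]
      exact mul_mem hcu.mem_nonZeroDivisors hfl
    exact (mul_mem_nonZeroDivisors.1 hprod).1
  · apply le_antisymm
    · rw [Ideal.map_le_iff_le_comap]
      intro x hx
      rw [Ideal.mem_comap, Ideal.mem_span_singleton']
      have hxb : x * b ∈ Ideal.span {f} := h ▸ Ideal.mul_mem_mul hx hb
      obtain ⟨y, hy⟩ := Ideal.mem_span_singleton'.1 hxb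
      have e1 : (x * c) * f = (a * y) * f := by
        calc (x * c) * f = x * (c * f) := by ring
          _ = x * (a * b) := by rw [hab]
          _ = a * (x * b) := by ring
          _ = a * (y * f) := by rw [hy]
          _ = (a * y) * f := by ring
      have e2 : x * c = a * y := (mul_cancel_right_mem_nonZeroDivisors hf).1 e1
      obtain ⟨u, hu⟩ := hcu
      refine ⟨algebraMap R R' y * ↑u⁻¹, ?_⟩
      have e3 : algebraMap R R' x * algebraMap R R' c = algebraMap R R' a * algebraMap R R' y := by
        rw [← map_mul, ← map_mul, e2]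
      rw [← hu] at e3
      calc algebraMap R R' y * ↑u⁻¹ * algebraMap R R' a
          = (algebraMap R R' a * algebraMap R R' y) * ↑u⁻¹ := by ring
        _ = (algebraMap R R' x * ↑u) * ↑u⁻¹ := by rw [e3]
        _ = algebraMap R R' x := by rw [mul_assoc, Units.mul_inv, mul_one]
    · rw [Ideal.span_le, Set.singleton_subset_iff]
      exact Ideal.mem_map_of_mem _ ha

end Ring

/-- A factor of an effective Cartier ideal is effective Cartier. -/
theorem isEffCartierIdeal_of_mul {X : Scheme.{u}} (A B : X.IdealSheafData)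
    (h : BlowUp.IsEffCartierIdeal (A * B)) : BlowUp.IsEffCartierIdeal A := by
  intro x
  obtain ⟨U, hxU, f, hf, hAB⟩ := h x
  rw [Scheme.IdealSheafData.ideal_mul, Pi.mul_apply] at hAB
  let p : Ideal Γ(X, U.1) := Ideal.comap (X.presheaf.germ U.1 x hxU).hom
    (IsLocalRing.maximalIdeal (X.presheaf.stalk x))
  have hp : p.IsPrime := Ideal.comap_isPrime _ _
  obtain ⟨c, a, b, hc, ha, hb, hab⟩ := exists_notMem_prime _ _ f hf hAB p
  have hxc : x ∈ X.basicOpen c := by
    rw [Scheme.mem_basicOpen _ _ x hxU]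
    by_contra hnu
    exact hc (by rw [Ideal.mem_comap]; exact (IsLocalRing.mem_maximalIdeal _).2 hnu)
  have inst := U.2.isLocalization_basicOpen c
  have hmap : (X.presheaf.map (homOfLE (X.basicOpen_le c)).op).hom = algebraMap _ _ := rfl
  obtain ⟨h1, h2⟩ := map_eq_span_of_away _ _ f hf hAB c a b ha hb hab Γ(X, X.basicOpen c)
  refine ⟨X.affineBasicOpen c, hxc, (algebraMap Γ(X, U.1) Γ(X, X.basicOpen c) a :), h1, ?_⟩
  rw [← A.map_ideal_basicOpen U c, hmap]
  exact h2

theorem isEffCartierIdeal_of_mul' {X : Scheme.{u}} (A B : X.IdealSheafData)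
    (h : BlowUp.IsEffCartierIdeal (A * B)) : BlowUp.IsEffCartierIdeal B := by
  rw [mul_comm] at h
  exact isEffCartierIdeal_of_mul B A h

end Groth.Agent.Lib.Helper15.EffCartMul
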