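import Groth.Prelude.Def_Desc
import Groth.Prelude.Def_AlgSpRep
import Groth.Agent.S9884
import Groth.Agent.S9872
import Groth.Agent.Lib.Helper27.PshBootDiag
import Groth.Agent.Lib.Helper3.AlgSpEpiDescent

set_option autoImplicit false
set_option backward.isDefEq.respectTransparency.types false
universe u
open CategoryTheory CategoryTheory.Limits AlgebraicGeometry Opposite

namespace Groth.Agent.Lib.Helper15.EffDesc

open AlgSp

variable {S : Scheme.{u}} {F G : Sp S} {f : G ⟶ F} {T T' V' : Over S} {a : T' ⟶ T}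
  {x : (yon S).obj T ⟶ F} {g' : V' ⟶ T'} {fstV : (yon S).obj V' ⟶ G}

/-- the `G`-element of a point of `V'`. -/
noncomputable def gel (fstV : (yon S).obj V' ⟶ G) {Z : Scheme.{u}} (ζ : Z ⟶ S) (w : Z ⟶ V'.left)
    (hw : w ≫ V'.hom = ζ) : (yon S).obj (Over.mk ζ) ⟶ G :=
  (yon S).map (Over.homMk w hw : Over.mk ζ ⟶ V') ≫ fstV

theorem gel_congr {Z : Scheme.{u}} (ζ : Z ⟶ S) {w w' : Z ⟶ V'.left} (hw : w ≫ V'.hom = ζ)
    (hw' : w' ≫ V'.hom = ζ) (h : w = w') : gel fstV ζ w hw = gel fstV ζ w' hw' := by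
  subst h; rfl

theorem gel_comp {Z Z' : Scheme.{u}} (k : Z' ⟶ Z) (ζ : Z ⟶ S) (ζ' : Z' ⟶ S) (hζ : k ≫ ζ = ζ')
    (w : Z ⟶ V'.left) (hw : w ≫ V'.hom = ζ) :
    gel fstV ζ' (k ≫ w) (by rw [Category.assoc, hw, hζ]) =
      (yon S).map (Over.homMk k hζ : Over.mk ζ' ⟶ Over.mk ζ) ≫ gel fstV ζ w hw := by
  unfold gel
  have e : (Over.homMk (k ≫ w) (by rw [Category.assoc, hw, hζ]; rfl) : Over.mk ζ' ⟶ V') =
      (Over.homMk k hζ : Over.mk ζ' ⟶ Over.mk ζ) ≫ Over.homMk w hw := by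
    ext
    simp
  rw [e, Functor.map_comp, Category.assoc]

section A
variable (sqV : IsPullback fstV ((yon S).map g') f ((yon S).map a ≫ x))
include sqV

theorem existsUnique_lift {ZS : Over S} (x₁ : ZS ⟶ T') (γ : (yon S).obj ZS ⟶ G)
    (hγ : γ ≫ f = (yon S).map (x₁ ≫ a) ≫ x) :
    ∃! w : ZS ⟶ V', w ≫ g' = x₁ ∧ (yon S).map w ≫ fstV = γ := by
  have hc : γ ≫ f = (yon S).map x₁ ≫ (yon S).map a ≫ x := by
    rw [hγ, Functor.map_comp, Category.assoc]
  obtain ⟨w, hw⟩ := (yon S).map_surjective (sqV.lift γ ((yon S).map x₁) hc)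
  refine ⟨w, ⟨?_, ?_⟩, ?_⟩
  · apply (yon S).map_injective
    rw [Functor.map_comp, hw, sqV.lift_snd]
  · rw [hw, sqV.lift_fst]
  · rintro w' ⟨h1, h2⟩
    apply (yon S).map_injective
    apply sqV.hom_ext
    · rw [h2, hw, sqV.lift_fst]
    · rw [hw, sqV.lift_snd, ← Functor.map_comp, h1]

theorem lift_unique {Z : Scheme.{u}} (ζ : Z ⟶ S) (w w' : Z ⟶ V'.left) (hw : w ≫ V'.hom = ζ)
    (hw' : w' ≫ V'.hom = ζ) (hg : w ≫ g'.left = w' ≫ g'.left)
    (hG : gel fstV ζ w hw = gel fstV ζ w' hw') : w = w' := by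
  have h1 : (Over.homMk w hw : Over.mk ζ ⟶ V') = Over.homMk w' hw' := by
    apply (yon S).map_injective
    apply sqV.hom_ext hG
    rw [← Functor.map_comp, ← Functor.map_comp]
    congr 1
    ext
    exact hg
  exact congrArg (fun k => k.left) h1

end A

section B

theorem lifts_hom {Z : Scheme.{u}} {x₁ : Z ⟶ T'.left} (w : Desc.Lifts (Over.mk g'.left) x₁) :
    w.1 ≫ V'.hom = x₁ ≫ T'.hom := by
  have h : w.1 ≫ g'.left = x₁ := w.2
  rw [← Over.w g', ← Category.assoc]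
  exact congrArg (fun k => k ≫ T'.hom) h

theorem lifts_hom' {Z : Scheme.{u}} {x₁ : Z ⟶ T'.left} (w : Desc.Lifts (Over.mk g'.left) x₁)
    (ζ : Z ⟶ S) (hζ : x₁ ≫ T'.hom = ζ) : w.1 ≫ V'.hom = ζ := (lifts_hom w).trans hζ

theorem hom_of_eq {Z : Scheme.{u}} {x₀ x₁ : Z ⟶ T'.left} (h : x₀ ≫ a.left = x₁ ≫ a.left) :
    x₁ ≫ T'.hom = x₀ ≫ T'.hom := by
  rw [← Over.w a, ← Category.assoc, ← Category.assoc, h]

variable (sqV : IsPullback fstV ((yon S).map g') f ((yon S).map a ≫ x))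
include sqV

theorem lifts_ext {Z : Scheme.{u}} {x₁ : Z ⟶ T'.left} (w w' : Desc.Lifts (Over.mk g'.left) x₁)
    (ζ : Z ⟶ S) (hζ : x₁ ≫ T'.hom = ζ)
    (hG : gel fstV ζ w.1 (lifts_hom' w ζ hζ) = gel fstV ζ w'.1 (lifts_hom' w' ζ hζ)) : w = w' :=
  Subtype.ext (lift_unique sqV ζ w.1 w'.1 _ _ (w.2.trans w'.2.symm) hG)

theorem phiAux {Z : Scheme.{u}} (x₀ x₁ : Z ⟶ T'.left) (h : x₀ ≫ a.left = x₁ ≫ a.left)
    (v : Desc.Lifts (Over.mk g'.left) x₀) :
    ∃! w : Over.mk (x₀ ≫ T'.hom) ⟶ V',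
      w ≫ g' = (Over.homMk x₁ (hom_of_eq h) : Over.mk (x₀ ≫ T'.hom) ⟶ T') ∧
      (yon S).map w ≫ fstV = gel fstV (x₀ ≫ T'.hom) v.1 (lifts_hom v) := by
  apply existsUnique_lift sqV
  unfold gel
  rw [Category.assoc, sqV.w, ← Category.assoc, ← Functor.map_comp, ← Category.assoc,
    ← Functor.map_comp]
  congr 2
  ext
  have hv : v.1 ≫ g'.left = x₀ := v.2
  simp only [Over.comp_left, Over.homMk_left]
  rw [hv, h]

/-- the gluing map on points. -/
noncomputable def phi {Z : Scheme.{u}} (x₀ x₁ : Z ⟶ T'.left) (h : x₀ ≫ a.left = x₁ ≫ a.left)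
    (v : Desc.Lifts (Over.mk g'.left) x₀) : Desc.Lifts (Over.mk g'.left) x₁ :=
  ⟨(phiAux sqV x₀ x₁ h v).exists.choose.left,
    congrArg (fun k => k.left) (phiAux sqV x₀ x₁ h v).exists.choose_spec.1⟩

theorem phi_spec {Z : Scheme.{u}} (x₀ x₁ : Z ⟶ T'.left) (h : x₀ ≫ a.left = x₁ ≫ a.left)
    (v : Desc.Lifts (Over.mk g'.left) x₀) (ζ : Z ⟶ S) (hζ : x₀ ≫ T'.hom = ζ) :
    gel fstV ζ (phi sqV x₀ x₁ h v).1 (lifts_hom' _ ζ ((hom_of_eq h).trans hζ)) =
      gel fstV ζ v.1 (lifts_hom' v ζ hζ) := by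
  subst hζ
  exact (phiAux sqV x₀ x₁ h v).exists.choose_spec.2

theorem phi_self {Z : Scheme.{u}} (x₀ : Z ⟶ T'.left) (v : Desc.Lifts (Over.mk g'.left) x₀) :
    phi sqV x₀ x₀ rfl v = v :=
  lifts_ext sqV _ _ (x₀ ≫ T'.hom) rfl (phi_spec sqV x₀ x₀ rfl v _ rfl)

theorem phi_comp {Z : Scheme.{u}} (x₀ x₁ x₂ : Z ⟶ T'.left) (h₀₁ : x₀ ≫ a.left = x₁ ≫ a.left)
    (h₁₂ : x₁ ≫ a.left = x₂ ≫ a.left) (v : Desc.Lifts (Over.mk g'.left) x₀) :
    phi sqV x₁ x₂ h₁₂ (phi sqV x₀ x₁ h₀₁ v) = phi sqV x₀ x₂ (h₀₁.trans h₁₂) v := by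
  apply lifts_ext sqV _ _ (x₀ ≫ T'.hom) (hom_of_eq (h₀₁.trans h₁₂))
  rw [phi_spec sqV x₁ x₂ h₁₂ _ (x₀ ≫ T'.hom) (hom_of_eq h₀₁),
    phi_spec sqV x₀ x₁ h₀₁ v _ rfl, phi_spec sqV x₀ x₂ _ v _ rfl]

theorem phi_natural {Z Z' : Scheme.{u}} (k : Z' ⟶ Z) (x₀ x₁ : Z ⟶ T'.left)
    (h : x₀ ≫ a.left = x₁ ≫ a.left) (h' : (k ≫ x₀) ≫ a.left = (k ≫ x₁) ≫ a.left)
    (v : Desc.Lifts (Over.mk g'.left) x₀) (v' : Desc.Lifts (Over.mk g'.left) (k ≫ x₀))
    (hv : v'.1 = k ≫ v.1) :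
    (phi sqV (k ≫ x₀) (k ≫ x₁) h' v').1 = k ≫ (phi sqV x₀ x₁ h v).1 := by
  have hζ : k ≫ x₀ ≫ T'.hom = (k ≫ x₀) ≫ T'.hom := (Category.assoc _ _ _).symm
  have hw2 : (k ≫ (phi sqV x₀ x₁ h v).1) ≫ V'.hom = (k ≫ x₀) ≫ T'.hom := by
    rw [Category.assoc, lifts_hom, hom_of_eq h, hζ]
  refine lift_unique sqV ((k ≫ x₀) ≫ T'.hom) _ _
    (lifts_hom' _ _ (hom_of_eq h')) hw2 ?_ ?_
  · have e1 : (phi sqV (k ≫ x₀) (k ≫ x₁) h' v').1 ≫ g'.left = k ≫ x₁ := (phi sqV _ _ h' v').2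
    have e2 : (phi sqV x₀ x₁ h v).1 ≫ g'.left = x₁ := (phi sqV _ _ h v).2
    rw [e1, Category.assoc, e2]
  · rw [phi_spec sqV (k ≫ x₀) (k ≫ x₁) h' v' _ rfl]
    rw [gel_comp k (x₀ ≫ T'.hom) _ hζ _ (lifts_hom' _ _ (hom_of_eq h)),
      phi_spec sqV x₀ x₁ h v _ rfl, ← gel_comp k (x₀ ≫ T'.hom) _ hζ]
    exact gel_congr _ _ _ hv

/-- the descent datum on `V'` relative to `T' ⟶ T`. -/
noncomputable def dd : Desc.SchDD a.left where
  obj := Over.mk g'.left
  φ Z x₀ x₁ h :=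
    { toFun := phi sqV x₀ x₁ h
      invFun := phi sqV x₁ x₀ h.symm
      left_inv := fun v => by rw [phi_comp, phi_self]
      right_inv := fun v => by rw [phi_comp, phi_self] }
  φ_natural Z Z' k x₀ x₁ h h' v v' hv := phi_natural sqV k x₀ x₁ h h' v v' hv
  φ_self Z x₀ v := phi_self sqV x₀ v
  φ_comp Z x₀ x₁ x₂ h₀₁ h₁₂ v := phi_comp sqV x₀ x₁ x₂ h₀₁ h₁₂ v

end B

section C
variable (a) (W : Over T.left)

/-- `W` as a scheme over `S`. -/
abbrev WS : Over S := Over.mk (W.hom ≫ T.hom)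

/-- `T' ×_T W` as a scheme over `S`. -/
noncomputable abbrev WS' : Over S := Over.mk (pullback.snd a.left W.hom ≫ W.hom ≫ T.hom)

/-- the projection `T' ×_T W ⟶ W`. -/
noncomputable def prW : WS' a W ⟶ WS W := Over.homMk (pullback.snd a.left W.hom) rfl

/-- the projection `T' ×_T W ⟶ T'`. -/
noncomputable def prT : WS' a W ⟶ T' := Over.homMk (pullback.fst a.left W.hom) (by
  change pullback.fst a.left W.hom ≫ T'.hom = pullback.snd a.left W.hom ≫ W.hom ≫ T.hom
  rw [← Over.w a, ← Category.assoc, pullback.condition, Category.assoc])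

/-- the structure map `W ⟶ T`. -/
noncomputable def wT : WS W ⟶ T := Over.homMk W.hom rfl

theorem prT_a : prT a W ≫ a = prW a W ≫ wT W := by
  ext
  exact pullback.condition

theorem isPullback_W : IsPullback (prT a W) (prW a W) a (wT W) :=
  IsPullback.of_map (Over.forget S) (prT_a a W) (IsPullback.of_hasPullback a.left W.hom)

end C

section D
variable (sqV : IsPullback fstV ((yon S).map g') f ((yon S).map a ≫ x)) (W : Over T.left)
  (e : (Desc.toDD a.left).obj W ≅ dd sqV)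

theorem e_left_g' : e.hom.hom.left ≫ g'.left = pullback.fst a.left W.hom := Over.w e.hom.hom

/-- the comparison `T' ×_T W ⟶ V'` over `S`. -/
noncomputable def eS : WS' a W ⟶ V' := Over.homMk e.hom.hom.left (by
  let el : pullback a.left W.hom ⟶ V'.left := e.hom.hom.left
  have hel : el ≫ g'.left = pullback.fst a.left W.hom := e_left_g' sqV W e
  change el ≫ V'.hom = pullback.snd a.left W.hom ≫ W.hom ≫ T.hom
  rw [← Over.w g', ← Category.assoc, hel, ← Over.w a, ← Category.assoc,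
    pullback.condition, Category.assoc])

theorem eS_g' : eS sqV W e ≫ g' = prT a W := by
  ext
  exact e_left_g' sqV W e

instance : IsIso (eS sqV W e) := by
  have h1 : e.hom.hom.left ≫ e.inv.hom.left = 𝟙 _ :=
    congrArg (fun k => k.hom.left) e.hom_inv_id
  have h2 : e.inv.hom.left ≫ e.hom.hom.left = 𝟙 _ :=
    congrArg (fun k => k.hom.left) e.inv_hom_id
  haveI : IsIso ((Over.forget S).map (eS sqV W e)) := ⟨e.inv.hom.left, h1, h2⟩
  exact isIso_of_reflects_iso _ (Over.forget S)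

theorem hco : (yon S).map (pullback.fst (prW a W) (prW a W)) ≫ (yon S).map (eS sqV W e) ≫ fstV =
    (yon S).map (pullback.snd (prW a W) (prW a W)) ≫ (yon S).map (eS sqV W e) ≫ fstV := by
  let K : Over S := pullback (prW a W) (prW a W)
  let w₀ : K.left ⟶ pullback a.left W.hom := (pullback.fst (prW a W) (prW a W)).left
  let w₁ : K.left ⟶ pullback a.left W.hom := (pullback.snd (prW a W) (prW a W)).left
  let el : pullback a.left W.hom ⟶ V'.left := e.hom.hom.left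
  have hel : el ≫ g'.left = pullback.fst a.left W.hom := e_left_g' sqV W e
  have hw01 : w₀ ≫ pullback.snd a.left W.hom = w₁ ≫ pullback.snd a.left W.hom :=
    congrArg (fun k => k.left) (pullback.condition (f := prW a W) (g := prW a W))
  let x₀ : K.left ⟶ T'.left := w₀ ≫ pullback.fst a.left W.hom
  let x₁ : K.left ⟶ T'.left := w₁ ≫ pullback.fst a.left W.hom
  have h : x₀ ≫ a.left = x₁ ≫ a.left := by
    change (w₀ ≫ pullback.fst a.left W.hom) ≫ a.left = (w₁ ≫ pullback.fst a.left W.hom) ≫ a.left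
    rw [Category.assoc, Category.assoc, pullback.condition, ← Category.assoc, hw01,
      Category.assoc]
  let v : Desc.Lifts ((Desc.toDD a.left).obj W).obj x₀ := ⟨w₀, rfl⟩
  let v' : Desc.Lifts (Over.mk g'.left) x₀ := ⟨w₀ ≫ el, by
    change (w₀ ≫ el) ≫ g'.left = w₀ ≫ pullback.fst a.left W.hom
    rw [Category.assoc, hel]⟩
  have hcomm : (phi sqV x₀ x₁ h v').1 =
      (((Desc.toDD a.left).obj W).φ x₀ x₁ h v).1 ≫ el := e.hom.comm x₀ x₁ h v v' rfl
  have hcan : (((Desc.toDD a.left).obj W).φ x₀ x₁ h v).1 = w₁ := by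
    change pullback.lift x₁ (w₀ ≫ pullback.snd a.left W.hom) _ = w₁
    apply pullback.hom_ext
    · rw [pullback.lift_fst]
    · rw [pullback.lift_snd, hw01]
  rw [hcan] at hcomm
  have hζ : x₀ ≫ T'.hom = K.hom := Over.w (pullback.fst (prW a W) (prW a W) ≫ prT a W)
  have hs := phi_spec sqV x₀ x₁ h v' K.hom hζ
  have hw1 : (w₁ ≫ el) ≫ V'.hom = K.hom :=
    (congrArg (fun k => k ≫ V'.hom) hcomm).symm.trans
      (lifts_hom' _ K.hom ((hom_of_eq h).trans hζ))
  have hs2 := (gel_congr K.hom (lifts_hom' _ K.hom ((hom_of_eq h).trans hζ)) hw1 hcomm).symm.trans hs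
  rw [← Category.assoc, ← Category.assoc, ← Functor.map_comp, ← Functor.map_comp]
  exact hs2.symm

include sqV e in
theorem exists_isPullback (hae : Etale a.left) (has : Surjective a.left) :
    ∃ γW : (yon S).obj (WS W) ⟶ G, IsPullback γW ((yon S).map (wT W)) f x := by
  -- the cover `T' ×_T W ⟶ W`
  have sqW := isPullback_W a W
  have hpe : Etale (prW a W).left :=
    MorphismProperty.of_isPullback (P := @Etale) (IsPullback.of_hasPullback a.left W.hom) hae
  have hps : Surjective (prW a W).left :=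
    MorphismProperty.of_isPullback (P := @Surjective) (IsPullback.of_hasPullback a.left W.hom) has
  have sqP : IsPullback ((yon S).map (pullback.fst (prW a W) (prW a W)))
      ((yon S).map (pullback.snd (prW a W) (prW a W)))
      ((yon S).map (prW a W)) ((yon S).map (prW a W)) :=
    (IsPullback.of_hasPullback (prW a W) (prW a W)).map (yon S)
  obtain ⟨-, ⟨hcol⟩⟩ := Groth.Agent.S9872.result S ((yon S).obj (WS W)) (IsAlgSpace.yon_obj _)
    ((yon S).map (prW a W)) ((repWith_yon_map_iff @Etale _).2 hpe)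
    ((repWith_yon_map_iff @Surjective _).2 hps) _ _ sqP
  haveI : Epi ((yon S).map (prW a W)) := (Sheaf.isLocallySurjective_iff_epi _).1
    (Groth.Agent.S9883.isLocallySurjective_of_etale_surjective _
      ((repWith_yon_map_iff @Etale _).2 hpe) ((repWith_yon_map_iff @Surjective _).2 hps))
  let γ' : (yon S).obj (WS' a W) ⟶ G := (yon S).map (eS sqV W e) ≫ fstV
  let γW : (yon S).obj (WS W) ⟶ G := Cofork.IsColimit.desc hcol γ' (hco sqV W e)
  have hγW : (yon S).map (prW a W) ≫ γW = γ' := Cofork.IsColimit.π_desc' hcol γ' (hco sqV W e)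
  have hcond : γW ≫ f = (yon S).map (wT W) ≫ x := by
    rw [← cancel_epi ((yon S).map (prW a W)), ← Category.assoc, hγW, ← Category.assoc,
      ← Functor.map_comp, ← prT_a, Category.assoc, sqV.w, ← Category.assoc, ← Functor.map_comp,
      eS_g', Functor.map_comp, Category.assoc]
  -- the comparison with the fibre product
  let c : (yon S).obj V' ⟶ pullback f x :=
    pullback.lift fstV ((yon S).map g' ≫ (yon S).map a) (by rw [sqV.w, Category.assoc])
  have sqc : IsPullback c ((yon S).map g') (pullback.snd f x) ((yon S).map a) := by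
    refine IsPullback.of_right ?_ (pullback.lift_snd _ _ _) (IsPullback.of_hasPullback f x)
    rw [pullback.lift_fst]
    exact sqV
  have hc : Sheaf.IsLocallySurjective c :=
    Groth.Agent.Lib.Helper3.isLocallySurjective_of_isPullback sqc.flip
      (Groth.Agent.S9883.isLocallySurjective_of_etale_surjective _
        ((repWith_yon_map_iff @Etale _).2 hae) ((repWith_yon_map_iff @Surjective _).2 has))
  let ψ : (yon S).obj (WS W) ⟶ pullback f x := pullback.lift γW ((yon S).map (wT W)) hcond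
  have hp : (yon S).map (eS sqV W e) ≫ c = (yon S).map (prW a W) ≫ ψ := by
    apply pullback.hom_ext
    · rw [Category.assoc, pullback.lift_fst, Category.assoc, pullback.lift_fst, hγW]
    · rw [Category.assoc, pullback.lift_snd, Category.assoc, pullback.lift_snd,
        ← Functor.map_comp, ← Functor.map_comp, ← Functor.map_comp, ← Category.assoc, eS_g',
        prT_a]
  have sqψ : IsPullback ((yon S).map (eS sqV W e)) ((yon S).map (prW a W)) c ψ := by
    refine IsPullback.of_right ?_ hp sqc.flip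
    rw [← Functor.map_comp, eS_g', pullback.lift_snd]
    exact sqW.map (yon S)
  haveI : IsIso ψ := Groth.Agent.Lib.Helper3.isIso_of_isPullback_of_isLocallySurjective sqψ hc
  exact ⟨γW, IsPullback.of_iso_pullback ⟨hcond⟩ (asIso ψ) (pullback.lift_fst _ _ _)
    (pullback.lift_snd _ _ _)⟩

end D

end Groth.Agent.Lib.Helper15.EffDesc
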