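import Mathlib
import Groth.Prelude.Def_AlgSpInf
import Groth.Agent.Lib.Helper15.UnivThickSp
import Groth.Agent.S9928

set_option autoImplicit false
set_option backward.isDefEq.respectTransparency.types false
universe u
open CategoryTheory CategoryTheory.Limits AlgebraicGeometry Opposite
open AlgSp

namespace Groth.Agent.Lib.Helper15.InfNbhd
open Groth.Agent.Lib.Helper15.UnivThick

/-- comparison of ideal sheaves on an affine scheme can be tested on a flat cover by affines -/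
theorem le_of_flat_cover {V : Scheme.{u}} [IsAffine V] (A B : V.IdealSheafData)
    (h : ∀ v : V, ∃ (Q : Scheme.{u}) (ρ : Q ⟶ V) (_ : IsAffine Q) (_ : Flat ρ) (q : Q), ρ q = v ∧
      A.comap ρ ≤ B.comap ρ) : A ≤ B := by
  apply Scheme.IdealSheafData.le_of_isAffine
  intro x hx
  rw [← B.ker_subschemeι_app ⟨⊤, isAffineOpen_top V⟩, RingHom.mem_ker]
  apply FOThickBC.eq_zero_of_flat_cover
  intro w
  obtain ⟨Q, ρ, hQ, hρ, q, hq, hAB⟩ := h (B.subschemeι w)
  obtain ⟨p, hp1, hp2⟩ := Scheme.Pullback.exists_preimage_pullback (f := ρ) (g := B.subschemeι)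
    q w hq
  refine ⟨pullback ρ B.subschemeι, pullback.snd ρ B.subschemeι, inferInstance, p, hp2, ?_⟩
  have e1 : (pullback.snd ρ B.subschemeι).appTop ((B.subschemeι.app ⊤).hom x) =
      (pullback.fst ρ B.subschemeι).appTop (ρ.appTop x) := by
    have := congrArg (fun f => f.appTop.hom x) (pullback.condition (f := ρ) (g := B.subschemeι))
    simp only [Scheme.Hom.comp_appTop, CommRingCat.hom_comp, RingHom.coe_comp,
      Function.comp_apply] at this
    exact this.symm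
  rw [e1]
  have hx' : ρ.appTop x ∈ (B.comap ρ).ideal ⟨⊤, isAffineOpen_top Q⟩ := by
    apply hAB
    have h1 := Groth.Agent.Lib.Helper29.EffCart.map_ideal_le_ideal_comap A ρ
      ⟨⊤, isAffineOpen_top V⟩ ⟨⊤, isAffineOpen_top Q⟩ le_top
    apply h1
    have happ : ρ.appTop = ρ.appLE ⊤ ⊤ le_top := by
      rw [Scheme.Hom.appTop, Scheme.Hom.app_eq_appLE]
      rfl
    rw [happ]
    exact Ideal.mem_map_of_mem _ hx
  rw [← (B.comap ρ).ker_subschemeι_app ⟨⊤, isAffineOpen_top Q⟩, RingHom.mem_ker] at hx'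
  have e2 : (B.comap ρ).subschemeι = (B.comapIso ρ).hom ≫ pullback.fst ρ B.subschemeι :=
    (Scheme.IdealSheafData.comapIso_hom_fst B ρ).symm
  have e3 : ((B.comap ρ).subschemeι.app ⊤).hom (ρ.appTop x) =
      (B.comapIso ρ).hom.appTop ((pullback.fst ρ B.subschemeι).appTop (ρ.appTop x)) := by
    have := congrArg (fun f => f.appTop.hom (ρ.appTop x)) e2
    simp only [Scheme.Hom.comp_appTop, CommRingCat.hom_comp, RingHom.coe_comp,
      Function.comp_apply] at this
    exact this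
  rw [e3] at hx'
  have hiso : IsIso (B.comapIso ρ).hom.appTop := by
    change IsIso ((B.comapIso ρ).hom.app ⊤)
    infer_instance
  have hinj : Function.Injective (B.comapIso ρ).hom.appTop :=
    (ConcreteCategory.bijective_of_isIso _).1
  exact hinj (hx'.trans (map_zero _).symm)

open Groth.Agent.Lib.Helper15.UnivThick Groth.Agent.Lib.Helper15.FOThickBC

variable {S : Scheme.{u}}

theorem eq_of_flat_cover {V : Scheme.{u}} [IsAffine V] (A B : V.IdealSheafData)
    (h : ∀ v : V, ∃ (Q : Scheme.{u}) (ρ : Q ⟶ V) (_ : IsAffine Q) (_ : Flat ρ) (q : Q), ρ q = v ∧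
      A.comap ρ = B.comap ρ) : A = B := by
  apply le_antisymm
  · apply le_of_flat_cover
    intro v
    obtain ⟨Q, ρ, h1, h2, q, h3, h4⟩ := h v
    exact ⟨Q, ρ, h1, h2, q, h3, h4.le⟩
  · apply le_of_flat_cover
    intro v
    obtain ⟨Q, ρ, h1, h2, q, h3, h4⟩ := h v
    exact ⟨Q, ρ, h1, h2, q, h3, h4.ge⟩

/-- the ideal relation of a first-order infinitesimal neighbourhood holds after arbitrary base
change to an affine scheme -/
theorem ker_eq_sq_of_isInfNbhd {Z Z₁ U : Sp S} (c : Z ⟶ U) (j : Z ⟶ Z₁) (k : Z₁ ⟶ U)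
    (hN : IsInfNbhd 1 c j k) (hU : IsAlgSpace U)
    {V W W₁ : Over S} (hV : IsAffine V.left) (b : (yon S).obj V ⟶ U)
    (fst : (yon S).obj W ⟶ Z) (snd : W ⟶ V) (sq : IsPullback fst ((yon S).map snd) c b)
    (fst₁ : (yon S).obj W₁ ⟶ Z₁) (snd₁ : W₁ ⟶ V)
    (sq₁ : IsPullback fst₁ ((yon S).map snd₁) k b) :
    snd₁.left.ker = snd.left.ker * snd.left.ker := by
  have hVaff : IsAffine V.left := hV
  obtain ⟨-, hc, hk, hideal⟩ := hN
  have hci : IsClosedImmersion snd.left := hc.2 _ _ _ sq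
  have hci₁ : IsClosedImmersion snd₁.left := hk.2 _ _ _ sq₁
  obtain ⟨V', q, hqe, hqs⟩ := hU.atlas
  let Q : Over S := hqe.rep.pullback b
  let π : Q ⟶ V := hqe.rep.snd b
  let γ₀ : (yon S).obj Q ⟶ (yon S).obj V' := hqe.rep.fst b
  have sqQ : IsPullback γ₀ ((yon S).map π) q b := hqe.rep.isPullback b
  obtain ⟨γ, hγ⟩ := (yon S).map_surjective γ₀
  have hπe : Etale π.left := hqe.2 _ _ _ sqQ
  have hπs : Surjective π.left := hqs.2 _ _ _ sqQ
  apply eq_of_flat_cover
  intro v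
  obtain ⟨q₀, hq₀⟩ := hπs.surj v
  obtain ⟨_, ⟨Vm', hVm, rfl⟩, hqVm, -⟩ :=
    V'.left.isBasis_affineOpens.exists_subset_of_mem_open (Set.mem_univ (γ.left q₀)) isOpen_univ
  let Vm : V'.left.Opens := Vm'
  obtain ⟨_, ⟨Qk', hQk, rfl⟩, hqQk, hQkle⟩ :=
    Q.left.isBasis_affineOpens.exists_subset_of_mem_open
      (show q₀ ∈ (γ.left ⁻¹ᵁ Vm : Set Q.left) from hqVm) (γ.left ⁻¹ᵁ Vm).isOpen
  let Qk : Q.left.Opens := Qk'
  let VmO : Over S := Over.mk (Vm.ι ≫ V'.hom)
  let ιm : VmO ⟶ V' := Over.homMk Vm.ι rfl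
  let QkO : Over S := Over.mk (Qk.ι ≫ Q.hom)
  let ιk : QkO ⟶ Q := Over.homMk Qk.ι rfl
  have hVmaff : IsAffine VmO.left := hVm
  have hQkaff : IsAffine QkO.left := hQk
  let γk₀ : Qk.toScheme ⟶ Vm.toScheme :=
    IsOpenImmersion.lift Vm.ι (Qk.ι ≫ γ.left) (by
      rw [Scheme.Opens.range_ι]
      rintro _ ⟨w, rfl⟩
      exact hQkle w.2)
  have hγk₀ : γk₀ ≫ Vm.ι = Qk.ι ≫ γ.left := IsOpenImmersion.lift_fac _ _ _
  let γk : QkO ⟶ VmO := Over.homMk γk₀ (by
    change γk₀ ≫ Vm.ι ≫ V'.hom = Qk.ι ≫ Q.hom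
    rw [← Category.assoc, hγk₀, Category.assoc, Over.w γ])
  have hγk : γk ≫ ιm = ιk ≫ γ := by
    ext
    exact hγk₀
  let bm : (yon S).obj VmO ⟶ U := (yon S).map ιm ≫ q
  have hbme : RepWith @Etale bm :=
    (RepWith @Etale.{u}).comp_mem _ _
      ((repWith_yon_map_iff @Etale ιm).2 (inferInstanceAs (Etale Vm.ι))) hqe
  -- pullbacks of `c` and `k` to the etale chart
  let σ : hc.rep.pullback bm ⟶ VmO := hc.rep.snd bm
  have sqm : IsPullback (hc.rep.fst bm) ((yon S).map σ) c bm := hc.rep.isPullback bm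
  let σ₁ : hk.rep.pullback bm ⟶ VmO := hk.rep.snd bm
  have sqm₁ : IsPullback (hk.rep.fst bm) ((yon S).map σ₁) k bm := hk.rep.isPullback bm
  have hσσ : σ₁.left.ker = σ.left.ker ^ (1 + 1) :=
    hideal bm _ σ _ σ₁ hVmaff hbme sqm sqm₁
  have hσci : IsClosedImmersion σ.left := hc.2 _ _ _ sqm
  have hσci₁ : IsClosedImmersion σ₁.left := hk.2 _ _ _ sqm₁
  -- pullbacks to `Qk`
  let d : (yon S).obj QkO ⟶ U := (yon S).map (ιk ≫ π) ≫ b
  have hd : d = (yon S).map γk ≫ bm := by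
    change (yon S).map (ιk ≫ π) ≫ b = (yon S).map γk ≫ (yon S).map ιm ≫ q
    rw [← Category.assoc, ← Functor.map_comp, hγk, Functor.map_comp, Functor.map_comp,
      Category.assoc, Category.assoc, ← sqQ.w, hγ]
  let τ : hc.rep.pullback d ⟶ QkO := hc.rep.snd d
  have sqk : IsPullback (hc.rep.fst d) ((yon S).map τ) c d := hc.rep.isPullback d
  let τ₁ : hk.rep.pullback d ⟶ QkO := hk.rep.snd d
  have sqk₁ : IsPullback (hk.rep.fst d) ((yon S).map τ₁) k d := hk.rep.isPullback d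
  have k1 : τ.left.ker = snd.left.ker.comap (ιk ≫ π).left :=
    ker_eq_comap_of_isPullback_sp c b fst snd sq (ιk ≫ π) _ τ sqk
  have k1' : τ₁.left.ker = snd₁.left.ker.comap (ιk ≫ π).left :=
    ker_eq_comap_of_isPullback_sp k b fst₁ snd₁ sq₁ (ιk ≫ π) _ τ₁ sqk₁
  have sqk' : IsPullback (hc.rep.fst d) ((yon S).map τ) c ((yon S).map γk ≫ bm) := by
    rw [← hd]; exact sqk
  have sqk₁' : IsPullback (hk.rep.fst d) ((yon S).map τ₁) k ((yon S).map γk ≫ bm) := by
    rw [← hd]; exact sqk₁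
  have k2 : τ.left.ker = σ.left.ker.comap γk.left :=
    ker_eq_comap_of_isPullback_sp c bm _ σ sqm γk _ τ sqk'
  have k2' : τ₁.left.ker = σ₁.left.ker.comap γk.left :=
    ker_eq_comap_of_isPullback_sp k bm _ σ₁ sqm₁ γk _ τ₁ sqk₁'
  refine ⟨QkO.left, (ιk ≫ π).left, hQkaff, ?_, ⟨q₀, hqQk⟩, hq₀, ?_⟩
  · have : Etale (ιk ≫ π).left := inferInstanceAs (Etale (Qk.ι ≫ π.left))
    infer_instance
  · rw [← k1', k2', hσσ, one_add_one_eq_two, pow_two, comap_mul, ← k2, k1, ← comap_mul]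

open Groth.Agent.Lib.Helper15.UnivThick Groth.Agent.Lib.Helper15.FOThickBC

variable {S : Scheme.{u}}

theorem mono_of_repWith_closedImmersion {F G : Sp S} (k : F ⟶ G)
    (hk : RepWith @IsClosedImmersion k) : Mono k :=
  Groth.Agent.S9928.mono_of_repWith @IsClosedImmersion
    (fun g hg => by have : IsClosedImmersion g := hg; infer_instance) k hk

theorem mono_of_repWith_openImmersion {F G : Sp S} (k : F ⟶ G)
    (hk : RepWith @IsOpenImmersion k) : Mono k :=
  Groth.Agent.S9928.mono_of_repWith @IsOpenImmersion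
    (fun g hg => by have : IsOpenImmersion g := hg; infer_instance) k hk

/-- a closed immersion with square-zero kernel is surjective -/
theorem surjective_of_sqZero {W V : Scheme.{u}} (s : W ⟶ V) [IsClosedImmersion s]
    (h : s.ker * s.ker = ⊥) (v : V) : ∃ w : W, s w = v := by
  have h1 : (s.ker * s.ker).support = s.ker.support ⊔ s.ker.support :=
    Scheme.IdealSheafData.support_mul _ _
  rw [h, Scheme.IdealSheafData.support_bot, sup_idem] at h1
  have h2 : (s.ker.support : Set V) = closure (Set.range s) := Scheme.Hom.support_ker s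
  have h3 : closure (Set.range s) = Set.range s := s.isClosedEmbedding.isClosed_range.closure_eq
  have h4 : v ∈ (s.ker.support : Set V) := by rw [← h1]; trivial
  rw [h2, h3] at h4
  exact h4

/-- the pullback of `j` to a scheme chart of `Z₁`, compared with pullbacks of `c` and `k` -/
theorem sqZero_pullback_j {Z Z₁ U : Sp S} (c : Z ⟶ U) (j : Z ⟶ Z₁) (k : Z₁ ⟶ U)
    (hN : IsInfNbhd 1 c j k) (hU : IsAlgSpace U) {V W : Over S} (hV : IsAffine V.left)
    (t : (yon S).obj V ⟶ Z₁) (fst : (yon S).obj W ⟶ Z) (snd : W ⟶ V)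
    (sq : IsPullback fst ((yon S).map snd) j t) : snd.left.ker * snd.left.ker = ⊥ := by
  have hkm : Mono k := mono_of_repWith_closedImmersion k hN.2.2.1
  have sqj : IsPullback (𝟙 Z) j c k :=
    IsPullback.of_horiz_isIso_mono ⟨by rw [Category.id_comp, hN.1]⟩
  have sqc : IsPullback (fst ≫ 𝟙 Z) ((yon S).map snd) c (t ≫ k) := sq.paste_horiz sqj
  have sqk : IsPullback t ((yon S).map (𝟙 V)) k (t ≫ k) :=
    IsPullback.of_vert_isIso_mono ⟨by rw [CategoryTheory.Functor.map_id, Category.id_comp]⟩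
  have key := ker_eq_sq_of_isInfNbhd c j k hN hU hV (t ≫ k) _ snd sqc t (𝟙 V) sqk
  rw [← key]
  exact Scheme.Hom.ker_eq_bot_of_isIso _

open Groth.Agent.Lib.Helper15.UnivThick Groth.Agent.Lib.Helper15.FOThickBC

variable {S : Scheme.{u}}

/-- `Z ⟶ Z₁` is a first-order thickening when `Z₁` is the first-order neighbourhood of `Z` -/
theorem isFOThickMor_of_isInfNbhd {Z Z₁ U : Sp S} (c : Z ⟶ U) (j : Z ⟶ Z₁) (k : Z₁ ⟶ U)
    (hN : IsInfNbhd 1 c j k) (hU : IsAlgSpace U) : IsFOThickMor j := by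
  have hkm : Mono k := mono_of_repWith_closedImmersion k hN.2.2.1
  have sqj : IsPullback (𝟙 Z) j c k :=
    IsPullback.of_horiz_isIso_mono ⟨by rw [Category.id_comp, hN.1]⟩
  have hjc : RepWith @IsClosedImmersion j :=
    MorphismProperty.of_isPullback (P := RepWith @IsClosedImmersion) sqj hN.2.1
  refine ⟨⟨hjc.1, ?_⟩, ?_⟩
  · intro V W t fst snd sq
    have hcl : IsClosedImmersion snd.left := hjc.2 t fst snd sq
    refine ⟨hcl, ⟨?_⟩⟩
    intro v
    obtain ⟨_, ⟨V₀', hV₀, rfl⟩, hvV₀, -⟩ :=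
      V.left.isBasis_affineOpens.exists_subset_of_mem_open (Set.mem_univ v) isOpen_univ
    let V₀ : V.left.Opens := V₀'
    let V₀O : Over S := Over.mk (V₀.ι ≫ V.hom)
    let ι₀ : V₀O ⟶ V := Over.homMk V₀.ι rfl
    have hV₀aff : IsAffine V₀O.left := hV₀
    let t₀ : (yon S).obj V₀O ⟶ Z₁ := (yon S).map ι₀ ≫ t
    let snd₀ : hjc.rep.pullback t₀ ⟶ V₀O := hjc.rep.snd t₀
    have sq₀ : IsPullback (hjc.rep.fst t₀) ((yon S).map snd₀) j t₀ := hjc.rep.isPullback t₀
    have hcl₀ : IsClosedImmersion snd₀.left := hjc.2 _ _ _ sq₀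
    have hsq₀ := sqZero_pullback_j c j k hN hU hV₀aff t₀ _ snd₀ sq₀
    obtain ⟨w₀, hw₀⟩ := surjective_of_sqZero snd₀.left hsq₀ ⟨v, hvV₀⟩
    have hw : hjc.rep.fst t₀ ≫ j = ((yon S).map snd₀ ≫ (yon S).map ι₀) ≫ t := by
      rw [Category.assoc]; exact sq₀.w
    obtain ⟨μ, hμ⟩ := (yon S).map_surjective
      (sq.lift (hjc.rep.fst t₀) ((yon S).map snd₀ ≫ (yon S).map ι₀) hw)
    have h2 : (yon S).map μ ≫ (yon S).map snd = (yon S).map snd₀ ≫ (yon S).map ι₀ := by
      rw [hμ, sq.lift_snd]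
    have hcomm : μ ≫ snd = snd₀ ≫ ι₀ := (yon S).map_injective (by
      rw [Functor.map_comp, Functor.map_comp, h2])
    refine ⟨μ.left w₀, ?_⟩
    have h3 := congrArg (fun f => f.left w₀) hcomm
    simp only [Over.comp_left, Scheme.Hom.comp_apply] at h3
    change snd.left (μ.left w₀) = v
    rw [h3, hw₀]
    rfl
  · intro V W t fst snd hV _ sq
    exact sqZero_pullback_j c j k hN hU hV t fst snd sq

open Groth.Agent.Lib.Helper15.UnivThick Groth.Agent.Lib.Helper15.FOThickBC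

variable {S : Scheme.{u}}

/-- the affine test for universality of the first-order neighbourhood -/
theorem affine_test_of_isInfNbhd {Z U X Z₁ : Sp S} (hU : IsAlgSpace U)
    (c : Z ⟶ U) (u : U ⟶ X) (hu : RepWith @IsOpenImmersion u)
    (j : Z ⟶ Z₁) (k : Z₁ ⟶ U) (hN : IsInfNbhd 1 c j k)
    (T T' : Over S) (jT : T ⟶ T') (hT' : IsAffine T'.left)
    (hjT : IsFOThickMor ((yon S).map jT))
    (a : (yon S).obj T ⟶ Z) (b : (yon S).obj T' ⟶ X)
    (hcomm : (yon S).map jT ≫ b = a ≫ (c ≫ u)) :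
    ∃! a' : (yon S).obj T' ⟶ Z₁, (yon S).map jT ≫ a' = a ≫ j ∧ a' ≫ (k ≫ u) = b := by
  have hT'aff : IsAffine T'.left := hT'
  have hFO : MoreMor.IsFirstOrderThickening jT.left :=
    isFirstOrderThickening_of_isFOThickMor_yon_map hT' hjT
  have hkm : Mono k := mono_of_repWith_closedImmersion k hN.2.2.1
  have hum : Mono u := mono_of_repWith_openImmersion u hu
  obtain ⟨hjk, hc, hk, -⟩ := id hN
  -- factor `b` through `U`
  let pr : hu.rep.pullback b ⟶ T' := hu.rep.snd b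
  have sqP : IsPullback (hu.rep.fst b) ((yon S).map pr) u b := hu.rep.isPullback b
  have hpro : IsOpenImmersion pr.left := hu.2 _ _ _ sqP
  have hw : (a ≫ c) ≫ u = (yon S).map jT ≫ b := by rw [hcomm, Category.assoc]
  obtain ⟨l, hl⟩ := (yon S).map_surjective (sqP.lift (a ≫ c) ((yon S).map jT) hw)
  have hl2 : l ≫ pr = jT := (yon S).map_injective (by
    rw [Functor.map_comp, hl, sqP.lift_snd])
  have hprs : pr.left.opensRange = ⊤ := by
    rw [eq_top_iff]
    intro t' _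
    obtain ⟨t, rfl⟩ := hFO.1.2.surj t'
    refine ⟨l.left t, ?_⟩
    have := congrArg (fun f => f.left t) hl2
    simpa using this
  have hpriso : IsIso pr.left := isIso_of_isOpenImmersion_of_opensRange_eq_top pr.left hprs
  have hpriso'' : IsIso ((Over.forget S).map pr) := hpriso
  have hpriso' : IsIso pr := isIso_of_reflects_iso _ (Over.forget S)
  let bU : (yon S).obj T' ⟶ U := inv ((yon S).map pr) ≫ hu.rep.fst b
  have hbU : bU ≫ u = b := by
    change (inv ((yon S).map pr) ≫ hu.rep.fst b) ≫ u = b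
    rw [Category.assoc, sqP.w, IsIso.inv_hom_id_assoc]
  have hjbU : (yon S).map jT ≫ bU = a ≫ c := by
    rw [← cancel_mono u, Category.assoc, hbU, hcomm, Category.assoc]
  -- pull back `c` and `k` along `bU`
  let sc : hc.rep.pullback bU ⟶ T' := hc.rep.snd bU
  have sqc : IsPullback (hc.rep.fst bU) ((yon S).map sc) c bU := hc.rep.isPullback bU
  let sk : hk.rep.pullback bU ⟶ T' := hk.rep.snd bU
  have sqk : IsPullback (hk.rep.fst bU) ((yon S).map sk) k bU := hk.rep.isPullback bU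
  have hscl : IsClosedImmersion sc.left := hc.2 _ _ _ sqc
  have hskl : IsClosedImmersion sk.left := hk.2 _ _ _ sqk
  have hker : sk.left.ker = sc.left.ker * sc.left.ker :=
    ker_eq_sq_of_isInfNbhd c j k hN hU hT' bU _ sc sqc _ sk sqk
  obtain ⟨lc, hlc⟩ := (yon S).map_surjective (sqc.lift a ((yon S).map jT) hjbU.symm)
  have hlc2 : lc ≫ sc = jT := (yon S).map_injective (by
    rw [Functor.map_comp, hlc, sqc.lift_snd])
  have hle : sc.left.ker ≤ jT.left.ker := by
    have h1 := Scheme.Hom.le_ker_comp lc.left sc.left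
    have h2 : lc.left ≫ sc.left = jT.left := by
      have := congrArg (fun f => f.left) hlc2
      simpa using this
    rwa [h2] at h1
  have hk0 : sk.left.ker = ⊥ := by
    rw [hker, eq_bot_iff]
    exact (mul_mono' hle hle).trans hFO.2.le
  have hskiso : IsIso sk.left := IsClosedImmersion.isIso_iff_ker_eq_bot.2 hk0
  have hskiso'' : IsIso ((Over.forget S).map sk) := hskiso
  have hskiso' : IsIso sk := isIso_of_reflects_iso _ (Over.forget S)
  let a' : (yon S).obj T' ⟶ Z₁ := inv ((yon S).map sk) ≫ hk.rep.fst bU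
  have ha'k : a' ≫ k = bU := by
    change (inv ((yon S).map sk) ≫ hk.rep.fst bU) ≫ k = bU
    rw [Category.assoc, sqk.w, IsIso.inv_hom_id_assoc]
  refine ⟨a', ⟨?_, ?_⟩, ?_⟩
  · rw [← cancel_mono k, Category.assoc, ha'k, hjbU, Category.assoc, hjk]
  · rw [← Category.assoc, ha'k, hbU]
  · rintro a'' ⟨-, h2⟩
    have : Mono (k ≫ u) := mono_comp k u
    rw [← cancel_mono (k ≫ u), h2, ← Category.assoc, ha'k, hbU]

end Groth.Agent.Lib.Helper15.InfNbhd
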