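import Groth.Agent.Lib.Helper15.QuotPi

set_option autoImplicit false

universe u w
open CategoryTheory CategoryTheory.Limits AlgebraicGeometry Opposite

namespace Groth.Agent.Lib.Helper15.SpDesc

open AlgSp Groth.Agent.Lib.Helper3

variable {S : Scheme.{u}}

/-- build a morphism of sheaves from a natural family of maps on points with values in schemes. -/
theorem exists_hom_of_points {W Z : Sp S}
    (Φ : ∀ ⦃T : Over S⦄, ((yon S).obj T ⟶ W) → ((yon S).obj T ⟶ Z))
    (hΦ : ∀ ⦃T T' : Over S⦄ (h : T' ⟶ T) (x : (yon S).obj T ⟶ W),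
      Φ ((yon S).map h ≫ x) = (yon S).map h ≫ Φ x) :
    ∃ d : W ⟶ Z, ∀ ⦃T : Over S⦄ (x : (yon S).obj T ⟶ W), x ≫ d = Φ x := by
  let d : W ⟶ Z := ⟨{
    app := fun T => ↾(fun x => (J S).uliftYonedaEquiv.{u+1} (Φ (T := T.unop)
      ((J S).uliftYonedaEquiv.{u+1}.symm x)))
    naturality := by
      intro T T' h
      induction T using Opposite.rec with
      | op T =>
      induction T' using Opposite.rec with
      | op T' =>
      ext x
      change (J S).uliftYonedaEquiv.{u+1} (Φ ((J S).uliftYonedaEquiv.{u+1}.symm (W.obj.map h x))) =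
        Z.obj.map h ((J S).uliftYonedaEquiv.{u+1} (Φ ((J S).uliftYonedaEquiv.{u+1}.symm x)))
      obtain ⟨h, rfl⟩ : ∃ h' : T' ⟶ T, h = h'.op := ⟨h.unop, rfl⟩
      rw [(J S).uliftYonedaEquiv_naturality.{u+1}, ← hΦ]
      congr 2
      apply (J S).uliftYonedaEquiv.{u+1}.injective
      rw [← (J S).uliftYonedaEquiv_naturality.{u+1}, Equiv.apply_symm_apply, Equiv.apply_symm_apply] }⟩
  refine ⟨d, fun T x => ?_⟩
  apply (J S).uliftYonedaEquiv.{u+1}.injective
  rw [(J S).uliftYonedaEquiv_comp.{u+1}]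
  change (J S).uliftYonedaEquiv.{u+1} (Φ ((J S).uliftYonedaEquiv.{u+1}.symm
    ((J S).uliftYonedaEquiv.{u+1} x))) = _
  rw [Equiv.symm_apply_apply]

/-- descent of morphisms of sheaves along a jointly locally surjective family. -/
theorem existsUnique_desc {ι : Type w} {W Z : Sp S} (E : ι → Sp S) (e : ∀ i, E i ⟶ W)
    (g : ∀ i, E i ⟶ Z)
    (hcov : ∀ (T : Over S) (x : (yon S).obj T ⟶ W), ∃ Sv ∈ J S T,
      ∀ ⦃T' : Over S⦄ (f : T' ⟶ T), Sv f →
        ∃ (i : ι) (u : (yon S).obj T' ⟶ E i), u ≫ e i = (yon S).map f ≫ x)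
    (hcompat : ∀ (T : Over S) (i j : ι) (u : (yon S).obj T ⟶ E i) (v : (yon S).obj T ⟶ E j),
      u ≫ e i = v ≫ e j → u ≫ g i = v ≫ g j) :
    ∃! d : W ⟶ Z, ∀ i, e i ≫ d = g i := by
  -- the characterizing property
  let Q : ∀ ⦃T : Over S⦄, ((yon S).obj T ⟶ W) → ((yon S).obj T ⟶ Z) → Prop := fun T x r =>
    ∀ ⦃T' : Over S⦄ (f : T' ⟶ T) (i : ι) (u : (yon S).obj T' ⟶ E i),
      u ≫ e i = (yon S).map f ≫ x → (yon S).map f ≫ r = u ≫ g i
  have hQuniq : ∀ ⦃T : Over S⦄ (x : (yon S).obj T ⟶ W) (r r' : (yon S).obj T ⟶ Z),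
      Q x r → Q x r' → r = r' := by
    intro T x r r' h1 h2
    obtain ⟨Sv, hSv, h⟩ := hcov T x
    refine SpQuot.eq_of_sieve _ _ Sv hSv fun T' f hf => ?_
    obtain ⟨i, u, hu⟩ := h f hf
    rw [h1 f i u hu, h2 f i u hu]
  have hQex : ∀ ⦃T : Over S⦄ (x : (yon S).obj T ⟶ W), ∃ r, Q x r := by
    intro T x
    obtain ⟨Sv, hSv, h⟩ := hcov T x
    obtain ⟨r, hr⟩ := QuotPi.exists_glue (F := Z) Sv hSv
      (fun T' f r => ∃ (i : ι) (u : (yon S).obj T' ⟶ E i),
        u ≫ e i = (yon S).map f ≫ x ∧ r = u ≫ g i)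
      (fun T' f hf => by
        obtain ⟨i, u, hu⟩ := h f hf
        exact ⟨_, i, u, hu, rfl⟩)
      (fun T' f r r' h1 h2 => by
        obtain ⟨i, u, hu, rfl⟩ := h1
        obtain ⟨j, v, hv, rfl⟩ := h2
        exact hcompat T' i j u v (hu.trans hv.symm))
      (fun T' T'' f k r h1 => by
        obtain ⟨i, u, hu, rfl⟩ := h1
        refine ⟨i, (yon S).map k ≫ u, ?_, by rw [Category.assoc]⟩
        rw [Category.assoc, hu, Functor.map_comp, Category.assoc])
    refine ⟨r, fun T' f i u hu => ?_⟩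
    refine SpQuot.eq_of_sieve _ _ (Sv.pullback f) ((J S).pullback_stable f hSv) fun T'' k hk => ?_
    obtain ⟨j, v, hv, hv'⟩ := hr (k ≫ f) hk
    rw [← Category.assoc, ← Functor.map_comp, hv']
    refine hcompat T'' j i v ((yon S).map k ≫ u) ?_
    rw [hv, Category.assoc, hu, Functor.map_comp, Category.assoc]
  choose Φ hΦ using hQex
  have hnat : ∀ ⦃T T' : Over S⦄ (h : T' ⟶ T) (x : (yon S).obj T ⟶ W),
      Φ ((yon S).map h ≫ x) = (yon S).map h ≫ Φ x := by
    intro T T' h x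
    refine hQuniq _ _ _ (hΦ _) fun T'' f i u hu => ?_
    rw [← Category.assoc, ← Functor.map_comp]
    refine hΦ x (f ≫ h) i u ?_
    rw [hu, Functor.map_comp, Category.assoc]
  obtain ⟨d, hd⟩ := exists_hom_of_points Φ hnat
  refine ⟨d, fun i => ?_, fun d' hd' => ?_⟩
  · apply JShriek.hom_ext_points
    intro T x
    rw [← Category.assoc, hd]
    have := hΦ (x ≫ e i) (𝟙 T) i x (by rw [CategoryTheory.Functor.map_id, Category.id_comp])
    rw [CategoryTheory.Functor.map_id, Category.id_comp] at this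
    exact this
  · apply JShriek.hom_ext_points
    intro T x
    rw [hd]
    refine hQuniq x _ _ (fun T' f i u hu => ?_) (hΦ x)
    rw [← Category.assoc, ← hu, Category.assoc, hd']

end Groth.Agent.Lib.Helper15.SpDesc
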