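import Groth.Prelude.Def_AlgSpSub
import Groth.Agent.Lib.Helper15.SpDesc
import Groth.Agent.Lib.Helper15.InfNbhd
import Groth.Agent.Lib.Helper3.AlgSpQC
import Groth.Agent.S10262
import Groth.Agent.S10265

set_option autoImplicit false

universe u
open CategoryTheory CategoryTheory.Limits AlgebraicGeometry Opposite

namespace Groth.Agent.Lib.Helper15.ElemDist

open AlgSp Groth.Agent.Lib.Helper3

variable {S : Scheme.{u}}

/-- a point of `T` whose image lies in the image of `g` lies in the image of the base change. -/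
theorem mem_range_of_isPullback {F W : Sp S} {g : F ⟶ W} {T T' : Over S}
    {x : (yon S).obj T ⟶ W} {fst : (yon S).obj T' ⟶ F} {snd : T' ⟶ T}
    (sq : IsPullback fst ((yon S).map snd) g x) (t : ↥T.left)
    (ht : Points.ofPt x t ∈ Set.range (Points.map g)) : t ∈ Set.range snd.left := by
  have h := Points.ofPt_preimage_image sq Set.univ
  have : t ∈ Points.ofPt x ⁻¹' (Points.map g '' Set.univ) := by
    rw [Set.image_univ]
    exact ht
  rw [h] at this
  obtain ⟨t', -, rfl⟩ := this
  exact ⟨t', rfl⟩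

section Sq
variable {U V W : Sp S} {j : U ⟶ W} {f : V ⟶ W}

theorem mem_range_f (hsq : IsElemDistSq j f) (w : Points W)
    (hw : w ∉ Set.range (Points.map j)) : w ∈ Set.range (Points.map f) := by
  obtain ⟨-, -, T₀, P₀, i, p₁, p₂, hi, hpb, hiso⟩ := hsq
  have : w ∈ Set.range (Points.map i) := by
    rw [hi.2.1]
    exact hw
  obtain ⟨τ, rfl⟩ := this
  refine ⟨Points.map p₂ (Points.map (inv p₁) τ), ?_⟩
  rw [← Points.map_comp, ← Points.map_comp, ← hpb.w, ← Category.assoc, IsIso.inv_hom_id,
    Category.id_comp]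

/-- the two legs of an elementary distinguished square are jointly locally surjective. -/
theorem exists_cover (hV : IsAlgSpace V) (hsq : IsElemDistSq j f) (T : Over S)
    (x : (yon S).obj T ⟶ W) : ∃ Sv ∈ J S T, ∀ ⦃T' : Over S⦄ (k : T' ⟶ T), Sv k →
      (∃ u : (yon S).obj T' ⟶ U, u ≫ j = (yon S).map k ≫ x) ∨
      (∃ v : (yon S).obj T' ⟶ V, v ≫ f = (yon S).map k ≫ x) := by
  have hj : RepWith @IsOpenImmersion j := hsq.1
  obtain ⟨V', φ, hφe, hφs⟩ := hV.atlas
  have hf' : RepWith @Etale (φ ≫ f) := hsq.2.1 φ hφe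
  let P : Bool → Over S := fun b => Bool.rec (hf'.rep.pullback x) (hj.rep.pullback x) b
  let g : ∀ b, P b ⟶ T := fun b => Bool.rec (hf'.rep.snd x) (hj.rep.snd x) b
  have hjU : IsOpenImmersion (hj.rep.snd x).left := hj.property_snd x
  have hkV : Etale (hf'.rep.snd x).left := hf'.property_snd x
  have hfl : ∀ b, Flat (g b).left := by
    intro b
    cases b
    · change Flat (hf'.rep.snd x).left
      infer_instance
    · change Flat (hj.rep.snd x).left
      infer_instance
  have hfp : ∀ b, LocallyOfFinitePresentation (g b).left := by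
    intro b
    cases b
    · change LocallyOfFinitePresentation (hf'.rep.snd x).left
      infer_instance
    · change LocallyOfFinitePresentation (hj.rep.snd x).left
      infer_instance
  have hsurj : ∀ t : ↥T.left, ∃ b, t ∈ Set.range (g b).left := by
    intro t
    by_cases ht : Points.ofPt x t ∈ Set.range (Points.map j)
    · exact ⟨true, mem_range_of_isPullback (hj.rep.isPullback x) t ht⟩
    · refine ⟨false, mem_range_of_isPullback (hf'.rep.isPullback x) t ?_⟩
      obtain ⟨v, hv⟩ := mem_range_f hsq _ ht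
      obtain ⟨v', rfl⟩ := surjective_map_of_repWith hφs v
      exact ⟨v', by rw [Points.map_comp, hv]⟩
  refine ⟨_, generate_ofArrows_mem_J_of_fppf P g hfl hfp hsurj, ?_⟩
  rintro T' k ⟨Y, h, g', ⟨b⟩, rfl⟩
  cases b
  · right
    refine ⟨(yon S).map h ≫ hf'.rep.fst x ≫ φ, ?_⟩
    rw [Category.assoc, Category.assoc, (hf'.rep.isPullback x).w, Functor.map_comp, Category.assoc]
  · left
    refine ⟨(yon S).map h ≫ hj.rep.fst x, ?_⟩
    rw [Category.assoc, (hj.rep.isPullback x).w, Functor.map_comp, Category.assoc]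

/-- a field point landing outside `U` lifts to the closed complement. -/
theorem exists_lift_to_closed {T₀ : Sp S} {i : T₀ ⟶ W} (hi : RepWith @IsClosedImmersion i)
    {T : Over S} (x : (yon S).obj T ⟶ W) (t : ↥T.left)
    (ht : Points.ofPt x t ∈ Set.range (Points.map i)) :
    ∃ τ : (yon S).obj (Over.mk (T.left.fromSpecResidueField t ≫ T.hom)) ⟶ T₀,
      τ ≫ i = (yon S).map (Over.homMk (T.left.fromSpecResidueField t) rfl :
        Over.mk (T.left.fromSpecResidueField t ≫ T.hom) ⟶ T) ≫ x := by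
  let Kt : Over S := Over.mk (T.left.fromSpecResidueField t ≫ T.hom)
  let kt : Kt ⟶ T := Over.homMk (T.left.fromSpecResidueField t) rfl
  let x' : (yon S).obj Kt ⟶ W := (yon S).map kt ≫ x
  have hc : IsClosedImmersion (hi.rep.snd x').left := hi.property_snd x'
  have hsurj : Surjective (hi.rep.snd x').left := by
    constructor
    intro pt
    have hpt : Points.ofPt x' pt ∈ Set.range (Points.map i) := by
      have : kt.left pt = t := by
        change (T.left.fromSpecResidueField t) pt = t
        exact Scheme.fromSpecResidueField_apply _ _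
      change Points.ofPt ((yon S).map kt ≫ x) pt ∈ _
      rw [Points.ofPt_yon_map_comp, this]
      exact ht
    exact mem_range_of_isPullback (hi.rep.isPullback x') pt hpt
  have hred : IsReduced Kt.left := by
    change IsReduced (Spec _)
    infer_instance
  have hiso : IsIso (hi.rep.snd x').left := isIso_of_isClosedImmersion_of_surjective _
  let c' : Kt ⟶ hi.rep.pullback x' := Over.homMk (inv (hi.rep.snd x').left) (by
    rw [IsIso.inv_comp_eq, Over.w])
  have hc' : c' ≫ hi.rep.snd x' = 𝟙 Kt := by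
    ext
    change inv (hi.rep.snd x').left ≫ (hi.rep.snd x').left = 𝟙 _
    rw [IsIso.inv_hom_id]
  refine ⟨(yon S).map c' ≫ hi.rep.fst x', ?_⟩
  rw [Category.assoc, (hi.rep.isPullback x').w, ← Category.assoc, ← Functor.map_comp, hc',
    CategoryTheory.Functor.map_id, Category.id_comp]

/-- two points of `V` over the same point of `W` have the same image under any map compatible
with the square. -/
theorem comp_eq_of_comp_eq {P Z : Sp S} (hsq : IsElemDistSq j f)
    (hdiag : RepWith @IsOpenImmersion (pullback.diagonal f))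
    {p : P ⟶ U} {q : P ⟶ V} (hP : IsPullback p q j f) (a : U ⟶ Z) (b : V ⟶ Z)
    (hab : p ≫ a = q ≫ b) {T : Over S} (v₁ v₂ : (yon S).obj T ⟶ V) (h : v₁ ≫ f = v₂ ≫ f) :
    v₁ ≫ b = v₂ ≫ b := by
  have hj : RepWith @IsOpenImmersion j := hsq.1
  let x : (yon S).obj T ⟶ W := v₁ ≫ f
  let vv : (yon S).obj T ⟶ pullback f f := pullback.lift v₁ v₂ h
  have hvv1 : vv ≫ pullback.fst f f = v₁ := pullback.lift_fst _ _ _
  have hvv2 : vv ≫ pullback.snd f f = v₂ := pullback.lift_snd _ _ _
  let P : Bool → Over S := fun b => Bool.rec (hdiag.rep.pullback vv) (hj.rep.pullback x) b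
  let g : ∀ b, P b ⟶ T := fun b => Bool.rec (hdiag.rep.snd vv) (hj.rep.snd x) b
  have hjU : IsOpenImmersion (hj.rep.snd x).left := hj.property_snd x
  have hιΔ : IsOpenImmersion (hdiag.rep.snd vv).left := hdiag.property_snd vv
  have hfl : ∀ b, Flat (g b).left := by
    intro b
    cases b
    · change Flat (hdiag.rep.snd vv).left
      infer_instance
    · change Flat (hj.rep.snd x).left
      infer_instance
  have hfp : ∀ b, LocallyOfFinitePresentation (g b).left := by
    intro b
    cases b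
    · change LocallyOfFinitePresentation (hdiag.rep.snd vv).left
      infer_instance
    · change LocallyOfFinitePresentation (hj.rep.snd x).left
      infer_instance
  have hsurj : ∀ t : ↥T.left, ∃ b, t ∈ Set.range (g b).left := by
    intro t
    by_cases ht : Points.ofPt x t ∈ Set.range (Points.map j)
    · exact ⟨true, mem_range_of_isPullback (hj.rep.isPullback x) t ht⟩
    · refine ⟨false, ?_⟩
      obtain ⟨-, -, T₀, P₀, i, p₁, p₂, hi, hpb, hiso⟩ := hsq
      have hti : Points.ofPt x t ∈ Set.range (Points.map i) := by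
        rw [hi.2.1]
        exact ht
      obtain ⟨τ, hτ⟩ := exists_lift_to_closed hi.1 x t hti
      obtain ⟨Kt, hKt⟩ : ∃ Kt : Over S, Kt = Over.mk (T.left.fromSpecResidueField t ≫ T.hom) :=
        ⟨_, rfl⟩
      obtain ⟨kt, hkt⟩ : ∃ kt : Over.mk (T.left.fromSpecResidueField t ≫ T.hom) ⟶ T,
        kt = Over.homMk (T.left.fromSpecResidueField t) rfl := ⟨_, rfl⟩
      rw [← hkt] at hτ
      have hτ2 : τ ≫ i = ((yon S).map kt ≫ v₂) ≫ f := by
        rw [hτ, Category.assoc, ← h]
      have hτ1 : τ ≫ i = ((yon S).map kt ≫ v₁) ≫ f := by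
        rw [hτ, Category.assoc]
      have e1 : hpb.lift τ ((yon S).map kt ≫ v₁) hτ1 = hpb.lift τ ((yon S).map kt ≫ v₂) hτ2 := by
        rw [← cancel_mono p₁, hpb.lift_fst, hpb.lift_fst]
      have e2 : (yon S).map kt ≫ v₁ = (yon S).map kt ≫ v₂ := by
        rw [← hpb.lift_snd τ ((yon S).map kt ≫ v₁) hτ1, e1, hpb.lift_snd]
      have hw : ((yon S).map kt ≫ v₁) ≫ pullback.diagonal f = (yon S).map kt ≫ vv := by
        apply pullback.hom_ext
        · rw [Category.assoc, pullback.diagonal_fst, Category.comp_id, Category.assoc, hvv1]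
        · rw [Category.assoc, pullback.diagonal_snd, Category.comp_id, Category.assoc, hvv2, e2]
      obtain ⟨m, hm⟩ := (yon S).map_surjective ((hdiag.rep.isPullback vv).lift _ _ hw)
      have hm2 : m ≫ hdiag.rep.snd vv = kt := by
        apply (yon S).map_injective
        rw [Functor.map_comp, hm, (hdiag.rep.isPullback vv).lift_snd]
      refine ⟨m.left (IsLocalRing.closedPoint _), ?_⟩
      change (m ≫ hdiag.rep.snd vv).left _ = t
      rw [hm2, hkt]
      change (T.left.fromSpecResidueField t) _ = t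
      exact Scheme.fromSpecResidueField_apply _ _
  have hcov := generate_ofArrows_mem_J_of_fppf P g hfl hfp hsurj
  refine SpQuot.eq_of_sieve _ _ _ hcov ?_
  rintro T' k ⟨Y, h', g', ⟨b'⟩, rfl⟩
  rw [Functor.map_comp, Category.assoc, Category.assoc]
  congr 1
  cases b'
  · change (yon S).map (hdiag.rep.snd vv) ≫ v₁ ≫ b = (yon S).map (hdiag.rep.snd vv) ≫ v₂ ≫ b
    have sq := hdiag.rep.isPullback vv
    have e1 : (yon S).map (hdiag.rep.snd vv) ≫ v₁ = hdiag.rep.fst vv := by
      rw [← hvv1, ← Category.assoc, ← sq.w, Category.assoc, pullback.diagonal_fst, Category.comp_id]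
    have e2 : (yon S).map (hdiag.rep.snd vv) ≫ v₂ = hdiag.rep.fst vv := by
      rw [← hvv2, ← Category.assoc, ← sq.w, Category.assoc, pullback.diagonal_snd, Category.comp_id]
    rw [← Category.assoc, e1, ← Category.assoc, e2]
  · change (yon S).map (hj.rep.snd x) ≫ v₁ ≫ b = (yon S).map (hj.rep.snd x) ≫ v₂ ≫ b
    have sq := hj.rep.isPullback x
    have w1 : hj.rep.fst x ≫ j = ((yon S).map (hj.rep.snd x) ≫ v₁) ≫ f := by
      rw [sq.w, Category.assoc]
    have w2 : hj.rep.fst x ≫ j = ((yon S).map (hj.rep.snd x) ≫ v₂) ≫ f := by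
      rw [sq.w, Category.assoc, ← h]
    have e1 : (yon S).map (hj.rep.snd x) ≫ v₁ ≫ b = hj.rep.fst x ≫ a := by
      rw [← Category.assoc, ← hP.lift_snd _ _ w1, Category.assoc, ← hab, ← Category.assoc,
        hP.lift_fst]
    have e2 : (yon S).map (hj.rep.snd x) ≫ v₂ ≫ b = hj.rep.fst x ≫ a := by
      rw [← Category.assoc, ← hP.lift_snd _ _ w2, Category.assoc, ← hab, ← Category.assoc,
        hP.lift_fst]
    rw [e1, e2]

/-- the universal property of an elementary distinguished square among sheaves. -/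
theorem existsUnique_desc {P Z : Sp S} (hV : IsAlgSpace V) (hsq : IsElemDistSq j f)
    (hdiag : RepWith @IsOpenImmersion (pullback.diagonal f))
    {p : P ⟶ U} {q : P ⟶ V} (hP : IsPullback p q j f) (a : U ⟶ Z) (b : V ⟶ Z)
    (hab : p ≫ a = q ≫ b) : ∃! d : W ⟶ Z, j ≫ d = a ∧ f ≫ d = b := by
  have hjm : Mono j := InfNbhd.mono_of_repWith_openImmersion j hsq.1
  let E : Bool → Sp S := fun c => Bool.rec V U c
  let e : ∀ c, E c ⟶ W := fun c => Bool.rec (motive := fun c => E c ⟶ W) f j c
  let g : ∀ c, E c ⟶ Z := fun c => Bool.rec (motive := fun c => E c ⟶ Z) b a c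
  have hcov : ∀ (T : Over S) (x : (yon S).obj T ⟶ W), ∃ Sv ∈ J S T,
      ∀ ⦃T' : Over S⦄ (k : T' ⟶ T), Sv k →
        ∃ (c : Bool) (u : (yon S).obj T' ⟶ E c), u ≫ e c = (yon S).map k ≫ x := by
    intro T x
    obtain ⟨Sv, hSv, h⟩ := exists_cover hV hsq T x
    refine ⟨Sv, hSv, fun T' k hk => ?_⟩
    rcases h k hk with ⟨u, hu⟩ | ⟨v, hv⟩
    · exact ⟨true, u, hu⟩
    · exact ⟨false, v, hv⟩
  have hcompat : ∀ (T : Over S) (c c' : Bool) (u : (yon S).obj T ⟶ E c)
      (v : (yon S).obj T ⟶ E c'), u ≫ e c = v ≫ e c' → u ≫ g c = v ≫ g c' := by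
    intro T c c' u v h
    cases c <;> cases c'
    · exact comp_eq_of_comp_eq hsq hdiag hP a b hab u v h
    · change u ≫ b = v ≫ a
      have h' : v ≫ j = u ≫ f := h.symm
      rw [← hP.lift_snd v u h', Category.assoc, ← hab, ← Category.assoc, hP.lift_fst]
    · change u ≫ a = v ≫ b
      have h' : u ≫ j = v ≫ f := h
      rw [← hP.lift_snd u v h', Category.assoc, ← hab, ← Category.assoc, hP.lift_fst]
    · change u ≫ a = v ≫ a
      have h' : u ≫ j = v ≫ j := h
      rw [(cancel_mono j).1 h']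
  obtain ⟨d, hd, hduniq⟩ := SpDesc.existsUnique_desc E e g hcov hcompat
  refine ⟨d, ⟨hd true, hd false⟩, fun d' hd' => hduniq d' fun c => ?_⟩
  cases c
  · exact hd'.2
  · exact hd'.1

end Sq

/-- an elementary distinguished square of algebraic spaces is a pushout. -/
theorem isPushout {U V W P : Space S} (j : U ⟶ W) (f : V ⟶ W)
    (hsq : IsElemDistSq j.hom f.hom) (p : P ⟶ U) (q : P ⟶ V)
    (hP : IsPullback p.hom q.hom j.hom f.hom) : IsPushout p q j f := by
  have hdiag : RepWith @IsOpenImmersion (pullback.diagonal f.hom) :=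
    (Groth.Agent.S10262.result f).1 (Groth.Agent.S10265.result f hsq.2.1).2.2.2.2.2
  have w : p ≫ j = q ≫ f := ObjectProperty.hom_ext _ hP.w
  have key : ∀ s : PushoutCocone p q, ∃! d : W.obj ⟶ s.pt.obj,
      j.hom ≫ d = s.inl.hom ∧ f.hom ≫ d = s.inr.hom := fun s =>
    existsUnique_desc V.property hsq hdiag hP s.inl.hom s.inr.hom
      (congrArg (fun k => k.hom) s.condition)
  choose d hd hduniq using key
  refine ⟨⟨w⟩, ⟨PushoutCocone.IsColimit.mk w (fun s => ObjectProperty.homMk (d s))
    (fun s => ObjectProperty.hom_ext _ (hd s).1) (fun s => ObjectProperty.hom_ext _ (hd s).2)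
    (fun s m h1 h2 => ObjectProperty.hom_ext _ (hduniq s m.hom
      ⟨congrArg (fun k => k.hom) h1, congrArg (fun k => k.hom) h2⟩))⟩⟩

end Groth.Agent.Lib.Helper15.ElemDist
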