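import Groth.Agent.Lib.Helper15.QuotPi
import Groth.Agent.Lib.Helper3.FpqcDescMain

set_option autoImplicit false

universe u
open CategoryTheory CategoryTheory.Limits AlgebraicGeometry Opposite

namespace Groth.Agent.Lib.Helper15.StdRef

open AlgSp Groth.Agent.Lib.Helper3 MorphismProperty

variable {S : Scheme.{u}}

/-- a jointly locally surjective family of morphisms of sheaves admits standard refinements. -/
theorem hasStdRefinement_of_jointly {ι : Type u} {Y : Sp S} (Yi : ι → Sp S) (g : ∀ i, Yi i ⟶ Y)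
    (hcov : ∀ (T : Over S) (x : (yon S).obj T ⟶ Y), ∃ Sv ∈ J S T,
      ∀ ⦃T' : Over S⦄ (k : T' ⟶ T), Sv k →
        ∃ (i : ι) (l : (yon S).obj T' ⟶ Yi i), l ≫ g i = (yon S).map k ≫ x) :
    HasStdRefinement Yi g := by
  intro Z hZ h
  obtain ⟨Sv, hmem, hSv⟩ := hcov Z h
  obtain ⟨κ, P, gk, hg, hfl, hfp, hsurj⟩ := exists_fppf_family_of_mem_J _ hmem
  have : CompactSpace ↥Z.left := inferInstance
  have hopen : ∀ k, IsOpenMap (gk k).left := fun k => by
    have := hfl k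
    have := hfp k
    exact (gk k).left.isOpenMap
  obtain ⟨m, i, O, hO, hcovO⟩ := exists_finite_affine_refinement (Z := Z.left)
    (fun k => (P k).left) (fun k => (gk k).left) hopen hsurj
  let W : Fin m → Over S := fun j => Over.mk ((O j).ι ≫ (P (i j)).hom)
  let e : ∀ j, W j ⟶ P (i j) := fun j => Over.homMk (O j).ι rfl
  refine ⟨m, W, fun j => e j ≫ gk (i j), fun j => hO j, fun j => ?_, fun z => ?_,
    fun j => ?_⟩
  · have := hfl (i j)
    change Flat ((O j).ι ≫ (gk (i j)).left)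
    infer_instance
  · obtain ⟨j, y, hy, rfl⟩ := hcovO z
    refine ⟨j, ⟨y, hy⟩, rfl⟩
  · obtain ⟨i₀, l₀, hl₀⟩ := hSv _ (hg (i j))
    refine ⟨i₀, (yon S).map (e j) ≫ l₀, ?_⟩
    rw [Category.assoc, hl₀, Functor.map_comp, Category.assoc]

/-- descent of "representable with `P`" (for `P` affine) along families with standard
refinements. -/
theorem repWith_of_stdRefinement (P : MorphismProperty Scheme.{u}) [P.IsStableUnderBaseChange]
    [IsZariskiLocalAtTarget P] [P.DescendsAlong (@Surjective ⊓ @Flat ⊓ @QuasiCompact)]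
    (hle : P ≤ @IsAffineHom) {ι : Type u} {Y : Sp S} (Yi : ι → Sp S) (g : ∀ i, Yi i ⟶ Y)
    (hY : IsAlgSpace Y) (hcov : HasStdRefinement Yi g) {X : Sp S} (f : X ⟶ Y) (hX : IsAlgSpace X)
    (Xi : ι → Sp S) (p : ∀ i, Xi i ⟶ Yi i) (q : ∀ i, Xi i ⟶ X)
    (sq : ∀ i, IsPullback (q i) (p i) f (g i)) (hp : ∀ i, RepWith P (p i)) : RepWith P f := by
  have hpA : ∀ i, IsAffineMor (p i) := fun i => (isAffineMor_iff_repWith (p i)).2
    (MorphismProperty.relative_monotone (fun A B k hk => hle _ hk) _ (hp i))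
  have key : ∀ ⦃Z : Over S⦄, IsAffine Z.left → ∀ (z : (yon S).obj Z ⟶ Y),
      ∃ (W₀ : Over S) (i : W₀ ⟶ Z) (fst₀ : (yon S).obj W₀ ⟶ X),
        IsPullback fst₀ ((yon S).map i) f z ∧ P i.left := by
    intro Z hZ z
    obtain ⟨W₀, V, E, i, fst₀, q', w, c, sq₀, hW₀, hV, hE, hqf, hqs, sqS, htr⟩ :=
      FpqcDesc.exists_fpqc_descent_square Yi g hY hcov f hX Xi p q sq hpA hZ z
    have hw : P w.left := htr P (fun i T l E' w' fst' _ sq' => (hp i).property l fst' w' sq')
    have sqS' := sqS.map (Over.forget S)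
    exact ⟨W₀, i, fst₀, sq₀, @AffDesc.descends_of_isPullback P _ _ _ _ _ hV hZ _ _ _ _ sqS' hqf hqs hw⟩
  refine Groth.Agent.Lib.Helper3.repWith_of_affine P f (Groth.Agent.Lib.Helper3.representable_of_affine f ?_) key
  intro Z hZ z
  obtain ⟨W₀, i, fst₀, sq₀, -⟩ := key hZ z
  exact ⟨W₀, i, fst₀, sq₀⟩

end Groth.Agent.Lib.Helper15.StdRef
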