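import Groth.Agent.Lib.Helper15.ElemDist
import Groth.Agent.Lib.Helper15.StdRef
import Groth.Agent.Lib.Helper3.AlgSpFibre

set_option autoImplicit false

universe u
open CategoryTheory CategoryTheory.Limits AlgebraicGeometry Opposite

namespace Groth.Agent.Lib.Helper15.ElemDistSep

open AlgSp Groth.Agent.Lib.Helper3

variable {S : Scheme.{u}}

/-- a piece of a cover of `X ×_Y X` together with the base change of the diagonal to it. -/
structure Piece {X Y : Sp S} (g : X ⟶ Y) where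
  (A₁ A₂ BX BY : Sp S)
  (α₁ : A₁ ⟶ X) (α₂ : A₂ ⟶ X)
  (a₁ : BX ⟶ A₁) (a₂ : BX ⟶ A₂) (hBX : IsPullback a₁ a₂ α₁ α₂)
  (b₁ : BY ⟶ A₁) (b₂ : BY ⟶ A₂) (hBY : IsPullback b₁ b₂ (α₁ ≫ g) (α₂ ≫ g))
  (m : BX ⟶ BY) (hm₁ : m ≫ b₁ = a₁) (hm₂ : m ≫ b₂ = a₂)

namespace Piece
variable {X Y : Sp S} {g : X ⟶ Y} (D : Piece g)

/-- the map from the piece to `X ×_Y X`. -/
noncomputable def toXX : D.BY ⟶ pullback g g :=
  pullback.lift (D.b₁ ≫ D.α₁) (D.b₂ ≫ D.α₂) (by
    rw [Category.assoc, Category.assoc]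
    exact D.hBY.w)

@[reassoc]
theorem toXX_fst : D.toXX ≫ pullback.fst g g = D.b₁ ≫ D.α₁ := pullback.lift_fst _ _ _

@[reassoc]
theorem toXX_snd : D.toXX ≫ pullback.snd g g = D.b₂ ≫ D.α₂ := pullback.lift_snd _ _ _

theorem isPullback : IsPullback (D.a₁ ≫ D.α₁) D.m (pullback.diagonal g) D.toXX := by
  have w : (D.a₁ ≫ D.α₁) ≫ pullback.diagonal g = D.m ≫ D.toXX := by
    apply pullback.hom_ext
    · rw [Category.assoc, pullback.diagonal_fst, Category.comp_id, Category.assoc, toXX_fst,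
        ← Category.assoc, D.hm₁]
    · rw [Category.assoc, pullback.diagonal_snd, Category.comp_id, Category.assoc, toXX_snd,
        ← Category.assoc, D.hm₂, D.hBX.w]
  refine ⟨⟨w⟩, ⟨PullbackCone.IsLimit.mk w
    (fun s => D.hBX.lift (s.snd ≫ D.b₁) (s.snd ≫ D.b₂) ?_) ?_ ?_ ?_⟩⟩
  · have h1 := congrArg (fun k => k ≫ pullback.fst g g) s.condition
    have h2 := congrArg (fun k => k ≫ pullback.snd g g) s.condition
    simp only [Category.assoc, pullback.diagonal_fst, pullback.diagonal_snd, Category.comp_id,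
      toXX_fst, toXX_snd] at h1 h2
    rw [Category.assoc, Category.assoc, ← h1, ← h2]
  · intro s
    have h1 := congrArg (fun k => k ≫ pullback.fst g g) s.condition
    simp only [Category.assoc, pullback.diagonal_fst, Category.comp_id, toXX_fst] at h1
    rw [← Category.assoc, D.hBX.lift_fst, Category.assoc, ← h1]
  · intro s
    apply D.hBY.hom_ext
    · rw [Category.assoc, D.hm₁, D.hBX.lift_fst]
    · rw [Category.assoc, D.hm₂, D.hBX.lift_snd]
  · intro s l h1 h2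
    apply D.hBX.hom_ext
    · rw [D.hBX.lift_fst, ← h2, Category.assoc, D.hm₁]
    · rw [D.hBX.lift_snd, ← h2, Category.assoc, D.hm₂]

theorem exists_lift {T : Sp S} (x : T ⟶ pullback g g) (a₁' : T ⟶ D.A₁) (a₂' : T ⟶ D.A₂)
    (h₁ : a₁' ≫ D.α₁ = x ≫ pullback.fst g g) (h₂ : a₂' ≫ D.α₂ = x ≫ pullback.snd g g) :
    ∃ l : T ⟶ D.BY, l ≫ D.toXX = x := by
  have hw : a₁' ≫ D.α₁ ≫ g = a₂' ≫ D.α₂ ≫ g := by
    rw [← Category.assoc, h₁, ← Category.assoc, h₂, Category.assoc, Category.assoc,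
      pullback.condition]
  refine ⟨D.hBY.lift a₁' a₂' hw, ?_⟩
  apply pullback.hom_ext
  · rw [Category.assoc, toXX_fst, ← Category.assoc, D.hBY.lift_fst, h₁]
  · rw [Category.assoc, toXX_snd, ← Category.assoc, D.hBY.lift_snd, h₂]

end Piece

section C
variable {U V X Y PX PY : Sp S} {g : X ⟶ Y} {j : U ⟶ X} {f : V ⟶ X}

set_option backward.isDefEq.respectTransparency.types false in
/-- the comparison `U ×_X V ⟶ U ×_Y V` is a closed immersion if it is closed on points. -/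
theorem repWith_c (hj : RepWith @IsOpenImmersion j) (hU : IsSeparatedMor (j ≫ g))
    {pX : PX ⟶ U} {qX : PX ⟶ V} (hPX : IsPullback pX qX j f)
    {pY : PY ⟶ U} {qY : PY ⟶ V} (hPY : IsPullback pY qY (j ≫ g) (f ≫ g))
    (c : PX ⟶ PY) (hc₁ : c ≫ pY = pX) (hc₂ : c ≫ qY = qX) (hcl : IsClosedMor c) :
    RepWith @IsClosedImmersion c := by
  apply MorphismProperty.relative.of_exists
  intro T y
  obtain ⟨u, hu⟩ : ∃ u : (yon S).obj T ⟶ U, u = y ≫ pY := ⟨_, rfl⟩
  obtain ⟨v, hv⟩ : ∃ v : (yon S).obj T ⟶ V, v = y ≫ qY := ⟨_, rfl⟩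
  have huv : u ≫ j ≫ g = v ≫ f ≫ g := by
    rw [hu, hv, Category.assoc, Category.assoc, hPY.w]
  have sq₀ := hj.rep.isPullback (v ≫ f)
  have hι₀ : IsOpenImmersion (hj.rep.snd (v ≫ f)).left := hj.property_snd _
  obtain ⟨T₀, ι₀, u₀, hT₀⟩ : ∃ (T₀ : Over S) (ι₀ : T₀ ⟶ T) (u₀ : (yon S).obj T₀ ⟶ U),
      IsPullback u₀ ((yon S).map ι₀) j (v ≫ f) ∧ IsOpenImmersion ι₀.left :=
    ⟨_, _, _, sq₀, hι₀⟩
  obtain ⟨sq₀, hι₀⟩ := hT₀
  have hw : u₀ ≫ j ≫ g = ((yon S).map ι₀ ≫ u) ≫ j ≫ g := by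
    rw [← Category.assoc, sq₀.w, Category.assoc, Category.assoc, Category.assoc, huv]
  obtain ⟨uu, huu⟩ : ∃ uu : (yon S).obj T₀ ⟶ pullback (j ≫ g) (j ≫ g),
      uu = pullback.lift u₀ ((yon S).map ι₀ ≫ u) hw := ⟨_, rfl⟩
  have huu1 : uu ≫ pullback.fst _ _ = u₀ := by rw [huu, pullback.lift_fst]
  have huu2 : uu ≫ pullback.snd _ _ = (yon S).map ι₀ ≫ u := by rw [huu, pullback.lift_snd]
  have hU' : RepWith @IsClosedImmersion (pullback.diagonal (j ≫ g)) := hU
  obtain ⟨E, κ, ε, sqE, hκ⟩ : ∃ (E : Over S) (κ : E ⟶ T₀) (ε : (yon S).obj E ⟶ U),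
      IsPullback ε ((yon S).map κ) (pullback.diagonal (j ≫ g)) uu ∧ IsClosedImmersion κ.left :=
    ⟨_, _, _, hU'.rep.isPullback uu, hU'.property_snd uu⟩
  have e1 : ε = (yon S).map κ ≫ u₀ := by
    have := congrArg (fun k => k ≫ pullback.fst _ _) sqE.w
    simp only [Category.assoc, pullback.diagonal_fst, Category.comp_id, huu1] at this
    exact this
  have e2 : ε = (yon S).map κ ≫ (yon S).map ι₀ ≫ u := by
    have := congrArg (fun k => k ≫ pullback.snd _ _) sqE.w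
    simp only [Category.assoc, pullback.diagonal_snd, Category.comp_id, huu2] at this
    exact this
  have hℓ : ε ≫ j = ((yon S).map (κ ≫ ι₀) ≫ v) ≫ f := by
    rw [e1, Category.assoc, sq₀.w, Functor.map_comp, Category.assoc, Category.assoc]
  obtain ⟨ℓ, hℓ1, hℓ2⟩ : ∃ ℓ : (yon S).obj E ⟶ PX, ℓ ≫ pX = ε ∧
      ℓ ≫ qX = (yon S).map (κ ≫ ι₀) ≫ v := ⟨hPX.lift _ _ hℓ, hPX.lift_fst _ _ _, hPX.lift_snd _ _ _⟩
  have hmono : Mono (κ ≫ ι₀).left := by
    change Mono (κ.left ≫ ι₀.left)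
    infer_instance
  have sq : IsPullback ℓ ((yon S).map (κ ≫ ι₀)) c y := by
    refine UnivQuot.isPullback_of_points _ _ _ _ ?_ ?_ ?_
    · apply hPY.hom_ext
      · rw [Category.assoc, hc₁, hℓ1, Category.assoc, ← hu, e2, Functor.map_comp, Category.assoc]
      · rw [Category.assoc, hc₂, hℓ2, Category.assoc, ← hv]
    · intro A a b _ hab
      obtain ⟨a, rfl⟩ := (yon S).map_surjective a
      obtain ⟨b, rfl⟩ := (yon S).map_surjective b
      rw [← Functor.map_comp, ← Functor.map_comp] at hab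
      have := (yon S).map_injective hab
      congr 1
      ext
      rw [← cancel_mono (κ ≫ ι₀).left]
      exact congrArg (fun k => k.left) this
    · intro A a t hat
      have ha1 : a ≫ pX = t ≫ u := by
        rw [hu, ← Category.assoc, ← hat, Category.assoc, hc₁]
      have ha2 : a ≫ qX = t ≫ v := by
        rw [hv, ← Category.assoc, ← hat, Category.assoc, hc₂]
      have h0 : (a ≫ pX) ≫ j = t ≫ v ≫ f := by
        rw [Category.assoc, hPX.w, ← Category.assoc, ha2, Category.assoc]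
      obtain ⟨t₀, ht₀1, ht₀2⟩ : ∃ t₀ : (yon S).obj A ⟶ (yon S).obj T₀, t₀ ≫ u₀ = a ≫ pX ∧
          t₀ ≫ (yon S).map ι₀ = t := ⟨sq₀.lift _ _ h0, sq₀.lift_fst _ _ _, sq₀.lift_snd _ _ _⟩
      have h1 : (a ≫ pX) ≫ pullback.diagonal (j ≫ g) = t₀ ≫ uu := by
        apply pullback.hom_ext
        · rw [Category.assoc, pullback.diagonal_fst, Category.comp_id, Category.assoc, huu1, ht₀1]
        · rw [Category.assoc, pullback.diagonal_snd, Category.comp_id, Category.assoc, huu2,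
            ← Category.assoc, ht₀2, ha1]
      obtain ⟨e, he1, he2⟩ : ∃ e : (yon S).obj A ⟶ (yon S).obj E, e ≫ ε = a ≫ pX ∧
          e ≫ (yon S).map κ = t₀ := ⟨sqE.lift _ _ h1, sqE.lift_fst _ _ _, sqE.lift_snd _ _ _⟩
      refine ⟨e, ?_, ?_⟩
      · apply hPX.hom_ext
        · rw [Category.assoc, hℓ1, he1]
        · rw [Category.assoc, hℓ2, Functor.map_comp, ← Category.assoc, ← Category.assoc, he2,
            ht₀2, ha2]
      · rw [Functor.map_comp, ← Category.assoc, he2, ht₀2]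
  refine ⟨E, ℓ, κ ≫ ι₀, sq, ?_⟩
  change IsClosedImmersion (κ.left ≫ ι₀.left)
  have : IsPreimmersion (κ.left ≫ ι₀.left) := inferInstance
  apply IsClosedImmersion.of_isPreimmersion
  have h := Points.ofPt_preimage_image sq Set.univ
  rw [Set.preimage_univ, Set.image_univ, Set.image_univ] at h
  have hcl' : IsClosed (Set.range (Points.map c)) := by
    rw [← Set.image_univ]
    exact hcl _ isClosed_univ
  have := hcl'.preimage (Points.continuous_ofPt y)
  rw [h] at this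
  exact this

end C

section Main
variable {U V X Y PX PY QX QY : Sp S} (g : X ⟶ Y) (j : U ⟶ X) (f : V ⟶ X)

set_option backward.isDefEq.respectTransparency.types false in
theorem isSeparatedMor (hX : IsAlgSpace X) (hY : IsAlgSpace Y) (hV : IsAlgSpace V)
    (hsq : IsElemDistSq j f) (hU : IsSeparatedMor (j ≫ g))
    {pX : PX ⟶ U} {qX : PX ⟶ V} (hPX : IsPullback pX qX j f)
    {pY : PY ⟶ U} {qY : PY ⟶ V} (hPY : IsPullback pY qY (j ≫ g) (f ≫ g))
    (c : PX ⟶ PY) (hc₁ : c ≫ pY = pX) (hc₂ : c ≫ qY = qX) (hcl : IsClosedMor c)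
    {rX₁ rX₂ : QX ⟶ V} (hQX : IsPullback rX₁ rX₂ f f)
    {rY₁ rY₂ : QY ⟶ V} (hQY : IsPullback rY₁ rY₂ (f ≫ g) (f ≫ g))
    (d : QX ⟶ QY) (hd₁ : d ≫ rY₁ = rX₁) (hd₂ : d ≫ rY₂ = rX₂)
    (hdcl : RepWith @IsClosedImmersion d) : IsSeparatedMor g := by
  have hj : RepWith @IsOpenImmersion j := hsq.1
  have hjm : Mono j := InfNbhd.mono_of_repWith_openImmersion j hj
  have hc : RepWith @IsClosedImmersion c := repWith_c hj hU hPX hPY c hc₁ hc₂ hcl
  let Duu : Piece g :=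
    { A₁ := U, A₂ := U, BX := U, BY := pullback (j ≫ g) (j ≫ g), α₁ := j, α₂ := j
      a₁ := 𝟙 U, a₂ := 𝟙 U, hBX := IsKernelPair.id_of_mono j
      b₁ := pullback.fst _ _, b₂ := pullback.snd _ _, hBY := IsPullback.of_hasPullback _ _
      m := pullback.diagonal (j ≫ g), hm₁ := pullback.diagonal_fst _
      hm₂ := pullback.diagonal_snd _ }
  let Duv : Piece g :=
    { A₁ := U, A₂ := V, BX := PX, BY := PY, α₁ := j, α₂ := f, a₁ := pX, a₂ := qX, hBX := hPX
      b₁ := pY, b₂ := qY, hBY := hPY, m := c, hm₁ := hc₁, hm₂ := hc₂ }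
  let Dvu : Piece g :=
    { A₁ := V, A₂ := U, BX := PX, BY := PY, α₁ := f, α₂ := j, a₁ := qX, a₂ := pX
      hBX := hPX.flip, b₁ := qY, b₂ := pY, hBY := hPY.flip, m := c, hm₁ := hc₂, hm₂ := hc₁ }
  let Dvv : Piece g :=
    { A₁ := V, A₂ := V, BX := QX, BY := QY, α₁ := f, α₂ := f, a₁ := rX₁, a₂ := rX₂, hBX := hQX
      b₁ := rY₁, b₂ := rY₂, hBY := hQY, m := d, hm₁ := hd₁, hm₂ := hd₂ }
  let D : ULift.{u} (Bool × Bool) → Piece g := fun i =>
    match i.down with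
    | (true, true) => Duu
    | (true, false) => Duv
    | (false, true) => Dvu
    | (false, false) => Dvv
  have hXX : IsAlgSpace (pullback g g) :=
    isAlgSpace_of_isPullback' hY hX hX (IsPullback.of_hasPullback g g)
  have hcov : HasStdRefinement (fun i => (D i).BY) (fun i => (D i).toXX) := by
    refine StdRef.hasStdRefinement_of_jointly _ _ fun T x => ?_
    obtain ⟨Sv₁, hSv₁, h₁⟩ := ElemDist.exists_cover hV hsq T (x ≫ pullback.fst g g)
    obtain ⟨Sv₂, hSv₂, h₂⟩ := ElemDist.exists_cover hV hsq T (x ≫ pullback.snd g g)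
    refine ⟨Sv₁ ⊓ Sv₂, (J S).intersection_covering hSv₁ hSv₂, fun T' k hk => ?_⟩
    rcases h₁ k hk.1 with ⟨u₁, hu₁⟩ | ⟨v₁, hv₁⟩ <;> rcases h₂ k hk.2 with ⟨u₂, hu₂⟩ | ⟨v₂, hv₂⟩
    · obtain ⟨l, hl⟩ := Duu.exists_lift ((yon S).map k ≫ x) u₁ u₂
        (by rw [Category.assoc]; exact hu₁) (by rw [Category.assoc]; exact hu₂)
      exact ⟨⟨(true, true)⟩, l, hl⟩
    · obtain ⟨l, hl⟩ := Duv.exists_lift ((yon S).map k ≫ x) u₁ v₂
        (by rw [Category.assoc]; exact hu₁) (by rw [Category.assoc]; exact hv₂)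
      exact ⟨⟨(true, false)⟩, l, hl⟩
    · obtain ⟨l, hl⟩ := Dvu.exists_lift ((yon S).map k ≫ x) v₁ u₂
        (by rw [Category.assoc]; exact hv₁) (by rw [Category.assoc]; exact hu₂)
      exact ⟨⟨(false, true)⟩, l, hl⟩
    · obtain ⟨l, hl⟩ := Dvv.exists_lift ((yon S).map k ≫ x) v₁ v₂
        (by rw [Category.assoc]; exact hv₁) (by rw [Category.assoc]; exact hv₂)
      exact ⟨⟨(false, false)⟩, l, hl⟩
  have hp : ∀ i, RepWith @IsClosedImmersion (D i).m := by
    rintro ⟨⟨b₁, b₂⟩⟩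
    cases b₁ <;> cases b₂
    · exact hdcl
    · exact hc
    · exact hc
    · exact hU
  exact StdRef.repWith_of_stdRefinement @IsClosedImmersion
    (fun A B k hk => by have : IsClosedImmersion k := hk; infer_instance)
    (fun i => (D i).BY) (fun i => (D i).toXX) hXX hcov (pullback.diagonal g) hX
    (fun i => (D i).BX) (fun i => (D i).m) (fun i => (D i).a₁ ≫ (D i).α₁)
    (fun i => (D i).isPullback) hp

end Main

end Groth.Agent.Lib.Helper15.ElemDistSep
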