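import Groth.Agent.Lib.Helper15.FibDimSp
import Groth.Agent.Lib.Helper15.FieldBase
import Groth.Agent.Lib.Helper3.AlgSpEtPoint
import Groth.Agent.Lib.lead.GrpdEquidim

set_option autoImplicit false
set_option backward.isDefEq.respectTransparency.types false
universe u
open CategoryTheory CategoryTheory.Limits AlgebraicGeometry Opposite
open AlgSp

namespace Groth.Agent.Lib.Helper15.EquidimSp

open Groth.Agent.Lib.Helper3 Groth.Agent.Lib.Helper15

variable {S : Scheme.{u}}

/-- Base change of a space locally of finite type over a field along a field extension does not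
change the local dimension of charts. -/
theorem localDim_chart_baseChange_field {X U : Sp S} (hX : IsAlgSpace X) (k : Type u) [Field k]
    (σ : Spec (CommRingCat.of k) ⟶ S) (eU : U ≅ (yon S).obj (Over.mk σ)) (p : X ⟶ U)
    (hp : LocP @LocallyOfFiniteType p)
    (K : Type u) [Field K] (str : Spec (CommRingCat.of K) ⟶ S)
    (τ : (yon S).obj (Over.mk str) ⟶ U)
    {Xk : Sp S} (fst : Xk ⟶ X) (snd : Xk ⟶ (yon S).obj (Over.mk str))
    (sq : IsPullback fst snd p τ)
    {W : Over S} (c : (yon S).obj W ⟶ Xk) (hc : RepWith @Etale c) (w : ↥W.left)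
    {V : Over S} (a : (yon S).obj V ⟶ X) (ha : RepWith @Etale a) (v : ↥V.left)
    (hv : Points.ofPt a v = Points.map fst (Points.ofPt c w)) :
    FlatMor.localDim ↥W.left w = FlatMor.localDim ↥V.left v := by
  have hU : IsAlgSpace U := (IsAlgSpace.yon_obj (Over.mk σ)).of_iso eU.symm
  let kP : FieldPt U := fieldPtOfHom K str τ
  have hkP : kP.toHom = τ := toHom_fieldPtOfHom K str τ
  have sq' : IsPullback fst (snd : Xk ⟶ (yon S).obj kP.pt) p kP.toHom := by
    rw [hkP]; exact sq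
  obtain ⟨h, hh⟩ := (yon S).map_surjective (a ≫ p ≫ eU.hom)
  have hw : a ≫ p = (yon S).map h ≫ eU.inv := by
    rw [hh, Category.assoc, Category.assoc, eU.hom_inv_id, Category.comp_id]
  have e1 := FibDimSp.localDim_chart_fibre_eq hX hU p hp kP fst snd sq' c hc w a eU.inv h ha
    (FieldBase.repWith_etale_of_isIso _) hw v hv
  haveI : Subsingleton ↥(Over.mk σ).left := inferInstanceAs (Subsingleton (PrimeSpectrum k))
  rw [e1]
  exact Groth.Agent.Lib.lead.HomogDim.fibreDimAt_eq_localDim h.left v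

/-- Homogeneity criterion: if every point of `X` (locally of finite type over a field) can be
reached from a fixed point `x₀` by an isomorphism between base changes of `X` to a field, then the
local dimension of `X` at every point is the dimension of `X`. -/
theorem hasAt_localDim_eq_dim_of_homogeneous {X U : Sp S} (hX : IsAlgSpace X) (k : Type u) [Field k]
    (σ : Spec (CommRingCat.of k) ⟶ S) (eU : U ≅ (yon S).obj (Over.mk σ)) (p : X ⟶ U)
    (hp : LocP @LocallyOfFiniteType p) (x₀ : Points X)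
    (H : ∀ x : Points X, ∃ (K : Type u) (_ : Field K) (str : Spec (CommRingCat.of K) ⟶ S)
      (τ₁ τ₂ : (yon S).obj (Over.mk str) ⟶ U) (X₁ X₂ : Sp S) (f₁ : X₁ ⟶ X)
      (s₁ : X₁ ⟶ (yon S).obj (Over.mk str)) (f₂ : X₂ ⟶ X) (s₂ : X₂ ⟶ (yon S).obj (Over.mk str))
      (_ : IsPullback f₁ s₁ p τ₁) (_ : IsPullback f₂ s₂ p τ₂) (Φ : X₁ ≅ X₂) (P₁ : Points X₁),
      Points.map f₁ P₁ = x₀ ∧ Points.map f₂ (Points.map Φ.hom P₁) = x)
    (x : Points X) :
    HasAt (fun V v => FlatMor.localDim ↥V v = AlgSp.dim X) X x := by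
  have hU : IsAlgSpace U := (IsAlgSpace.yon_obj (Over.mk σ)).of_iso eU.symm
  obtain ⟨V₀, a₀, ha₀e, ha₀s⟩ := hX.atlas
  obtain ⟨v₀, hv₀⟩ := exists_ofPt_eq a₀ ha₀s x₀
  -- all local dimensions agree with the one at `x₀`
  have key : ∀ (V : Over S) (a : (yon S).obj V ⟶ X), RepWith @Etale a → ∀ v : ↥V.left,
      FlatMor.localDim ↥V.left v = FlatMor.localDim ↥V₀.left v₀ := by
    intro V a hae v
    obtain ⟨K, _, str, τ₁, τ₂, X₁, X₂, f₁, s₁, f₂, s₂, sq₁, sq₂, Φ, P₁, hP₁, hP₂⟩ :=
      H (Points.ofPt a v)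
    have hK : IsAlgSpace ((yon S).obj (Over.mk str)) := IsAlgSpace.yon_obj _
    have hX₁ : IsAlgSpace X₁ := isAlgSpace_of_isPullback' hU hX hK sq₁
    obtain ⟨W, c, hce, hcs⟩ := hX₁.atlas
    obtain ⟨w, hw⟩ := exists_ofPt_eq c hcs P₁
    have e1 := localDim_chart_baseChange_field hX k σ eU p hp K str τ₁ f₁ s₁ sq₁ c hce w a₀ ha₀e v₀
      (by rw [hw, hP₁, hv₀])
    have hce' : RepWith @Etale (c ≫ Φ.hom) :=
      MorphismProperty.comp_mem _ _ _ hce (FieldBase.repWith_etale_of_isIso _)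
    have e2 := localDim_chart_baseChange_field hX k σ eU p hp K str τ₂ f₂ s₂ sq₂ (c ≫ Φ.hom) hce' w
      a hae v (by rw [← Points.map_ofPt, hw, hP₂])
    rw [← e2, e1]
  -- the common value is a natural number
  obtain ⟨h₀, hh₀⟩ := (yon S).map_surjective (a₀ ≫ p ≫ eU.hom)
  have hw₀ : a₀ ≫ p = (yon S).map h₀ ≫ eU.inv := by
    rw [hh₀, Category.assoc, Category.assoc, eU.hom_inv_id, Category.comp_id]
  haveI : LocallyOfFiniteType h₀.left :=
    hp a₀ eU.inv h₀ ha₀e (FieldBase.repWith_etale_of_isIso _) hw₀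
  letI : V₀.left.Over (Spec (CommRingCat.of k)) := ⟨h₀.left⟩
  haveI : LocallyOfFiniteType (V₀.left ↘ Spec (CommRingCat.of k)) :=
    ‹LocallyOfFiniteType h₀.left›
  obtain ⟨n, hn, -⟩ := Groth.Agent.Lib.lead.GrpdEquidim.exists_nat_localDim k V₀.left v₀
  have hdim : AlgSp.dim X = (n : WithBot ℕ∞) := by
    apply le_antisymm
    · unfold AlgSp.dim
      refine iSup_le fun V => iSup_le fun a => iSup_le fun hae => ?_
      apply FibDimSp.topologicalKrullDim_le_of_localDim_le
      intro v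
      rw [key V a hae v, hn]
    · rw [← hn]
      have h1 : FlatMor.localDim ↥V₀.left v₀ ≤ topologicalKrullDim ↥V₀.left :=
        Groth.Agent.Lib.Helper21.TopDim.localDim_le v₀
      refine h1.trans ?_
      unfold AlgSp.dim
      exact le_iSup_of_le V₀ (le_iSup_of_le a₀ (le_iSup_of_le ha₀e le_rfl))
  obtain ⟨V, a, hae, has⟩ := hX.atlas
  obtain ⟨v, hv⟩ := exists_ofPt_eq a has x
  refine ⟨V, a, v, hae, hv, ?_⟩
  show FlatMor.localDim ↥V.left v = AlgSp.dim X
  rw [key V a hae v, hn, hdim]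

end Groth.Agent.Lib.Helper15.EquidimSp
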