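import Mathlib
import Groth.Agent.Lib.Helper22.EtNbField

/-!
# Étale neighbourhoods realizing a finite separable residue field extension

`exists_etale_nbhd s K`: for a point `s` of a scheme `S` and a finite separable extension `K` of
`κ(s)` there are an affine scheme `U`, an étale `g : U ⟶ S`, a point `u` over `s` and an
isomorphism `Spec K ≅ Spec κ(u)` over `S`.
-/

set_option autoImplicit false
universe u

namespace Groth.Agent.Lib.Helper15.EtNbRes

open Polynomial AlgebraicGeometry CategoryTheory

/-- ring-level: a finite separable extension of a "fraction-type" residue field is realized by an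
étale algebra. -/
theorem ring_en (R₀ : Type u) [CommRing R₀] (F K : Type u) [Field F] [Field K] [Algebra R₀ F]
    [Algebra F K] [Algebra R₀ K] [IsScalarTower R₀ F K] [FiniteDimensional F K]
    [Algebra.IsSeparable F K]
    (hfrac : ∀ c : F, ∃ a b : R₀, algebraMap R₀ F b ≠ 0 ∧
      c * algebraMap R₀ F b = algebraMap R₀ F a) :
    ∃ (R' : Type u) (_ : CommRing R') (_ : Algebra R₀ R') (_ : Algebra.Etale R₀ R')
      (φ : R' →ₐ[R₀] K), ∀ x : K, ∃ a b : R', φ b ≠ 0 ∧ x * φ b = φ a := by
  obtain ⟨z, hz⟩ := Field.exists_primitive_element F K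
  have hsep : IsSeparable F z := Algebra.IsSeparable.isSeparable F z
  obtain ⟨s, hs, f, hfmonic, hfroot, hfder⟩ :=
    Groth.Agent.Lib.Helper22.EtNbField.exists_monic_lift R₀ F K hfrac z hsep
  let PP : StandardEtalePair R₀ := ⟨f, hfmonic, derivative f, ⟨1, 0, 1, by simp⟩⟩
  have hmap : PP.HasMap (s • z) := ⟨hfroot, IsUnit.mk0 _ hfder⟩
  let φ : PP.Ring →ₐ[R₀] K := PP.lift _ hmap
  refine ⟨PP.Ring, inferInstance, inferInstance, inferInstance, φ, ?_⟩
  -- the subfield generated by the range of φ
  let L : Subfield K := Subfield.closure (Set.range φ)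
  have hrange : Subring.closure (Set.range φ) = φ.toRingHom.range := by
    have : Set.range φ = (φ.toRingHom.range : Set K) := by
      ext x; simp
    rw [this, Subring.closure_eq]
  have hF : ∀ c : F, algebraMap F K c ∈ L := by
    intro c
    obtain ⟨a, b, hb, hab⟩ := hfrac c
    have e : algebraMap F K c = algebraMap R₀ K a / algebraMap R₀ K b := by
      rw [IsScalarTower.algebraMap_apply R₀ F K a, IsScalarTower.algebraMap_apply R₀ F K b,
        ← hab, map_mul, mul_div_assoc, div_self, mul_one]
      exact (map_ne_zero_iff _ (algebraMap F K).injective).2 hb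
    rw [e]
    apply L.div_mem
    · apply Subfield.subset_closure
      exact ⟨algebraMap R₀ PP.Ring a, φ.commutes a⟩
    · apply Subfield.subset_closure
      exact ⟨algebraMap R₀ PP.Ring b, φ.commutes b⟩
  have hsz : s • z ∈ L := by
    apply Subfield.subset_closure
    exact ⟨PP.X, PP.lift_X _ hmap⟩
  have hzL : z ∈ L := by
    have h1 : s • z = algebraMap F K (algebraMap R₀ F s) * z := by
      rw [Algebra.smul_def, IsScalarTower.algebraMap_apply R₀ F K]
    have h2 : z = (algebraMap F K (algebraMap R₀ F s))⁻¹ * (s • z) := by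
      rw [h1, ← mul_assoc, inv_mul_cancel₀, one_mul]
      exact (map_ne_zero_iff _ (algebraMap F K).injective).2 hs
    rw [h2]
    exact L.mul_mem (L.inv_mem (hF _)) hsz
  let L' : IntermediateField F K := { L with algebraMap_mem' := hF }
  have hL' : L' = ⊤ := by
    rw [eq_top_iff, ← hz, IntermediateField.adjoin_simple_le_iff]
    exact hzL
  intro x
  have hx : x ∈ L := by
    have : x ∈ L' := by rw [hL']; trivial
    exact this
  obtain ⟨y, hy, w, hw, rfl⟩ := Subfield.mem_closure_iff.1 hx
  rw [hrange] at hy hw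
  obtain ⟨a, rfl⟩ := hy
  obtain ⟨b, rfl⟩ := hw
  by_cases hb : φ b = 0
  · refine ⟨0, 1, ?_, ?_⟩
    · rw [map_one]; exact one_ne_zero
    · change φ.toRingHom a / φ.toRingHom b * φ 1 = φ 0
      have : φ.toRingHom b = 0 := hb
      rw [this, div_zero, zero_mul, map_zero]
  · refine ⟨a, b, hb, ?_⟩
    change φ a / φ b * φ b = φ a
    rw [div_mul_cancel₀ _ hb]

/-- fractions in the residue field of a point of an affine open -/
theorem hfrac_evaluation {S : Scheme.{u}} (s : S) (V : S.Opens) (hV : IsAffineOpen V) (hs : s ∈ V)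
    (c : S.residueField s) :
    ∃ a b : Γ(S, V), (S.evaluation V s hs).hom b ≠ 0 ∧
      c * (S.evaluation V s hs).hom b = (S.evaluation V s hs).hom a := by
  letI algA := S.presheaf.algebra_section_stalk ⟨s, hs⟩
  haveI hloc := hV.isLocalization_stalk ⟨s, hs⟩
  obtain ⟨x, rfl⟩ := S.residue_surjective s c
  obtain ⟨⟨a, b⟩, hab⟩ := IsLocalization.surj (hV.primeIdealOf ⟨s, hs⟩).asIdeal.primeCompl x
  simp only at hab
  have hev : ∀ r : Γ(S, V), (S.evaluation V s hs).hom r =
      (S.residue s).hom (algebraMap Γ(S, V) (S.presheaf.stalk s) r) := fun r => rfl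
  refine ⟨a, b, ?_, ?_⟩
  · rw [hev]
    have hu : IsUnit (algebraMap Γ(S, V) (S.presheaf.stalk s) (b : Γ(S, V))) :=
      IsLocalization.map_units _ b
    exact (hu.map (S.residue s).hom).ne_zero
  · rw [hev, hev, ← map_mul, hab]

/-- Every finite separable extension of the residue field of a point is the residue field of a
point of an affine étale neighbourhood. -/
theorem exists_etale_nbhd {S : Scheme.{u}} (s : S) (K : Type u) [Field K]
    [Algebra (S.residueField s) K] [FiniteDimensional (S.residueField s) K]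
    [Algebra.IsSeparable (S.residueField s) K] :
    ∃ (U : Scheme.{u}) (g : U ⟶ S) (u : U) (e : Spec (.of K) ≅ Spec (U.residueField u)),
      IsAffine U ∧ Etale g ∧ g u = s ∧
      e.hom ≫ U.fromSpecResidueField u ≫ g =
        Spec.map (CommRingCat.ofHom (algebraMap (S.residueField s) K)) ≫
          S.fromSpecResidueField s := by
  obtain ⟨_, ⟨V, hV, rfl⟩, hs, -⟩ :=
    S.isBasis_affineOpens.exists_subset_of_mem_open (Set.mem_univ s) isOpen_univ
  let ev := (S.evaluation V s hs).hom
  letI algF : Algebra Γ(S, V) (S.residueField s) := ev.toAlgebra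
  letI algK : Algebra Γ(S, V) K := ((algebraMap (S.residueField s) K).comp ev).toAlgebra
  haveI : IsScalarTower Γ(S, V) (S.residueField s) K :=
    IsScalarTower.of_algebraMap_eq (fun _ => rfl)
  obtain ⟨R', _, _, _, φ, hφ⟩ :=
    ring_en Γ(S, V) (S.residueField s) K (hfrac_evaluation s V hV hs)
  let U : Scheme.{u} := Spec (.of R')
  let g : U ⟶ S := Spec.map (CommRingCat.ofHom (algebraMap Γ(S, V) R')) ≫ hV.fromSpec
  let φc : CommRingCat.of R' ⟶ CommRingCat.of K := CommRingCat.ofHom φ.toRingHom
  let c : Spec (.of K) ⟶ U := Spec.map φc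
  let u : U := c (IsLocalRing.closedPoint K)
  let ψ : U.residueField u ⟶ .of K := U.descResidueField (Scheme.stalkClosedPointTo c)
  have hψc : Spec.map ψ ≫ U.fromSpecResidueField u = c :=
    Scheme.descResidueField_stalkClosedPointTo_fromSpecResidueField K U c
  have key : (Scheme.ΓSpecIso (.of R')).inv ≫ U.evaluation ⊤ u trivial ≫ ψ = φc := by
    rw [← Scheme.germ_residue, Category.assoc, Scheme.residue_descResidueField,
      Scheme.germ_stalkClosedPointTo_Spec, Iso.inv_hom_id_assoc]
  have key' : ∀ r : R', ψ.hom ((U.evaluation ⊤ u trivial).hom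
      ((Scheme.ΓSpecIso (.of R')).inv.hom r)) = φ r := by
    intro r
    exact congrArg (fun h => h.hom r) key
  have hinj : Function.Injective ψ.hom := ψ.hom.injective
  have hsurj : Function.Surjective ψ.hom := by
    intro x
    obtain ⟨a, b, hb, hab⟩ := hφ x
    refine ⟨(U.evaluation ⊤ u trivial).hom ((Scheme.ΓSpecIso (.of R')).inv.hom a) /
      (U.evaluation ⊤ u trivial).hom ((Scheme.ΓSpecIso (.of R')).inv.hom b), ?_⟩
    rw [map_div₀, key', key', ← hab, mul_div_assoc, div_self hb, mul_one]
  haveI : IsIso ψ := (ConcreteCategory.isIso_iff_bijective ψ).2 ⟨hinj, hsurj⟩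
  let e : Spec (.of K) ≅ Spec (U.residueField u) := asIso (Spec.map ψ)
  have heq : e.hom ≫ U.fromSpecResidueField u ≫ g =
      Spec.map (CommRingCat.ofHom (algebraMap (S.residueField s) K)) ≫
        S.fromSpecResidueField s := by
    have h1 : e.hom ≫ U.fromSpecResidueField u = c := hψc
    rw [← Category.assoc, h1]
    have h2 : S.fromSpecResidueField s = Spec.map (S.evaluation V s hs) ≫ hV.fromSpec := by
      rw [← Scheme.germ_residue, Spec.map_comp, Category.assoc]
      change _ = _ ≫ hV.fromSpecStalk hs
      rw [IsAffineOpen.fromSpecStalk_eq_fromSpecStalk]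
      rfl
    rw [h2]
    change Spec.map φc ≫ Spec.map _ ≫ hV.fromSpec = _
    rw [← Category.assoc, ← Category.assoc, ← Spec.map_comp, ← Spec.map_comp]
    congr 2
    ext r
    exact φ.commutes r
  refine ⟨U, g, u, e, inferInstance, ?_, ?_, heq⟩
  · haveI : Etale (Spec.map (CommRingCat.ofHom (algebraMap Γ(S, V) R'))) := by
      rw [HasRingHomProperty.Spec_iff (P := @Etale)]
      exact RingHom.etale_algebraMap.mpr inferInstance
    infer_instance
  · have := congrArg (fun h => h (IsLocalRing.closedPoint K)) heq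
    simp only [Scheme.Hom.comp_apply, Scheme.fromSpecResidueField_apply] at this
    rw [this, Scheme.fromSpecResidueField_apply]

end Groth.Agent.Lib.Helper15.EtNbRes
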