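import Groth.Prelude.Def_AlgSpOX2
import Groth.Agent.Lib.Helper3.AlgSpEtTopIff

set_option autoImplicit false
set_option backward.isDefEq.respectTransparency false
universe u
open CategoryTheory CategoryTheory.Limits AlgebraicGeometry Opposite
open AlgSp

namespace Groth.Agent.Lib.Helper15.EtOverGlue

variable {S : Scheme.{u}} {X : Sp S}

/-- the scheme over `S` given by a morphism of schemes into the scheme underlying `P` -/
abbrev subOver (P : EtOver X) {W : Scheme.{u}} (w : W ⟶ P.obj.left.left) : Over S :=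
  Over.mk (w ≫ P.obj.left.hom)

abbrev subOverHom (P : EtOver X) {W : Scheme.{u}} (w : W ⟶ P.obj.left.left) :
    subOver P w ⟶ P.obj.left := Over.homMk w rfl

theorem repWith_sub (P : EtOver X) {W : Scheme.{u}} (w : W ⟶ P.obj.left.left) [Etale w] :
    RepWith @Etale ((yon S).map (subOverHom P w) ≫ P.obj.hom) := by
  refine (repWith_isMultiplicative (S := S) @Etale).comp_mem _ _ ?_ P.property
  rw [repWith_yon_map_iff]
  exact (inferInstance : Etale w)

/-- the object of the small etale site of `X` given by an etale morphism into (the scheme of) `P` -/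
noncomputable def sub (P : EtOver X) {W : Scheme.{u}} (w : W ⟶ P.obj.left.left) [Etale w] :
    EtOver X :=
  EtOver.mk _ (repWith_sub P w)

noncomputable def subι (P : EtOver X) {W : Scheme.{u}} (w : W ⟶ P.obj.left.left) [Etale w] :
    sub P w ⟶ P :=
  EtOver.homMk (subOverHom P w) rfl

@[simp] theorem subι_left (P : EtOver X) {W : Scheme.{u}} (w : W ⟶ P.obj.left.left) [Etale w] :
    (subι P w).hom.left.left = w := rfl

theorem sub_left (P : EtOver X) {W : Scheme.{u}} (w : W ⟶ P.obj.left.left) [Etale w] :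
    (sub P w).obj.left.left = W := rfl

/-- a morphism into `sub P w` from a factorization on schemes -/
noncomputable def subLift (P : EtOver X) {W : Scheme.{u}} (w : W ⟶ P.obj.left.left) [Etale w]
    {Q : EtOver X} (g : Q ⟶ P) (k : Q.obj.left.left ⟶ W) (hk : k ≫ w = g.hom.left.left) :
    Q ⟶ sub P w :=
  EtOver.homMk (Over.homMk k (by
    change k ≫ w ≫ P.obj.left.hom = Q.obj.left.hom
    rw [← Category.assoc, hk]
    exact Over.w g.hom.left)) (by
    change (yon S).map _ ≫ (yon S).map (subOverHom P w) ≫ P.obj.hom = Q.obj.hom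
    rw [← Category.assoc, ← Functor.map_comp]
    have : (Over.homMk k (by
        change k ≫ w ≫ P.obj.left.hom = Q.obj.left.hom
        rw [← Category.assoc, hk]
        exact Over.w g.hom.left) : Q.obj.left ⟶ subOver P w) ≫ subOverHom P w = g.hom.left := by
      ext : 1
      exact hk
    rw [this]
    exact EtOver.w g)

theorem subLift_ι (P : EtOver X) {W : Scheme.{u}} (w : W ⟶ P.obj.left.left) [Etale w]
    {Q : EtOver X} (g : Q ⟶ P) (k : Q.obj.left.left ⟶ W) (hk : k ≫ w = g.hom.left.left) :
    subLift P w g k hk ≫ subι P w = g := by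
  apply EtOver.hom_ext
  ext : 1
  exact hk

theorem subι_mono (P : EtOver X) {W : Scheme.{u}} (w : W ⟶ P.obj.left.left) [Etale w] [Mono w]
    {Q : EtOver X} (g g' : Q ⟶ sub P w) (h : g ≫ subι P w = g' ≫ subι P w) : g = g' := by
  apply EtOver.hom_ext
  ext : 1
  have h1 := congrArg (fun φ => φ.hom.left.left) h
  change g.hom.left.left ≫ w = g'.hom.left.left ≫ w at h1
  exact (cancel_mono w).1 h1

/-- sections of a sheaf over an object with empty underlying scheme -/
theorem subsingleton_of_isEmpty (G : EtSh X (Type (u + 1))) (Q : EtOver X)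
    [IsEmpty ↥Q.obj.left.left] : Subsingleton (G.obj.obj (op Q)) := by
  have hbot : (⊥ : Sieve Q) ∈ etTop X Q := by
    rw [Groth.Agent.Lib.Helper3.mem_etTop_iff_pointwise]
    intro x
    exact (IsEmpty.false x).elim
  have hs := (isSheaf_iff_isSheaf_of_type _ _).1 G.property (⊥ : Sieve Q) hbot
  refine ⟨fun a b => ?_⟩
  exact hs.isSeparatedFor.ext (fun Z f hf => hf.elim)

variable (G : EtSh X (Type (u + 1))) (P : EtOver X) {μ : Type u} (W : μ → P.obj.left.left.Opens)

/-- gluing sections over a disjoint open cover -/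
theorem existsUnique_glue (hdisj : ∀ a b, a ≠ b → Disjoint (W a) (W b)) (hcov : (⨆ a, W a) = ⊤)
    (t : ∀ a, G.obj.obj (op (sub P (W a).ι))) :
    ∃! s : G.obj.obj (op P), ∀ a, G.obj.map (subι P (W a).ι).op s = t a := by
  have hmem : Sieve.ofArrows (fun a => sub P (W a).ι) (fun a => subι P (W a).ι) ∈ etTop X P := by
    refine ofArrows_mem_etTop _ _ fun x => ?_
    have hx : x ∈ ((⨆ a, W a : P.obj.left.left.Opens) : Set _) := by rw [hcov]; trivial
    rw [TopologicalSpace.Opens.coe_iSup] at hx
    obtain ⟨a, ha⟩ := Set.mem_iUnion.1 hx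
    refine ⟨a, ?_⟩
    change x ∈ Set.range (W a).ι
    rw [Scheme.Opens.range_ι]
    exact ha
  have hs := (isSheaf_iff_isSheaf_of_type _ _).1 G.property _ hmem
  rw [← Presieve.isSheafFor_iff_generate, Presieve.isSheafFor_arrows_iff] at hs
  refine hs t ?_
  intro a b Z ga gb hab
  by_cases h : a = b
  · subst h
    rw [subι_mono P (W a).ι ga gb hab]
  · haveI : IsEmpty ↥Z.obj.left.left := by
      refine ⟨fun z => ?_⟩
      have h1 := congrArg (fun φ => φ.hom.left.left) hab
      change ga.hom.left.left ≫ (W a).ι = gb.hom.left.left ≫ (W b).ι at h1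
      have h2 : (ga.hom.left.left ≫ (W a).ι) z = (gb.hom.left.left ≫ (W b).ι) z := by rw [h1]
      have ha : (ga.hom.left.left ≫ (W a).ι) z ∈ W a := (ga.hom.left.left z).2
      have hb : (gb.hom.left.left ≫ (W b).ι) z ∈ W b := (gb.hom.left.left z).2
      rw [← h2] at hb
      exact (hdisj a b h).le_bot ⟨ha, hb⟩
    exact (subsingleton_of_isEmpty G Z).elim _ _

end Groth.Agent.Lib.Helper15.EtOverGlue
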