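import Groth.Agent.Lib.Helper3.EtSplitQF
import Groth.Agent.Lib.Helper3.AlgSpZarDecent
import Groth.Agent.Lib.Helper3.AlgSpOpenSub
import Groth.Agent.Lib.Helper15.AlgSpLocus
import Groth.Agent.Lib.helper19.QFL6
import Groth.Agent.Lib.lead.QFFinSp
import Groth.Agent.S10389

set_option autoImplicit false
universe u
open CategoryTheory CategoryTheory.Limits AlgebraicGeometry Opposite MorphismProperty
open AlgSp

namespace Groth.Agent.Lib.Helper15.EtSplitMulti

open Groth.Agent.Lib.Helper3 Groth.Agent.Lib.Helper15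
set_option backward.isDefEq.respectTransparency.types false

variable {S : Scheme.{u}}

section LocusLocP

variable {P : MorphismProperty Scheme.{u}} (hP : IsEtLocal P)
include hP

/-- on the open subspace of points near which `f` has `P`, `f` has `P` -/
theorem locP_openSub_locus [IsZariskiLocalAtSource P] {X Y : Sp S} (hX : IsAlgSpace X)
    (hY : IsAlgSpace Y) (f : X ⟶ Y) :
    LocP P (openSubι X {x | HasAtMor (NbhdQ P) f x} ≫ f) := by
  set O : Set (Points X) := {x | HasAtMor (NbhdQ P) f x} with hOdef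
  have hO : IsOpen O := AlgSpLocus.isOpen_hasAtMor hP hX hY f
  have hj := repWith_isOpenImmersion_openSubι X O hO
  have hX' : IsAlgSpace (openSub X O) := isAlgSpace_openSub hX O hO
  haveI : Mono (openSubι X O) := mono_of_repWith_isOpenImmersion _ hj
  apply locP_of_forall_hasAtMor hP hX' hY
  intro x'
  have hx : Points.map (openSubι X O) x' ∈ O :=
    (range_map_openSubι X O).subset ⟨x', rfl⟩
  obtain ⟨X₁, hX₁, j₁, hj₁, ⟨x₁, hx₁⟩, hloc⟩ := exists_open_subspace_of_hasAtMor hP hX f _ hx
  have hsub : Set.range (Points.map j₁) ⊆ Set.range (Points.map (openSubι X O)) := by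
    rw [range_map_openSubι X O]
    rintro _ ⟨z, rfl⟩
    exact hasAtMor_of_open_subspace hP hX₁ hY f _ j₁ hj₁ ⟨z, rfl⟩ hloc
  obtain ⟨k, hk⟩ := exists_factor_of_range_subset _ hj j₁ hsub
  have sqk : IsPullback (𝟙 X₁) k j₁ (openSubι X O) := by
    refine ⟨⟨by rw [Category.id_comp, hk]⟩, ⟨PullbackCone.IsLimit.mk _ (fun s => s.fst) ?_ ?_ ?_⟩⟩
    · intro s; simp
    · intro s
      rw [← cancel_mono (openSubι X O), Category.assoc, hk, s.condition]
    · intro s m h1 _
      simpa using h1
  have hk' : RepWith @IsOpenImmersion k := MorphismProperty.of_isPullback sqk hj₁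
  refine hasAtMor_of_open_subspace hP hX₁ hY _ x' k hk' ⟨x₁, ?_⟩ ?_
  · apply Points.map_injective_of_mono (openSubι X O)
    rw [← Points.map_comp, hk, hx₁]
  · rw [← Category.assoc, hk]; exact hloc

end LocusLocP

section Sch

open Groth.Agent.Lib.Helper19.QFL Groth.Agent.Lib.Helper19.QFL6

/-- scheme level: etale locally on the base, a finite set of quasi-finite points of a fibre is
split off as the fibre of an open and closed part finite over the base -/
theorem sch_split {X S₀ : Scheme.{u}} (f : X ⟶ S₀) [LocallyOfFiniteType f] [IsSeparated f] (s : S₀)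
    (Z : Set X) (hZfin : Z.Finite) (hZs : ∀ z ∈ Z, f z = s) (hZq : ∀ z ∈ Z, f.QuasiFiniteAt z) :
    ∃ (U : Scheme.{u}) (g : U ⟶ S₀) (u : U), Etale g ∧ g u = s ∧
      ∃ V : (pullback f g).Opens, IsClosed (V : Set ↑(pullback f g)) ∧
        IsFinite (V.ι ≫ pullback.snd f g) ∧
        ∀ w : ↑(pullback f g), pullback.snd f g w = u → (w ∈ V ↔ pullback.fst f g w ∈ Z) := by
  classical
  haveI : Finite ↥Z := hZfin.to_subtype
  obtain ⟨n, ⟨e⟩⟩ := Finite.exists_equiv_fin ↥Z
  let x : Fin n → X := fun i => (e.symm i).1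
  obtain ⟨U, g, u, hg, hu, hres, V, v, h⟩ := main_core_sep f s x
    (fun i => hZs _ (e.symm i).2) (fun i => hZq _ (e.symm i).2)
  obtain ⟨hc, hf⟩ := finite_finsetSup (pullback.snd f g) V (fun i => (h i).2.1)
    (fun i => (h i).2.2.1) Finset.univ
  refine ⟨U, g, u, hg, hu, Finset.univ.sup V, hc, hf, fun w hw => ⟨?_, ?_⟩⟩
  · intro hwV
    rw [Finset.sup_eq_iSup] at hwV
    obtain ⟨i, hi⟩ := TopologicalSpace.Opens.mem_iSup.1 hwV
    obtain ⟨j, hj⟩ := TopologicalSpace.Opens.mem_iSup.1 hi
    obtain ⟨-, -, -, -, h5, h6⟩ := h i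
    rw [h5 w hj hw, h6]
    exact (e.symm i).2
  · intro hwZ
    set i := e ⟨_, hwZ⟩ with hi
    obtain ⟨h1, -, -, h4, -, h6⟩ := h i
    have hxi : x i = pullback.fst f g w := by
      simp only [x, hi, Equiv.symm_apply_apply]
    have hres' : IsIso (g.residueFieldMap (pullback.snd f g (v i))) :=
      isIso_residueFieldMap_of_eq g h4.symm hres
    have hwv : w = v i := eq_of_fst_eq_of_snd_eq f g w (v i) hres' (hxi.symm.trans h6.symm)
      (hw.trans h4.symm)
    have : V i ≤ Finset.univ.sup V := Finset.le_sup (Finset.mem_univ i)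
    exact this (hwv ▸ h1)

end Sch

section Main

open Groth.Agent.Lib.Helper3.EtSplitQF

/-- the quasi-finiteness predicate -/
abbrev PQ : MorphismProperty Scheme.{u} := @LocallyQuasiFinite ⊓ @LocallyOfFiniteType

theorem main10676 {X Y : Sp S} (hX : IsAlgSpace X) (hY : IsAlgSpace Y) (f : X ⟶ Y) (y : Points Y)
    (xs : Set (Points X))
    (hf2 : IsSeparatedMor f)
    (hf3 : ∀ x ∈ xs, HasAtMor (NbhdQ PQ) f x)
    (hfin : ∀ {V₀ : Over S} (b : (yon S).obj V₀ ⟶ Y), RepWith @Etale b → ∀ v₀ : ↥V₀.left,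
      Points.ofPt b v₀ = y → ∀ (W : Sp S) (p : W ⟶ X) (q : W ⟶ (yon S).obj V₀),
        IsPullback p q f b →
          {w : Points W | Points.map q w = Points.ofScheme V₀ v₀ ∧ Points.map p w ∈ xs}.Finite) :
    ∃ (U : Over S) (a : (yon S).obj U ⟶ Y) (u : Points ((yon S).obj U)), IsEtaleMor a ∧
      Points.map a u = y ∧
      ∀ (P : Sp S) (prX : P ⟶ X) (prU : P ⟶ (yon S).obj U), IsPullback prX prU f a →
        ∃ (V : Over S) (jV : (yon S).obj V ⟶ P), RepWith @IsOpenImmersion jV ∧
          RepWith @IsClosedImmersion jV ∧ IsFiniteMor (jV ≫ prU) ∧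
          (∀ v : Points ((yon S).obj V), Points.map (jV ≫ prU) v = u →
            Points.map (jV ≫ prX) v ∈ xs) ∧
          ∀ w : Points P, w ∉ Set.range (Points.map jV) → Points.map prU w = u →
            Points.map prX w ∉ xs := by
  set O : Set (Points X) := {x | HasAtMor (NbhdQ PQ) f x} with hOdef
  have hO : IsOpen O := AlgSpLocus.isOpen_hasAtMor isEtLocal_locallyQuasiFinite hX hY f
  set j := openSubι X O with hjdef
  have hj : RepWith @IsOpenImmersion j := repWith_isOpenImmersion_openSubι X O hO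
  have hX' : IsAlgSpace (openSub X O) := isAlgSpace_openSub hX O hO
  have hrange : Set.range (Points.map j) = O := range_map_openSubι X O
  have hjm : Mono j := mono_of_repWith_isOpenImmersion j hj
  have hloc : LocP PQ (j ≫ f) := locP_openSub_locus isEtLocal_locallyQuasiFinite hX hY f
  have hsep' : IsSeparatedMor (j ≫ f) :=
    isSeparatedMor_comp (S9937.isSeparatedMor_of_mono j) hf2
  have hrep : Representable (j ≫ f) :=
    Rep0418.representable_of_lqf_separated hX' hY _ hloc hsep'
  obtain ⟨V₀, b, hbe, hbs⟩ := hY.atlas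
  obtain ⟨v₀, hv₀⟩ := exists_ofPt_eq b hbs y
  obtain ⟨Q₀, q₀, fstQ, sqQ⟩ : ∃ (Q₀ : Over S) (q₀ : Q₀ ⟶ V₀)
      (fstQ : (yon S).obj Q₀ ⟶ openSub X O),
      IsPullback fstQ ((yon S).map q₀) (j ≫ f) b := ⟨_, _, _, hrep.isPullback b⟩
  have hq1 : LocP PQ ((yon S).map q₀) :=
    locP_of_isPullback isEtLocal_locallyQuasiFinite hX' hY (IsAlgSpace.yon_obj _)
      (IsAlgSpace.yon_obj _) _ _ _ _ sqQ hloc
  have hq2 : PQ q₀.left := locP_yon_map hq1
  have : LocallyQuasiFinite q₀.left := hq2.1
  have : LocallyOfFiniteType q₀.left := hq2.2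
  have : IsSeparated q₀.left :=
    (isSeparatedMor_yon_map_iff q₀).1 (repWith_diagonal_of_isPullback @IsClosedImmersion sqQ hsep')
  -- the finite set of points to split off
  set Z : Set ↥Q₀.left := {z | q₀.left z = v₀ ∧ Points.ofPt (fstQ ≫ j) z ∈ xs} with hZdef
  have hZfin : Z.Finite := by
    have sqW := IsPullback.of_hasPullback f b
    have hw0 : (fstQ ≫ j) ≫ f = (yon S).map q₀ ≫ b := by rw [Category.assoc, sqQ.w]
    set m₀ : (yon S).obj Q₀ ⟶ pullback f b := sqW.lift (fstQ ≫ j) ((yon S).map q₀) hw0 with hm₀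
    have hm1 : m₀ ≫ pullback.fst f b = fstQ ≫ j := sqW.lift_fst _ _ _
    have hm2 : m₀ ≫ pullback.snd f b = (yon S).map q₀ := sqW.lift_snd _ _ _
    have sqm : IsPullback fstQ m₀ j (pullback.fst f b) := by
      refine IsPullback.of_bot ?_ hm1.symm sqW
      rw [hm2]
      exact sqQ
    have hm : RepWith @IsOpenImmersion m₀ := MorphismProperty.of_isPullback sqm hj
    haveI : Mono m₀ := mono_of_repWith_isOpenImmersion m₀ hm
    have hF := hfin b hbe v₀ hv₀ _ _ _ sqW
    have hinj : Function.Injective (Points.ofPt m₀) := by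
      intro z z' h
      rw [Points.ofPt_eq_map_ofScheme, Points.ofPt_eq_map_ofScheme] at h
      exact (Points.schemeHomeo Q₀).injective (Points.map_injective_of_mono m₀ h)
    refine (hF.preimage (hinj.injOn)).subset ?_
    rintro z ⟨hz1, hz2⟩
    refine ⟨?_, ?_⟩
    · rw [Points.map_ofPt, hm2]
      have := Points.ofPt_yon_map_comp q₀ (𝟙 ((yon S).obj V₀)) z
      rw [Category.comp_id] at this
      rw [this, hz1]
    · rw [Points.map_ofPt, hm1]
      exact hz2
  obtain ⟨U₁, g, u', hg, hgu, V, hVc, hVfin, hfib⟩ := sch_split q₀.left v₀ Z hZfin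
    (fun z hz => hz.1) (fun z _ => q₀.left.quasiFiniteAt z)
  let U₁O : Over S := Over.mk (g ≫ V₀.hom)
  let gO : U₁O ⟶ V₀ := Over.homMk g rfl
  have hQ₀ : q₀.left ≫ V₀.hom = Q₀.hom := Over.w q₀
  let Pb : Over S := Over.mk (pullback.snd q₀.left g ≫ g ≫ V₀.hom)
  let pQ : Pb ⟶ Q₀ := Over.homMk (pullback.fst q₀.left g)
    (by
      change pullback.fst q₀.left g ≫ Q₀.hom = pullback.snd q₀.left g ≫ g ≫ V₀.hom
      rw [← hQ₀, ← Category.assoc, pullback.condition, Category.assoc])
  let pU : Pb ⟶ U₁O := Over.homMk (pullback.snd q₀.left g) rfl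
  have sqPb : IsPullback pQ pU q₀ gO := by
    refine IsPullback.of_map (Over.forget S) ?_ ?_
    · ext; exact pullback.condition
    · exact IsPullback.of_hasPullback q₀.left g
  have sqPb' : IsPullback ((yon S).map pQ ≫ fstQ) ((yon S).map pU) (j ≫ f)
      ((yon S).map gO ≫ b) := (sqPb.map (yon S)).paste_horiz sqQ
  refine ⟨U₁O, (yon S).map gO ≫ b, Points.schemeHomeo U₁O u', ?_, ?_, ?_⟩
  · exact isEtaleMor_of_repWith_etale
      (MorphismProperty.comp_mem _ _ _ ((repWith_yon_map_iff _ _).2 hg) hbe)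
  · rw [Points.map_comp, Points.map_yon_map_apply, ← hv₀]
    change Points.map b (Points.ofPt (𝟙 _) (g u')) = _
    rw [hgu, ← Points.ofPt_eq_map_ofScheme]
  · intro P prX prU sqP
    let m : (yon S).obj Pb ⟶ P := sqP.lift (((yon S).map pQ ≫ fstQ) ≫ j) ((yon S).map pU)
      (by rw [Category.assoc, sqPb'.w])
    have hm1 : m ≫ prX = ((yon S).map pQ ≫ fstQ) ≫ j := sqP.lift_fst _ _ _
    have hm2 : m ≫ prU = (yon S).map pU := sqP.lift_snd _ _ _
    have sqm : IsPullback ((yon S).map pQ ≫ fstQ) m j prX := by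
      refine IsPullback.of_bot ?_ hm1.symm sqP
      rw [hm2]
      exact sqPb'
    have hm : RepWith @IsOpenImmersion m := MorphismProperty.of_isPullback sqm hj
    let Vs : Over S := Over.mk (V.ι ≫ Pb.hom)
    let ιV : Vs ⟶ Pb := Over.homMk V.ι rfl
    have hιV : RepWith @IsOpenImmersion ((yon S).map ιV) :=
      (repWith_yon_map_iff _ _).2 (inferInstanceAs (IsOpenImmersion V.ι))
    have hjV : RepWith @IsOpenImmersion ((yon S).map ιV ≫ m) :=
      MorphismProperty.comp_mem _ _ _ hιV hm
    have hcomp : ((yon S).map ιV ≫ m) ≫ prU = (yon S).map (ιV ≫ pU) := by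
      rw [Category.assoc, hm2, Functor.map_comp]
    have hcompX : ((yon S).map ιV ≫ m) ≫ prX = (yon S).map (ιV ≫ pQ) ≫ fstQ ≫ j := by
      rw [Category.assoc, hm1]
      simp only [Functor.map_comp, Category.assoc]
    have hfin' : RepWith @IsFinite (((yon S).map ιV ≫ m) ≫ prU) := by
      rw [hcomp]
      exact (repWith_yon_map_iff _ _).2 hVfin
    have hsepU : RepWith @IsClosedImmersion (pullback.diagonal prU) :=
      repWith_diagonal_of_isPullback @IsClosedImmersion sqP hf2
    have hfinj : RepWith @IsFinite ((yon S).map ιV ≫ m) :=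
      Rep0418.repWith_of_comp_of_diagonal (P := @IsFinite) (Q := @IsClosedImmersion)
        (fun _ _ k hk => by have : IsClosedImmersion k := hk; exact inferInstanceAs (IsFinite k))
        _ prU hsepU hfin'
    refine ⟨Vs, (yon S).map ιV ≫ m, hjV, repWith_isClosedImmersion_of_open_finite _ hjV hfinj,
      (isFiniteMor_iff_repWith _).2 hfin', ?_, ?_⟩
    · intro v hv
      obtain ⟨t, rfl⟩ := (Points.schemeHomeo Vs).surjective v
      rw [hcomp, Points.map_yon_map_apply] at hv
      have hsnd : pullback.snd q₀.left g (V.ι t) = u' := (Points.schemeHomeo U₁O).injective hv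
      have hZ : pullback.fst q₀.left g (V.ι t) ∈ Z := (hfib _ hsnd).1 t.2
      rw [hcompX, Points.map_comp, Points.map_yon_map_apply]
      change Points.map (fstQ ≫ j) (Points.ofPt (𝟙 _) (pullback.fst q₀.left g (V.ι t))) ∈ xs
      rw [Points.map_ofPt, Category.id_comp]
      exact hZ.2
    · intro w hwV hwu hwx
      have hwO : Points.map prX w ∈ O := hf3 _ hwx
      rw [← hrange] at hwO
      obtain ⟨x', hx'⟩ := hwO
      obtain ⟨t', ht1, ht2⟩ := Points.exists_of_isPullback sqm x' w hx'
      obtain ⟨t, rfl⟩ := (Points.schemeHomeo Pb).surjective t'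
      have hsnd : pullback.snd q₀.left g t = u' := by
        apply (Points.schemeHomeo U₁O).injective
        rw [← hwu, ← ht2, ← Points.map_comp, hm2, Points.map_yon_map_apply]
        rfl
      have hZ : pullback.fst q₀.left g t ∈ Z := by
        refine ⟨?_, ?_⟩
        · have := congrArg (fun φ => φ t) (pullback.condition (f := q₀.left) (g := g))
          simp only [Scheme.Hom.comp_apply] at this
          rw [this, hsnd, hgu]
        · have e1 : Points.ofPt (fstQ ≫ j) (pullback.fst q₀.left g t) =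
              Points.map j (Points.map ((yon S).map pQ ≫ fstQ) (Points.schemeHomeo Pb t)) := by
            rw [Points.map_comp, Points.map_yon_map_apply, ← Points.map_comp]
            change _ = Points.map (fstQ ≫ j) (Points.ofPt (𝟙 _) (pullback.fst q₀.left g t))
            rw [Points.map_ofPt, Category.id_comp]
          rw [e1, ht1, hx']
          exact hwx
      have htV : t ∈ V := (hfib _ hsnd).2 hZ
      apply hwV
      refine ⟨Points.schemeHomeo Vs ⟨t, htV⟩, ?_⟩
      rw [Points.map_comp, Points.map_yon_map_apply]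
      exact ht2

end Main

end Groth.Agent.Lib.Helper15.EtSplitMulti
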