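import Mathlib
import Groth.Agent.S0117
import Groth.Agent.Lib.Helper15.UnivThick
import Groth.Agent.Lib.Helper15.EtaleLiftThick

set_option autoImplicit false
set_option backward.isDefEq.respectTransparency.types false
universe u
open CategoryTheory CategoryTheory.Limits AlgebraicGeometry Opposite

namespace Groth.Agent.Lib.Helper15.EtThickGlue
open Groth.Agent.Lib.Helper15.UnivThick

variable {S S₀ : Scheme.{u}} (i : S₀ ⟶ S)

/-- `(iT, g)` is an etale lift of `q : V ⟶ S₀` along `i : S₀ ⟶ S` -/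
def IsLift {V T : Scheme.{u}} (q : V ⟶ S₀) (iT : V ⟶ T) (g : T ⟶ S) : Prop :=
  Etale g ∧ IsPullback iT q g i

variable {i}

theorem IsLift.isClosedImmersion [IsClosedImmersion i] {V T : Scheme.{u}} {q : V ⟶ S₀}
    {iT : V ⟶ T} {g : T ⟶ S} (h : IsLift i q iT g) : IsClosedImmersion iT :=
  MorphismProperty.of_isPullback (P := @IsClosedImmersion) h.2.flip inferInstance

theorem IsLift.surjective [Surjective i] {V T : Scheme.{u}} {q : V ⟶ S₀}
    {iT : V ⟶ T} {g : T ⟶ S} (h : IsLift i q iT g) : Surjective iT :=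
  MorphismProperty.of_isPullback (P := @Surjective) h.2.flip inferInstance

theorem IsLift.etale {V T : Scheme.{u}} {q : V ⟶ S₀}
    {iT : V ⟶ T} {g : T ⟶ S} (h : IsLift i q iT g) : Etale q :=
  MorphismProperty.of_isPullback (P := @Etale) h.2 h.1

variable [IsClosedImmersion i] [Surjective i]

theorem lift_existsUnique {V W TV TW : Scheme.{u}} {qV : V ⟶ S₀} {iV : V ⟶ TV} {gV : TV ⟶ S}
    (hV : IsLift i qV iV gV) {qW : W ⟶ S₀} {iW : W ⟶ TW} {gW : TW ⟶ S} (hW : IsLift i qW iW gW)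
    (a : V ⟶ W) (ha : a ≫ qW = qV) :
    ∃! t : TV ⟶ TW, iV ≫ t = a ≫ iW ∧ t ≫ gW = gV := by
  have := hW.1
  have := hV.isClosedImmersion
  have := hV.surjective
  obtain ⟨t, ht1, ht2⟩ := Groth.Agent.S0117.W.surj gW gV iV (a ≫ iW)
    (by rw [Category.assoc, hW.2.w, ← Category.assoc, ha, hV.2.w])
  refine ⟨t, ⟨ht2, ht1⟩, ?_⟩
  rintro t' ⟨h1, h2⟩
  exact Groth.Agent.S0117.W.inj gW iV t' t (by rw [h2, ht1]) (by rw [h1, ht2])

theorem isIso_of_isLift {V T₁ T₂ : Scheme.{u}} {q : V ⟶ S₀} {i₁ : V ⟶ T₁} {g₁ : T₁ ⟶ S}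
    (h₁ : IsLift i q i₁ g₁) {i₂ : V ⟶ T₂} {g₂ : T₂ ⟶ S} (h₂ : IsLift i q i₂ g₂)
    (t : T₁ ⟶ T₂) (ht1 : i₁ ≫ t = i₂) (ht2 : t ≫ g₂ = g₁) : IsIso t := by
  obtain ⟨s, ⟨hs1, hs2⟩, -⟩ := lift_existsUnique h₂ h₁ (𝟙 V) (Category.id_comp _)
  rw [Category.id_comp] at hs1
  obtain ⟨c₁, -, hc₁⟩ := lift_existsUnique h₁ h₁ (𝟙 V) (Category.id_comp _)
  obtain ⟨c₂, -, hc₂⟩ := lift_existsUnique h₂ h₂ (𝟙 V) (Category.id_comp _)
  refine ⟨s, ?_, ?_⟩
  · have e1 : t ≫ s = c₁ := hc₁ _ ⟨by rw [← Category.assoc, ht1, hs1, Category.id_comp],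
      by rw [Category.assoc, hs2, ht2]⟩
    have e2 : 𝟙 T₁ = c₁ := hc₁ _ ⟨by rw [Category.comp_id, Category.id_comp],
      by rw [Category.id_comp]⟩
    rw [e1, e2]
  · have e1 : s ≫ t = c₂ := hc₂ _ ⟨by rw [← Category.assoc, hs1, ht1, Category.id_comp],
      by rw [Category.assoc, ht2, hs2]⟩
    have e2 : 𝟙 T₂ = c₂ := hc₂ _ ⟨by rw [Category.comp_id, Category.id_comp],
      by rw [Category.id_comp]⟩
    rw [e1, e2]

omit [IsClosedImmersion i] [Surjective i] in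
/-- restriction of a lift along an open immersion -/
theorem isLift_of_openImmersion {W TW V₀ : Scheme.{u}} {q : W ⟶ S₀} {iW : W ⟶ TW} {gW : TW ⟶ S}
    (hW : IsLift i q iW gW) (v : V₀ ⟶ W) [IsOpenImmersion v]
    (O : TW.Opens) (hO : iW ⁻¹ᵁ O = v.opensRange) (i₀ : V₀ ⟶ O.toScheme)
    (hi₀ : i₀ ≫ O.ι = v ≫ iW) : IsLift i (v ≫ q) i₀ (O.ι ≫ gW) := by
  have := hW.1
  refine ⟨inferInstance, ?_⟩
  have sq : IsPullback i₀ v O.ι iW :=
    IsOpenImmersion.isPullback i₀ v O.ι iW hi₀.symm (by rw [Scheme.Opens.opensRange_ι, hO])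
  exact sq.paste_vert hW.2

theorem exists_isLift_of_openImmersion {W TW V₀ : Scheme.{u}} {q : W ⟶ S₀} {iW : W ⟶ TW}
    {gW : TW ⟶ S} (hW : IsLift i q iW gW) (v : V₀ ⟶ W) [IsOpenImmersion v] :
    ∃ (O : TW.Opens) (i₀ : V₀ ⟶ O.toScheme), iW ⁻¹ᵁ O = v.opensRange ∧ i₀ ≫ O.ι = v ≫ iW ∧
      IsLift i (v ≫ q) i₀ (O.ι ≫ gW) := by
  have := hW.isClosedImmersion
  have := hW.surjective
  obtain ⟨O, hO⟩ := exists_opens_preimage_eq iW ⟨inferInstance, inferInstance⟩ v.opensRange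
  have hrange : Set.range (v ≫ iW) ⊆ Set.range O.ι := by
    rintro _ ⟨t, rfl⟩
    rw [Scheme.Opens.range_ι]
    have h2 : v t ∈ iW ⁻¹ᵁ O := by
      rw [hO]; exact ⟨t, rfl⟩
    exact h2
  refine ⟨O, IsOpenImmersion.lift O.ι (v ≫ iW) hrange, hO, IsOpenImmersion.lift_fac _ _ _, ?_⟩
  exact isLift_of_openImmersion hW v O hO _ (IsOpenImmersion.lift_fac _ _ _)

theorem isOpenImmersion_of_isLift {W TW V₀ TV : Scheme.{u}} {q : W ⟶ S₀} {iW : W ⟶ TW}
    {gW : TW ⟶ S} (hW : IsLift i q iW gW) (v : V₀ ⟶ W) [IsOpenImmersion v]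
    {iV : V₀ ⟶ TV} {gV : TV ⟶ S} (hV : IsLift i (v ≫ q) iV gV)
    (t : TV ⟶ TW) (ht1 : iV ≫ t = v ≫ iW) (ht2 : t ≫ gW = gV) : IsOpenImmersion t := by
  obtain ⟨O, i₀, hO, hi₀, h₀⟩ := exists_isLift_of_openImmersion hW v
  obtain ⟨φ, ⟨hφ1, hφ2⟩, -⟩ := lift_existsUnique hV h₀ (𝟙 V₀) (Category.id_comp _)
  rw [Category.id_comp] at hφ1
  have : IsIso φ := isIso_of_isLift hV h₀ φ hφ1 hφ2
  obtain ⟨c, -, hc⟩ := lift_existsUnique hV hW v rfl
  have e1 : t = c := hc _ ⟨ht1, ht2⟩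
  have e2 : φ ≫ O.ι = c := hc _ ⟨by rw [← Category.assoc, hφ1, hi₀],
    by rw [Category.assoc, hφ2]⟩
  rw [e1, ← e2]
  infer_instance


section glue

variable {Z : Scheme.{u}} (i) (p : Z ⟶ S₀)

/-- an open of `Z` is good if its restriction admits an etale lift -/
def Good (V : Z.Opens) : Prop :=
  ∃ (T : Scheme.{u}) (iT : V.toScheme ⟶ T) (g : T ⟶ S), IsLift i (V.ι ≫ p) iT g

theorem good_of_le {V W : Z.Opens} (hVW : V ≤ W) (hW : Good i p W) : Good i p V := by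
  obtain ⟨TW, iW, gW, hu⟩ := hW
  obtain ⟨O, i₀, -, -, hu₀⟩ := exists_isLift_of_openImmersion hu (Z.homOfLE hVW)
  have e : Z.homOfLE hVW ≫ W.ι ≫ p = V.ι ≫ p := Scheme.homOfLE_ι_assoc _ _ _
  rw [e] at hu₀
  exact ⟨_, _, _, hu₀⟩

/-- the index category: good opens -/
abbrev J := {V : Z.Opens // Good i p V}

variable {i p}

noncomputable def T (V : J i p) : Scheme.{u} := V.2.choose
noncomputable def iT (V : J i p) : V.1.toScheme ⟶ T V := V.2.choose_spec.choose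
noncomputable def gT (V : J i p) : T V ⟶ S := V.2.choose_spec.choose_spec.choose
theorem uT (V : J i p) : IsLift i (V.1.ι ≫ p) (iT V) (gT V) :=
  V.2.choose_spec.choose_spec.choose_spec

instance (V : J i p) : Etale (gT V) := (uT V).1
instance (V : J i p) : IsClosedImmersion (iT V) := (uT V).isClosedImmersion
instance (V : J i p) : Surjective (iT V) := (uT V).surjective

theorem uT' {V W : J i p} (hVW : V.1 ≤ W.1) :
    IsLift i (Z.homOfLE hVW ≫ W.1.ι ≫ p) (iT V) (gT V) := by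
  have e : Z.homOfLE hVW ≫ W.1.ι ≫ p = V.1.ι ≫ p := Scheme.homOfLE_ι_assoc _ _ _
  rw [e]; exact uT V

theorem tr_existsUnique {V W : J i p} (hVW : V.1 ≤ W.1) :
    ∃! t : T V ⟶ T W, iT V ≫ t = Z.homOfLE hVW ≫ iT W ∧ t ≫ gT W = gT V :=
  lift_existsUnique (uT V) (uT W) (Z.homOfLE hVW) (Scheme.homOfLE_ι_assoc _ _ _)

noncomputable def tr {V W : J i p} (hVW : V.1 ≤ W.1) : T V ⟶ T W :=
  (tr_existsUnique hVW).exists.choose

theorem iT_tr {V W : J i p} (hVW : V.1 ≤ W.1) : iT V ≫ tr hVW = Z.homOfLE hVW ≫ iT W :=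
  (tr_existsUnique hVW).exists.choose_spec.1

theorem tr_gT {V W : J i p} (hVW : V.1 ≤ W.1) : tr hVW ≫ gT W = gT V :=
  (tr_existsUnique hVW).exists.choose_spec.2

theorem tr_unique {V W : J i p} (hVW : V.1 ≤ W.1) (t : T V ⟶ T W)
    (h1 : iT V ≫ t = Z.homOfLE hVW ≫ iT W) (h2 : t ≫ gT W = gT V) : t = tr hVW :=
  (tr_existsUnique hVW).unique ⟨h1, h2⟩ ⟨iT_tr hVW, tr_gT hVW⟩

instance {V W : J i p} (hVW : V.1 ≤ W.1) : IsOpenImmersion (tr hVW) :=
  isOpenImmersion_of_isLift (uT W) (Z.homOfLE hVW) (uT' hVW) (tr hVW) (iT_tr hVW) (tr_gT hVW)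

theorem tr_id (V : J i p) : tr (le_refl V.1) = 𝟙 (T V) := by
  symm
  apply tr_unique
  · rw [Category.comp_id]
    have : Z.homOfLE (le_refl V.1) = 𝟙 _ := Scheme.homOfLE_rfl _ _
    rw [this, Category.id_comp]
  · rw [Category.id_comp]

theorem tr_comp {V W Y : J i p} (hVW : V.1 ≤ W.1) (hWY : W.1 ≤ Y.1) :
    tr hVW ≫ tr hWY = tr (hVW.trans hWY) := by
  apply tr_unique
  · rw [← Category.assoc, iT_tr, Category.assoc, iT_tr, ← Category.assoc, Scheme.homOfLE_homOfLE]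
  · rw [Category.assoc, tr_gT, tr_gT]

/-- the diagram of local lifts -/
noncomputable def F : J i p ⥤ Scheme.{u} where
  obj V := T V
  map f := tr (leOfHom f)
  map_id V := tr_id V
  map_comp f g := (tr_comp (leOfHom f) (leOfHom g)).symm

instance {V W : J i p} (f : V ⟶ W) : IsOpenImmersion ((F (i := i) (p := p)).map f) :=
  inferInstanceAs (IsOpenImmersion (tr (leOfHom f)))

theorem iT_surj (V : J i p) (x : T V) : ∃ z : V.1.toScheme, iT V z = x := (iT V).surjective x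

theorem iT_inj (V : J i p) : Function.Injective (iT V) := (iT V).isEmbedding.injective

theorem tr_iT_apply {V W : J i p} (hVW : V.1 ≤ W.1) (z : V.1.toScheme) :
    tr hVW (iT V z) = iT W (Z.homOfLE hVW z) := by
  rw [← Scheme.Hom.comp_apply, iT_tr]; rfl

/-- intersection of good opens -/
def inf (V W : J i p) : J i p := ⟨V.1 ⊓ W.1, good_of_le i p inf_le_left V.2⟩

theorem inf_le_l (V W : J i p) : inf V W ≤ V := (inf_le_left : V.1 ⊓ W.1 ≤ V.1)
theorem inf_le_r (V W : J i p) : inf V W ≤ W := (inf_le_right : V.1 ⊓ W.1 ≤ W.1)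

instance : ((F (i := i) (p := p)) ⋙ Scheme.forget).IsLocallyDirected where
  cond {a b k} fi fj xi xj hxij := by
    change tr (leOfHom fi) xi = tr (leOfHom fj) xj at hxij
    obtain ⟨zi, rfl⟩ := iT_surj a xi
    obtain ⟨zj, rfl⟩ := iT_surj b xj
    rw [tr_iT_apply, tr_iT_apply] at hxij
    have h1 := congrArg Subtype.val (iT_inj k hxij)
    rw [Scheme.homOfLE_apply, Scheme.homOfLE_apply] at h1
    let z : (inf a b).1.toScheme := ⟨zi.1, ⟨zi.2, h1 ▸ zj.2⟩⟩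
    refine ⟨inf a b, homOfLE (inf_le_l a b), homOfLE (inf_le_r a b), iT (inf a b) z, ?_, ?_⟩
    · change tr _ (iT (inf a b) z) = iT a zi
      rw [tr_iT_apply]
      congr 1
      apply Subtype.ext
      rw [Scheme.homOfLE_apply]
    · change tr _ (iT (inf a b) z) = iT b zj
      rw [tr_iT_apply]
      congr 1
      apply Subtype.ext
      rw [Scheme.homOfLE_apply]
      exact h1

variable (i p) in
/-- the glued lift -/
noncomputable def U : Scheme.{u} := colimit (F (i := i) (p := p))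

noncomputable def ιF (V : J i p) : T V ⟶ U i p := colimit.ι (F (i := i) (p := p)) V

instance (V : J i p) : IsOpenImmersion (ιF V) :=
  inferInstanceAs (IsOpenImmersion (colimit.ι (F (i := i) (p := p)) V))

theorem tr_ιF {V W : J i p} (hVW : V.1 ≤ W.1) : tr hVW ≫ ιF W = ιF V :=
  colimit.w (F (i := i) (p := p)) (homOfLE hVW : V ⟶ W)

variable (i p) in
/-- the structure morphism of the glued lift -/
noncomputable def gU : U i p ⟶ S :=
  colimit.desc (F (i := i) (p := p)) (Cocone.mk S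
    { app := fun V => gT V
      naturality := fun V W f => by
        change tr (leOfHom f) ≫ gT W = gT V ≫ 𝟙 S
        rw [tr_gT, Category.comp_id] })

theorem ιF_gU (V : J i p) : ιF V ≫ gU i p = gT V :=
  colimit.ι_desc _ _

theorem ιF_jointly_surjective (x : U i p) : ∃ (V : J i p) (y : T V), ιF V y = x :=
  Scheme.IsLocallyDirected.ι_jointly_surjective (F (i := i) (p := p)) x

theorem ιF_eq_iff {V W : J i p} {xV : T V} {xW : T W} :
    ιF V xV = ιF W xW ↔ ∃ (k : J i p) (hkV : k.1 ≤ V.1) (hkW : k.1 ≤ W.1) (x : T k),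
      tr hkV x = xV ∧ tr hkW x = xW := by
  constructor
  · intro hx
    obtain ⟨k, fi, fj, x, h1, h2⟩ :=
      (Scheme.IsLocallyDirected.ι_eq_ι_iff (F (i := i) (p := p))).1 hx
    exact ⟨k, leOfHom fi, leOfHom fj, x, h1, h2⟩
  · rintro ⟨k, hkV, hkW, x, rfl, rfl⟩
    rw [← Scheme.Hom.comp_apply, ← Scheme.Hom.comp_apply, tr_ιF, tr_ιF]

instance : Etale (gU i p) := by
  apply IsZariskiLocalAtSource.of_openCover (P := @Etale)
    (Scheme.IsLocallyDirected.openCover (F (i := i) (p := p)))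
  intro V
  change Etale (ιF V ≫ gU i p)
  rw [ιF_gU]
  infer_instance

/-- the local pieces of the thickening morphism -/
noncomputable def gi (V : J i p) : V.1.toScheme ⟶ U i p := iT V ≫ ιF V

theorem gi_nat {V W : J i p} (hVW : V.1 ≤ W.1) : Z.homOfLE hVW ≫ gi W = gi V := by
  rw [gi, gi, ← Category.assoc, ← iT_tr, Category.assoc, tr_ιF]

section
variable (hcov : ∀ z : Z, ∃ V : Z.Opens, z ∈ V ∧ Good i p V)
include hcov

theorem isOpenCover_J : TopologicalSpace.IsOpenCover (fun V : J i p => V.1) := by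
  apply TopologicalSpace.IsOpenCover.mk
  rw [eq_top_iff]
  intro z _
  obtain ⟨V, hzV, hV⟩ := hcov z
  exact TopologicalSpace.Opens.mem_iSup.2 ⟨⟨V, hV⟩, hzV⟩

theorem exists_iU : ∃ j : Z ⟶ U i p, ∀ V : J i p, V.1.ι ≫ j = gi V := by
  apply exists_glue_opens (fun V : J i p => V.1) (isOpenCover_J hcov) gi
  intro V W
  exact (gi_nat (V := inf V W) (W := V) inf_le_left).trans
    (gi_nat (V := inf V W) (W := W) inf_le_right).symm

end

section
variable (hcov : ∀ z : Z, ∃ V : Z.Opens, z ∈ V ∧ Good i p V)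
  (j : Z ⟶ U i p) (hj : ∀ V : J i p, V.1.ι ≫ j = gi V)
include hcov hj

theorem iU_gU : j ≫ gU i p = p ≫ i := by
  apply hom_ext_opens (fun V : J i p => V.1) (isOpenCover_J hcov)
  intro V
  rw [← Category.assoc, hj, gi, Category.assoc, ιF_gU, (uT V).2.w, Category.assoc]

omit hcov in
theorem iU_apply (V : J i p) (z : V.1.toScheme) : j z.1 = ιF V (iT V z) := by
  have := congrArg (fun f => f z) (congrArg (fun f : V.1.toScheme ⟶ U i p => (f : _ → _)) (hj V))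
  exact this

theorem preimage_opensRange (V : J i p) : j ⁻¹ᵁ (ιF V).opensRange = V.1 := by
  ext z
  constructor
  · rintro ⟨x, hx⟩
    obtain ⟨W, hzW, hW⟩ := hcov z
    have h1 := iU_apply j hj ⟨W, hW⟩ ⟨z, hzW⟩
    change j z = _ at h1
    rw [h1] at hx
    obtain ⟨k, hkV, hkW, y, hy1, hy2⟩ := ιF_eq_iff.1 hx
    obtain ⟨zk, rfl⟩ := iT_surj k y
    rw [tr_iT_apply] at hy2
    have h2 := congrArg Subtype.val (iT_inj _ hy2)
    rw [Scheme.homOfLE_apply] at h2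
    change zk.1 = z at h2
    rw [← h2]
    exact hkV zk.2
  · intro hz
    exact ⟨iT V ⟨z, hz⟩, (iU_apply j hj V ⟨z, hz⟩).symm⟩

theorem isPullback_iU (V : J i p) : IsPullback (iT V) V.1.ι (ιF V) j :=
  IsOpenImmersion.isPullback (iT V) V.1.ι (ιF V) j (hj V)
    (by rw [preimage_opensRange hcov j hj V, Scheme.Opens.opensRange_ι])

theorem isPullback_glued : IsPullback j p (gU i p) i := by
  apply Scheme.isPullback_of_openCover j p (gU i p) i
    (Scheme.IsLocallyDirected.openCover (F (i := i) (p := p)))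
  intro (V : J i p)
  have sq : IsPullback V.1.ι (iT V) j (ιF V) := (isPullback_iU hcov j hj V).flip
  let e := sq.isoPullback
  have e1 : e.hom ≫ pullback.fst j (ιF V) = V.1.ι := sq.isoPullback_hom_fst
  have e2 : e.hom ≫ pullback.snd j (ιF V) = iT V := sq.isoPullback_hom_snd
  have base : IsPullback (iT V) (V.1.ι ≫ p) (ιF V ≫ gU i p) i := by
    rw [ιF_gU]; exact (uT V).2
  refine IsPullback.of_iso base e (Iso.refl _) (Iso.refl _) (Iso.refl _) ?_ ?_ ?_ ?_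
  · exact (Category.comp_id _).trans e2.symm
  · refine (Category.comp_id _).trans ?_
    change V.1.ι ≫ p = e.hom ≫ pullback.fst j (ιF V) ≫ p
    rw [← Category.assoc, e1]
  · exact (Category.comp_id _).trans (Category.id_comp _).symm
  · exact (Category.comp_id _).trans (Category.id_comp _).symm

end

end glue


section exist

variable {Z : Scheme.{u}} (i) (p : Z ⟶ S₀) [Etale p]

omit [Surjective i] in
theorem exists_good (z : Z) : ∃ V : Z.Opens, z ∈ V ∧ Good i p V := by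
  obtain ⟨O, hO, hzO⟩ : ∃ O : S.Opens, IsAffineOpen O ∧ i (p z) ∈ O := by
    obtain ⟨_, ⟨O, hO, rfl⟩, hz, -⟩ := S.isBasis_affineOpens.exists_subset_of_mem_open
      (Set.mem_univ (i (p z))) isOpen_univ
    exact ⟨O, hO, hz⟩
  have hz1 : z ∈ p ⁻¹ᵁ (i ⁻¹ᵁ O) := hzO
  obtain ⟨V, hV, hzV, hle⟩ : ∃ V : Z.Opens, IsAffineOpen V ∧ z ∈ V ∧ V ≤ p ⁻¹ᵁ (i ⁻¹ᵁ O) := by
    obtain ⟨_, ⟨V, hV, rfl⟩, hzV, hVle⟩ := Z.isBasis_affineOpens.exists_subset_of_mem_open
      hz1 (p ⁻¹ᵁ (i ⁻¹ᵁ O)).2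
    exact ⟨V, hV, hzV, hVle⟩
  refine ⟨V, hzV, ?_⟩
  have : IsAffine O.toScheme := hO
  have : IsAffine V.toScheme := hV
  have hg : Etale (p.resLE (i ⁻¹ᵁ O) V hle) :=
    IsZariskiLocalAtSource.resLE (P := @Etale) hle inferInstance
  obtain ⟨W', g', jW, -, hg', sq⟩ :=
    EtaleLiftThick.exists_etale_lift_affine (i ∣_ O) (p.resLE (i ⁻¹ᵁ O) V hle)
  have sq2 : IsPullback (i ∣_ O) (i ⁻¹ᵁ O).ι O.ι i := isPullback_morphismRestrict i O
  have sq3 := sq.paste_vert sq2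
  rw [Scheme.Hom.resLE_comp_ι] at sq3
  exact ⟨W', jW, g' ≫ O.ι, inferInstance, sq3⟩

/-- an etale scheme over `S₀` lifts to an etale scheme over the thickening `S` -/
theorem exists_lift : ∃ (U : Scheme.{u}) (j : Z ⟶ U) (g : U ⟶ S), Etale g ∧ IsPullback j p g i := by
  have hcov := exists_good i p
  obtain ⟨j, hj⟩ := exists_iU hcov
  exact ⟨U i p, j, gU i p, inferInstance, isPullback_glued hcov j hj⟩

end exist

end Groth.Agent.Lib.Helper15.EtThickGlue
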