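import Mathlib
import Groth.Agent.Lib.Helper15.EtThickGlue

set_option autoImplicit false
set_option backward.isDefEq.respectTransparency.types false
universe u
open CategoryTheory CategoryTheory.Limits AlgebraicGeometry Opposite

namespace Groth.Agent.Lib.Helper15.EtThickFin
open Groth.Agent.Lib.Helper15.EtThickGlue

/-- integrality lifts along a surjection with nil kernel -/
theorem isIntegral_of_nil {A B B₀ : Type*} [CommRing A] [CommRing B] [CommRing B₀]
    (f : A →+* B) (π : B →+* B₀) (hnil : ∀ b, π b = 0 → IsNilpotent b)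
    (hint : (π.comp f).IsIntegral) : f.IsIntegral := by
  intro b
  obtain ⟨q, hq, hq0⟩ := hint (π b)
  have h1 : π (Polynomial.eval₂ f b q) = 0 := by
    rw [Polynomial.hom_eval₂]; exact hq0
  obtain ⟨N, hN⟩ := hnil _ h1
  exact ⟨q ^ N, hq.pow N, by rw [Polynomial.eval₂_pow, hN]⟩

/-- the kernel of a surjective morphism on global sections consists of nilpotents -/
theorem isNilpotent_of_appTop_eq_zero {X Y : Scheme.{u}} (j : X ⟶ Y) [Surjective j]
    [CompactSpace Y] (b : Γ(Y, ⊤)) (hb : j.appTop b = 0) : IsNilpotent b := by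
  rw [Scheme.isNilpotent_iff_basicOpen_eq_bot]
  have h1 : j ⁻¹ᵁ (Y.basicOpen b) = ⊥ := by
    rw [Scheme.preimage_basicOpen]
    have : (j.app ⊤) b = 0 := hb
    rw [this, Scheme.basicOpen_zero]
  ext y
  simp only [TopologicalSpace.Opens.coe_bot, Set.mem_empty_iff_false, iff_false]
  intro hy
  obtain ⟨x, rfl⟩ := j.surjective y
  have : x ∈ j ⁻¹ᵁ (Y.basicOpen b) := hy
  rw [h1] at this
  exact this

variable {S S₀ U U₀ : Scheme.{u}} (i : S₀ ⟶ S) [IsClosedImmersion i] [Surjective i]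

/-- affine case -/
theorem isFinite_of_isLift_affine [IsAffine S] {g₀ : U₀ ⟶ S₀} {j : U₀ ⟶ U} {g : U ⟶ S}
    (h : IsLift i g₀ j g) [IsFinite g₀] : IsFinite g := by
  have hg := h.1
  have hS₀ : IsAffine S₀ := isAffine_of_isAffineHom i
  have hU₀ : IsAffine U₀ := isAffine_of_isAffineHom g₀
  have hj1 := h.isClosedImmersion
  have hj2 := h.surjective
  have hg₀ : Etale g₀ := h.etale
  -- `U` is affine
  have hU : IsAffine U := by
    obtain ⟨W', g', jW, hW', hg', sq⟩ := EtaleLiftThick.exists_etale_lift_affine i g₀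
    have hl : IsLift i g₀ jW g' := ⟨hg', sq⟩
    obtain ⟨t, ⟨ht1, ht2⟩, -⟩ := lift_existsUnique h hl (𝟙 U₀) (Category.id_comp _)
    rw [Category.id_comp] at ht1
    have : IsIso t := isIso_of_isLift h hl t ht1 ht2
    exact IsAffine.of_isIso t
  rw [HasAffineProperty.iff_of_isAffine (P := @IsFinite)]
  refine ⟨hU, ?_⟩
  have hft : g.appTop.hom.FiniteType :=
    (HasRingHomProperty.iff_of_isAffine (P := @LocallyOfFiniteType)).1 inferInstance
  refine RingHom.IsIntegral.to_finite ?_ hft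
  apply isIntegral_of_nil g.appTop.hom j.appTop.hom
  · intro b hb
    exact isNilpotent_of_appTop_eq_zero j b hb
  · have e : j.appTop.hom.comp g.appTop.hom = g₀.appTop.hom.comp i.appTop.hom := by
      rw [← CommRingCat.hom_comp, ← CommRingCat.hom_comp, ← Scheme.Hom.comp_appTop,
        ← Scheme.Hom.comp_appTop, h.2.w]
    rw [e]
    have h1 : g₀.appTop.hom.Finite :=
      ((HasAffineProperty.iff_of_isAffine (P := @IsFinite)).1 inferInstance).2
    have h2 : i.appTop.hom.Finite :=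
      RingHom.Finite.of_surjective _ (IsClosedImmersion.isAffine_surjective_of_isAffine i).2
    exact (h1.comp h2).to_isIntegral


omit [IsClosedImmersion i] [Surjective i] in
theorem preimage_le {g₀ : U₀ ⟶ S₀} {j : U₀ ⟶ U} {g : U ⟶ S} (w : j ≫ g = g₀ ≫ i) (O : S.Opens) :
    g₀ ⁻¹ᵁ (i ⁻¹ᵁ O) ≤ j ⁻¹ᵁ (g ⁻¹ᵁ O) := by
  rw [← Scheme.Hom.comp_preimage, ← Scheme.Hom.comp_preimage, w]

omit [IsClosedImmersion i] [Surjective i] in
/-- restriction of a lift over an open of the base -/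
theorem isLift_restrict {g₀ : U₀ ⟶ S₀} {j : U₀ ⟶ U} {g : U ⟶ S} (h : IsLift i g₀ j g)
    (O : S.Opens) :
    IsLift (i ∣_ O) (g₀ ∣_ (i ⁻¹ᵁ O))
      (j.resLE (g ⁻¹ᵁ O) (g₀ ⁻¹ᵁ (i ⁻¹ᵁ O)) (preimage_le i h.2.w O)) (g ∣_ O) := by
  have hg := h.1
  refine ⟨inferInstance, ?_⟩
  have right : IsPullback (g ⁻¹ᵁ O).ι (g ∣_ O) g O.ι := (isPullback_morphismRestrict g O).flip
  have c1 : IsPullback (g₀ ⁻¹ᵁ (i ⁻¹ᵁ O)).ι (g₀ ∣_ (i ⁻¹ᵁ O)) g₀ (i ⁻¹ᵁ O).ι :=
    (isPullback_morphismRestrict g₀ (i ⁻¹ᵁ O)).flip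
  have outer := c1.paste_horiz h.2
  have e1 : (g₀ ⁻¹ᵁ (i ⁻¹ᵁ O)).ι ≫ j =
      j.resLE (g ⁻¹ᵁ O) (g₀ ⁻¹ᵁ (i ⁻¹ᵁ O)) (preimage_le i h.2.w O) ≫ (g ⁻¹ᵁ O).ι :=
    (Scheme.Hom.resLE_comp_ι _ _).symm
  have e2 : (i ⁻¹ᵁ O).ι ≫ i = (i ∣_ O) ≫ O.ι := (morphismRestrict_ι i O).symm
  rw [e1, e2] at outer
  refine IsPullback.of_right outer ?_ right
  rw [← cancel_mono O.ι, Category.assoc, Category.assoc, morphismRestrict_ι, morphismRestrict_ι,
    ← Category.assoc, ← Category.assoc, Scheme.Hom.resLE_comp_ι, morphismRestrict_ι,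
    Category.assoc, Category.assoc, h.2.w]

theorem isFinite_of_isLift {g₀ : U₀ ⟶ S₀} {j : U₀ ⟶ U} {g : U ⟶ S}
    (h : IsLift i g₀ j g) [IsFinite g₀] : IsFinite g := by
  apply IsZariskiLocalAtTarget.of_iSup_eq_top (P := @IsFinite) (fun O : S.affineOpens => O.1)
    (iSup_affineOpens_eq_top S)
  intro O
  have : IsAffine O.1.toScheme := O.2
  have : Surjective (i ∣_ O.1) := IsZariskiLocalAtTarget.restrict (P := @Surjective) inferInstance _
  exact isFinite_of_isLift_affine (i ∣_ O.1) (isLift_restrict i h O.1)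

end Groth.Agent.Lib.Helper15.EtThickFin
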