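import Groth.Agent.Lib.Helper12.DepthLocCoh
import Groth.Agent.Lib.Helper3.EtaleDim
import Mathlib.AlgebraicGeometry.Morphisms.FormallyUnramified
import Mathlib.AlgebraicGeometry.Morphisms.Etale
import Mathlib.AlgebraicGeometry.Noetherian

set_option autoImplicit false
universe u
open CategoryTheory CategoryTheory.Limits AlgebraicGeometry Opposite TopologicalSpace

namespace Groth.Agent.Lib.Helper15.EtaleDepth

/-- Depth of the local ring is invariant under etale morphisms of locally Noetherian schemes. -/
theorem depth_stalk_eq_of_etale {A B : Scheme.{u}} [IsLocallyNoetherian A] [IsLocallyNoetherian B]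
    (f : A ⟶ B) [Etale f] (x : A) :
    LocCoh.depth (A.presheaf.stalk x) (A.presheaf.stalk x) =
      LocCoh.depth (B.presheaf.stalk (f x)) (B.presheaf.stalk (f x)) := by
  algebraize [(f.stalkMap x).hom]
  have hloc : IsLocalHom (algebraMap (B.presheaf.stalk (f x)) (A.presheaf.stalk x)) :=
    inferInstanceAs <| IsLocalHom (f.stalkMap x).hom
  have hess : Algebra.EssFiniteType (B.presheaf.stalk (f x)) (A.presheaf.stalk x) := by
    rw [← RingHom.essFiniteType_algebraMap, RingHom.algebraMap_toAlgebra]
    exact LocallyOfFiniteType.stalkMap f x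
  have hunr : Algebra.FormallyUnramified (B.presheaf.stalk (f x)) (A.presheaf.stalk x) := by
    rw [← RingHom.formallyUnramified_algebraMap, RingHom.algebraMap_toAlgebra]
    exact FormallyUnramified.stalkMap f x
  have hflat : Module.Flat (B.presheaf.stalk (f x)) (A.presheaf.stalk x) := by
    rw [← RingHom.flat_algebraMap_iff, RingHom.algebraMap_toAlgebra]
    exact Flat.stalkMap f x
  have hff : Module.FaithfullyFlat (B.presheaf.stalk (f x)) (A.presheaf.stalk x) :=
    Module.FaithfullyFlat.of_flat_of_isLocalHom
  exact Groth.Agent.Lib.Helper12.locCoh_depth_eq_of_faithfullyFlat _ _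
    Algebra.FormallyUnramified.map_maximalIdeal

end Groth.Agent.Lib.Helper15.EtaleDepth
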