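import Groth.Agent.S9975
import Groth.Agent.Lib.Helper3.AlgSpMonoField

set_option autoImplicit false
set_option backward.isDefEq.respectTransparency.types false
universe u
open CategoryTheory CategoryTheory.Limits AlgebraicGeometry AlgSp

namespace Groth.Agent.Lib.Helper15.EtaleField

/-- a reduced ring with exactly one prime is a field. -/
theorem isField_of_isReduced_of_subsingleton (B : Type*) [CommRing B] [IsReduced B]
    [Nonempty (PrimeSpectrum B)] [Subsingleton (PrimeSpectrum B)] : IsField B := by
  haveI : Nontrivial B := by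
    obtain ⟨p⟩ := (inferInstance : Nonempty (PrimeSpectrum B))
    exact ⟨⟨0, 1, fun h => p.2.ne_top ((Ideal.eq_top_iff_one _).2 (h ▸ p.asIdeal.zero_mem))⟩⟩
  refine ⟨exists_pair_ne B, mul_comm, fun {b} hb => ?_⟩
  by_contra hne
  have hnu : ¬ IsUnit b := fun hu => hne ⟨_, hu.mul_val_inv⟩
  obtain ⟨m, hm, hbm⟩ := exists_max_ideal_of_mem_nonunits hnu
  have hnil : b ∈ nilradical B := by
    rw [nilradical_eq_sInf, Ideal.mem_sInf]
    intro q hq
    have : (⟨q, hq⟩ : PrimeSpectrum B) = ⟨m, hm.isPrime⟩ := Subsingleton.elim _ _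
    have hqm : q = m := congrArg PrimeSpectrum.asIdeal this
    rw [hqm]; exact hbm
  exact hb (IsReduced.eq_zero _ hnil)

end Groth.Agent.Lib.Helper15.EtaleField

namespace Groth.Agent.Lib.Helper15.EtaleField

/-- **Points of a scheme etale over a field are open spectra of fields.** -/
theorem exists_field_open_nhd {κ : Type u} [Field κ] {E : Scheme.{u}}
    (e : E ⟶ Spec (CommRingCat.of κ)) [Etale e] (x : E) :
    ∃ (L : Type u) (_ : Field L) (j : Spec (CommRingCat.of L) ⟶ E),
      IsOpenImmersion j ∧ x ∈ Set.range j := by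
  haveI := Groth.Agent.S9975.W1.discreteTopology_of_etale_field e
  let O : E.Opens := ⟨{x}, isOpen_discrete _⟩
  haveI : Finite ↥O := Set.finite_singleton x
  haveI : Finite ↥(O.toScheme) := inferInstanceAs (Finite ↥O)
  haveI : DiscreteTopology ↥(O.toScheme) := inferInstanceAs (DiscreteTopology ↥O)
  have hO : IsAffineOpen O := (inferInstance : IsAffine O.toScheme)
  -- the base field, as global sections
  let K₀ := Γ(Spec (CommRingCat.of κ), ⊤)
  letI : Field K₀ :=
    (MulEquiv.isField (Field.toIsField κ)
      (Scheme.ΓSpecIso (CommRingCat.of κ)).commRingCatIsoToRingEquiv.toMulEquiv).toField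
  have hφ : (e.appLE ⊤ O le_top).hom.Etale := e.etale_appLE (isAffineOpen_top _) hO le_top
  algebraize [(e.appLE ⊤ O le_top).hom]
  haveI : IsReduced Γ(E, O) := Algebra.FormallyUnramified.isReduced_of_field K₀ Γ(E, O)
  -- the spectrum is a point
  have hhomeo := hO.isoSpec.hom.homeomorph
  haveI hsO : Subsingleton ↥O := ⟨fun a b => Subtype.ext (a.2.trans b.2.symm)⟩
  haveI : Subsingleton ↥(O.toScheme) := hsO
  haveI : Subsingleton (PrimeSpectrum Γ(E, O)) := hhomeo.symm.injective.subsingleton
  haveI : Nonempty (PrimeSpectrum Γ(E, O)) := ⟨hhomeo ⟨x, rfl⟩⟩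
  have hF : IsField Γ(E, O) := isField_of_isReduced_of_subsingleton Γ(E, O)
  letI := hF.toField
  refine ⟨Γ(E, O), inferInstance, hO.fromSpec, inferInstance, ?_⟩
  rw [hO.range_fromSpec]
  exact rfl

end Groth.Agent.Lib.Helper15.EtaleField

namespace Groth.Agent.Lib.Helper15.EtaleField

open Groth.Agent.Lib.Helper3

/-- a monomorphism from a scheme to the spectrum of a field is an open immersion (empty or an
isomorphism). -/
theorem isOpenImmersion_of_mono_to_field {L : Type u} [Field L] {Y : Scheme.{u}}
    (f : Y ⟶ Spec (CommRingCat.of L)) [Mono f] : IsOpenImmersion f := by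
  by_cases hY : Nonempty ↥Y
  · -- work over the base `Spec L`
    let S : Scheme.{u} := Spec (CommRingCat.of L)
    let g : Over.mk f ⟶ Over.mk (𝟙 S) := Over.homMk f (by simp)
    haveI : Mono g := by
      refine ⟨fun {W} a b hab => ?_⟩
      ext
      rw [← cancel_mono f]
      exact congrArg (fun q => q.left) hab
    haveI : Mono ((yon S).map g) := inferInstance
    have hne : Nonempty (Points ((yon S).obj (Over.mk f))) := by
      obtain ⟨y⟩ := hY
      exact ⟨Points.ofScheme (Over.mk f) y⟩
    have hiso : IsIso ((yon S).map g) :=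
      isIso_of_mono_to_field (IsAlgSpace.yon_obj _) (𝟙 S) ((yon S).map g) hne
    have hg : IsIso g := (Functor.FullyFaithful.ofFullyFaithful (yon S)).isIso_of_isIso_map g
    have : IsIso f := (inferInstance : IsIso ((Over.forget S).map g))
    infer_instance
  · haveI : IsEmpty ↥Y := not_nonempty_iff.1 hY
    infer_instance

/-- **A monomorphism into a scheme etale over a field is an open immersion.** -/
theorem isOpenImmersion_of_mono_of_etale_field {κ : Type u} [Field κ] {E R : Scheme.{u}}
    (e : E ⟶ Spec (CommRingCat.of κ)) [Etale e] (ρ : R ⟶ E) [Mono ρ] : IsOpenImmersion ρ := by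
  choose L fld j hj hx using fun x : ↥E => exists_field_open_nhd e x
  let 𝒰 : E.OpenCover :=
    { I₀ := ↥E
      X := fun x => Spec (CommRingCat.of (L x))
      f := fun x => j x
      mem₀ := by
        rw [Scheme.presieve₀_mem_precoverage_iff]
        exact ⟨fun x => ⟨x, hx x⟩, fun x => hj x⟩ }
  rw [IsZariskiLocalAtTarget.iff_of_openCover (P := @IsOpenImmersion) 𝒰]
  intro x
  haveI : Mono (pullback.snd ρ (𝒰.f x)) := inferInstance
  exact isOpenImmersion_of_mono_to_field (L := L x) (pullback.snd ρ (𝒰.f x))

end Groth.Agent.Lib.Helper15.EtaleField
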