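import Mathlib.RingTheory.Smooth.StandardSmoothOfFree
import Mathlib.RingTheory.Smooth.StandardSmoothCotangent
import Mathlib.RingTheory.MvPolynomial.Tower
import Mathlib.RingTheory.Etale.Basic

set_option autoImplicit false

universe u

namespace Groth.Agent.Lib.Helper15.EtaleLiftAlg

open Algebra MvPolynomial TensorProduct

section

variable {B' B C : Type u} [CommRing B'] [CommRing B] [CommRing C] [Algebra B' B] [Algebra B C]
  [Algebra B' C] [IsScalarTower B' B C]

theorem exists_etale_lift (hf : Function.Surjective (algebraMap B' B)) [Algebra.Etale B C] :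
    ∃ (C' : Type u) (_ : CommRing C') (_ : Algebra B' C') (_ : Algebra.Etale B' C'),
      Nonempty (B ⊗[B'] C' ≃ₐ[B] C) := by
  classical
  have hE : IsStandardSmoothOfRelativeDimension 0 B C :=
    Algebra.Etale.iff_isStandardSmoothOfRelativeDimension_zero.mp inferInstance
  obtain ⟨ι, σ, hσ, hι, P, hP⟩ := hE.out
  have hsurj : Function.Surjective
      (MvPolynomial.map (algebraMap B' B) : MvPolynomial ι B' → MvPolynomial ι B) :=
    MvPolynomial.map_surjective _ hf
  choose v' hv' using fun j => hsurj (P.relation j)
  let P0 : PreSubmersivePresentation B' (MvPolynomial ι B' ⧸ Ideal.span (Set.range v')) ι σ :=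
    PreSubmersivePresentation.naive (v := v') P.map P.map_inj
  let C0 := MvPolynomial ι B' ⧸ Ideal.span (Set.range v')
  let J : C0 := P0.jacobian
  let Q : PreSubmersivePresentation B' (Localization.Away J) (Unit ⊕ ι) (Unit ⊕ σ) :=
    (PreSubmersivePresentation.localizationAway (Localization.Away J) J).comp P0
  have hQ : IsUnit Q.jacobian := by
    rw [PreSubmersivePresentation.comp_jacobian_eq_jacobian_smul_jacobian,
      PreSubmersivePresentation.localizationAway_jacobian, Algebra.smul_def]
    exact (IsLocalization.Away.algebraMap_isUnit J).mul (IsLocalization.Away.algebraMap_isUnit J)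
  let QS : SubmersivePresentation B' (Localization.Away J) (Unit ⊕ ι) (Unit ⊕ σ) := ⟨Q, hQ⟩
  have hdim : QS.dimension = 0 := by
    have h1 : Q.dimension = (PreSubmersivePresentation.localizationAway
        (Localization.Away J) J).dimension + P0.dimension :=
      PreSubmersivePresentation.dimension_comp_eq_dimension_add_dimension _ _
    have h2 : P0.dimension = P.dimension := rfl
    have h3 : (PreSubmersivePresentation.localizationAway
        (Localization.Away J) J).dimension = 0 := by
      simp [Presentation.dimension]
    change Q.dimension = 0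
    rw [h1, h2, h3, hP]
  have hSS : IsStandardSmoothOfRelativeDimension 0 B' (Localization.Away J) :=
    QS.isStandardSmoothOfRelativeDimension hdim
  have hEt : Algebra.Etale B' (Localization.Away J) := inferInstance
  refine ⟨Localization.Away J, inferInstance, inferInstance, hEt, ?_⟩
  -- the map `C0 → C`
  have hle : Ideal.span (Set.range v') ≤
      RingHom.ker (MvPolynomial.aeval P.val : MvPolynomial ι B' →ₐ[B'] C) := by
    rw [Ideal.span_le]
    rintro _ ⟨j, rfl⟩
    change aeval P.val (v' j) = 0
    rw [← MvPolynomial.aeval_map_algebraMap B P.val (v' j), hv', P.aeval_val_relation]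
  let pi0 : C0 →ₐ[B'] C := Ideal.Quotient.liftₐ (Ideal.span (Set.range v'))
    (MvPolynomial.aeval P.val : MvPolynomial ι B' →ₐ[B'] C) (fun a ha => hle ha)
  have hpi0 : ∀ p : MvPolynomial ι B', pi0 (Ideal.Quotient.mk _ p) = aeval P.val p := fun p => rfl
  have halg0 : ∀ p : MvPolynomial ι B', algebraMap P0.Ring C0 p = Ideal.Quotient.mk _ p := by
    intro p
    rw [Generators.algebraMap_apply]
    have : (Ideal.Quotient.mkₐ B' (Ideal.span (Set.range v'))) p = aeval P0.val p := by
      rw [MvPolynomial.aeval_unique (Ideal.Quotient.mkₐ B' (Ideal.span (Set.range v')))]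
      rfl
    exact this.symm
  have hJ : pi0 J = P.jacobian := by
    cases nonempty_fintype σ
    change pi0 P0.jacobian = P.jacobian
    rw [PreSubmersivePresentation.jacobian_eq_jacobiMatrix_det,
      PreSubmersivePresentation.jacobian_eq_jacobiMatrix_det, halg0, hpi0,
      Generators.algebraMap_apply]
    rw [← MvPolynomial.aeval_map_algebraMap B P.val]
    congr 1
    rw [RingHom.map_det]
    congr 1
    ext i j : 1
    rw [RingHom.mapMatrix_apply, Matrix.map_apply,
      PreSubmersivePresentation.jacobiMatrix_apply, PreSubmersivePresentation.jacobiMatrix_apply,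
      ← MvPolynomial.pderiv_map]
    congr 1
    exact hv' j
  have hJu : IsUnit (pi0 J) := hJ ▸ P.jacobian_isUnit
  let pi1 : Localization.Away J →ₐ[B'] C := IsLocalization.Away.liftAlgHom J (f := pi0) hJu
  have hpi1 : ∀ c : C0, pi1 (algebraMap C0 (Localization.Away J) c) = pi0 c := fun c =>
    IsLocalization.Away.lift_eq J hJu c
  let pib : B ⊗[B'] Localization.Away J →ₐ[B] C :=
    Algebra.TensorProduct.lift (Algebra.ofId B C) pi1 (fun _ _ => Commute.all _ _)
  -- the inverse
  let rho0 : MvPolynomial ι B →ₐ[B] B ⊗[B'] Localization.Away J :=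
    MvPolynomial.aeval (fun i => (1 : B) ⊗ₜ[B'] algebraMap C0 (Localization.Away J)
      (Ideal.Quotient.mk _ (X i)))
  have hrho0 : ∀ p : MvPolynomial ι B', rho0 (MvPolynomial.map (algebraMap B' B) p) =
      (1 : B) ⊗ₜ[B'] algebraMap C0 (Localization.Away J) (Ideal.Quotient.mk _ p) := by
    intro p
    let phi1 : MvPolynomial ι B' →+* B ⊗[B'] Localization.Away J :=
      rho0.toRingHom.comp (MvPolynomial.map (algebraMap B' B))
    let phi2 : MvPolynomial ι B' →+* B ⊗[B'] Localization.Away J :=
      (Algebra.TensorProduct.includeRight :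
        Localization.Away J →ₐ[B'] B ⊗[B'] Localization.Away J).toRingHom.comp
        ((algebraMap C0 (Localization.Away J)).comp (Ideal.Quotient.mk _))
    have h12 : phi1 = phi2 := by
      apply MvPolynomial.ringHom_ext
      · intro b
        have e1 : phi1 (MvPolynomial.C b) = algebraMap B' B b ⊗ₜ[B'] (1 : Localization.Away J) := by
          change rho0 (MvPolynomial.map (algebraMap B' B) (MvPolynomial.C b)) = _
          rw [MvPolynomial.map_C]
          change rho0 (algebraMap B (MvPolynomial ι B) (algebraMap B' B b)) = _
          rw [AlgHom.commutes, Algebra.TensorProduct.algebraMap_apply]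
          rfl
        have e2 : phi2 (MvPolynomial.C b) = algebraMap B' B b ⊗ₜ[B'] (1 : Localization.Away J) := by
          change (Algebra.TensorProduct.includeRight :
            Localization.Away J →ₐ[B'] B ⊗[B'] Localization.Away J)
              (algebraMap C0 (Localization.Away J) (Ideal.Quotient.mk _ (MvPolynomial.C b))) = _
          have : algebraMap C0 (Localization.Away J) (Ideal.Quotient.mk _ (MvPolynomial.C b)) =
              algebraMap B' (Localization.Away J) b := by
            rw [IsScalarTower.algebraMap_apply B' C0 (Localization.Away J)]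
            rfl
          rw [this, AlgHom.commutes, Algebra.TensorProduct.algebraMap_apply]
        rw [e1, e2]
      · intro i
        change rho0 (MvPolynomial.map (algebraMap B' B) (X i)) = _
        rw [MvPolynomial.map_X]
        change MvPolynomial.aeval _ (X i) = _
        rw [MvPolynomial.aeval_X]
        rfl
    exact congrArg (fun φ => φ p) h12
  let aP : MvPolynomial ι B →ₐ[B] C := MvPolynomial.aeval P.val
  have haPs : Function.Surjective aP := by
    intro c
    obtain ⟨p, hp⟩ := P.algebraMap_surjective c
    exact ⟨p, by rw [← hp, Generators.algebraMap_apply]⟩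
  have hkerP : ∀ x ∈ RingHom.ker aP, rho0 x = 0 := by
    have hle2 : RingHom.ker aP ≤ RingHom.ker rho0 := by
      have hk : RingHom.ker aP = Ideal.span (Set.range P.relation) := by
        rw [P.span_range_relation_eq_ker]
        ext x
        rw [RingHom.mem_ker, Generators.ker, Extension.ker]
        change _ ↔ algebraMap P.Ring C x = 0
        rw [Generators.algebraMap_apply]
      rw [hk, Ideal.span_le]
      rintro _ ⟨j, rfl⟩
      change rho0 (P.relation j) = 0
      rw [← hv' j, hrho0]
      have : (Ideal.Quotient.mk (Ideal.span (Set.range v'))) (v' j) = 0 :=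
        Ideal.Quotient.eq_zero_iff_mem.2 (Ideal.subset_span ⟨j, rfl⟩)
      rw [this, map_zero, TensorProduct.tmul_zero]
    exact fun x hx => hle2 hx
  let rho : C →ₐ[B] B ⊗[B'] Localization.Away J :=
    (Ideal.Quotient.liftₐ (RingHom.ker aP) rho0 hkerP).comp
      (Ideal.quotientKerAlgEquivOfSurjective haPs).symm.toAlgHom
  have hrho : ∀ p : MvPolynomial ι B, rho (aP p) = rho0 p := by
    intro p
    change (Ideal.Quotient.liftₐ (RingHom.ker aP) rho0 hkerP)
      ((Ideal.quotientKerAlgEquivOfSurjective haPs).symm (aP p)) = _
    rw [Ideal.quotientKerAlgEquivOfSurjective_symm_apply]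
    rfl
  have hpibrho0 : pib.comp rho0 = aP := by
    apply MvPolynomial.algHom_ext
    intro i
    change pib (rho0 (X i)) = aP (X i)
    change pib (MvPolynomial.aeval _ (X i)) = MvPolynomial.aeval _ (X i)
    rw [MvPolynomial.aeval_X, MvPolynomial.aeval_X]
    change (Algebra.TensorProduct.lift (Algebra.ofId B C) pi1 (fun _ _ => Commute.all _ _))
      ((1 : B) ⊗ₜ[B'] _) = _
    rw [Algebra.TensorProduct.lift_tmul, map_one, one_mul, hpi1, hpi0, MvPolynomial.aeval_X]
  have h1 : pib.comp rho = AlgHom.id B C := by
    apply AlgHom.ext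
    intro c
    obtain ⟨p, rfl⟩ := haPs c
    change pib (rho (aP p)) = aP p
    rw [hrho]
    exact congrArg (fun φ => φ p) hpibrho0
  have h2 : rho.comp pib = AlgHom.id B (B ⊗[B'] Localization.Away J) := by
    apply Algebra.TensorProduct.ext
    · ext
    · apply AlgHom.coe_ringHom_injective
      apply IsLocalization.ringHom_ext (Submonoid.powers J)
      apply Ideal.Quotient.ringHom_ext
      apply RingHom.ext
      intro p
      change rho (pib ((1 : B) ⊗ₜ[B'] algebraMap C0 (Localization.Away J)
        (Ideal.Quotient.mk _ p))) = (1 : B) ⊗ₜ[B'] algebraMap C0 (Localization.Away J)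
        (Ideal.Quotient.mk _ p)
      have e1 : pib ((1 : B) ⊗ₜ[B'] algebraMap C0 (Localization.Away J)
          (Ideal.Quotient.mk _ p)) = aP (MvPolynomial.map (algebraMap B' B) p) := by
        change (Algebra.TensorProduct.lift (Algebra.ofId B C) pi1 (fun _ _ => Commute.all _ _))
          ((1 : B) ⊗ₜ[B'] _) = _
        rw [Algebra.TensorProduct.lift_tmul, map_one, one_mul, hpi1, hpi0]
        exact (MvPolynomial.aeval_map_algebraMap B P.val p).symm
      rw [e1, hrho, hrho0]
  exact ⟨AlgEquiv.ofAlgHom pib rho h1 h2⟩

end

end Groth.Agent.Lib.Helper15.EtaleLiftAlg
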