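import Groth.Agent.Lib.Helper15.GDomain

set_option autoImplicit false

universe u
open CategoryTheory AlgebraicGeometry

namespace Groth.Agent.Lib.Helper15.FTPointClosed

open Groth.Agent.Lib.Helper15.GDomain

/-- affine version: the image of a closed point under a finite type ring map is closed in a basic
open. -/
theorem exists_basicOpen_spec {A B : CommRingCat.{u}} (ψ : A ⟶ B) (hψ : ψ.hom.FiniteType)
    (m : PrimeSpectrum B) (hm : IsClosed ({m} : Set (PrimeSpectrum B))) :
    ∃ f : A, PrimeSpectrum.comap ψ.hom m ∈ PrimeSpectrum.basicOpen f ∧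
      ∀ q : PrimeSpectrum A, q ∈ PrimeSpectrum.basicOpen f → PrimeSpectrum.comap ψ.hom m ⤳ q →
        q = PrimeSpectrum.comap ψ.hom m := by
  have hmax : m.asIdeal.IsMaximal := (PrimeSpectrum.isClosed_singleton_iff_isMaximal m).1 hm
  letI : Field (B ⧸ m.asIdeal) := Ideal.Quotient.field m.asIdeal
  let φ : A →+* (B ⧸ m.asIdeal) := (Ideal.Quotient.mk m.asIdeal).comp ψ.hom
  have hφ : φ.FiniteType :=
    (RingHom.FiniteType.of_surjective _ Ideal.Quotient.mk_surjective).comp hψ
  have hker : RingHom.ker φ = (PrimeSpectrum.comap ψ.hom m).asIdeal := by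
    ext a
    rw [RingHom.mem_ker]
    change Ideal.Quotient.mk m.asIdeal (ψ.hom a) = 0 ↔ _
    rw [Ideal.Quotient.eq_zero_iff_mem]
    rfl
  obtain ⟨f, hf, hq⟩ := exists_basicOpen_closed φ hφ
  refine ⟨f, ?_, ?_⟩
  · change f ∉ (PrimeSpectrum.comap ψ.hom m).asIdeal
    rw [← hker]
    exact hf
  · intro q hqf hsp
    rw [← PrimeSpectrum.le_iff_specializes] at hsp
    have h1 : RingHom.ker φ ≤ q.asIdeal := by rw [hker]; exact hsp
    have := hq q.asIdeal q.2 h1 hqf
    exact PrimeSpectrum.ext (this.trans hker)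

/-- **A finite type morphism maps closed points to locally closed points.** -/
theorem exists_open_isClosed_singleton {P U : Scheme.{u}} (g : P ⟶ U) [LocallyOfFiniteType g]
    (w : P) (hw : IsClosed ({w} : Set P)) :
    ∃ (O : U.Opens) (hv : g w ∈ O), IsClosed ({⟨g w, hv⟩} : Set O) := by
  obtain ⟨_, ⟨V, hV : IsAffineOpen V, rfl⟩, hvV, -⟩ :=
    U.isBasis_affineOpens.exists_subset_of_mem_open (Set.mem_univ (g w)) isOpen_univ
  obtain ⟨_, ⟨W, hW : IsAffineOpen W, rfl⟩, hwW, hWV⟩ :=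
    P.isBasis_affineOpens.exists_subset_of_mem_open (show w ∈ (g ⁻¹ᵁ V : Set P) from hvV)
      (g ⁻¹ᵁ V).isOpen
  have e : W ≤ g ⁻¹ᵁ V := hWV
  let ψ := g.appLE V W e
  have hψ : ψ.hom.FiniteType := g.finiteType_appLE hV hW e
  let m : PrimeSpectrum Γ(P, W) := hW.primeIdealOf ⟨w, hwW⟩
  have hmw : hW.fromSpec m = w := hW.fromSpec_primeIdealOf ⟨w, hwW⟩
  have hm : IsClosed ({m} : Set (PrimeSpectrum Γ(P, W))) := by
    have h1 : ({m} : Set (PrimeSpectrum Γ(P, W))) = hW.fromSpec ⁻¹' {w} := by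
      ext x
      simp only [Set.mem_singleton_iff]
      constructor
      · rintro rfl; exact hmw
      · intro hx
        exact hW.fromSpec.isOpenEmbedding.injective (hx.trans hmw.symm)
    rw [h1]
    exact hw.preimage hW.fromSpec.continuous
  obtain ⟨f, hf, hq⟩ := exists_basicOpen_spec ψ hψ m hm
  have hcomm : hV.fromSpec (PrimeSpectrum.comap ψ.hom m) = g w := by
    have := congrArg (fun h => h.base m) (IsAffineOpen.SpecMap_appLE_fromSpec g hV hW e)
    rw [← hmw]
    exact this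
  have hvO : g w ∈ U.basicOpen f := by
    rw [← hcomm]
    have : PrimeSpectrum.comap ψ.hom m ∈ hV.fromSpec ⁻¹ᵁ U.basicOpen f := by
      rw [hV.fromSpec_preimage_basicOpen]; exact hf
    exact this
  refine ⟨U.basicOpen f, hvO, ?_⟩
  rw [← closure_subset_iff_isClosed]
  rintro ⟨v', hv'⟩ hcl
  have hcl' : (⟨g w, hvO⟩ : U.basicOpen f) ⤳ ⟨v', hv'⟩ := specializes_iff_mem_closure.2 hcl
  replace hcl : g w ⤳ v' := (subtype_specializes_iff _ _).1 hcl'
  have hv'V : v' ∈ V := U.basicOpen_le f hv'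
  obtain ⟨q, rfl⟩ : ∃ q, hV.fromSpec q = v' := by
    have : v' ∈ Set.range hV.fromSpec := by rw [hV.range_fromSpec]; exact hv'V
    exact this
  have hqf : q ∈ PrimeSpectrum.basicOpen f := by
    have : q ∈ hV.fromSpec ⁻¹ᵁ U.basicOpen f := hv'
    rwa [hV.fromSpec_preimage_basicOpen] at this
  rw [← hcomm] at hcl
  have hcl2 : (PrimeSpectrum.comap ψ.hom m : PrimeSpectrum Γ(U, V)) ⤳ q :=
    (hV.fromSpec.isOpenEmbedding.isInducing.specializes_iff).1 hcl
  have := hq q hqf hcl2
  have hfin : hV.fromSpec q = g w := by rw [this, hcomm]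
  exact Set.mem_singleton_iff.2 (Subtype.ext hfin)

end Groth.Agent.Lib.Helper15.FTPointClosed
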