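import Groth.Agent.Lib.Helper15.AlgSpBCChart
import Groth.Agent.Lib.lead.FlatRelDimSp
import Groth.Agent.Lib.lead.FibreDimBCLocal
import Groth.Agent.Lib.lead.HomogDim
import Groth.Agent.Lib.lead.FibreDimTarget
import Groth.Agent.Lib.Helper3.AlgSpLocP4
import Groth.Agent.Lib.Helper3.AlgSpHasAtMor
import Groth.Agent.Lib.Helper3.AlgSpIntegralDim

set_option autoImplicit false
universe u
open CategoryTheory CategoryTheory.Limits AlgebraicGeometry
open AlgSp

namespace Groth.Agent.Lib.Helper15.FibDimSp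

open Groth.Agent.Lib.Helper3 Groth.Agent.Lib.Helper15
set_option backward.isDefEq.respectTransparency.types false

variable {S : Scheme.{u}}

/-- The relative dimension at a point is preserved by base change (sheaf level form). -/
theorem relDim_baseChange {X Y Y' X' : Sp S} (hX : IsAlgSpace X) (hY : IsAlgSpace Y)
    (hY' : IsAlgSpace Y') (f : X ⟶ Y) (g : Y' ⟶ Y)
    (g' : X' ⟶ X) (f' : X' ⟶ Y') (sq : IsPullback g' f' f g)
    (hf : LocP @LocallyOfFiniteType f) (x' : Points X') (d : WithBot ℕ∞)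
    (hd : HasAtMor (fun _ _ h u => FlatMor.fibreDimAt h u = d) f (Points.map g' x')) :
    HasAtMor (fun _ _ h u => FlatMor.fibreDimAt h u = d) f' x' := by
  obtain ⟨U, V, V'', U'', a₀, b₀, h, a'', b'', p₁, p₂, k, w₀, ha₀e, hb₀e, hw, ha''e, hb''e, hw'',
    sqS, -, -, hpt1, hpt2⟩ :=
    AlgSpBCChart.exists_baseChange_chart hX hY hY' f g g' f' sq x'
  obtain ⟨U₁, V₁, a₁, b₁, h₁, u₁, ha₁, hb₁, w₁, hu₁, hd₁⟩ := hd
  haveI : LocallyOfFiniteType h.left := hf a₀ b₀ h ha₀e hb₀e hw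
  haveI : LocallyOfFiniteType h₁.left := hf a₁ b₁ h₁ ha₁ hb₁ w₁
  have e1 := Groth.Agent.Lib.lead.FlatRelDimSp.fibreDimAt_eq_of_charts f a₀ b₀ h a₁ b₁ h₁
    ha₀e hb₀e ha₁ hb₁ hw w₁ (p₁.left w₀) u₁ (hpt2.trans hu₁.symm)
  have e2 := Groth.Agent.Lib.lead.FibreDimBCLocal.fibreDimAt_baseChange h.left k.left p₁.left
    p₂.left sqS w₀
  refine ⟨U'', V'', a'', b'', p₂, w₀, ha''e, hb''e, hw'', hpt1, ?_⟩
  show FlatMor.fibreDimAt p₂.left w₀ = d
  rw [e2, e1, hd₁]

instance subsingleton_fieldPt_pt {F : Sp S} (k : FieldPt F) : Subsingleton ↥k.pt.left :=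
  inferInstanceAs (Subsingleton (PrimeSpectrum k.K))

/-- The local dimension of a chart of a fibre is the relative dimension of the morphism. -/
theorem localDim_chart_fibre_eq {X Y Xk : Sp S} (hX : IsAlgSpace X) (hY : IsAlgSpace Y)
    (f : X ⟶ Y) (hf : LocP @LocallyOfFiniteType f) (k : FieldPt Y) (fst : Xk ⟶ X)
    (snd : Xk ⟶ (yon S).obj k.pt) (sq : IsPullback fst snd f k.toHom)
    {W : Over S} (c : (yon S).obj W ⟶ Xk) (hc : RepWith @Etale c) (w : ↥W.left)
    {U V : Over S} (a : (yon S).obj U ⟶ X) (b : (yon S).obj V ⟶ Y) (h : U ⟶ V)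
    (ha : RepWith @Etale a) (hb : RepWith @Etale b) (hw : a ≫ f = (yon S).map h ≫ b)
    (u : ↥U.left) (hu : Points.ofPt a u = Points.map fst (Points.ofPt c w)) :
    FlatMor.localDim ↥W.left w = FlatMor.fibreDimAt h.left u := by
  have hK : IsAlgSpace ((yon S).obj k.pt) := IsAlgSpace.yon_obj _
  have hXk : IsAlgSpace Xk := isAlgSpace_of_isPullback' hY hX hK sq
  have hsnd : LocP @LocallyOfFiniteType snd :=
    locP_of_isPullback isEtLocal_locallyOfFiniteType hX hY hK hXk f k.toHom fst snd sq hf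
  have hd : HasAtMor (fun _ _ h' u' => FlatMor.fibreDimAt h' u' = FlatMor.fibreDimAt h.left u) f
      (Points.map fst (Points.ofPt c w)) := ⟨U, V, a, b, h, u, ha, hb, hw, hu, rfl⟩
  obtain ⟨U₂, V₂, a₂, b₂, h₂, u₂, ha₂, hb₂, w₂, hu₂, hd₂⟩ :=
    relDim_baseChange hX hY hK f k.toHom fst snd sq hf _ _ hd
  obtain ⟨hW, hhW⟩ := (yon S).map_surjective (c ≫ snd)
  have hcW : c ≫ snd = (yon S).map hW ≫ 𝟙 _ := by rw [hhW, Category.comp_id]
  haveI : LocallyOfFiniteType hW.left := hsnd c (𝟙 _) hW hc (repWith_id _ _) hcW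
  haveI : LocallyOfFiniteType h₂.left := hsnd a₂ b₂ h₂ ha₂ hb₂ w₂
  have e1 := Groth.Agent.Lib.lead.FlatRelDimSp.fibreDimAt_eq_of_charts snd c (𝟙 _) hW a₂ b₂ h₂
    hc (repWith_id _ _) ha₂ hb₂ hcW w₂ w u₂ hu₂.symm
  rw [← hd₂, ← e1]
  exact (Groth.Agent.Lib.lead.HomogDim.fibreDimAt_eq_localDim hW.left w).symm

theorem natCast_add_one_le_of_lt (d : ℕ) (x : WithBot ℕ∞) (h : (d : WithBot ℕ∞) < x) :
    ((d + 1 : ℕ) : WithBot ℕ∞) ≤ x := by
  induction x using WithBot.recBotCoe with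
  | bot => exact absurd h (by simp)
  | coe m =>
    have h2 : (d : ℕ∞) < m := by exact_mod_cast h
    have h3 : (d : ℕ∞) + 1 ≤ m := (ENat.add_one_le_iff (ENat.natCast_ne_top d)).2 h2
    have : (((d + 1 : ℕ) : ℕ∞) : WithBot ℕ∞) ≤ ((m : ℕ∞) : WithBot ℕ∞) :=
      WithBot.coe_le_coe.2 (by exact_mod_cast h3)
    exact_mod_cast this

open Groth.Agent.Lib.lead Groth.Agent.Lib.Helper21 in
theorem topologicalKrullDim_le_of_localDim_le (T : Type*) [TopologicalSpace T] (d : ℕ)
    (h : ∀ x : T, FlatMor.localDim T x ≤ (d : WithBot ℕ∞)) :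
    topologicalKrullDim T ≤ (d : WithBot ℕ∞) := by
  by_contra hne
  have h1 : ((d + 1 : ℕ) : WithBot ℕ∞) ≤ topologicalKrullDim T :=
    natCast_add_one_le_of_lt d _ (not_le.1 hne)
  obtain ⟨x, hx⟩ := (FibreDimTarget.le_dim_iff_exists_le_localDim T (d + 1)).1 h1
  have := hx.trans (h x)
  have h4 : ((d + 1 : ℕ) : ℕ∞) ≤ (d : ℕ∞) := by exact_mod_cast this
  have h5 : d + 1 ≤ d := by exact_mod_cast h4
  omega

/-- Every point of the fibre lies over the point of the field-valued point. -/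
theorem map_fst_fibre {X Y Xk : Sp S} (f : X ⟶ Y) (k : FieldPt Y) (fst : Xk ⟶ X)
    (snd : Xk ⟶ (yon S).obj k.pt) (sq : IsPullback fst snd f k.toHom) (z : Points Xk) :
    Points.map f (Points.map fst z) = Points.mk k := by
  rw [← Points.map_comp, sq.w, Points.map_comp]
  obtain ⟨s, hs⟩ := (Points.schemeHomeo k.pt).surjective (Points.map snd z)
  rw [← hs]
  have := congrFun (Points.ofPt_eq k.toHom) s
  rw [Function.comp_apply] at this
  rw [← this]
  exact Points.ofPt_toHom k s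

/-- Every point over the point of the field-valued point comes from the fibre. -/
theorem exists_point_fibre {X Y Xk : Sp S} (f : X ⟶ Y) (k : FieldPt Y) (fst : Xk ⟶ X)
    (snd : Xk ⟶ (yon S).obj k.pt) (sq : IsPullback fst snd f k.toHom) (x : Points X)
    (hx : Points.map f x = Points.mk k) : ∃ z : Points Xk, Points.map fst z = x := by
  have h1 : Points.map f x = Points.map k.toHom
      (Points.schemeHomeo k.pt (IsLocalRing.closedPoint k.K)) := by
    have := congrFun (Points.ofPt_eq k.toHom) (IsLocalRing.closedPoint k.K)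
    rw [Function.comp_apply] at this
    rw [← this, hx]
    exact (Points.ofPt_toHom k _).symm
  obtain ⟨z, hz, -⟩ := Points.exists_of_isPullback sq x _ h1
  exact ⟨z, hz⟩

/-- A chart diagram through a given point. -/
theorem exists_chart_diagram {X Y : Sp S} (hX : IsAlgSpace X) (hY : IsAlgSpace Y) (f : X ⟶ Y)
    (x : Points X) :
    ∃ (U V : Over S) (a : (yon S).obj U ⟶ X) (b : (yon S).obj V ⟶ Y) (h : U ⟶ V) (u : ↥U.left),
      RepWith @Etale a ∧ RepWith @Etale b ∧ a ≫ f = (yon S).map h ≫ b ∧ Points.ofPt a u = x := by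
  obtain ⟨V, b, hbe, hbs⟩ := hY.atlas
  obtain ⟨U, u₀, h, -, -, hae, has, -, hw⟩ := exists_chart_over hX hY f b hbe
  obtain ⟨u, hu⟩ := exists_ofPt_eq _ (has hbs) x
  exact ⟨U, V, _, b, h, u, hae, hbe, hw, hu⟩

open Groth.Agent.Lib.Helper21 in
/-- The dimension of a fibre is at most `d` iff the relative dimension is at most `d` at all
points over the given point. -/
theorem dim_fibre_le_iff {X Y Xk : Sp S} (hX : IsAlgSpace X) (hY : IsAlgSpace Y)
    (f : X ⟶ Y) (hf : LocP @LocallyOfFiniteType f) (k : FieldPt Y) (fst : Xk ⟶ X)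
    (snd : Xk ⟶ (yon S).obj k.pt) (sq : IsPullback fst snd f k.toHom) (d : ℕ) :
    AlgSp.dim Xk ≤ d ↔ ∀ x : Points X, Points.map f x = Points.mk k →
      HasAtMor (fun _ _ h u => FlatMor.fibreDimAt h u ≤ (d : WithBot ℕ∞)) f x := by
  have hK : IsAlgSpace ((yon S).obj k.pt) := IsAlgSpace.yon_obj _
  have hXk : IsAlgSpace Xk := isAlgSpace_of_isPullback' hY hX hK sq
  constructor
  · intro hd x hx
    obtain ⟨z, rfl⟩ := exists_point_fibre f k fst snd sq x hx
    obtain ⟨W, c, hce, hcs⟩ := hXk.atlas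
    obtain ⟨w, rfl⟩ := exists_ofPt_eq c hcs z
    obtain ⟨U, V, a, b, h, u, hae, hbe, hw, hu⟩ := exists_chart_diagram hX hY f
      (Points.map fst (Points.ofPt c w))
    refine ⟨U, V, a, b, h, u, hae, hbe, hw, hu, ?_⟩
    show FlatMor.fibreDimAt h.left u ≤ (d : WithBot ℕ∞)
    rw [← localDim_chart_fibre_eq hX hY f hf k fst snd sq c hce w a b h hae hbe hw u hu]
    exact (TopDim.localDim_le w).trans ((le_dim_of_chart c hce).trans hd)
  · intro H
    unfold AlgSp.dim
    refine iSup_le fun W => iSup_le fun c => iSup_le fun hce => ?_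
    refine topologicalKrullDim_le_of_localDim_le _ d fun w => ?_
    obtain ⟨U, V, a, b, h, u, hae, hbe, hw, hu, hle⟩ :=
      H (Points.map fst (Points.ofPt c w)) (map_fst_fibre f k fst snd sq _)
    rw [localDim_chart_fibre_eq hX hY f hf k fst snd sq c hce w a b h hae hbe hw u hu]
    exact hle

/-- The fibre is empty iff the point is not in the image. -/
theorem dim_fibre_eq_bot_iff {X Y Xk : Sp S} (hX : IsAlgSpace X) (hY : IsAlgSpace Y)
    (f : X ⟶ Y) (k : FieldPt Y) (fst : Xk ⟶ X)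
    (snd : Xk ⟶ (yon S).obj k.pt) (sq : IsPullback fst snd f k.toHom) :
    AlgSp.dim Xk = ⊥ ↔ Points.mk k ∉ Set.range (Points.map f) := by
  have hK : IsAlgSpace ((yon S).obj k.pt) := IsAlgSpace.yon_obj _
  have hXk : IsAlgSpace Xk := isAlgSpace_of_isPullback' hY hX hK sq
  constructor
  · rintro hd ⟨x, hx⟩
    obtain ⟨z, -⟩ := exists_point_fibre f k fst snd sq x hx
    obtain ⟨W, c, hce, hcs⟩ := hXk.atlas
    obtain ⟨w, -⟩ := exists_ofPt_eq c hcs z
    have h1 : topologicalKrullDim ↥W.left ≤ ⊥ := hd ▸ le_dim_of_chart c hce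
    haveI : Nonempty ↥W.left := ⟨w⟩
    have h2 : (0 : WithBot ℕ∞) ≤ topologicalKrullDim ↥W.left := by
      unfold topologicalKrullDim
      haveI : Nonempty (TopologicalSpace.IrreducibleCloseds ↥W.left) :=
        ⟨⟨closure {w}, isIrreducible_singleton.closure, isClosed_closure⟩⟩
      exact Order.krullDim_nonneg
    exact absurd (h2.trans h1) (by simp)
  · intro hy
    unfold AlgSp.dim
    rw [eq_bot_iff]
    refine iSup_le fun W => iSup_le fun c => iSup_le fun hce => ?_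
    haveI : IsEmpty ↥W.left := ⟨fun w => hy ⟨_, map_fst_fibre f k fst snd sq (Points.ofPt c w)⟩⟩
    unfold topologicalKrullDim
    haveI : IsEmpty (TopologicalSpace.IrreducibleCloseds ↥W.left) :=
      ⟨fun Z => (Z.isIrreducible.nonempty).elim fun w _ => IsEmpty.false w⟩
    rw [Order.krullDim_eq_bot]

end Groth.Agent.Lib.Helper15.FibDimSp
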