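import Groth.Agent.Lib.Helper15.FibDimSp
import Groth.Agent.Lib.lead.FlatFibreDimOpen
import Groth.Agent.Lib.Helper18.Chev.Main
import Groth.Agent.Lib.Helper3.AlgSpQC

set_option autoImplicit false
universe u
open CategoryTheory CategoryTheory.Limits AlgebraicGeometry
open AlgSp

namespace Groth.Agent.Lib.Helper15.FibDimSp

open Groth.Agent.Lib.Helper3 Groth.Agent.Lib.Helper15 Groth.Agent.Lib.Helper18
set_option backward.isDefEq.respectTransparency.types false

variable {S : Scheme.{u}}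

/-- A chart diagram with affine charts through a given point. -/
theorem exists_affine_chart_diagram {X Y : Sp S} (hX : IsAlgSpace X) (hY : IsAlgSpace Y)
    (f : X ⟶ Y) (x : Points X) :
    ∃ (U V : Over S) (a : (yon S).obj U ⟶ X) (b : (yon S).obj V ⟶ Y) (h : U ⟶ V) (u : ↥U.left),
      IsAffine U.left ∧ IsAffine V.left ∧
      RepWith @Etale a ∧ RepWith @Etale b ∧ a ≫ f = (yon S).map h ≫ b ∧ Points.ofPt a u = x := by
  obtain ⟨V, b, v, hV, hbe, hv⟩ := exists_affine_chart_through hY (Points.map f x)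
  obtain ⟨U₀, u₀, h₀, hue, hus, hae, -, hh, hcomm⟩ := exists_chart_over hX hY f b hbe
  have hxy : Points.map f x = Points.map b (Points.schemeHomeo V v) := by
    have := congrFun (Points.ofPt_eq b) v
    rw [Function.comp_apply] at this
    rw [← this, hv]
  obtain ⟨z, hz, -⟩ := Points.exists_of_isPullback (IsPullback.of_hasPullback f b) x _ hxy
  obtain ⟨u, hu⟩ := exists_ofPt_eq u₀ hus z
  obtain ⟨W, hW, huW⟩ : ∃ W : U₀.left.Opens, IsAffineOpen W ∧ u ∈ W := by
    obtain ⟨_, ⟨W, hW, rfl⟩, huW, -⟩ := (U₀.left.isBasis_affineOpens).exists_subset_of_mem_open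
      (Set.mem_univ u) isOpen_univ
    exact ⟨W, hW, huW⟩
  let ι' : Over.mk (W.ι ≫ U₀.hom) ⟶ U₀ := Over.homMk W.ι rfl
  refine ⟨Over.mk (W.ι ≫ U₀.hom), V, chartRestrict (u₀ ≫ pullback.fst f b) W, b, ι' ≫ h₀,
    (⟨u, huW⟩ : ↥W), hW, hV, chartRestrict_etale _ hae W, hbe, ?_, ?_⟩
  · rw [Functor.map_comp, Category.assoc, ← hcomm]
    rfl
  · rw [ofPt_chartRestrict]
    show Points.ofPt (u₀ ≫ pullback.fst f b) u = x
    rw [← Points.map_ofPt, hu, hz]

/-- The image of a flat morphism locally of finite presentation is open. -/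
theorem isOpen_range_of_flat {X Y : Sp S} (hX : IsAlgSpace X) (hY : IsAlgSpace Y) (f : X ⟶ Y)
    (hfl : LocP @Flat f) (hfp : LocP @LocallyOfFinitePresentation f) :
    IsOpen (Set.range (Points.map f)) := by
  rw [isOpen_iff_forall_mem_open]
  rintro _ ⟨x, rfl⟩
  obtain ⟨U, V, a, b, h, u, hae, hbe, hw, hu⟩ := exists_chart_diagram hX hY f x
  haveI : Flat h.left := hfl a b h hae hbe hw
  haveI : LocallyOfFinitePresentation h.left := hfp a b h hae hbe hw
  refine ⟨Points.ofPt b '' Set.range h.left, ?_,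
    isOpenMap_ofPt b hbe _ h.left.isOpenMap.isOpen_range, ⟨h.left u, ⟨u, rfl⟩, ?_⟩⟩
  · rintro _ ⟨_, ⟨u', rfl⟩, rfl⟩
    refine ⟨Points.ofPt a u', ?_⟩
    rw [Points.map_ofPt, hw, Points.ofPt_yon_map_comp]
  · rw [← hu, Points.map_ofPt, hw, Points.ofPt_yon_map_comp]

open Groth.Agent.Lib.lead Groth.Agent.Lib.Helper21 in
/-- For a flat morphism locally of finite presentation, the set of points of the target over which
the relative dimension exceeds `n` somewhere is open. -/
theorem isOpen_exists_relDim_gt {X Y : Sp S} (hX : IsAlgSpace X) (hY : IsAlgSpace Y) (f : X ⟶ Y)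
    (hfl : LocP @Flat f) (hfp : LocP @LocallyOfFinitePresentation f) (n : ℕ) :
    IsOpen {y : Points Y | ∃ x : Points X, Points.map f x = y ∧
      ¬ HasAtMor (fun _ _ h u => FlatMor.fibreDimAt h u ≤ (n : WithBot ℕ∞)) f x} := by
  rw [isOpen_iff_forall_mem_open]
  rintro _ ⟨x, rfl, hx⟩
  obtain ⟨U, V, a, b, h, u, hU, hV, hae, hbe, hw, hu⟩ := exists_affine_chart_diagram hX hY f x
  haveI : Flat h.left := hfl a b h hae hbe hw
  haveI : LocallyOfFinitePresentation h.left := hfp a b h hae hbe hw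
  have hO := FlatFibreDimOpen.S0404 h.left (n : WithBot ℕ∞)
  refine ⟨Points.ofPt b '' {s | (n : WithBot ℕ∞) < topologicalKrullDim ↥(h.left.fiber s)}, ?_,
    isOpenMap_ofPt b hbe _ hO, ⟨h.left u, ?_, ?_⟩⟩
  · rintro _ ⟨s, hs, rfl⟩
    have hs' : ((n + 1 : ℕ) : WithBot ℕ∞) ≤ topologicalKrullDim ↥(h.left.fiber s) :=
      natCast_add_one_le_of_lt n _ hs
    obtain ⟨u₁, hu₁, hle⟩ := (FibreDimTarget.le_dim_fibre_iff h.left s (n + 1)).1 hs'
    refine ⟨Points.ofPt a u₁, ?_, ?_⟩
    · rw [Points.map_ofPt, hw, Points.ofPt_yon_map_comp, hu₁]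
    · rintro ⟨U₂, V₂, a₂, b₂, h₂, u₂, ha₂, hb₂, w₂, hu₂, hle₂⟩
      haveI : LocallyOfFinitePresentation h₂.left := hfp a₂ b₂ h₂ ha₂ hb₂ w₂
      have e := FlatRelDimSp.fibreDimAt_eq_of_charts f a₂ b₂ h₂ a b h ha₂ hb₂ hae hbe w₂ hw u₂ u₁
        hu₂
      have hle₂' : FlatMor.fibreDimAt h₂.left u₂ ≤ (n : WithBot ℕ∞) := hle₂
      rw [e] at hle₂'
      have h3 := hle.trans hle₂'
      have h4 : ((n + 1 : ℕ) : ℕ∞) ≤ (n : ℕ∞) := by exact_mod_cast h3
      have h5 : n + 1 ≤ n := by exact_mod_cast h4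
      omega
  · have h1 : ¬ FlatMor.fibreDimAt h.left u ≤ (n : WithBot ℕ∞) := fun hle =>
      hx ⟨U, V, a, b, h, u, hae, hbe, hw, hu, hle⟩
    have h2 : FlatMor.fibreDimAt h.left u ≤ topologicalKrullDim ↥(h.left.fiber (h.left u)) :=
      TopDim.localDim_le _
    exact lt_of_lt_of_le (not_le.1 h1) h2
  · rw [← hu, Points.map_ofPt, hw, Points.ofPt_yon_map_comp]

/-- A set of points of the target defined through all fibres is described by any pointwise
characterisation. -/
theorem setOf_forall_fibre_eq {X Y : Sp S} (f : X ⟶ Y) (P : WithBot ℕ∞ → Prop)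
    (Q : Points Y → Prop)
    (hPQ : ∀ (k : FieldPt Y) (Xk : Sp S) (fst : Xk ⟶ X) (snd : Xk ⟶ (yon S).obj k.pt),
      IsPullback fst snd f k.toHom → (P (AlgSp.dim Xk) ↔ Q (Points.mk k))) :
    {y : Points Y | ∀ (k : FieldPt Y), Points.mk k = y →
      ∀ (Xk : Sp S) (fst : Xk ⟶ X) (snd : Xk ⟶ (yon S).obj k.pt),
        IsPullback fst snd f k.toHom → P (AlgSp.dim Xk)} = {y | Q y} := by
  ext y
  constructor
  · intro hy
    obtain ⟨k, rfl⟩ := Points.mk_surjective y
    exact (hPQ k _ _ _ (IsPullback.of_hasPullback f k.toHom)).1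
      (hy k rfl _ _ _ (IsPullback.of_hasPullback f k.toHom))
  · rintro hy k rfl Xk fst snd sq
    exact (hPQ k Xk fst snd sq).2 hy

/-- Lower semicontinuity of the fibre dimension for flat morphisms locally of finite
presentation. -/
theorem isOpen_lt_dim_fibre {X Y : Sp S} (hX : IsAlgSpace X) (hY : IsAlgSpace Y) (f : X ⟶ Y)
    (hfl : LocP @Flat f) (hfp : LocP @LocallyOfFinitePresentation f) (d : WithBot ℕ∞) :
    IsOpen {y : Points Y | ∀ (k : FieldPt Y), Points.mk k = y →
      ∀ (Xk : Sp S) (fst : Xk ⟶ X) (snd : Xk ⟶ (yon S).obj k.pt),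
        IsPullback fst snd f k.toHom → d < AlgSp.dim Xk} := by
  have hlft : LocP @LocallyOfFiniteType f := fun U V a b h ha hb w => by
    haveI : LocallyOfFinitePresentation h.left := hfp a b h ha hb w
    infer_instance
  induction d using WithBot.recBotCoe with
  | bot =>
    rw [setOf_forall_fibre_eq f (fun z => ⊥ < z) (fun y => y ∈ Set.range (Points.map f))
      (fun k Xk fst snd sq => by
        rw [bot_lt_iff_ne_bot, Ne, dim_fibre_eq_bot_iff hX hY f k fst snd sq, not_not])]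
    exact isOpen_range_of_flat hX hY f hfl hfp
  | coe m =>
    induction m using ENat.recTopCoe with
    | top =>
      rw [setOf_forall_fibre_eq f (fun z => ((⊤ : ℕ∞) : WithBot ℕ∞) < z) (fun _ => False)
        (fun k Xk fst snd sq => by
          simp only [iff_false, not_lt]
          exact le_top (α := WithBot ℕ∞))]
      simp
    | coe n =>
      rw [setOf_forall_fibre_eq f (fun z => (((n : ℕ) : ℕ∞) : WithBot ℕ∞) < z)
        (fun y => ∃ x : Points X, Points.map f x = y ∧
          ¬ HasAtMor (fun _ _ h u => FlatMor.fibreDimAt h u ≤ (n : WithBot ℕ∞)) f x)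
        (fun k Xk fst snd sq => by
          have h1 := dim_fibre_le_iff hX hY f hlft k fst snd sq n
          rw [← not_le]
          constructor
          · intro h2
            by_contra h3
            push Not at h3
            exact h2 (h1.2 h3)
          · rintro ⟨x, hx, hne⟩ h2
            exact hne (h1.1 h2 x hx))]
      exact isOpen_exists_relDim_gt hX hY f hfl hfp n

/-- The locus where the relative dimension is at most `n` is open. -/
theorem isOpen_relDim_le {X Y : Sp S} (f : X ⟶ Y) (hf : LocP @LocallyOfFiniteType f) (n : ℕ) :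
    IsOpen {x : Points X |
      HasAtMor (fun _ _ h u => FlatMor.fibreDimAt h u ≤ (n : WithBot ℕ∞)) f x} := by
  rw [isOpen_iff_forall_mem_open]
  rintro x ⟨U, V, a, b, h, u, hae, hbe, hw, hu, hle⟩
  haveI : LocallyOfFiniteType h.left := hf a b h hae hbe hw
  refine ⟨Points.ofPt a '' {u' | FlatMor.fibreDimAt h.left u' ≤ (n : WithBot ℕ∞)}, ?_,
    isOpenMap_ofPt a hae _ (Chev.isOpen_fibreDimAt_le h.left n), ⟨u, hle, hu⟩⟩
  rintro _ ⟨u', hu', rfl⟩
  exact ⟨U, V, a, b, h, u', hae, hbe, hw, rfl, hu'⟩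

/-- For a closed morphism, the set of points of the target over which the relative dimension is
everywhere at most `n` is open. -/
theorem isOpen_forall_relDim_le {X Y : Sp S} (f : X ⟶ Y) (hf : LocP @LocallyOfFiniteType f)
    (hcl : IsClosedMap (Points.map f)) (n : ℕ) :
    IsOpen {y : Points Y | ∀ x : Points X, Points.map f x = y →
      HasAtMor (fun _ _ h u => FlatMor.fibreDimAt h u ≤ (n : WithBot ℕ∞)) f x} := by
  have h1 := (hcl _ (isOpen_relDim_le f hf n).isClosed_compl).isOpen_compl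
  convert h1 using 1
  ext y
  constructor
  · rintro H ⟨x, hxE, hx⟩
    exact hxE (H x hx)
  · intro hy x hx
    by_contra hne
    exact hy ⟨x, hne, hx⟩

/-- Every point has finite relative dimension. -/
theorem exists_relDim_le {X Y : Sp S} (hX : IsAlgSpace X) (hY : IsAlgSpace Y) (f : X ⟶ Y)
    (hf : LocP @LocallyOfFiniteType f) (x : Points X) :
    ∃ n : ℕ, HasAtMor (fun _ _ h u => FlatMor.fibreDimAt h u ≤ (n : WithBot ℕ∞)) f x := by
  obtain ⟨U, V, a, b, h, u, hae, hbe, hw, hu⟩ := exists_chart_diagram hX hY f x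
  haveI : LocallyOfFiniteType h.left := hf a b h hae hbe hw
  obtain ⟨n, hn⟩ := Chev.exists_nat_fibreDimAt h.left u
  exact ⟨n, U, V, a, b, h, u, hae, hbe, hw, hu, hn.le⟩

theorem relDim_le_mono {X Y : Sp S} (f : X ⟶ Y) {m n : ℕ} (hmn : m ≤ n) (x : Points X)
    (h : HasAtMor (fun _ _ h u => FlatMor.fibreDimAt h u ≤ (m : WithBot ℕ∞)) f x) :
    HasAtMor (fun _ _ h u => FlatMor.fibreDimAt h u ≤ (n : WithBot ℕ∞)) f x := by
  obtain ⟨U, V, a, b, h, u, hae, hbe, hw, hu, hle⟩ := h
  refine ⟨U, V, a, b, h, u, hae, hbe, hw, hu, hle.trans ?_⟩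
  exact_mod_cast hmn

/-- The fibres of a quasi-compact morphism locally of finite type are finite dimensional. -/
theorem exists_dim_fibre_le {X Y Xk : Sp S} (hX : IsAlgSpace X) (hY : IsAlgSpace Y)
    (f : X ⟶ Y) (hf : LocP @LocallyOfFiniteType f) (hqc : IsQuasiCompactMor f) (k : FieldPt Y)
    (fst : Xk ⟶ X) (snd : Xk ⟶ (yon S).obj k.pt) (sq : IsPullback fst snd f k.toHom) :
    ∃ n : ℕ, AlgSp.dim Xk ≤ n := by
  have hK : IsAlgSpace ((yon S).obj k.pt) := IsAlgSpace.yon_obj _
  have hKqc : IsQuasiCompactSp ((yon S).obj k.pt) :=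
    isQuasiCompactSp_yon (inferInstanceAs (CompactSpace (PrimeSpectrum k.K)))
  haveI : CompactSpace (Points Xk) :=
    compactSpace_points_of_isQuasiCompactSp (hqc hK hKqc k.toHom fst snd sq)
  let E : ℕ → Set (Points Xk) := fun n => Points.map fst ⁻¹'
    {x | HasAtMor (fun _ _ h u => FlatMor.fibreDimAt h u ≤ (n : WithBot ℕ∞)) f x}
  have hEo : ∀ n, IsOpen (E n) := fun n =>
    (isOpen_relDim_le f hf n).preimage (Points.continuous_map fst)
  have hEc : (Set.univ : Set (Points Xk)) ⊆ ⋃ n, E n := by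
    intro z _
    obtain ⟨n, hn⟩ := exists_relDim_le hX hY f hf (Points.map fst z)
    exact Set.mem_iUnion.2 ⟨n, hn⟩
  obtain ⟨t, ht⟩ := isCompact_univ.elim_finite_subcover E hEo hEc
  refine ⟨t.sup id, (dim_fibre_le_iff hX hY f hf k fst snd sq _).2 fun x hx => ?_⟩
  obtain ⟨z, rfl⟩ := exists_point_fibre f k fst snd sq x hx
  obtain ⟨n, hnt, hn⟩ : ∃ n ∈ t, z ∈ E n := by
    have := ht (Set.mem_univ z)
    simpa using this
  exact relDim_le_mono f (Finset.le_sup (f := id) hnt) _ hn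

end Groth.Agent.Lib.Helper15.FibDimSp
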