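import Mathlib
import Groth.Prelude.Def_MoreMor

set_option autoImplicit false
universe u
open CategoryTheory CategoryTheory.Limits AlgebraicGeometry

namespace Groth.Agent.Lib.Helper15.FibSec

/-- The map of fibres over a point `w` is a base change of the map `γ` of the base changes to any
`K' ⟶ W` through which `Spec κ(w) ⟶ W` factors. -/
theorem flat_fiberMap_of_section {U V W K' : Scheme.{u}} (h : U ⟶ V) (l : V ⟶ W) (w : W)
    (pW : K' ⟶ W) (s : Spec (W.residueField w) ⟶ K') (hs : s ≫ pW = W.fromSpecResidueField w)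
    {GU GV : Scheme.{u}} (g₁U : GU ⟶ U) (g₂U : GU ⟶ K') (sqU : IsPullback g₁U g₂U (h ≫ l) pW)
    (g₁V : GV ⟶ V) (g₂V : GV ⟶ K') (sqV : IsPullback g₁V g₂V l pW) (γ : GU ⟶ GV)
    (hγ1 : γ ≫ g₁V = g₁U ≫ h) (hγ2 : γ ≫ g₂V = g₂U) [Flat γ] :
    Flat (MoreMor.fiberMap h l w) := by
  set F := MoreMor.fiberMap h l w with hF
  have hF1 : F ≫ l.fiberι w = (h ≫ l).fiberι w ≫ h := pullback.lift_fst _ _ _
  have hF2 : F ≫ l.fiberToSpecResidueField w = (h ≫ l).fiberToSpecResidueField w :=
    pullback.lift_snd _ _ _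
  -- the maps from the fibres
  let B : l.fiber w ⟶ GV := sqV.lift (l.fiberι w) (l.fiberToSpecResidueField w ≫ s)
    (by rw [Category.assoc, hs]; exact l.fiber_fac w)
  have hB1 : B ≫ g₁V = l.fiberι w := sqV.lift_fst _ _ _
  have hB2 : B ≫ g₂V = l.fiberToSpecResidueField w ≫ s := sqV.lift_snd _ _ _
  let A : (h ≫ l).fiber w ⟶ GU := sqU.lift ((h ≫ l).fiberι w)
    ((h ≫ l).fiberToSpecResidueField w ≫ s)
    (by rw [Category.assoc, hs]; exact (h ≫ l).fiber_fac w)
  have hA1 : A ≫ g₁U = (h ≫ l).fiberι w := sqU.lift_fst _ _ _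
  have hA2 : A ≫ g₂U = (h ≫ l).fiberToSpecResidueField w ≫ s := sqU.lift_snd _ _ _
  have sqB : IsPullback B (l.fiberToSpecResidueField w) g₂V s := by
    refine IsPullback.of_right ?_ hB2 sqV
    rw [hB1, hs]
    exact IsPullback.of_hasPullback l (W.fromSpecResidueField w)
  have sqA : IsPullback A ((h ≫ l).fiberToSpecResidueField w) g₂U s := by
    refine IsPullback.of_right ?_ hA2 sqU
    rw [hA1, hs]
    exact IsPullback.of_hasPullback (h ≫ l) (W.fromSpecResidueField w)
  have hcomm : A ≫ γ = F ≫ B := by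
    apply sqV.hom_ext
    · rw [Category.assoc, hγ1, ← Category.assoc, hA1, Category.assoc, hB1, hF1]
    · rw [Category.assoc, hγ2, hA2, Category.assoc, hB2, ← Category.assoc, hF2]
  have sq : IsPullback A F γ B := by
    refine IsPullback.of_bot ?_ hcomm sqB
    rw [hF2, hγ2]
    exact sqA
  exact MorphismProperty.of_isPullback sq inferInstance

end Groth.Agent.Lib.Helper15.FibSec
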