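import Mathlib
import Groth.Agent.Lib.Helper21.FibreStalk
import Groth.Agent.S0392
import Groth.Prelude.Def_MoreMor

set_option autoImplicit false
universe u
open CategoryTheory CategoryTheory.Limits AlgebraicGeometry TensorProduct

namespace Groth.Agent.Lib.Helper15.FibreCritSch

section Ring

variable {S S' T T' : Type u} [CommRing S] [CommRing S'] [CommRing T] [CommRing T'] [Algebra S S']

/-- Flatness of a quotient square, in tensor form. -/
theorem flat_quot_tensor (J : Ideal S) (π : S →+* T) (hπ : Function.Surjective π)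
    (hkπ : RingHom.ker π = J) (π' : S' →+* T') (hπ' : Function.Surjective π')
    (hkπ' : RingHom.ker π' = J.map (algebraMap S S')) (φ : T →+* T')
    (hc : φ.comp π = π'.comp (algebraMap S S')) (hφ : φ.Flat) :
    Module.Flat (S ⧸ J) ((S ⧸ J) ⊗[S] S') := by
  have e := Algebra.TensorProduct.quotIdealMapEquivQuotTensor S' J
  suffices h : Module.Flat (S ⧸ J) (S' ⧸ J.map (algebraMap S S')) from
    Module.Flat.of_linearEquiv e.toLinearEquiv.symm
  rw [← RingHom.flat_algebraMap_iff]
  -- the two quotient isomorphisms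
  let e₁ : S ⧸ J ≃+* T :=
    (Ideal.quotEquivOfEq hkπ.symm).trans (RingHom.quotientKerEquivOfSurjective hπ)
  let e₂ : S' ⧸ J.map (algebraMap S S') ≃+* T' :=
    (Ideal.quotEquivOfEq hkπ'.symm).trans (RingHom.quotientKerEquivOfSurjective hπ')
  have he₁ : ∀ s : S, e₁ (Ideal.Quotient.mk J s) = π s := fun s => rfl
  have he₂ : ∀ s : S', e₂ (Ideal.Quotient.mk _ s) = π' s := fun s => rfl
  have key : algebraMap (S ⧸ J) (S' ⧸ J.map (algebraMap S S')) =
      (e₂.symm.toRingHom.comp φ).comp e₁.toRingHom := by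
    apply Ideal.Quotient.ringHom_ext
    ext s
    simp only [RingHom.comp_apply, RingEquiv.toRingHom_eq_coe, RingEquiv.coe_toRingHom]
    rw [he₁, Ideal.Quotient.algebraMap_quotient_map_quotient, RingEquiv.eq_symm_apply, he₂]
    exact (congrArg (fun g => g s) hc).symm
  rw [key]
  exact (RingHom.Flat.of_bijective e₁.bijective).comp
    (hφ.comp (RingHom.Flat.of_bijective e₂.symm.bijective))

end Ring

section Sch
open Groth.Agent.Lib.Helper21.FibreStalk IsLocalRing

theorem ker_toFibStalk' {X Y : Scheme.{u}} (f : X ⟶ Y) (x : X) (z : f.fiber (f x))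
    (hz : f.fiberι (f x) z = x) :
    RingHom.ker (toFibStalk f x z hz).hom = fibIdeal f x := by
  obtain rfl : z = zpt f x :=
    (f.fiberι (f x)).isEmbedding.injective (by rw [hz, fiberι_zpt])
  exact ker_toFibStalk f x

/-- The comparison map to the local ring of a fibre (over an arbitrary point `y`). -/
noncomputable def toFib {X Y : Scheme.{u}} (f : X ⟶ Y) (y : Y) (x : X) (z : f.fiber y)
    (hz : f.fiberι y z = x) : X.presheaf.stalk x ⟶ (f.fiber y).presheaf.stalk z :=
  X.presheaf.stalkSpecializes (specializes_of_eq hz) ≫ (f.fiberι y).stalkMap z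

theorem toFib_surjective {X Y : Scheme.{u}} (f : X ⟶ Y) (y : Y) (x : X) (z : f.fiber y)
    (hz : f.fiberι y z = x) : Function.Surjective (toFib f y x z hz).hom := by
  unfold toFib
  have h1 : Function.Surjective ((f.fiberι y).stalkMap z).hom := (f.fiberι y).stalkMap_surjective z
  have h2 : Function.Surjective (X.presheaf.stalkSpecializes (specializes_of_eq hz)).hom := by
    have : IsIso (X.presheaf.stalkSpecializes (specializes_of_eq hz)) :=
      (X.presheaf.stalkCongr (Inseparable.of_eq hz.symm)).isIso_hom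
    exact ((ConcreteCategory.isIso_iff_bijective _).1 this).2
  rw [CommRingCat.hom_comp]
  exact h1.comp h2

theorem ker_toFib {X Y : Scheme.{u}} (f : X ⟶ Y) (y : Y) (x : X) (z : f.fiber y)
    (hz : f.fiberι y z = x) (hy : f x = y) :
    RingHom.ker (toFib f y x z hz).hom =
      (maximalIdeal (Y.presheaf.stalk (f x))).map (f.stalkMap x).hom := by
  subst hy
  exact ker_toFibStalk' f x z hz

variable {U V W : Scheme.{u}} (h : U ⟶ V) (l : V ⟶ W)

theorem fiberMap_fiberι (w : W) :
    MoreMor.fiberMap h l w ≫ l.fiberι w = (h ≫ l).fiberι w ≫ h :=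
  pullback.lift_fst _ _ _

theorem toFib_comm (y : W) (u : U) (u₁ : (h ≫ l).fiber y)
    (hu₁ : (h ≫ l).fiberι y u₁ = u)
    (hv₁ : l.fiberι y (MoreMor.fiberMap h l y u₁) = h u) :
    toFib l y (h u) (MoreMor.fiberMap h l y u₁) hv₁ ≫ (MoreMor.fiberMap h l y).stalkMap u₁ =
      h.stalkMap u ≫ toFib (h ≫ l) y u u₁ hu₁ := by
  unfold toFib
  rw [← Scheme.Hom.stalkSpecializes_stalkMap_assoc, ← Scheme.Hom.stalkMap_comp,
    Scheme.Hom.stalkMap_congr_hom _ _ (fiberMap_fiberι h l y).symm, Scheme.Hom.stalkMap_comp]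
  simp only [Category.assoc]
  rw [TopCat.Presheaf.stalkCongr_hom]
  erw [TopCat.Presheaf.stalkSpecializes_comp_assoc]
  rfl

/-- **Fibre criterion of flatness, locally Noetherian schemes, pointwise.** -/
theorem flat_stalkMap_of_flat_fibre [IsLocallyNoetherian U] [IsLocallyNoetherian V]
    [IsLocallyNoetherian W] (u : U) (hfl : ((h ≫ l).stalkMap u).hom.Flat)
    (hfib : ((MoreMor.fiberMap h l (l (h u))).stalkMap ((h ≫ l).asFiber u)).hom.Flat) :
    (l.stalkMap (h u)).hom.Flat ∧ (h.stalkMap u).hom.Flat := by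
  let y : W := l (h u)
  let u₁ : (h ≫ l).fiber y := (h ≫ l).asFiber u
  have hu₁ : (h ≫ l).fiberι y u₁ = u := (h ≫ l).fiberι_asFiber u
  have hv₁ : l.fiberι y (MoreMor.fiberMap h l y u₁) = h u := by
    have e := congr($(fiberMap_fiberι h l y) u₁)
    rw [Scheme.Hom.comp_apply, Scheme.Hom.comp_apply, hu₁] at e
    exact e
  let R := W.presheaf.stalk y
  let S := V.presheaf.stalk (h u)
  let S' := U.presheaf.stalk u
  letI a1 : Algebra R S := (l.stalkMap (h u)).hom.toAlgebra
  letI a2 : Algebra S S' := (h.stalkMap u).hom.toAlgebra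
  letI a3 : Algebra R S' := ((h ≫ l).stalkMap u).hom.toAlgebra
  have hcomp : ((h ≫ l).stalkMap u).hom = (h.stalkMap u).hom.comp (l.stalkMap (h u)).hom := by
    rw [Scheme.Hom.stalkMap_comp]
    rfl
  haveI : IsScalarTower R S S' := IsScalarTower.of_algebraMap_eq' hcomp
  haveI : IsLocalHom (algebraMap R S) := inferInstanceAs (IsLocalHom (l.stalkMap (h u)).hom)
  haveI : IsLocalHom (algebraMap S S') := inferInstanceAs (IsLocalHom (h.stalkMap u).hom)
  haveI : Module.Flat R S' := hfl
  have key : Module.Flat (S ⧸ (maximalIdeal R).map (algebraMap R S))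
      ((S ⧸ (maximalIdeal R).map (algebraMap R S)) ⊗[S] S') := by
    refine flat_quot_tensor _ (toFib l y (h u) _ hv₁).hom (toFib_surjective _ _ _ _ _)
      (ker_toFib l y (h u) _ hv₁ rfl) (toFib (h ≫ l) y u u₁ hu₁).hom
      (toFib_surjective _ _ _ _ _) ?_ ((MoreMor.fiberMap h l y).stalkMap u₁).hom ?_ hfib
    · rw [ker_toFib (h ≫ l) y u u₁ hu₁ rfl, Ideal.map_map]
      show Ideal.map ((h ≫ l).stalkMap u).hom _ = Ideal.map ((h.stalkMap u).hom.comp (l.stalkMap (h u)).hom) _
      rw [hcomp]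
      rfl
    · have e := toFib_comm h l y u u₁ hu₁ hv₁
      exact congrArg CommRingCat.Hom.hom e
  obtain ⟨h1, h2⟩ := Groth.Agent.S0392.result (R := R) (S := S) (S' := S') (M := S') key
  exact ⟨h1, h2⟩

/-- **Fibre criterion of flatness, locally Noetherian schemes, global form.** -/
theorem flat_of_flat_fibres [IsLocallyNoetherian U] [IsLocallyNoetherian V]
    [IsLocallyNoetherian W] [Flat (h ≫ l)] (hfib : ∀ w : W, Flat (MoreMor.fiberMap h l w)) :
    Flat h ∧ (Surjective h → Flat l) := by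
  have key : ∀ u : U, (l.stalkMap (h u)).hom.Flat ∧ (h.stalkMap u).hom.Flat := fun u =>
    flat_stalkMap_of_flat_fibre h l u (Flat.stalkMap (h ≫ l) u)
      (haveI := hfib (l (h u)); Flat.stalkMap (MoreMor.fiberMap h l (l (h u))) _)
  refine ⟨Flat.of_stalkMap h fun u => (key u).2, fun hs => Flat.of_stalkMap l fun v => ?_⟩
  obtain ⟨u, rfl⟩ := hs.surj v
  exact (key u).1

end Sch

end Groth.Agent.Lib.Helper15.FibreCritSch
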