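import Mathlib

open TensorProduct IsLocalRing

universe u

namespace Groth.Agent.Lib.Helper15.FibreFree

/-- `M / IM` is finitely presented over `A / I`. -/
theorem fp_quot {A M : Type u} [CommRing A] [AddCommGroup M] [Module A M] (I : Ideal A)
    [Module.FinitePresentation A M] :
    Module.FinitePresentation (A ⧸ I) (M ⧸ I • (⊤ : Submodule A M)) := by
  have e : ((A ⧸ I) ⊗[A] M) ≃ₗ[A ⧸ I] (M ⧸ I • (⊤ : Submodule A M)) :=
    (TensorProduct.quotTensorEquivQuotSMul M I).extendScalarsOfSurjective
      Ideal.Quotient.mk_surjective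
  exact Module.FinitePresentation.of_equiv e

variable {R A M : Type u} [CommRing R] [IsLocalRing R] [CommRing A] [IsLocalRing A]
    [Algebra R A] [IsLocalHom (algebraMap R A)] [AddCommGroup M] [Module A M] [Module R M]
    [IsScalarTower R A M]

omit [IsLocalRing A] [IsLocalHom (algebraMap R A)] in
/-- Tor-vanishing: for `M` flat over `R` and a surjection `i : F → M`, `κ ⊗ ker i → κ ⊗ F` is
injective. -/
theorem ker_lTensor_injective [Module.Flat R M] {F : Type u} [AddCommGroup F] [Module R F]
    (i : F →ₗ[R] M) (hi : Function.Surjective i) :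
    Function.Injective ((LinearMap.ker i).subtype.lTensor (R ⧸ maximalIdeal R)) := by
  refine lTensor_injective_of_exact_of_exact_of_rTensor_injective
    (N₁ := LinearMap.ker i) (N₂ := F) (N₃ := M)
    (f₁ := (maximalIdeal R).subtype) (f₂ := Submodule.mkQ (maximalIdeal R))
    (g₁ := (LinearMap.ker i).subtype) (g₂ := i) (LinearMap.exact_subtype_mkQ (maximalIdeal R))
    (Submodule.mkQ_surjective _) (LinearMap.exact_subtype_ker_map i) hi ?_ ?_
  · exact Module.Flat.rTensor_preserves_injective_linearMap _ Subtype.val_injective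
  · exact Module.Flat.lTensor_preserves_injective_linearMap _ Subtype.val_injective

omit [IsLocalRing R] [IsLocalRing A] [IsLocalHom (algebraMap R A)] in
theorem one_tmul_eq_zero_iff (J : Ideal R) {F : Type u} [AddCommGroup F] [Module R F] (c : F) :
    ((1 : R ⧸ J) ⊗ₜ[R] c = 0) ↔ c ∈ J • (⊤ : Submodule R F) := by
  rw [← (TensorProduct.quotTensorEquivQuotSMul F J).map_eq_zero_iff,
    TensorProduct.quotTensorEquivQuotSMul_mk_one_tmul, Submodule.Quotient.mk_eq_zero]

/-- **Fibrewise freeness**: a finitely presented module over a local `R`-algebra `A`, flat over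
`R`, whose fibre `M / 𝔪_R M` is flat over `A / 𝔪_R A`, is free. -/
theorem free_of_flat_of_fibre_flat [Module.FinitePresentation A M] [Module.Flat R M]
    (hfib : Module.Flat (A ⧸ (maximalIdeal R).map (algebraMap R A))
      (M ⧸ ((maximalIdeal R).map (algebraMap R A)) • (⊤ : Submodule A M))) :
    Module.Free A M := by
  set I := (maximalIdeal R).map (algebraMap R A) with hI
  have hIle : I ≤ maximalIdeal A :=
    ((IsLocalRing.local_hom_TFAE (algebraMap R A)).out 0 2).1 (inferInstance : IsLocalHom (algebraMap R A))
  have hIne : I ≠ ⊤ := fun h => Ideal.IsMaximal.ne_top (IsLocalRing.maximalIdeal.isMaximal A)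
    (top_le_iff.1 (by rw [← h]; exact hIle))
  haveI : Nontrivial (A ⧸ I) := Ideal.Quotient.nontrivial_iff.2 hIne
  haveI : IsLocalRing (A ⧸ I) :=
    IsLocalRing.of_surjective' (Ideal.Quotient.mk I) Ideal.Quotient.mk_surjective
  haveI : Module.FinitePresentation (A ⧸ I) (M ⧸ I • (⊤ : Submodule A M)) := fp_quot I
  haveI : Module.Free (A ⧸ I) (M ⧸ I • (⊤ : Submodule A M)) := Module.free_of_flat_of_isLocalRing
  let b := Module.finBasis (A ⧸ I) (M ⧸ I • (⊤ : Submodule A M))
  set n := Module.finrank (A ⧸ I) (M ⧸ I • (⊤ : Submodule A M)) with hn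
  choose v hv using fun j => Submodule.Quotient.mk_surjective (I • (⊤ : Submodule A M)) (b j)
  let i : (Fin n → A) →ₗ[A] M := Fintype.linearCombination A v
  -- reduction of `i c` modulo `I`
  have hmk : ∀ c : Fin n → A, Submodule.Quotient.mk (p := I • (⊤ : Submodule A M)) (i c) =
      ∑ j, Ideal.Quotient.mk I (c j) • b j := by
    intro c
    change (I • (⊤ : Submodule A M)).mkQ (i c) = _
    simp only [i, Fintype.linearCombination_apply, map_sum, map_smul]
    refine Finset.sum_congr rfl fun j _ => ?_
    rw [Submodule.mkQ_apply, hv]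
    rfl
  have hjac : I ≤ Ideal.jacobson ⊥ := hIle.trans (IsLocalRing.maximalIdeal_le_jacobson _)
  -- surjectivity
  have hi : Function.Surjective i := by
    rw [← LinearMap.range_eq_top, eq_top_iff]
    refine Submodule.le_of_le_smul_of_le_jacobson_bot (Module.Finite.fg_top) hjac ?_
    intro m _
    obtain ⟨a, ha⟩ : ∃ a : Fin n → A, ∀ j, Ideal.Quotient.mk I (a j) =
        b.repr (Submodule.Quotient.mk m) j :=
      ⟨fun j => (Ideal.Quotient.mk_surjective (b.repr (Submodule.Quotient.mk m) j)).choose,
        fun j => (Ideal.Quotient.mk_surjective (b.repr (Submodule.Quotient.mk m) j)).choose_spec⟩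
    have h1 : Submodule.Quotient.mk (p := I • (⊤ : Submodule A M)) (m - i a) = 0 := by
      rw [Submodule.Quotient.mk_sub, hmk]
      simp only [ha]
      rw [b.sum_repr, sub_self]
    rw [Submodule.Quotient.mk_eq_zero] at h1
    have : m = i a + (m - i a) := by abel
    rw [this]
    exact Submodule.add_mem_sup (LinearMap.mem_range_self i a) h1
  -- the kernel
  have hK : (LinearMap.ker i).FG := Module.FinitePresentation.fg_ker i hi
  have hK0 : LinearMap.ker i = ⊥ := by
    refine Submodule.eq_bot_of_le_smul_of_le_jacobson_bot I _ hK ?_ hjac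
    intro c hc
    -- all coordinates of `c` lie in `I`
    have hcI : ∀ j, c j ∈ I := by
      have h0 : ∑ j, Ideal.Quotient.mk I (c j) • b j = 0 := by
        rw [← hmk, LinearMap.mem_ker.1 hc, Submodule.Quotient.mk_zero]
      intro j
      have := Fintype.linearIndependent_iff.1 b.linearIndependent _ h0 j
      exact Ideal.Quotient.eq_zero_iff_mem.1 this
    have hcF : c ∈ I • (⊤ : Submodule A (Fin n → A)) := by
      have : c = ∑ j, c j • (Pi.single j 1 : Fin n → A) := by
        ext k
        simp [Finset.sum_apply, Pi.single_apply]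
      rw [this]
      exact Submodule.sum_mem _ fun j _ => Submodule.smul_mem_smul (hcI j) trivial
    have hcR : c ∈ (maximalIdeal R) • (⊤ : Submodule R (Fin n → A)) := by
      have := Ideal.smul_restrictScalars (R := R) (S := A) (maximalIdeal R)
        (⊤ : Submodule A (Fin n → A))
      rw [Submodule.restrictScalars_top] at this
      rw [← this]
      exact hcF
    let iR : (Fin n → A) →ₗ[R] M := i.restrictScalars R
    have hinj := ker_lTensor_injective iR hi
    have hx : ((1 : R ⧸ maximalIdeal R) ⊗ₜ[R] (⟨c, hc⟩ : LinearMap.ker iR)) = 0 := by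
      apply hinj
      rw [map_zero, LinearMap.lTensor_tmul]
      exact (one_tmul_eq_zero_iff _ c).2 hcR
    rw [one_tmul_eq_zero_iff] at hx
    -- transport back
    have key : ∀ y : LinearMap.ker iR, y ∈ (maximalIdeal R) • (⊤ : Submodule R (LinearMap.ker iR)) →
        (y : Fin n → A) ∈ I • LinearMap.ker i := by
      intro y hy
      refine Submodule.smul_induction_on hy ?_ ?_
      · intro r hr k _
        have : ((r • k : LinearMap.ker iR) : Fin n → A) = algebraMap R A r • (k : Fin n → A) := by
          rw [Submodule.coe_smul, algebraMap_smul]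
        rw [this]
        exact Submodule.smul_mem_smul (Ideal.mem_map_of_mem _ hr) k.2
      · intro y z hy hz
        rw [Submodule.coe_add]
        exact Submodule.add_mem _ hy hz
    exact key _ hx
  exact Module.Free.of_equiv (LinearEquiv.ofBijective i ⟨LinearMap.ker_eq_bot.1 hK0, hi⟩)

end Groth.Agent.Lib.Helper15.FibreFree
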