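import Mathlib.FieldTheory.IsAlgClosed.Classification
import Mathlib.FieldTheory.IsAlgClosed.AlgebraicClosure
import Mathlib.RingTheory.AlgebraicIndependent.TranscendenceBasis
import Mathlib.RingTheory.Localization.Integral

set_option autoImplicit false
universe u
open Cardinal

namespace Groth.Agent.Lib.Helper15.FieldAut

/-- algebraically closed fields over `R` with equipotent transcendence bases are isomorphic over `R` -/
theorem exists_ringEquiv_of_transcendenceBasis {R K L : Type*} [CommRing R] [Field K] [Field L]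
    [Algebra R K] [Algebra R L] [IsAlgClosed K] [IsAlgClosed L] {ι κ : Type*} (v : ι → K)
    (w : κ → L) (e : ι ≃ κ) (hv : IsTranscendenceBasis R v) (hw : IsTranscendenceBasis R w) :
    ∃ f : K ≃+* L, ∀ r : R, f (algebraMap R K r) = algebraMap R L r := by
  letI := IsAlgClosed.isAlgClosure_of_transcendence_basis v hv
  letI := IsAlgClosed.isAlgClosure_of_transcendence_basis w hw
  let e' : Algebra.adjoin R (Set.range v) ≃ₐ[R] Algebra.adjoin R (Set.range w) :=
    hv.1.aevalEquiv.symm.trans ((MvPolynomial.renameEquiv R e).trans hw.1.aevalEquiv)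
  refine ⟨IsAlgClosure.equivOfEquiv K L e'.toRingEquiv, fun r => ?_⟩
  have h1 : algebraMap R K r =
      algebraMap (Algebra.adjoin R (Set.range v)) K (algebraMap R _ r) := rfl
  rw [h1, IsAlgClosure.equivOfEquiv_algebraMap]
  have h2 : e'.toRingEquiv (algebraMap R _ r) = algebraMap R _ r := e'.commutes r
  rw [h2]
  rfl


section
variable (k K : Type u) [Field k] [Field K] (I : Type u)

/-- the big algebraically closed extension of `K` -/
abbrev Big : Type u := AlgebraicClosure (FractionRing (MvPolynomial I K))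

theorem trdeg_big [Infinite I] : Algebra.trdeg K (Big K I) = #I := by
  have h1 : Algebra.trdeg K (MvPolynomial I K) = #I := by
    rw [MvPolynomial.trdeg_of_isDomain, lift_id]
  haveI : Algebra.IsAlgebraic (MvPolynomial I K) (Big K I) :=
    (IsFractionRing.comap_isAlgebraic_iff (K := FractionRing (MvPolynomial I K))).mpr inferInstance
  have h2 : Algebra.trdeg (MvPolynomial I K) (Big K I) = 0 := trdeg_eq_zero
  haveI : FaithfulSMul (MvPolynomial I K) (Big K I) :=
    (faithfulSMul_iff_algebraMap_injective _ _).mpr (by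
      rw [IsScalarTower.algebraMap_eq (MvPolynomial I K) (FractionRing (MvPolynomial I K)) (Big K I)]
      exact (FaithfulSMul.algebraMap_injective (FractionRing (MvPolynomial I K)) (Big K I)).comp
        (IsFractionRing.injective _ _))
  have h3 := trdeg_add_eq K (MvPolynomial I K) (A := Big K I)
  rw [h1, h2, add_zero] at h3
  exact h3.symm

theorem exists_basis [Infinite I] (hI : #K ≤ #I) (σ : k →+* K) :
    ∃ (alg : Algebra k (Big K I)) (ι : Type u) (x : ι → Big K I),
      (∀ r, @algebraMap k (Big K I) _ _ alg r = algebraMap K (Big K I) (σ r)) ∧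
      @IsTranscendenceBasis ι k (Big K I) _ _ alg x ∧ #ι = #I := by
  letI : Algebra k K := σ.toAlgebra
  obtain ⟨ι, x, hx⟩ := exists_isTranscendenceBasis' k (Big K I)
  refine ⟨inferInstance, ι, x, fun r => IsScalarTower.algebraMap_apply k K (Big K I) r, hx, ?_⟩
  rw [hx.cardinalMk_eq_trdeg, ← trdeg_add_eq k K (A := Big K I), trdeg_big K I]
  obtain ⟨κ, y, hy⟩ := exists_isTranscendenceBasis' k K
  have h4 : Algebra.trdeg k K ≤ #K := by
    rw [← hy.cardinalMk_eq_trdeg]
    exact Cardinal.mk_le_of_injective hy.1.injective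
  exact Cardinal.add_eq_right (Cardinal.aleph0_le_mk I) (h4.trans hI)

end

/-- two embeddings of `k` in `K` become conjugate in a big algebraically closed extension -/
theorem exists_aut (k K : Type u) [Field k] [Field K] (σ₁ σ₂ : k →+* K) :
    ∃ (k' : Type u) (_ : Field k') (j : K →+* k') (b : k' ≃+* k'), IsAlgClosed k' ∧
      ∀ x, b (j (σ₁ x)) = j (σ₂ x) := by
  let I : Type u := K × ℕ
  have hI : #K ≤ #I := by
    change #K ≤ #(K × ℕ)
    exact Cardinal.mk_le_of_injective (f := fun a : K => (a, 0)) (fun a b h => (Prod.mk.inj h).1)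
  obtain ⟨alg₁, ι₁, x₁, ha₁, h₁, c₁⟩ := exists_basis k K I hI σ₁
  obtain ⟨alg₂, ι₂, x₂, ha₂, h₂, c₂⟩ := exists_basis k K I hI σ₂
  obtain ⟨e⟩ : Nonempty (ι₁ ≃ ι₂) := Cardinal.eq.1 (c₁.trans c₂.symm)
  obtain ⟨f, hf⟩ := @exists_ringEquiv_of_transcendenceBasis k (Big K I) (Big K I) _ _ _
    alg₁ alg₂ _ _ ι₁ ι₂ x₁ x₂ e h₁ h₂
  refine ⟨Big K I, inferInstance, algebraMap K (Big K I), f, inferInstance, fun x => ?_⟩
  rw [← ha₁, ← ha₂]
  exact hf x

end Groth.Agent.Lib.Helper15.FieldAut
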