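import Mathlib

set_option autoImplicit false

open TensorProduct

namespace Groth.Agent.Lib.Helper15.FieldQuot

universe u v w

section EqField
variable {k : Type u} [Field k] {L : Type v} [CommRing L]

/-- the equalizer of two ring homs from a field to a commutative ring, as a subfield. -/
def eqField (σ τ : k →+* L) : Subfield k where
  __ := σ.eqLocus τ
  carrier := {a | σ a = τ a}
  inv_mem' := by
    intro a (ha : σ a = τ a)
    change σ a⁻¹ = τ a⁻¹
    by_cases h0 : a = 0
    · subst h0; simp
    · have h1 : σ a⁻¹ * σ a = 1 := by rw [← map_mul, inv_mul_cancel₀ h0, map_one]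
      have h2 : τ a⁻¹ * σ a = 1 := by rw [ha, ← map_mul, inv_mul_cancel₀ h0, map_one]
      calc σ a⁻¹ = σ a⁻¹ * (τ a⁻¹ * σ a) := by rw [h2, mul_one]
        _ = τ a⁻¹ * (σ a⁻¹ * σ a) := by ring
        _ = τ a⁻¹ := by rw [h1, mul_one]

theorem mem_eqField {σ τ : k →+* L} {a : k} : a ∈ eqField σ τ ↔ σ a = τ a := Iff.rfl

end EqField

section LemmaA
variable {k : Type u} [Field k] {L M : Type v} [CommRing L] [CommRing M] [Algebra k L] [Algebra k M]
  (j : L ≃+* M) (σ : k →+* L) (hσ : ∀ a, j (σ a) = algebraMap k M a)
  (γ : L →+* L ⊗[k] M)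
  (hγσ : ∀ a, γ (σ a) = σ a ⊗ₜ 1)
  (hγτ : ∀ b, γ (algebraMap k L b) = 1 ⊗ₜ j (algebraMap k L b))

include hγσ hγτ in
theorem key_step {ι : Type w} (s : Finset ι) (a b : ι → k)
    (h : ∑ i ∈ s, σ (a i) * algebraMap k L (b i) = 0) (lam : L →ₗ[k] k) :
    ∑ i ∈ s, algebraMap k M (lam (σ (a i))) * j (algebraMap k L (b i)) = 0 := by
  have h1 : ∑ i ∈ s, (σ (a i) ⊗ₜ[k] j (algebraMap k L (b i)) : L ⊗[k] M) = 0 := by
    have := congrArg γ h
    rw [map_sum, map_zero] at this
    rw [← this]
    refine Finset.sum_congr rfl fun i _ => ?_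
    rw [map_mul, hγσ, hγτ, Algebra.TensorProduct.tmul_mul_tmul, mul_one, one_mul]
  have h2 := congrArg ((TensorProduct.lid k M).toLinearMap ∘ₗ (LinearMap.rTensor M lam)) h1
  rw [map_sum, map_zero] at h2
  rw [← h2]
  refine Finset.sum_congr rfl fun i _ => ?_
  simp [Algebra.smul_def]

include hσ hγσ hγτ in
theorem linearIndependent_of_eqField [Nontrivial L] {ι : Type w} (b : ι → k)
    (hb : LinearIndependent (eqField σ (algebraMap k L)) b) :
    LinearIndependent k (fun i => j (algebraMap k L (b i))) := by
  classical
  rw [linearIndependent_iff']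
  intro s
  induction s using Finset.induction_on with
  | empty => intro g _ i hi; simp at hi
  | insert i₀ s hi₀ ih =>
    intro g hg
    by_cases hg0 : g i₀ = 0
    · rw [Finset.sum_insert hi₀, hg0, zero_smul, zero_add] at hg
      intro i hi
      rcases Finset.mem_insert.1 hi with rfl | hi
      · exact hg0
      · exact ih g hg i hi
    · exfalso
      -- normalise
      set g' : ι → k := fun i => g i / g i₀ with hg'
      have hg'0 : g' i₀ = 1 := div_self hg0
      have hrel : ∑ i ∈ insert i₀ s, g' i • j (algebraMap k L (b i)) = 0 := by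
        have : ∑ i ∈ insert i₀ s, g' i • j (algebraMap k L (b i)) =
            (g i₀)⁻¹ • ∑ i ∈ insert i₀ s, g i • j (algebraMap k L (b i)) := by
          rw [Finset.smul_sum]
          refine Finset.sum_congr rfl fun i _ => ?_
          rw [smul_smul]
          change (g i / g i₀) • _ = _
          rw [div_eq_inv_mul]
        rw [this, hg, smul_zero]
      -- relation in `L`
      have hrelL : ∑ i ∈ insert i₀ s, σ (g' i) * algebraMap k L (b i) = 0 := by
        apply j.injective
        rw [map_sum, map_zero, ← hrel]
        refine Finset.sum_congr rfl fun i _ => ?_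
        rw [map_mul, hσ, Algebra.smul_def]
      -- all coefficients lie in the equalizer
      have hmem : ∀ i ∈ s, σ (g' i) = algebraMap k L (g' i) := by
        intro i hi
        by_contra hne
        obtain ⟨lam, hlam⟩ : ∃ lam : L →ₗ[k] k, lam (σ (g' i) - algebraMap k L (g' i)) ≠ 0 := by
          by_contra hall
          push Not at hall
          exact hne (sub_eq_zero.1 ((Module.forall_dual_apply_eq_zero_iff k _).1 hall))
        have hk := key_step j σ γ hγσ hγτ (insert i₀ s) g' b hrelL lam
        have hcomb : ∑ i ∈ s, (lam (σ (g' i)) - lam 1 * g' i) • j (algebraMap k L (b i)) = 0 := by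
          have e1 : ∑ i ∈ insert i₀ s, (lam (σ (g' i)) - lam 1 * g' i) • j (algebraMap k L (b i)) = 0 := by
            have : ∑ i ∈ insert i₀ s, (lam (σ (g' i)) - lam 1 * g' i) • j (algebraMap k L (b i)) =
                ∑ i ∈ insert i₀ s, algebraMap k M (lam (σ (g' i))) * j (algebraMap k L (b i)) -
                  lam 1 • ∑ i ∈ insert i₀ s, g' i • j (algebraMap k L (b i)) := by
              rw [Finset.smul_sum, ← Finset.sum_sub_distrib]
              refine Finset.sum_congr rfl fun i _ => ?_
              rw [sub_smul, smul_smul, Algebra.smul_def]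
            rw [this, hk, hrel, smul_zero, sub_zero]
          rw [Finset.sum_insert hi₀, hg'0, map_one, mul_one, sub_self, zero_smul, zero_add] at e1
          exact e1
        have := ih _ hcomb i hi
        apply hlam
        rw [map_sub, Algebra.algebraMap_eq_smul_one, map_smul, smul_eq_mul, mul_comm]
        exact this
      have hmem' : ∀ i ∈ insert i₀ s, σ (g' i) = algebraMap k L (g' i) := by
        intro i hi
        rcases Finset.mem_insert.1 hi with rfl | hi
        · rw [hg'0, map_one, map_one]
        · exact hmem i hi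
      -- relation in `k`
      have hrelk : ∑ i ∈ insert i₀ s, g' i * b i = 0 := by
        apply (algebraMap k L).injective
        rw [map_sum, map_zero, ← hrelL]
        refine Finset.sum_congr rfl fun i hi => ?_
        rw [map_mul, hmem' i hi]
      have := linearIndependent_iff'.1 hb (insert i₀ s)
        (fun i => if h : i ∈ insert i₀ s then ⟨g' i, hmem' i h⟩ else 0) (by
          rw [← hrelk]
          refine Finset.sum_congr rfl fun i hi => ?_
          rw [dif_pos hi]
          rfl) i₀ (Finset.mem_insert_self _ _)
      rw [dif_pos (Finset.mem_insert_self _ _)] at this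
      have h1 : g' i₀ = 0 := congrArg Subtype.val this
      rw [hg'0] at h1
      exact one_ne_zero h1

end LemmaA

end Groth.Agent.Lib.Helper15.FieldQuot
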