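import Groth.Agent.Lib.Helper15.FieldQuotSp
import Groth.Agent.Lib.Helper3.AlgSpPoints
import Groth.Agent.S9945
import Groth.Prelude.Def_AlgSpDec

set_option autoImplicit false
set_option backward.isDefEq.respectTransparency.types false
universe u
open CategoryTheory CategoryTheory.Limits AlgebraicGeometry AlgSp

namespace Groth.Agent.Lib.Helper15.FieldQuot

open Groth.Agent.Lib.Helper3

variable {S : Scheme.{u}}

/-- an etale morphism from a quasi-compact scheme to the spectrum of a field is finite. -/
theorem isFinite_of_etale_of_compact {k : Type u} [Field k] {W : Scheme.{u}}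
    (q : W ⟶ Spec (CommRingCat.of k)) [Etale q] [CompactSpace ↥W] : IsFinite q := by
  have hq : QuasiCompact q := (HasAffineProperty.iff_of_isAffine (P := @QuasiCompact)).2 ‹_›
  haveI : LocallyQuasiFinite q := Groth.Agent.S9945.W1.locallyQuasiFinite_of_etale q
  exact IsFinite.of_locallyQuasiFinite q

/-- If the kernel pair of `p : h_{Spec k} ⟶ F` has etale quasi-compact (representable) first projection,
then `p` factors through a monomorphism from the spectrum of a subfield of finite index. -/
theorem exists_mono_quotient_of_etale_qc {k : Type u} [Field k] (str : Spec (CommRingCat.of k) ⟶ S)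
    {F : Sp S} (p : (yon S).obj (Over.mk str) ⟶ F) {P : Sp S}
    (fst snd : P ⟶ (yon S).obj (Over.mk str)) (sq : IsPullback fst snd p p)
    (h1 : RepWith @Etale fst) (h2 : RepWith @QuasiCompact fst) :
    ∃ (k' : Subfield k) (_ : Module.Finite k' k) (str' : Spec (CommRingCat.of k') ⟶ S)
      (c : Over.mk str ⟶ Over.mk str') (p' : (yon S).obj (Over.mk str') ⟶ F),
      c.left = Spec.map (CommRingCat.ofHom k'.subtype) ∧ (yon S).map c ≫ p' = p ∧ Mono p' ∧
      Sheaf.IsLocallySurjective ((yon S).map c) := by
  obtain ⟨R, θ, s, sqR⟩ : ∃ (R : Over S) (θ : (yon S).obj R ⟶ P) (s : R ⟶ Over.mk str),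
      IsPullback θ ((yon S).map s) fst (𝟙 _) := ⟨_, _, _, h1.rep.isPullback (𝟙 _)⟩
  haveI : IsIso θ := sqR.isIso_fst_of_isIso
  have hθs : θ ≫ fst = (yon S).map s := by rw [sqR.w, Category.comp_id]
  obtain ⟨t, ht⟩ := (yon S).map_surjective (θ ≫ snd)
  have sq' : IsPullback ((yon S).map s) ((yon S).map t) p p := by
    rw [← hθs, ht]
    exact IsPullback.of_iso sq (asIso θ).symm (Iso.refl _) (Iso.refl _) (Iso.refl _)
      (by simp) (by simp) (by simp) (by simp)
  haveI hse : Etale s.left := h1.property _ _ _ sqR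
  have hsq : QuasiCompact s.left := h2.property _ _ _ sqR
  haveI : CompactSpace ↥(Over.mk str).left :=
    inferInstanceAs (CompactSpace ↥(Spec (CommRingCat.of k)))
  haveI : CompactSpace ↥R.left := QuasiCompact.compactSpace_of_compactSpace s.left
  haveI : IsFinite s.left := isFinite_of_etale_of_compact s.left
  obtain ⟨k', hfin, str', c, p', hcl, hfac, hmono, hc, -⟩ := exists_mono_quotient str p s t sq'
  exact ⟨k', hfin, str', c, p', hcl, hfac, hmono, hc⟩

theorem toHom_fieldPtOfHom {F : Sp S} (K : Type u) [Field K] (str : Spec (.of K) ⟶ S)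
    (a : (yon S).obj (Over.mk str) ⟶ F) : (fieldPtOfHom K str a).toHom = a :=
  Equiv.symm_apply_apply _ _

theorem fieldPt_eq_ofHom_toHom {F : Sp S} (p : FieldPt F) :
    p = fieldPtOfHom p.K p.str p.toHom := fieldPt_eq_ofHom p

end Groth.Agent.Lib.Helper15.FieldQuot
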