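import Groth.Agent.Lib.Helper15.FieldQuotAlg

set_option autoImplicit false

open TensorProduct CategoryTheory CategoryTheory.Limits

namespace Groth.Agent.Lib.Helper15.FieldQuot

universe u

/-- a type synonym to carry a second algebra structure. -/
def Wrap (A : Type u) : Type u := A

instance (A : Type u) [CommRing A] : CommRing (Wrap A) := inferInstanceAs (CommRing A)

/-- the identity, as a ring isomorphism to the synonym. -/
def wrapEquiv (A : Type u) [CommRing A] : A ≃+* Wrap A := RingEquiv.refl A

section Core
variable {k : Type u} [Field k] {A : Type u} [CommRing A] (σ τ : k →+* A)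

/-- `A` with its `k`-algebra structure through `τ` (on `A`) and `σ` (on `Wrap A`). -/
@[reducible] def algτ : Algebra k A := τ.toAlgebra
@[reducible] def algσ : Algebra k (Wrap A) :=
  RingHom.toAlgebra (R := k) (S := Wrap A) ((wrapEquiv A).toRingHom.comp σ)

variable (hnt : Nontrivial A)
  (htrans : ∀ (B : Type u) [CommRing B] (f g : A →+* B), f.comp τ = g.comp σ →
    ∃ h : A →+* B, h.comp σ = f.comp σ ∧ h.comp τ = g.comp τ)

include hnt htrans in
theorem linearIndependent_τ {ι : Type u} (b : ι → k)
    (hb : LinearIndependent (eqField σ τ) b) :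
    letI := algσ (A := A) σ
    LinearIndependent k (fun i => wrapEquiv A (τ (b i))) := by
  letI i1 := algτ (A := A) τ
  letI i2 := algσ (A := A) σ
  obtain ⟨γ, h1, h2⟩ := htrans (A ⊗[k] Wrap A)
    (Algebra.TensorProduct.includeLeftRingHom)
    ((Algebra.TensorProduct.includeRight (R := k) (A := A) (B := Wrap A)).toRingHom.comp
      (wrapEquiv A).toRingHom)
    (by
      ext x
      change (τ x : A) ⊗ₜ[k] (1 : Wrap A) = (1 : A) ⊗ₜ[k] (wrapEquiv A (σ x))
      have e1 : (τ x : A) = x • (1 : A) := by rw [Algebra.smul_def, mul_one]; rfl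
      have e2 : (wrapEquiv A (σ x)) = x • (1 : Wrap A) := by rw [Algebra.smul_def, mul_one]; rfl
      rw [e1, e2, TensorProduct.smul_tmul])
  exact linearIndependent_of_eqField (k := k) (L := A) (M := Wrap A) (wrapEquiv A) σ
    (fun a => rfl) γ
    (fun a => RingHom.congr_fun h1 a) (fun b => RingHom.congr_fun h2 b) b hb

end Core

end Groth.Agent.Lib.Helper15.FieldQuot

namespace Groth.Agent.Lib.Helper15.FieldQuot

universe u

section Core2
variable {k : Type u} [Field k] {A : Type u} [CommRing A] (σ τ : k →+* A)
  (hnt : Nontrivial A)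
  (htrans : ∀ (B : Type u) [CommRing B] (f g : A →+* B), f.comp τ = g.comp σ →
    ∃ h : A →+* B, h.comp σ = f.comp σ ∧ h.comp τ = g.comp τ)

include hnt htrans in
theorem finite_eqField (hfin : σ.Finite) : Module.Finite (eqField σ τ) k := by
  letI i2 := algσ (A := A) σ
  have hfinM : Module.Finite k (Wrap A) := hfin
  have hrank : Module.rank (eqField σ τ) k ≤ (Module.finrank k (Wrap A) : ℕ) := by
    apply rank_le
    intro s hs
    have h1 := linearIndependent_τ σ τ hnt htrans (fun i : s => (i : k)) hs
    have h2 := h1.fintype_card_le_finrank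
    simpa using h2
  exact Module.rank_lt_aleph0_iff.mp (lt_of_le_of_lt hrank Cardinal.natCast_lt_aleph0)

include hnt htrans in
theorem isPushout_eqField (hfin : σ.Finite)
    (hepi : ∀ (B : Type u) [CommRing B] (f g : A →+* B), f.comp σ = g.comp σ →
      f.comp τ = g.comp τ → f = g) :
    IsPushout (CommRingCat.ofHom (eqField σ τ).subtype) (CommRingCat.ofHom (eqField σ τ).subtype)
      (CommRingCat.ofHom σ) (CommRingCat.ofHom τ) := by
  letI i2 := algσ (A := A) σ
  letI i3 : Algebra (eqField σ τ) A := (σ.comp (eqField σ τ).subtype).toAlgebra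
  let σ' : k →ₐ[eqField σ τ] A := { σ with commutes' := fun r => rfl }
  let τ' : k →ₐ[eqField σ τ] A := { τ with commutes' := fun r => (r.2 : σ r = τ r).symm }
  let θ : k ⊗[eqField σ τ] k →ₐ[eqField σ τ] A := Algebra.TensorProduct.productMap σ' τ'
  have hθ : ∀ a b : k, θ (a ⊗ₜ b) = σ a * τ b := fun a b =>
    Algebra.TensorProduct.productMap_apply_tmul _ _ _ _
  haveI hfink := finite_eqField σ τ hnt htrans hfin
  have hinj : Function.Injective θ := by
    let b := Module.Free.chooseBasis (eqField σ τ) k
    let B := Algebra.TensorProduct.basis k b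
    have hli := linearIndependent_τ σ τ hnt htrans b b.linearIndependent
    let θl : k ⊗[eqField σ τ] k →ₗ[k] Wrap A :=
      { toFun := fun x => wrapEquiv A (θ x)
        map_add' := fun x y => by rw [map_add, map_add]
        map_smul' := fun c x => by
          have e1 : c • x = (c ⊗ₜ[eqField σ τ] (1 : k)) * x := by
            induction x using TensorProduct.induction_on with
            | zero => simp
            | tmul a b =>
              rw [TensorProduct.smul_tmul', Algebra.TensorProduct.tmul_mul_tmul, one_mul,
                smul_eq_mul]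
            | add x y hx hy => rw [smul_add, mul_add, hx, hy]
          rw [e1, map_mul, map_mul, hθ, map_one, mul_one, RingHom.id_apply, Algebra.smul_def]
          rfl }
    have hθl : θl = (Finsupp.linearCombination k (fun i => wrapEquiv A (τ (b i)))) ∘ₗ
        B.repr.toLinearMap := by
      apply B.ext
      intro i
      rw [LinearMap.comp_apply, LinearEquiv.coe_coe, B.repr_self, Finsupp.linearCombination_single,
        one_smul]
      change wrapEquiv A (θ (B i)) = _
      rw [Algebra.TensorProduct.basis_apply, hθ, map_one, one_mul]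
    have hθl_inj : Function.Injective θl := by
      rw [hθl, LinearMap.coe_comp, LinearEquiv.coe_coe]
      exact Function.Injective.comp hli B.repr.injective
    intro x y hxy
    apply hθl_inj
    change wrapEquiv A (θ x) = wrapEquiv A (θ y)
    rw [hxy]
  have hsurj : Function.Surjective θ := by
    have hE : Epi (CommRingCat.ofHom θ.toRingHom) := by
      refine ⟨fun {T} g₁ g₂ h => ?_⟩
      have h' : ∀ x, g₁.hom (θ x) = g₂.hom (θ x) := fun x =>
        congrArg (fun f => f.hom x) h
      ext1
      apply hepi
      · ext a
        have := h' (a ⊗ₜ 1)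
        rwa [hθ, map_one, mul_one] at this
      · ext a
        have := h' (1 ⊗ₜ a)
        rwa [hθ, map_one, one_mul] at this
    have hF : (CommRingCat.ofHom θ.toRingHom).hom.Finite := by
      apply RingHom.Finite.of_comp_finite (f := (Algebra.TensorProduct.includeLeftRingHom :
        k →+* k ⊗[eqField σ τ] k))
      have : (CommRingCat.ofHom θ.toRingHom).hom.comp
          (Algebra.TensorProduct.includeLeftRingHom : k →+* k ⊗[eqField σ τ] k) = σ := by
        ext a
        change θ (a ⊗ₜ 1) = _
        rw [hθ, map_one, mul_one]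
      rw [this]
      exact hfin
    exact RingHom.surjective_of_epi_of_finite (CommRingCat.ofHom θ.toRingHom) hF
  let e : k ⊗[eqField σ τ] k ≃+* A := RingEquiv.ofBijective θ.toRingHom ⟨hinj, hsurj⟩
  refine (CommRingCat.isPushout_tensorProduct (eqField σ τ) k k).of_iso (Iso.refl _) (Iso.refl _)
    (Iso.refl _) e.toCommRingCatIso ?_ ?_ ?_ ?_
  · rfl
  · rfl
  · ext a
    change θ (a ⊗ₜ 1) = σ a
    rw [hθ, map_one, mul_one]
  · ext a
    change θ (1 ⊗ₜ a) = τ a
    rw [hθ, map_one, one_mul]

end Core2

end Groth.Agent.Lib.Helper15.FieldQuot
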