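import Groth.Agent.Lib.Helper15.FieldQuotCore

set_option autoImplicit false

open CategoryTheory CategoryTheory.Limits AlgebraicGeometry

namespace Groth.Agent.Lib.Helper15.FieldQuot

universe u

variable {k : Type u} [Field k]

/-- affine version: an equivalence relation `Spec A ⇉ Spec k`, finite over `Spec k`, is the kernel pair of
`Spec k ⟶ Spec k'` for the subfield `k'` equalizing the two ring maps. -/
theorem finite_and_isPullback_of_spec (A : CommRingCat.{u}) (σ τ : CommRingCat.of k ⟶ A)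
    (hfin : σ.hom.Finite) (hnt : Nontrivial A)
    (hmono : ∀ (T : Scheme.{u}) (a b : T ⟶ Spec A), a ≫ Spec.map σ = b ≫ Spec.map σ →
      a ≫ Spec.map τ = b ≫ Spec.map τ → a = b)
    (htrans : ∀ (T : Scheme.{u}) (a b : T ⟶ Spec A), a ≫ Spec.map τ = b ≫ Spec.map σ →
      ∃ c : T ⟶ Spec A, c ≫ Spec.map σ = a ≫ Spec.map σ ∧ c ≫ Spec.map τ = b ≫ Spec.map τ) :
    Module.Finite (eqField σ.hom τ.hom) k ∧
      IsPullback (Spec.map σ) (Spec.map τ)
        (Spec.map (CommRingCat.ofHom (eqField σ.hom τ.hom).subtype))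
        (Spec.map (CommRingCat.ofHom (eqField σ.hom τ.hom).subtype)) := by
  have hepi' : ∀ (B : Type u) [CommRing B] (f g : A →+* B), f.comp σ.hom = g.comp σ.hom →
      f.comp τ.hom = g.comp τ.hom → f = g := by
    intro B _ f g h1 h2
    have := hmono (Spec (CommRingCat.of B)) (Spec.map (CommRingCat.ofHom f))
      (Spec.map (CommRingCat.ofHom g))
      (by rw [← Spec.map_comp, ← Spec.map_comp]; congr 1; ext1; exact h1)
      (by rw [← Spec.map_comp, ← Spec.map_comp]; congr 1; ext1; exact h2)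
    have := Spec.map_injective this
    exact congrArg CommRingCat.Hom.hom this
  have htrans' : ∀ (B : Type u) [CommRing B] (f g : A →+* B), f.comp τ.hom = g.comp σ.hom →
      ∃ h : A →+* B, h.comp σ.hom = f.comp σ.hom ∧ h.comp τ.hom = g.comp τ.hom := by
    intro B _ f g h1
    obtain ⟨c, hc1, hc2⟩ := htrans (Spec (CommRingCat.of B)) (Spec.map (CommRingCat.ofHom f))
      (Spec.map (CommRingCat.ofHom g))
      (by rw [← Spec.map_comp, ← Spec.map_comp]; congr 1; ext1; exact h1)
    obtain ⟨h, rfl⟩ := Spec.map_surjective c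
    rw [← Spec.map_comp, ← Spec.map_comp] at hc1 hc2
    refine ⟨h.hom, ?_, ?_⟩
    · exact congrArg CommRingCat.Hom.hom (Spec.map_injective hc1)
    · exact congrArg CommRingCat.Hom.hom (Spec.map_injective hc2)
  refine ⟨finite_eqField σ.hom τ.hom hnt htrans' hfin, ?_⟩
  have hpo := isPushout_eqField σ.hom τ.hom hnt htrans' hfin hepi'
  exact isPullback_SpecMap_of_isPushout _ _ _ _ hpo

end Groth.Agent.Lib.Helper15.FieldQuot

namespace Groth.Agent.Lib.Helper15.FieldQuot

universe u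

variable {k : Type u} [Field k]

/-- a finite equivalence relation `R ⇉ Spec k` on the spectrum of a field is the kernel pair of
`Spec k ⟶ Spec k'` for a subfield `k'` of finite index. -/
theorem exists_subfield_isPullback {R : Scheme.{u}} (s t : R ⟶ Spec (CommRingCat.of k))
    [IsFinite s] [Nonempty R]
    (hmono : ∀ (T : Scheme.{u}) (a b : T ⟶ R), a ≫ s = b ≫ s → a ≫ t = b ≫ t → a = b)
    (htrans : ∀ (T : Scheme.{u}) (a b : T ⟶ R), a ≫ t = b ≫ s →
      ∃ c : T ⟶ R, c ≫ s = a ≫ s ∧ c ≫ t = b ≫ t) :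
    ∃ k' : Subfield k, Module.Finite k' k ∧
      IsPullback s t (Spec.map (CommRingCat.ofHom k'.subtype))
        (Spec.map (CommRingCat.ofHom k'.subtype)) := by
  haveI : IsAffine R := isAffine_of_isAffineHom s
  let φ : R ≅ Spec Γ(R, ⊤) := R.isoSpec
  let σ : CommRingCat.of k ⟶ Γ(R, ⊤) := Spec.preimage (φ.inv ≫ s)
  let τ : CommRingCat.of k ⟶ Γ(R, ⊤) := Spec.preimage (φ.inv ≫ t)
  have hσ : Spec.map σ = φ.inv ≫ s := Spec.map_preimage _
  have hτ : Spec.map τ = φ.inv ≫ t := Spec.map_preimage _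
  have hs : s = φ.hom ≫ Spec.map σ := by rw [hσ, Iso.hom_inv_id_assoc]
  have ht : t = φ.hom ≫ Spec.map τ := by rw [hτ, Iso.hom_inv_id_assoc]
  have hfin : σ.hom.Finite := by
    rw [← IsFinite.SpecMap_iff, hσ]
    infer_instance
  have hnt : Nontrivial Γ(R, ⊤) := by
    haveI : Nonempty (⊤ : R.Opens) := by
      obtain ⟨x⟩ := (inferInstance : Nonempty R)
      exact ⟨⟨x, trivial⟩⟩
    exact Scheme.component_nontrivial R ⊤
  obtain ⟨h1, h2⟩ := finite_and_isPullback_of_spec Γ(R, ⊤) σ τ hfin hnt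
    (by
      intro T a b hab hab'
      rw [hσ] at hab
      rw [hτ] at hab'
      have := hmono T (a ≫ φ.inv) (b ≫ φ.inv) (by simpa using hab) (by simpa using hab')
      exact (cancel_mono φ.inv).1 this)
    (by
      intro T a b hab
      rw [hσ, hτ] at hab
      obtain ⟨c, hc1, hc2⟩ := htrans T (a ≫ φ.inv) (b ≫ φ.inv) (by simpa using hab)
      refine ⟨c ≫ φ.hom, ?_, ?_⟩
      · rw [hσ]; simpa using hc1
      · rw [hτ]; simpa using hc2)
  refine ⟨eqField σ.hom τ.hom, h1, ?_⟩
  rw [hs, ht]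
  exact h2.of_iso φ.symm (Iso.refl _) (Iso.refl _) (Iso.refl _) (by simp) (by simp) (by simp)
    (by simp)

end Groth.Agent.Lib.Helper15.FieldQuot
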