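import Groth.Agent.Lib.Helper15.FieldQuotSch
import Groth.Agent.Lib.Helper3.AlgSpEpiDescent
import Groth.Agent.Lib.Helper3.QAffDescGen

set_option autoImplicit false
set_option backward.isDefEq.respectTransparency.types false

open CategoryTheory CategoryTheory.Limits AlgebraicGeometry AlgSp

namespace Groth.Agent.Lib.Helper15.FieldQuot

universe u

variable {S : Scheme.{u}}

/-- generic: if `e` is an epimorphism of sheaves, `e ≫ p' = p`, and `(R, f, g)` is a kernel pair of both
`e` and `p`, then `p'` is a monomorphism. -/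
theorem mono_of_common_kernelPair {R U Q F : Sp S} (f g : R ⟶ U) (e : U ⟶ Q) (p : U ⟶ F)
    (p' : Q ⟶ F) (he : Sheaf.IsLocallySurjective e) (hfac : e ≫ p' = p)
    (sqe : IsPullback f g e e) (sqp : IsPullback f g p p) : Mono p' := by
  refine ⟨fun {Z} x y hxy => ?_⟩
  have sq1 := IsPullback.of_hasPullback x e
  have h1 : Sheaf.IsLocallySurjective (pullback.fst x e) :=
    Groth.Agent.Lib.Helper3.isLocallySurjective_of_isPullback sq1.flip he
  have sq2 := IsPullback.of_hasPullback (pullback.fst x e ≫ y) e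
  have h2 : Sheaf.IsLocallySurjective (pullback.fst (pullback.fst x e ≫ y) e) :=
    Groth.Agent.Lib.Helper3.isLocallySurjective_of_isPullback sq2.flip he
  have : Epi (pullback.fst x e) := inferInstance
  have : Epi (pullback.fst (pullback.fst x e ≫ y) e) := inferInstance
  set z1 := pullback.fst x e
  set x' := pullback.snd x e
  set z2 := pullback.fst (z1 ≫ y) e
  set y' := pullback.snd (z1 ≫ y) e
  have hx' : x' ≫ e = z1 ≫ x := sq1.w.symm
  have hy' : y' ≫ e = z2 ≫ z1 ≫ y := sq2.w.symm
  have hp : (z2 ≫ x') ≫ p = y' ≫ p := by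
    rw [← hfac, Category.assoc, reassoc_of% hx', reassoc_of% hy', hxy]
  rw [← cancel_epi z1, ← cancel_epi z2]
  have e1 : z2 ≫ z1 ≫ x = sqp.lift _ _ hp ≫ f ≫ e := by
    rw [sqp.lift_fst_assoc, Category.assoc, hx']
  have e2 : z2 ≫ z1 ≫ y = sqp.lift _ _ hp ≫ g ≫ e := by
    rw [sqp.lift_snd_assoc, hy']
  rw [e1, e2, sqe.w]

/-- generic: descent of a morphism along an epimorphism of sheaves, given a kernel pair. -/
theorem exists_desc_of_kernelPair {R U Q F : Sp S} (f g : R ⟶ U) (e : U ⟶ Q) (p : U ⟶ F)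
    (he : Sheaf.IsLocallySurjective e) (sqe : IsPullback f g e e) (hp : f ≫ p = g ≫ p) :
    ∃ p' : Q ⟶ F, e ≫ p' = p := by
  have hepi : Epi e := inferInstance
  have := IsRegularEpiCategory.regularEpiOfEpi e
  have hEff : EffectiveEpi e := inferInstance
  have hdesc : ∀ {Z : Sp S} (g₁ g₂ : Z ⟶ U), g₁ ≫ e = g₂ ≫ e → g₁ ≫ p = g₂ ≫ p := by
    intro Z g₁ g₂ h
    have e1 : g₁ = sqe.lift g₁ g₂ h ≫ f := (sqe.lift_fst _ _ _).symm
    have e2 : g₂ = sqe.lift g₁ g₂ h ≫ g := (sqe.lift_snd _ _ _).symm
    rw [e1, Category.assoc, hp, ← Category.assoc, ← e2]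
  exact ⟨EffectiveEpi.desc e p hdesc, EffectiveEpi.fac _ _ _⟩

end Groth.Agent.Lib.Helper15.FieldQuot

namespace Groth.Agent.Lib.Helper15.FieldQuot

universe u

variable {S : Scheme.{u}}

section Q
variable {k : Type u} [Field k] (str : Spec (CommRingCat.of k) ⟶ S)
  {F : Sp S} (p : (yon S).obj (Over.mk str) ⟶ F) {R : Over S} (fst snd : R ⟶ Over.mk str)
  (sq : IsPullback ((yon S).map fst) ((yon S).map snd) p p)

include sq in
theorem hmono_of_sq (T : Scheme.{u}) (a b : T ⟶ R.left) (h1 : a ≫ fst.left = b ≫ fst.left)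
    (h2 : a ≫ snd.left = b ≫ snd.left) : a = b := by
  have hR : R.hom = fst.left ≫ str := (Over.w fst).symm
  have hb : b ≫ R.hom = a ≫ R.hom := by rw [hR, ← Category.assoc, ← h1, Category.assoc]
  let a' : Over.mk (a ≫ R.hom) ⟶ R := Over.homMk a rfl
  let b' : Over.mk (a ≫ R.hom) ⟶ R := Over.homMk b hb
  have e1 : a' ≫ fst = b' ≫ fst := by ext; exact h1
  have e2 : a' ≫ snd = b' ≫ snd := by ext; exact h2
  have : (yon S).map a' = (yon S).map b' := by
    apply sq.hom_ext
    · rw [← Functor.map_comp, ← Functor.map_comp, e1]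
    · rw [← Functor.map_comp, ← Functor.map_comp, e2]
  exact congrArg (fun f => f.left) ((yon S).map_injective this)

include sq in
theorem htrans_of_sq (T : Scheme.{u}) (a b : T ⟶ R.left) (h : a ≫ snd.left = b ≫ fst.left) :
    ∃ c : T ⟶ R.left, c ≫ fst.left = a ≫ fst.left ∧ c ≫ snd.left = b ≫ snd.left := by
  have hR : R.hom = fst.left ≫ str := (Over.w fst).symm
  have hR' : R.hom = snd.left ≫ str := (Over.w snd).symm
  have hb : b ≫ R.hom = a ≫ R.hom := by
    calc b ≫ R.hom = (b ≫ fst.left) ≫ str := by rw [Category.assoc, ← hR]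
      _ = (a ≫ snd.left) ≫ str := by rw [h]
      _ = a ≫ R.hom := by rw [Category.assoc, ← hR']
  let a' : Over.mk (a ≫ R.hom) ⟶ R := Over.homMk a rfl
  let b' : Over.mk (a ≫ R.hom) ⟶ R := Over.homMk b hb
  have e1 : a' ≫ snd = b' ≫ fst := by ext; exact h
  have hw : ((yon S).map a' ≫ (yon S).map fst) ≫ p = ((yon S).map b' ≫ (yon S).map snd) ≫ p := by
    calc ((yon S).map a' ≫ (yon S).map fst) ≫ p
        = (yon S).map (a' ≫ snd) ≫ p := by
          rw [Category.assoc, sq.w, Functor.map_comp, Category.assoc]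
      _ = (yon S).map (b' ≫ fst) ≫ p := by rw [e1]
      _ = ((yon S).map b' ≫ (yon S).map snd) ≫ p := by
          rw [Category.assoc, ← sq.w, Functor.map_comp, Category.assoc]
  obtain ⟨c, hc⟩ := (yon S).map_surjective (sq.lift _ _ hw)
  have hc1 : c ≫ fst = a' ≫ fst := by
    apply (yon S).map_injective
    rw [Functor.map_comp, hc, sq.lift_fst, Functor.map_comp]
  have hc2 : c ≫ snd = b' ≫ snd := by
    apply (yon S).map_injective
    rw [Functor.map_comp, hc, sq.lift_snd, Functor.map_comp]
  exact ⟨c.left, congrArg (fun f => f.left) hc1, congrArg (fun f => f.left) hc2⟩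

include sq in
theorem nonempty_of_sq : Nonempty ↥R.left := by
  obtain ⟨e, -⟩ := (yon S).map_surjective (sq.lift (𝟙 _) (𝟙 _) rfl)
  have : Nonempty ↥(Spec (CommRingCat.of k)) := inferInstance
  obtain ⟨x⟩ := this
  exact ⟨e.left x⟩

end Q

end Groth.Agent.Lib.Helper15.FieldQuot

namespace Groth.Agent.Lib.Helper15.FieldQuot

universe u

variable {S : Scheme.{u}}

section Q2
variable {k : Type u} [Field k] (str : Spec (CommRingCat.of k) ⟶ S)
  {F : Sp S} (p : (yon S).obj (Over.mk str) ⟶ F) {R : Over S} (fst snd : R ⟶ Over.mk str)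
  (sq : IsPullback ((yon S).map fst) ((yon S).map snd) p p)

theorem lfp_subfield (k' : Subfield k) [Module.Finite k' k] :
    LocallyOfFinitePresentation (Spec.map (CommRingCat.ofHom k'.subtype)) := by
  rw [HasRingHomProperty.Spec_iff (P := @LocallyOfFinitePresentation)]
  have h1 : (k'.subtype).Finite := by
    change Module.Finite k' k
    infer_instance
  exact RingHom.FinitePresentation.of_finiteType.1 h1.finiteType

theorem surjective_subfield (k' : Subfield k) :
    Surjective (Spec.map (CommRingCat.ofHom k'.subtype)) := by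
  refine ⟨fun x => ?_⟩
  have : Nonempty ↥(Spec (CommRingCat.of k)) := inferInstance
  obtain ⟨y⟩ := this
  have : Subsingleton ↥(Spec (CommRingCat.of k')) := inferInstance
  exact ⟨y, Subsingleton.elim _ _⟩

include sq in
/-- **Quotient of the spectrum of a field by a finite equivalence relation.** If the kernel pair of
`p : h_{Spec k} ⟶ F` is represented by a scheme finite over `Spec k`, then `p` factors through a
monomorphism `h_{Spec k'} ⟶ F` for a subfield `k'` of finite index. -/
theorem exists_mono_quotient [IsFinite fst.left] :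
    ∃ (k' : Subfield k) (_ : Module.Finite k' k) (str' : Spec (CommRingCat.of k') ⟶ S)
      (c : Over.mk str ⟶ Over.mk str') (p' : (yon S).obj (Over.mk str') ⟶ F),
      c.left = Spec.map (CommRingCat.ofHom k'.subtype) ∧ (yon S).map c ≫ p' = p ∧ Mono p' ∧
      Sheaf.IsLocallySurjective ((yon S).map c) ∧
      IsPullback ((yon S).map fst) ((yon S).map snd) ((yon S).map c) ((yon S).map c) := by
  haveI := nonempty_of_sq str p fst snd sq
  obtain ⟨k', hfin, pb⟩ := exists_subfield_isPullback fst.left snd.left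
    (hmono_of_sq str p fst snd sq) (htrans_of_sq str p fst snd sq)
  haveI : Flat (Spec.map (CommRingCat.ofHom k'.subtype)) := inferInstance
  haveI : Surjective (Spec.map (CommRingCat.ofHom k'.subtype)) := surjective_subfield k'
  haveI : LocallyOfFinitePresentation (Spec.map (CommRingCat.ofHom k'.subtype)) := lfp_subfield k'
  haveI : QuasiCompact (Spec.map (CommRingCat.ofHom k'.subtype)) := inferInstance
  have hdesc : ∀ {Z : Scheme.{u}} (g₁ g₂ : Z ⟶ Spec (CommRingCat.of k)),
      g₁ ≫ Spec.map (CommRingCat.ofHom k'.subtype) = g₂ ≫ Spec.map (CommRingCat.ofHom k'.subtype) →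
      g₁ ≫ str = g₂ ≫ str := by
    intro Z g₁ g₂ h
    have e1 : g₁ = pb.lift g₁ g₂ h ≫ fst.left := (pb.lift_fst _ _ _).symm
    have e2 : g₂ = pb.lift g₁ g₂ h ≫ snd.left := (pb.lift_snd _ _ _).symm
    have w1 : fst.left ≫ str = R.hom := Over.w fst
    have w2 : snd.left ≫ str = R.hom := Over.w snd
    rw [e1, Category.assoc, w1, ← w2, ← Category.assoc, ← e2]
  let str' : Spec (CommRingCat.of k') ⟶ S :=
    EffectiveEpi.desc (Spec.map (CommRingCat.ofHom k'.subtype)) str hdesc
  have hfac : Spec.map (CommRingCat.ofHom k'.subtype) ≫ str' = str := EffectiveEpi.fac _ _ _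
  let c : Over.mk str ⟶ Over.mk str' := Over.homMk (Spec.map (CommRingCat.ofHom k'.subtype)) hfac
  have sqO : IsPullback fst snd c c :=
    IsPullback.of_map (Over.forget S) (by ext; exact pb.w) pb
  have sqc := sqO.map (yon S)
  haveI : Flat c.left := ‹Flat (Spec.map (CommRingCat.ofHom k'.subtype))›
  haveI : Surjective c.left := ‹Surjective (Spec.map (CommRingCat.ofHom k'.subtype))›
  haveI : LocallyOfFinitePresentation c.left :=
    ‹LocallyOfFinitePresentation (Spec.map (CommRingCat.ofHom k'.subtype))›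
  have hc : Sheaf.IsLocallySurjective ((yon S).map c) :=
    Groth.Agent.Lib.Helper3.QAffDesc.isLocallySurjective_yon_map_of_fppf c
  obtain ⟨p', hp'⟩ := exists_desc_of_kernelPair _ _ _ p hc sqc sq.w
  exact ⟨k', hfin, str', c, p', rfl, hp', mono_of_common_kernelPair _ _ _ p p' hc hp' sqc sq, hc,
    sqc⟩

end Q2

end Groth.Agent.Lib.Helper15.FieldQuot
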