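import Mathlib

set_option autoImplicit false
universe u
open CategoryTheory CategoryTheory.Limits AlgebraicGeometry

namespace Groth.Agent.Lib.Helper15.FinCoprod

theorem isFinite_of_isEmpty {X Z : Scheme.{u}} [IsEmpty X] (ψ : X ⟶ Z) : IsFinite ψ := by
  have : IsClosedImmersion ψ := by
    apply IsClosedImmersion.of_isPreimmersion
    have : Set.range ψ = ∅ := Set.range_eq_empty _
    rw [this]
    exact isClosed_empty
  infer_instance

theorem isFinite_of_cofan_fin : ∀ (n : ℕ) (f : Fin n → Scheme.{u}) (c : Cofan f) (_ : IsColimit c)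
    {Z : Scheme.{u}} (ψ : c.pt ⟶ Z), (∀ i, IsFinite (c.inj i ≫ ψ)) → IsFinite ψ := by
  intro n
  induction n with
  | zero =>
    intro f c hc Z ψ _
    have hI : IsInitial c.pt :=
      IsInitial.ofUniqueHom (fun Y => Cofan.IsColimit.desc hc (fun i => i.elim0))
        (fun Y m => Cofan.IsColimit.hom_ext hc _ _ (fun i => i.elim0))
    have : IsEmpty c.pt := isInitial_iff_isEmpty.1 ⟨hI⟩
    exact isFinite_of_isEmpty ψ
  | succ n IH =>
    intro f c hc Z ψ h
    let c₁ : Cofan (fun i : Fin n => f i.succ) := Cofan.mk (∐ fun i : Fin n => f i.succ)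
      (Sigma.ι fun i : Fin n => f i.succ)
    have t₁ : IsColimit c₁ := coproductIsCoproduct _
    let c₂ : BinaryCofan (f 0) c₁.pt := BinaryCofan.mk coprod.inl coprod.inr
    have t₂ : IsColimit c₂ := coprodIsCoprod _ _
    let t := extendCofanIsColimit f t₁ t₂
    let e : (f 0 ⨿ (∐ fun i : Fin n => f i.succ)) ≅ c.pt := t.coconePointUniqueUpToIso hc
    have he : ∀ i, (extendCofan c₁ c₂).inj i ≫ e.hom = c.inj i := fun i =>
      t.comp_coconePointUniqueUpToIso_hom hc ⟨i⟩
    have h2 : IsFinite (Sigma.desc (fun i : Fin n => c.inj i.succ ≫ ψ)) := by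
      refine IH (fun i : Fin n => f i.succ) c₁ t₁ _ (fun i => ?_)
      have : c₁.inj i ≫ Sigma.desc (fun i : Fin n => c.inj i.succ ≫ ψ) = c.inj i.succ ≫ ψ := by
        simp [c₁, Cofan.inj]
      rw [this]
      exact h i.succ
    have h1 : IsFinite (c.inj 0 ≫ ψ) := h 0
    have h0 : (coprod.inl : f 0 ⟶ f 0 ⨿ (∐ fun i : Fin n => f i.succ)) ≫ e.hom = c.inj 0 := he 0
    have hs : ∀ i : Fin n, (Sigma.ι (fun i : Fin n => f i.succ) i ≫
        (coprod.inr : (∐ fun i : Fin n => f i.succ) ⟶ f 0 ⨿ (∐ fun i : Fin n => f i.succ))) ≫ e.hom = c.inj i.succ := fun i => he i.succ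
    have key : e.hom ≫ ψ = coprod.desc (c.inj 0 ≫ ψ)
        (Sigma.desc (fun i : Fin n => c.inj i.succ ≫ ψ)) := by
      apply coprod.hom_ext
      · rw [coprod.inl_desc, ← Category.assoc]
        exact congrArg (· ≫ ψ) h0
      · apply Sigma.hom_ext
        intro i
        rw [coprod.inr_desc, Sigma.ι_desc, ← Category.assoc, ← Category.assoc]
        exact congrArg (· ≫ ψ) (hs i)
    have h3 : IsFinite (e.hom ≫ ψ) := by rw [key]; infer_instance
    exact (MorphismProperty.cancel_left_of_respectsIso @IsFinite e.hom ψ).1 h3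

theorem inj_eqToHom {C : Type*} [Category C] {κ : Type*} {g : κ → C} (s : Cofan g) {j j' : κ}
    (h : j = j') : eqToHom (congrArg g h) ≫ s.inj j' = s.inj j := by
  subst h; simp

/-- reindexing a colimit cofan along an equivalence -/
noncomputable def isColimitReindex {C : Type*} [Category C] {ι κ : Type*} (e : ι ≃ κ) (f : ι → C)
    (c : Cofan f) (hc : IsColimit c) :
    IsColimit (Cofan.mk c.pt (fun j => c.inj (e.symm j)) : Cofan (fun j : κ => f (e.symm j))) := by
  refine Cofan.IsColimit.mk _ (fun s => Cofan.IsColimit.desc hc (fun i =>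
      eqToHom (congrArg f (e.symm_apply_apply i).symm) ≫ s.inj (e i))) ?_ ?_
  · intro s j
    have h1 := Cofan.IsColimit.fac hc (fun i =>
      eqToHom (congrArg f (e.symm_apply_apply i).symm) ≫ s.inj (e i)) (e.symm j)
    have h2 : c.inj (e.symm j) ≫ Cofan.IsColimit.desc hc (fun i =>
      eqToHom (congrArg f (e.symm_apply_apply i).symm) ≫ s.inj (e i)) = s.inj j := by
      rw [h1]
      exact inj_eqToHom (g := fun k : κ => f (e.symm k)) s (e.apply_symm_apply j).symm
    exact h2
  · intro s m hm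
    refine Cofan.IsColimit.hom_ext hc _ _ (fun i => ?_)
    rw [Cofan.IsColimit.fac]
    have h1 : c.inj (e.symm (e i)) ≫ m = s.inj (e i) := hm (e i)
    rw [← h1, ← Category.assoc]
    congr 1
    exact (inj_eqToHom c (e.symm_apply_apply i).symm).symm

/-- A morphism out of a finite coproduct of schemes is finite as soon as its components are. -/
theorem isFinite_of_cofan {ι : Type*} [Finite ι] (f : ι → Scheme.{u}) (c : Cofan f)
    (hc : IsColimit c) {Z : Scheme.{u}} (ψ : c.pt ⟶ Z) (h : ∀ i, IsFinite (c.inj i ≫ ψ)) :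
    IsFinite ψ := by
  obtain ⟨n, ⟨e⟩⟩ := Finite.exists_equiv_fin ι
  exact isFinite_of_cofan_fin n _ _ (isColimitReindex e f c hc) ψ (fun j => h (e.symm j))

end Groth.Agent.Lib.Helper15.FinCoprod
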