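import Groth.Prelude.Def_AlgSp4
import Groth.Agent.Lib.Helper15.FinCoprod
import Groth.Agent.Lib.Helper3.SpCoprod3

set_option autoImplicit false
universe u
open CategoryTheory CategoryTheory.Limits AlgebraicGeometry
open AlgSp

namespace Groth.Agent.Lib.Helper15.FinCofanSp

open Groth.Agent.Lib.Helper3 Groth.Agent.Lib.Helper15.FinCoprod

/-- The pullback of a finite coproduct of sheaves is the coproduct of the pullbacks (van Kampen). -/
theorem nonempty_isColimit_of_isPullback {S : Scheme.{u}} {n : ℕ} {X : Fin n → Sp S}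
    (c : Cofan X) (hc : IsColimit c) {X' : Fin n → Sp S} {P : Sp S} (k : ∀ i, X' i ⟶ P)
    (a : ∀ i, X' i ⟶ X i) (p : P ⟶ c.pt) (h : ∀ i, IsPullback (k i) (a i) p (c.inj i)) :
    Nonempty (IsColimit (Cofan.mk P k)) := by
  have hvk : IsVanKampenColimit c := FinitaryExtensive.isVanKampen_finiteCoproducts hc
  refine (hvk (Cofan.mk P k) (Discrete.natTrans (fun i => a i.as)) p ?_
    (NatTrans.Equifibered.of_discrete _)).2 (fun j => h j.as)
  apply NatTrans.ext
  funext ⟨i⟩
  exact (h i).w.symm

theorem main {S : Scheme.{u}} {n : ℕ} (X : Fin n → Sp S) (Y : Sp S) (g : ∀ i, X i ⟶ Y)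
    (hg : ∀ i, IsFiniteMor (g i)) (c : Cofan X) (hc : IsColimit c) (d : c.pt ⟶ Y)
    (hd : ∀ i, c.inj i ≫ d = g i) : IsFiniteMor d := by
  intro Z hZ γ
  have hex := fun i => hg i hZ γ
  choose W ι fst sq hWaff hfin using hex
  let p1 : pullback d γ ⟶ c.pt := pullback.fst d γ
  let p2 : pullback d γ ⟶ (yon S).obj Z := pullback.snd d γ
  let k : ∀ i, (yon S).obj (W i) ⟶ pullback d γ := fun i =>
    pullback.lift (fst i ≫ c.inj i) ((yon S).map (ι i))
      (by rw [Category.assoc, hd]; exact (sq i).w)
  have hk1 : ∀ i, k i ≫ p1 = fst i ≫ c.inj i := fun i => pullback.lift_fst _ _ _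
  have hk2 : ∀ i, k i ≫ p2 = (yon S).map (ι i) := fun i => pullback.lift_snd _ _ _
  have sqk : ∀ i, IsPullback (k i) (fst i) p1 (c.inj i) := by
    intro i
    refine IsPullback.of_right ?_ (hk1 i) (IsPullback.of_hasPullback d γ).flip
    rw [hk2 i, hd i]
    exact (sq i).flip
  obtain ⟨hcP⟩ := nonempty_isColimit_of_isPullback c hc k fst p1 sqk
  -- reindex along `Fin n ≃ ULift (Fin n)`
  let e : Fin n ≃ ULift.{u} (Fin n) := Equiv.ulift.symm
  let U : ULift.{u} (Fin n) → Over S := fun j => W j.down
  let c' : Cofan (fun j : ULift.{u} (Fin n) => (yon S).obj (U j)) :=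
    Cofan.mk (pullback d γ) (fun j => k j.down)
  have hc' : IsColimit c' := isColimitReindex e (fun i => (yon S).obj (W i)) (Cofan.mk _ k) hcP
  obtain ⟨G, ε, j, hj, -, -⟩ := SpCoprod.exists_iso_yon_of_cofan_yon U c' hc'
  have hj' : ∀ i, (yon S).map (j i) ≫ ε.hom = k i.down := hj
  obtain ⟨q, hq⟩ := (yon S).map_surjective (ε.hom ≫ p2)
  refine ⟨G, q, ε.hom ≫ p1, ?_, ?_, ?_⟩
  · rw [hq]
    exact IsPullback.of_iso (IsPullback.of_hasPullback d γ) ε.symm (Iso.refl _) (Iso.refl _)
      (Iso.refl _) (by simp [p1]) (by simp [p2]) (by simp) (by simp)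
  · -- `G` is a finite coproduct of affines
    have hG' : IsColimit (Cofan.mk ((yon S).obj G) (fun i => (yon S).map (j i)) :
        Cofan (fun i => (yon S).obj (U i))) := by
      refine IsColimit.ofIsoColimit hc' (Cocone.ext ε.symm ?_)
      rintro ⟨i⟩
      change k i.down ≫ ε.inv = (yon S).map (j i)
      rw [← hj' i, Category.assoc, ε.hom_inv_id, Category.comp_id]
    have hG : IsColimit (Cofan.mk G j) := isColimitOfIsColimitCofanMkObj (yon S) U j hG'
    have hGl : IsColimit (Cofan.mk G.left (fun i => (j i).left) :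
        Cofan (fun i => (U i).left)) :=
      isColimitCofanMkObjOfIsColimit (Over.forget S) U j hG
    have : ∀ i, IsAffine ((U i).left) := fun i => hWaff i.down
    have e2 : (∐ fun i => (U i).left) ≅ G.left :=
      (coproductIsCoproduct _).coconePointUniqueUpToIso hGl
    exact IsAffine.of_isIso e2.inv
  · have hG' : IsColimit (Cofan.mk ((yon S).obj G) (fun i => (yon S).map (j i)) :
        Cofan (fun i => (yon S).obj (U i))) := by
      refine IsColimit.ofIsoColimit hc' (Cocone.ext ε.symm ?_)
      rintro ⟨i⟩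
      change k i.down ≫ ε.inv = (yon S).map (j i)
      rw [← hj' i, Category.assoc, ε.hom_inv_id, Category.comp_id]
    have hG : IsColimit (Cofan.mk G j) := isColimitOfIsColimitCofanMkObj (yon S) U j hG'
    have hGl : IsColimit (Cofan.mk G.left (fun i => (j i).left) :
        Cofan (fun i => (U i).left)) :=
      isColimitCofanMkObjOfIsColimit (Over.forget S) U j hG
    refine isFinite_of_cofan _ _ hGl q.left (fun i => ?_)
    have hji : j i ≫ q = ι i.down := by
      apply (yon S).map_injective
      rw [Functor.map_comp, hq, ← Category.assoc, hj' i, hk2]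
    have : (Cofan.mk G.left (fun i => (j i).left) : Cofan (fun i => (U i).left)).inj i ≫ q.left =
        (ι i.down).left := by
      rw [← hji]; rfl
    rw [this]
    exact hfin i.down

end Groth.Agent.Lib.Helper15.FinCofanSp
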