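import Mathlib
import Groth.Prelude.Def_MoreMor
import Groth.Agent.Lib.Helper15.FOThickBC

/-!
# Helper15 — FinThickBC: finite order thickenings of schemes are stable under base change
-/

set_option autoImplicit false
universe u
open CategoryTheory CategoryTheory.Limits AlgebraicGeometry

namespace Groth.Agent.Lib.Helper15.FinThickBC
set_option backward.isDefEq.respectTransparency.types false

theorem comap_pow_eq_bot {X Y : Scheme.{u}} (K : Y.IdealSheafData) (f : X ⟶ Y) (n : ℕ)
    (hK : K ^ n = ⊥) : (K.comap f) ^ n = ⊥ := by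
  -- affine cover of `X` by opens mapping into affine opens of `Y`
  have key : ∀ x : X, ∃ (U : X.affineOpens) (O : Y.affineOpens), x ∈ U.1 ∧ U.1 ≤ f ⁻¹ᵁ O.1 := by
    intro x
    obtain ⟨O, hO, hxO, _⟩ := TopologicalSpace.Opens.isBasis_iff_nbhd.mp Y.isBasis_affineOpens
      (TopologicalSpace.Opens.mem_top (f x))
    obtain ⟨U, hU, hxU, eU⟩ := TopologicalSpace.Opens.isBasis_iff_nbhd.mp X.isBasis_affineOpens
      (show x ∈ f ⁻¹ᵁ O from hxO)
    exact ⟨⟨U, hU⟩, ⟨O, hO⟩, hxU, eU⟩
  choose U O hxU hUO using key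
  refine Scheme.IdealSheafData.ext_of_iSup_eq_top U ?_ (fun x => ?_)
  · rw [eq_top_iff]
    intro x _
    exact TopologicalSpace.Opens.mem_iSup.mpr ⟨x, hxU x⟩
  · rw [Scheme.IdealSheafData.ideal_pow, Pi.pow_apply, Scheme.IdealSheafData.ideal_bot,
      Pi.bot_apply,
      Groth.Agent.Lib.Helper29.EffCart.ideal_comap_eq_map K f (O x) (U x) (hUO x),
      ← Ideal.map_pow]
    have h0 : (K.ideal (O x)) ^ n = ⊥ := by
      have := congrArg (fun K => K.ideal (O x)) hK
      simpa only [Scheme.IdealSheafData.ideal_pow, Pi.pow_apply, Scheme.IdealSheafData.ideal_bot,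
        Pi.bot_apply] using this
    rw [h0, Ideal.map_bot]

theorem isFiniteOrderThickening_of_isPullback {V V' W W' : Scheme.{u}} (iV : V ⟶ V')
    (iW : W ⟶ W') (l : V ⟶ W) (l' : V' ⟶ W') (hW : MoreMor.IsFiniteOrderThickening iW)
    (sq : IsPullback iV l l' iW) : MoreMor.IsFiniteOrderThickening iV := by
  obtain ⟨⟨h1, h2⟩, n, hn⟩ := hW
  haveI := h1
  refine ⟨⟨MorphismProperty.of_isPullback (P := @IsClosedImmersion) sq.flip h1,
    MorphismProperty.of_isPullback (P := @Surjective) sq.flip h2⟩, n, ?_⟩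
  rw [FOThickBC.ker_eq_comap_of_isPullback iW l' iV l sq.flip]
  exact comap_pow_eq_bot _ _ n hn

end Groth.Agent.Lib.Helper15.FinThickBC
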