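import Groth.Agent.Lib.Helper15.FibreCritSch
import Groth.Agent.Lib.Helper15.AlgSpDeform
import Groth.Agent.Lib.Helper17.FibreStalk
import Groth.Agent.Lib.Helper15.Cube

set_option autoImplicit false
universe u
open CategoryTheory CategoryTheory.Limits AlgebraicGeometry

namespace Groth.Agent.Lib.Helper15.FlatAtSch

/-- Flatness of a morphism of schemes at a point. -/
abbrev FlatAt {X Y : Scheme.{u}} (f : X ⟶ Y) (x : X) : Prop := (f.stalkMap x).hom.Flat

theorem flatAt_of_flat {X Y : Scheme.{u}} (f : X ⟶ Y) [Flat f] (x : X) : FlatAt f x :=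
  Flat.stalkMap f x

theorem flatAt_comp {X Y Z : Scheme.{u}} (a : X ⟶ Y) (b : Y ⟶ Z) (x : X) (ha : FlatAt a x)
    (hb : FlatAt b (a x)) : FlatAt (a ≫ b) x := by
  unfold FlatAt
  rw [Scheme.Hom.stalkMap_comp]
  exact RingHom.Flat.comp hb ha

theorem flatAt_congr {X Y : Scheme.{u}} {f g : X ⟶ Y} (e : f = g) (x : X) (h : FlatAt f x) :
    FlatAt g x := by
  subst e
  exact h

theorem flatAt_congr_pt {X Y : Scheme.{u}} (f : X ⟶ Y) {x x' : X} (e : x = x') (h : FlatAt f x) :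
    FlatAt f x' := by
  subst e
  exact h

/-- Descent on the source: if `π` is flat at `u'` and `π ≫ g` is flat at `u'`, then `g` is flat at
`π u'`. -/
theorem flatAt_of_comp_source {U' U V : Scheme.{u}} (π : U' ⟶ U) (g : U ⟶ V) (u' : U')
    (hπ : FlatAt π u') (h : FlatAt (π ≫ g) u') : FlatAt g (π u') := by
  unfold FlatAt at h ⊢
  rw [Scheme.Hom.stalkMap_comp] at h
  exact AlgSpDeform.ringHom_flat_of_comp (g.stalkMap (π u')).hom (π.stalkMap u').hom hπ h

/-- Flatness at a point is stable under base change. -/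
theorem flatAt_baseChange {X Y X' Y' : Scheme.{u}} {f : X ⟶ Y} {g : Y' ⟶ Y} {g' : X' ⟶ X}
    {f' : X' ⟶ Y'} (sq : IsPullback g' f' f g) (x' : X') (hf : FlatAt f (g' x')) :
    FlatAt f' x' :=
  Groth.Agent.Lib.Helper17.FibreStalk.flat_stalkMap_baseChange g g' f' f sq.flip x' hf

/-- Cancellation of an etale morphism on the target, at a point. -/
theorem flatAt_of_comp_etale {X Y Z : Scheme.{u}} (a : X ⟶ Y) (b : Y ⟶ Z) [Etale b] (x : X)
    (h : FlatAt (a ≫ b) x) : FlatAt a x := by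
  let s : X ⟶ pullback (a ≫ b) b := pullback.lift (𝟙 X) a (by simp)
  have hs1 : s ≫ pullback.fst (a ≫ b) b = 𝟙 X := pullback.lift_fst _ _ _
  have hs2 : s ≫ pullback.snd (a ≫ b) b = a := pullback.lift_snd _ _ _
  have hse : Etale s := by
    have : Etale (s ≫ pullback.fst (a ≫ b) b) := by rw [hs1]; infer_instance
    exact MorphismProperty.of_postcomp (W := @Etale) (W' := @Etale) s
      (pullback.fst (a ≫ b) b) inferInstance this
  have hx : pullback.fst (a ≫ b) b (s x) = x := by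
    rw [← Scheme.Hom.comp_apply, hs1]
    rfl
  have hsnd : FlatAt (pullback.snd (a ≫ b) b) (s x) :=
    flatAt_baseChange (IsPullback.of_hasPullback (a ≫ b) b) (s x) (flatAt_congr_pt _ hx.symm h)
  exact flatAt_congr hs2 x (flatAt_comp s _ x (flatAt_of_flat s x) hsnd)

/-- Descent of flatness at a point along a commutative square with flat sides. -/
theorem flatAt_descent {X Y X' Y' : Scheme.{u}} {f : X ⟶ Y} {g : Y' ⟶ Y} {g' : X' ⟶ X}
    {f' : X' ⟶ Y'} (w : g' ≫ f = f' ≫ g) (x' : X') (hg' : FlatAt g' x') (hg : FlatAt g (f' x'))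
    (hf' : FlatAt f' x') : FlatAt f (g' x') :=
  flatAt_of_comp_source g' f x' hg' (flatAt_congr w.symm x' (flatAt_comp f' g x' hf' hg))

section Crit

variable {U V W : Scheme.{u}} (h : U ⟶ V) (l : V ⟶ W)

/-- The conclusion of the fibre criterion (in the shape of S1386). -/
def Crit : Prop :=
  (∀ x : U, (((h ≫ l).stalkMap x).hom.Flat ∧
      ((MoreMor.fiberMap h l (l (h x))).stalkMap ((h ≫ l).asFiber x)).hom.Flat ↔
        (l.stalkMap (h x)).hom.Flat ∧ (h.stalkMap x).hom.Flat)) ∧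
    IsOpen {x : U | (l.stalkMap (h x)).hom.Flat ∧ (h.stalkMap x).hom.Flat}

theorem fiberι_mem {X Y : Scheme.{u}} (f : X ⟶ Y) (y : Y) (z : f.fiber y) :
    f (f.fiberι y z) = y := by
  have e := congr($(f.fiber_fac y) z)
  rw [Scheme.Hom.comp_apply, Scheme.Hom.comp_apply] at e
  rw [e]
  exact Scheme.fromSpecResidueField_apply _ _

theorem fiber_transport (w w' : W) (e : w' = w) (z : (h ≫ l).fiber w) (z' : (h ≫ l).fiber w')
    (hι : (h ≫ l).fiberι w z = (h ≫ l).fiberι w' z') :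
    FlatAt (MoreMor.fiberMap h l w) z ↔ FlatAt (MoreMor.fiberMap h l w') z' := by
  subst e
  obtain rfl : z = z' := ((h ≫ l).fiberι w').isEmbedding.injective hι
  exact Iff.rfl

variable {h l}

/-- The fibre criterion over an arbitrary point of `W`. -/
theorem Crit.fiber (hc : Crit h l) (w : W) (z : (h ≫ l).fiber w) :
    FlatAt (h ≫ l) ((h ≫ l).fiberι w z) ∧ FlatAt (MoreMor.fiberMap h l w) z ↔
      FlatAt l (h ((h ≫ l).fiberι w z)) ∧ FlatAt h ((h ≫ l).fiberι w z) := by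
  have e : l (h ((h ≫ l).fiberι w z)) = w := fiberι_mem (h ≫ l) w z
  rw [fiber_transport h l w _ e z ((h ≫ l).asFiber ((h ≫ l).fiberι w z))
    ((h ≫ l).fiberι_asFiber _).symm]
  exact hc.1 _

/-- The fibre criterion over an arbitrary field-valued point of `W`, with arbitrary pullback
squares as fibres. -/
theorem Crit.fibreK (hc : Crit h l) (K : Type u) [Field K] (wK : Spec (CommRingCat.of K) ⟶ W)
    {UK VK : Scheme.{u}} {pU : UK ⟶ U} {qU : UK ⟶ Spec (CommRingCat.of K)}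
    (sqU : IsPullback pU qU (h ≫ l) wK) {pV : VK ⟶ V} {qV : VK ⟶ Spec (CommRingCat.of K)}
    (sqV : IsPullback pV qV l wK) (F : UK ⟶ VK) (hF1 : F ≫ pV = pU ≫ h) (hF2 : F ≫ qV = qU)
    (x : UK) :
    FlatAt (h ≫ l) (pU x) ∧ FlatAt F x ↔ FlatAt l (h (pU x)) ∧ FlatAt h (pU x) := by
  let w : W := wK (IsLocalRing.closedPoint K)
  let φ : W.residueField w ⟶ CommRingCat.of K :=
    W.descResidueField (Scheme.stalkClosedPointTo wK)
  have hφ : Spec.map φ ≫ W.fromSpecResidueField w = wK :=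
    Scheme.descResidueField_stalkClosedPointTo_fromSpecResidueField K W wK
  have sqU' : IsPullback pU qU (h ≫ l) (Spec.map φ ≫ W.fromSpecResidueField w) := by
    rw [hφ]; exact sqU
  have sqV' : IsPullback pV qV l (Spec.map φ ≫ W.fromSpecResidueField w) := by
    rw [hφ]; exact sqV
  obtain ⟨A, B, hA1, hB1, sq, sqA, sqB⟩ := Cube.exists_cube h l (W.fromSpecResidueField w)
    (Spec.map φ) (IsPullback.of_hasPullback (h ≫ l) (W.fromSpecResidueField w))
    (IsPullback.of_hasPullback l (W.fromSpecResidueField w)) (MoreMor.fiberMap h l w)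
    (pullback.lift_fst _ _ _) (pullback.lift_snd _ _ _) sqU' sqV' F hF1 hF2
  haveI : Flat (Spec.map φ) := by
    rw [Flat.SpecMap_iff]
    algebraize [φ.hom]
    exact RingHom.flat_algebraMap_iff.2 inferInstance
  haveI : Flat A := MorphismProperty.of_isPullback sqA.flip inferInstance
  haveI : Flat B := MorphismProperty.of_isPullback sqB.flip inferInstance
  have key : FlatAt F x ↔ FlatAt (MoreMor.fiberMap h l w) (A x) :=
    ⟨fun hF => flatAt_descent sq.w x (flatAt_of_flat A x) (flatAt_of_flat B _) hF,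
      fun hγ => flatAt_baseChange sq x hγ⟩
  have hx : (h ≫ l).fiberι w (A x) = pU x := by
    rw [← hA1]
    rfl
  have hcf := hc.fiber w (A x)
  rw [hx] at hcf
  rw [key]
  exact hcf

/-- Descent of flatness at a point along a base change `W₁ ⟶ W`, from the fibre criterion. -/
theorem flatAt_of_baseChange {U₁ V₁ W₁ : Scheme.{u}} {h₁ : U₁ ⟶ V₁} {l₁ : V₁ ⟶ W₁}
    (hc : Crit h l) (hc₁ : Crit h₁ l₁) {m : W₁ ⟶ W} {mV : V₁ ⟶ V} {mU : U₁ ⟶ U}
    (sqV : IsPullback mV l₁ l m) (sqU : IsPullback mU h₁ h mV) (u₁ : U₁)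
    (hfl : FlatAt (h ≫ l) (mU u₁)) (h1 : FlatAt h₁ u₁) (h2 : FlatAt l₁ (h₁ u₁)) :
    FlatAt l (h (mU u₁)) ∧ FlatAt h (mU u₁) := by
  let w₁ : W₁ := l₁ (h₁ u₁)
  have hF : FlatAt (MoreMor.fiberMap h₁ l₁ w₁) ((h₁ ≫ l₁).asFiber u₁) := ((hc₁.1 u₁).2 ⟨h2, h1⟩).2
  have big : IsPullback mU (h₁ ≫ l₁) (h ≫ l) m := sqU.paste_vert sqV
  have sqU'' : IsPullback ((h₁ ≫ l₁).fiberι w₁ ≫ mU) ((h₁ ≫ l₁).fiberToSpecResidueField w₁)
      (h ≫ l) (W₁.fromSpecResidueField w₁ ≫ m) :=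
    (IsPullback.of_hasPullback (h₁ ≫ l₁) (W₁.fromSpecResidueField w₁)).paste_horiz big
  have sqV'' : IsPullback (l₁.fiberι w₁ ≫ mV) (l₁.fiberToSpecResidueField w₁)
      l (W₁.fromSpecResidueField w₁ ≫ m) :=
    (IsPullback.of_hasPullback l₁ (W₁.fromSpecResidueField w₁)).paste_horiz sqV
  have hF1 : MoreMor.fiberMap h₁ l₁ w₁ ≫ l₁.fiberι w₁ ≫ mV =
      ((h₁ ≫ l₁).fiberι w₁ ≫ mU) ≫ h := by
    rw [← Category.assoc, FibreCritSch.fiberMap_fiberι, Category.assoc, Category.assoc, sqU.w]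
  have hF2 : MoreMor.fiberMap h₁ l₁ w₁ ≫ l₁.fiberToSpecResidueField w₁ =
      (h₁ ≫ l₁).fiberToSpecResidueField w₁ := pullback.lift_snd _ _ _
  have key := hc.fibreK (W₁.residueField w₁) (W₁.fromSpecResidueField w₁ ≫ m) sqU'' sqV''
    (MoreMor.fiberMap h₁ l₁ w₁) hF1 hF2 ((h₁ ≫ l₁).asFiber u₁)
  have hx : ((h₁ ≫ l₁).fiberι w₁ ≫ mU) ((h₁ ≫ l₁).asFiber u₁) = mU u₁ := by
    exact congrArg (fun t => mU t) ((h₁ ≫ l₁).fiberι_asFiber u₁)
  rw [hx] at key
  exact key.1 ⟨hfl, hF⟩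

end Crit

end Groth.Agent.Lib.Helper15.FlatAtSch
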