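import Mathlib.RingTheory.Flat.FaithfullyFlat.Algebra
import Mathlib.RingTheory.RingHom.Flat
import Mathlib.RingTheory.RingHom.FaithfullyFlat

namespace Groth.Agent.Lib.Helper15

open TensorProduct

universe u

/-- If `R → S → T` with `S → T` faithfully flat and `R → T` flat then `R → S` is flat. -/
theorem flat_of_flat_comp_faithfullyFlat (R S T : Type u) [CommRing R] [CommRing S] [CommRing T]
    [Algebra R S] [Algebra S T] [Algebra R T] [IsScalarTower R S T]
    [Module.FaithfullyFlat S T] [Module.Flat R T] : Module.Flat R S := by
  rw [Module.Flat.iff_lTensor_preserves_injective_linearMap]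
  intro N P _ _ _ _ f hf
  have h1 : Function.Injective (f.lTensor T) :=
    Module.Flat.lTensor_preserves_injective_linearMap f hf
  have h2 : Function.Injective ((f.baseChange S).lTensor T) := by
    have : (f.baseChange S).lTensor T =
        (AlgebraTensorModule.cancelBaseChange R S T T P).symm.toLinearMap.restrictScalars S ∘ₗ
          ((f.baseChange T).restrictScalars S) ∘ₗ
          (AlgebraTensorModule.cancelBaseChange R S T T N).toLinearMap.restrictScalars S := by
      ext t s
      simp
    rw [this]
    simp only [LinearMap.coe_comp, LinearMap.coe_restrictScalars, LinearEquiv.coe_coe]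
    exact (LinearEquiv.injective _).comp (h1.comp (LinearEquiv.injective _))
  rw [Module.FaithfullyFlat.lTensor_injective_iff_injective] at h2
  exact h2

/-- `RingHom` version. -/
theorem ringHom_flat_of_comp_faithfullyFlat {R S T : Type u} [CommRing R] [CommRing S] [CommRing T]
    (f : R →+* S) (g : S →+* T) (hg : g.FaithfullyFlat) (h : (g.comp f).Flat) : f.Flat := by
  algebraize [f, g, g.comp f]
  exact flat_of_flat_comp_faithfullyFlat R S T

/-- A flat local homomorphism of local rings is faithfully flat (`RingHom` version). -/
theorem ringHom_faithfullyFlat_of_flat_of_isLocalHom {S T : Type u} [CommRing S] [CommRing T]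
    [IsLocalRing S] [IsLocalRing T] (g : S →+* T) [IsLocalHom g] (hg : g.Flat) :
    g.FaithfullyFlat := by
  algebraize [g]
  have : IsLocalHom (algebraMap S T) := ‹IsLocalHom g›
  exact Module.FaithfullyFlat.of_flat_of_isLocalHom

/-- If `ι ∘ α` is flat and `ι` has a ring-theoretic retraction, then `α` is flat. -/
theorem ringHom_flat_of_retract {A D E : Type u} [CommRing A] [CommRing D] [CommRing E]
    (α : A →+* D) (ι : D →+* E) (σ : E →+* D) (hσι : σ.comp ι = RingHom.id D)
    (h : (ι.comp α).Flat) : α.Flat := by
  algebraize [α, ι.comp α]
  let i : D →ₗ[A] E :=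
    { toFun := ι
      map_add' := map_add ι
      map_smul' := fun a d => by
        simp only [Algebra.smul_def, map_mul, RingHom.id_apply]
        rfl }
  let r : E →ₗ[A] D :=
    { toFun := σ
      map_add' := map_add σ
      map_smul' := fun a e => by
        simp only [Algebra.smul_def, map_mul, RingHom.id_apply]
        congr 1
        exact congrFun (congrArg DFunLike.coe hσι) (α a) }
  have hri : r.comp i = LinearMap.id := by
    ext d
    exact congrFun (congrArg DFunLike.coe hσι) d
  exact Module.Flat.of_retract i r hri

end Groth.Agent.Lib.Helper15
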