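import Mathlib.AlgebraicGeometry.Morphisms.Flat
import Groth.Agent.Lib.Helper15.FlatDescent

namespace Groth.Agent.Lib.Helper15

open CategoryTheory CategoryTheory.Limits AlgebraicGeometry

universe u

/-- fpqc-locality of flatness on the source (one direction). -/
theorem flat_of_flat_comp_of_surjective_flat {X' X Y : Scheme.{u}} (f : X' ⟶ X) (g : X ⟶ Y) [Flat f]
    [Surjective f] [Flat (f ≫ g)] : Flat g := by
  rw [Flat.iff_flat_stalkMap]
  intro x
  obtain ⟨x', rfl⟩ := f.surjective x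
  have h1 : ((f ≫ g).stalkMap x').hom.Flat := Flat.stalkMap (f ≫ g) x'
  rw [Scheme.Hom.stalkMap_comp] at h1
  have h2 : (f.stalkMap x').hom.FaithfullyFlat :=
    ringHom_faithfullyFlat_of_flat_of_isLocalHom _ (Flat.stalkMap f x')
  exact ringHom_flat_of_comp_faithfullyFlat _ _ h2 h1

/-- If `s ≫ p = 𝟙` and `p ≫ h` is flat then `h` is flat. -/
theorem flat_of_section {W Y' Z : Scheme.{u}} (s : Y' ⟶ W) (p : W ⟶ Y') (h : Y' ⟶ Z)
    (hsp : s ≫ p = 𝟙 Y') [Flat (p ≫ h)] : Flat h := by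
  rw [Flat.iff_flat_stalkMap]
  intro y'
  have hpt : p (s y') = y' := by
    have := congrArg (fun φ : Y' ⟶ Y' => φ y') hsp
    simpa using this
  let c : Y'.presheaf.stalk y' ⟶ Y'.presheaf.stalk (p (s y')) :=
    (Y'.presheaf.stalkCongr (.of_eq hpt.symm)).hom
  apply ringHom_flat_of_retract (h.stalkMap y').hom (c ≫ p.stalkMap (s y')).hom (s.stalkMap y').hom
  · rw [← CommRingCat.hom_comp, Category.assoc, ← Scheme.Hom.stalkMap_comp,
      Scheme.Hom.stalkMap_congr_hom (s ≫ p) (𝟙 _) hsp y', Scheme.Hom.stalkMap_id]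
    ext x
    simp [c]
  · rw [← CommRingCat.hom_comp, ← Category.assoc]
    have e := Scheme.Hom.stalkMap_congr_point h y' (p (s y')) hpt.symm
    rw [show h.stalkMap y' ≫ c = _ from e, Category.assoc, ← Scheme.Hom.stalkMap_comp]
    rw [CommRingCat.hom_comp]
    refine RingHom.Flat.comp (RingHom.Flat.of_bijective ?_) (Flat.stalkMap (p ≫ h) (s y'))
    exact ConcreteCategory.bijective_of_isIso _

end Groth.Agent.Lib.Helper15
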