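import Mathlib

namespace Groth.Agent.Lib.Helper15.FlatUnram
open TensorProduct

universe u
variable {R S : Type u} [CommRing R] [CommRing S] [Algebra R S]

section lift
variable [Module.Flat R S] [Algebra.FormallyUnramified R S] [Algebra.EssFiniteType R S]
variable {B : Type u} [CommRing B] [Algebra R B] (I : Ideal B) (φb : S →ₐ[R] B ⧸ I)

/-- reduction `B ⊗ S → (B/I) ⊗ S`. -/
noncomputable def red : B ⊗[R] S →ₐ[B] (B ⧸ I) ⊗[R] S :=
  Algebra.TensorProduct.map (Ideal.Quotient.mkₐ B I) (AlgHom.id R S)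

/-- the retraction `(B/I) ⊗ S → B/I` attached to `φb`. -/
noncomputable def psi : (B ⧸ I) ⊗[R] S →ₐ[B ⧸ I] B ⧸ I :=
  Algebra.TensorProduct.lift (AlgHom.id _ _) φb (fun _ _ => Commute.all _ _)

/-- the idempotent cutting out the graph of `φb`. -/
noncomputable def e0 : (B ⧸ I) ⊗[R] S :=
  (Algebra.TensorProduct.map φb (AlgHom.id R S)) (Algebra.FormallyUnramified.elem R S)

omit [Module.Flat R S] in
theorem e0_mul (s : S) : (φb s ⊗ₜ[R] (1 : S)) * e0 I φb = ((1 : B ⧸ I) ⊗ₜ[R] s) * e0 I φb := by
  have h := congrArg (Algebra.TensorProduct.map φb (AlgHom.id R S))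
    (Algebra.FormallyUnramified.one_tmul_mul_elem (R := R) (S := S) s)
  simp only [map_mul, Algebra.TensorProduct.map_tmul, map_one, AlgHom.coe_id, id_eq] at h
  exact h.symm

omit [Module.Flat R S] in
theorem psi_e0 : psi I φb (e0 I φb) = 1 := by
  have h : ((psi I φb).restrictScalars R).comp (Algebra.TensorProduct.map φb (AlgHom.id R S)) =
      φb.comp (Algebra.TensorProduct.lmul' R) := by
    apply Algebra.TensorProduct.ext'
    intro a b
    simp [psi]
  have h2 := congrArg (fun f => f (Algebra.FormallyUnramified.elem R S)) h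
  simp only [AlgHom.comp_apply, Algebra.FormallyUnramified.lmul_elem, map_one] at h2
  exact h2

omit [Module.Flat R S] in
theorem mul_e0 (x : (B ⧸ I) ⊗[R] S) : x * e0 I φb = (psi I φb x ⊗ₜ[R] (1 : S)) * e0 I φb := by
  induction x with
  | zero => simp
  | tmul b s =>
    have : (b ⊗ₜ[R] s : (B ⧸ I) ⊗[R] S) = (b ⊗ₜ[R] (1 : S)) * ((1 : B ⧸ I) ⊗ₜ[R] s) := by
      simp
    rw [this, mul_assoc, ← e0_mul, ← mul_assoc]
    simp [psi]
  | add x y hx hy =>
    rw [add_mul, hx, hy, map_add, TensorProduct.add_tmul, add_mul]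

omit [Module.Flat R S] in
theorem e0_idem : IsIdempotentElem (e0 I φb) := by
  unfold IsIdempotentElem
  rw [mul_e0, psi_e0, ← Algebra.TensorProduct.one_def, one_mul]

omit [Module.Flat R S] [Algebra.FormallyUnramified R S] [Algebra.EssFiniteType R S] in
theorem red_surjective : Function.Surjective (red (R := R) (S := S) I) :=
  Algebra.TensorProduct.map_surjective _ _ Ideal.Quotient.mk_surjective Function.surjective_id

omit [Module.Flat R S] [Algebra.FormallyUnramified R S] [Algebra.EssFiniteType R S] in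
theorem ker_red : RingHom.ker (red (R := R) (S := S) I) =
    I.map (Algebra.TensorProduct.includeLeft : B →ₐ[B] B ⊗[R] S) := by
  have h := Algebra.TensorProduct.rTensor_ker (R := R) (S := B) (C := S) (Ideal.Quotient.mkₐ B I)
    Ideal.Quotient.mk_surjective
  have h2 : RingHom.ker (Ideal.Quotient.mkₐ B I) = I := by
    ext x
    simp [RingHom.mem_ker, Ideal.Quotient.eq_zero_iff_mem]
  rw [h2] at h
  exact h

omit [Module.Flat R S] [Algebra.FormallyUnramified R S] [Algebra.EssFiniteType R S] in
theorem ker_red_sq (hI : I ^ 2 = ⊥) : RingHom.ker (red (R := R) (S := S) I) ^ 2 = ⊥ := by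
  rw [ker_red, ← Ideal.map_pow, hI, Ideal.map_bot]

omit [Module.Flat R S] in
theorem exists_idem (hI : I ^ 2 = ⊥) : ∃ e : B ⊗[R] S, IsIdempotentElem e ∧ red I e = e0 I φb := by
  have := exists_isIdempotentElem_eq_of_ker_isNilpotent (red (R := R) (S := S) I).toRingHom
    (fun x hx => ⟨2, by
      have : x ^ 2 ∈ RingHom.ker (red (R := R) (S := S) I) ^ 2 := Ideal.pow_mem_pow hx 2
      rw [ker_red_sq I hI] at this
      exact this⟩) (e0 I φb) (by
        obtain ⟨y, hy⟩ := red_surjective (R := R) (S := S) I (e0 I φb)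
        exact ⟨y, hy⟩) (e0_idem I φb)
  exact this

section main
variable (e : B ⊗[R] S)

/-- the factor of `B ⊗ S` cut out by `e`. -/
abbrev D : Type u := (B ⊗[R] S) ⧸ Ideal.span {1 - e}

omit [Module.Flat R S] [Algebra.FormallyUnramified R S] [Algebra.EssFiniteType R S] in
theorem mk_e : (Ideal.Quotient.mk (Ideal.span {1 - e}) e) = 1 := by
  have : Ideal.Quotient.mk (Ideal.span {1 - e}) (1 - e) = 0 :=
    Ideal.Quotient.eq_zero_iff_mem.mpr (Ideal.subset_span rfl)
  rw [map_sub, map_one, sub_eq_zero] at this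
  exact this.symm

omit [Algebra.FormallyUnramified R S] [Algebra.EssFiniteType R S] in
theorem flat_D (he : IsIdempotentElem e) : Module.Flat B (D e) := by
  have : IsLocalization.Away e (D e) := IsLocalization.Away.quotient_of_isIdempotentElem he
  have : Module.Flat (B ⊗[R] S) (D e) := IsLocalization.flat _ (Submonoid.powers e)
  exact Module.Flat.trans B (B ⊗[R] S) (D e)

/-- the map `D → B/I`. -/
noncomputable def chi (hred : red I e = e0 I φb) : D e →ₐ[B] B ⧸ I :=
  Ideal.Quotient.liftₐ (Ideal.span {1 - e}) (((psi I φb).restrictScalars B).comp (red I)) (by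
    intro a ha
    obtain ⟨c, rfl⟩ := Ideal.mem_span_singleton'.mp ha
    simp only [AlgHom.comp_apply, map_mul, map_sub, map_one, hred, AlgHom.restrictScalars_apply,
      psi_e0, sub_self, mul_zero])

omit [Module.Flat R S] in
theorem chi_mk (hred : red I e = e0 I φb) (x : B ⊗[R] S) :
    chi I φb e hred (Ideal.Quotient.mk _ x) = psi I φb (red I x) := rfl

omit [Module.Flat R S] in
theorem mk_mem_of_chi_eq_zero (hred : red I e = e0 I φb) (x : B ⊗[R] S)
    (hx : psi I φb (red I x) = 0) :
    Ideal.Quotient.mk (Ideal.span {1 - e}) x ∈ I.map (algebraMap B (D e)) := by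
  have h1 : red I (x * e) = 0 := by
    rw [map_mul, hred, mul_e0, hx, TensorProduct.zero_tmul, zero_mul]
  have h2 : x * e ∈ I.map (Algebra.TensorProduct.includeLeft : B →ₐ[B] B ⊗[R] S) := by
    rw [← ker_red]
    exact h1
  have h3 : Ideal.Quotient.mk (Ideal.span {1 - e}) x = Ideal.Quotient.mk (Ideal.span {1 - e}) (x * e) := by
    rw [map_mul, mk_e, mul_one]
  rw [h3]
  have := Ideal.mem_map_of_mem (Ideal.Quotient.mk (Ideal.span {1 - e})) h2
  refine (Ideal.map_le_iff_le_comap.mpr (Ideal.map_le_iff_le_comap.mpr ?_)) this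
  intro b hb
  exact Ideal.mem_map_of_mem (algebraMap B (D e)) hb

omit [Module.Flat R S] in
theorem exists_sub_mem (hred : red I e = e0 I φb) (d : D e) :
    ∃ b : B, d - algebraMap B (D e) b ∈ I.map (algebraMap B (D e)) := by
  obtain ⟨b, hb⟩ := Ideal.Quotient.mk_surjective (chi I φb e hred d)
  refine ⟨b, ?_⟩
  obtain ⟨x, rfl⟩ := Ideal.Quotient.mk_surjective d
  have h1 : algebraMap B (D e) b = Ideal.Quotient.mk (Ideal.span {1 - e}) (algebraMap B (B ⊗[R] S) b) := rfl
  rw [h1, ← map_sub]
  apply mk_mem_of_chi_eq_zero I φb e hred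
  rw [← chi_mk I φb e hred, map_sub (Ideal.Quotient.mk _), ← h1, map_sub, AlgHom.commutes, ← hb]
  simp

omit [Module.Flat R S] in
theorem algebraMap_surjective (hI : I ^ 2 = ⊥) (hred : red I e = e0 I φb) :
    Function.Surjective (algebraMap B (D e)) := by
  have hJ : I.map (algebraMap B (D e)) * I.map (algebraMap B (D e)) = ⊥ := by
    rw [← Ideal.map_mul, ← pow_two, hI, Ideal.map_bot]
  have key : ∀ j ∈ I.map (algebraMap B (D e)), ∀ d : D e, d * j ∈ (algebraMap B (D e)).range := by
    intro j hj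
    refine Submodule.span_induction (p := fun j _ => ∀ d : D e, d * j ∈ (algebraMap B (D e)).range)
      ?_ ?_ ?_ ?_ hj
    · rintro _ ⟨i, hi, rfl⟩ d
      obtain ⟨b, hb⟩ := exists_sub_mem I φb e hred d
      have h0 : (d - algebraMap B (D e) b) * algebraMap B (D e) i = 0 := by
        have : (d - algebraMap B (D e) b) * algebraMap B (D e) i ∈
            I.map (algebraMap B (D e)) * I.map (algebraMap B (D e)) :=
          Ideal.mul_mem_mul hb (Ideal.mem_map_of_mem _ hi)
        rw [hJ] at this
        exact this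
      refine ⟨b * i, ?_⟩
      rw [map_mul]
      rw [sub_mul, sub_eq_zero] at h0
      exact h0.symm
    · intro d
      simp
    · intro x y _ _ hx hy d
      rw [mul_add]
      exact add_mem (hx d) (hy d)
    · intro a x _ hx d
      rw [smul_eq_mul, ← mul_assoc]
      exact hx (d * a)
  intro d
  obtain ⟨b, hb⟩ := exists_sub_mem I φb e hred d
  obtain ⟨b', hb'⟩ := key _ hb 1
  refine ⟨b + b', ?_⟩
  rw [map_add, hb', one_mul]
  ring

theorem algebraMap_injective (hI : I ^ 2 = ⊥) (he : IsIdempotentElem e) (hred : red I e = e0 I φb) :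
    Function.Injective (algebraMap B (D e)) := by
  rw [injective_iff_map_eq_zero]
  intro b hb
  have hbI : b ∈ I := by
    have := congrArg (chi I φb e hred) hb
    rw [AlgHom.commutes, map_zero] at this
    exact Ideal.Quotient.eq_zero_iff_mem.mp this
  have := flat_D (R := R) (S := S) e he
  have hinj := (Module.Flat.iff_rTensor_injective'.mp (inferInstance : Module.Flat B (D e))) I
  have hz : (⟨b, hbI⟩ : I) ⊗ₜ[B] (1 : D e) = 0 := by
    apply hinj
    rw [map_zero, LinearMap.rTensor_tmul, Submodule.subtype_apply]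
    have : (b ⊗ₜ[B] (1 : D e) : B ⊗[B] D e) = (1 : B) ⊗ₜ[B] (b • (1 : D e)) := by
      rw [← TensorProduct.smul_tmul, smul_eq_mul, mul_one]
    rw [this, ← Algebra.algebraMap_eq_smul_one, hb, TensorProduct.tmul_zero]
  have hz2 := congrArg (LinearMap.lTensor I (chi I φb e hred).toLinearMap) hz
  rw [map_zero, LinearMap.lTensor_tmul] at hz2
  have hz3 := congrArg (TensorProduct.tensorQuotEquivQuotSMul I I) hz2
  rw [map_zero, AlgHom.toLinearMap_apply, map_one, ← map_one (Ideal.Quotient.mk I),
    TensorProduct.tensorQuotEquivQuotSMul_tmul_mk, one_smul,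
    Submodule.Quotient.mk_eq_zero] at hz3
  have hbot : (I • ⊤ : Submodule B I) = ⊥ := by
    rw [eq_bot_iff, Submodule.smul_le]
    rintro r hr ⟨n, hn⟩ -
    rw [Submodule.mem_bot]
    ext
    have : r * n ∈ I ^ 2 := by
      rw [pow_two]
      exact Ideal.mul_mem_mul hr hn
    rw [hI] at this
    exact this
  rw [hbot, Submodule.mem_bot] at hz3
  exact congrArg Subtype.val hz3

end main

theorem exists_lift (hI : I ^ 2 = ⊥) : ∃ φ : S →ₐ[R] B, (Ideal.Quotient.mkₐ R I).comp φ = φb := by
  obtain ⟨e, he, hred⟩ := exists_idem I φb hI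
  have hbij : Function.Bijective (algebraMap B (D e)) :=
    ⟨algebraMap_injective I φb e hI he hred, algebraMap_surjective I φb e hI hred⟩
  let eq : B ≃ₐ[B] D e := AlgEquiv.ofBijective (Algebra.ofId B (D e)) hbij
  let φ : S →ₐ[R] B := (eq.symm.toAlgHom.restrictScalars R).comp
    ((Ideal.Quotient.mkₐ R (Ideal.span {1 - e})).comp Algebra.TensorProduct.includeRight)
  refine ⟨φ, ?_⟩
  refine AlgHom.ext fun s => ?_
  have h1 : algebraMap B (D e) (φ s) = Ideal.Quotient.mk _ ((1 : B) ⊗ₜ[R] s) :=
    eq.apply_symm_apply _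
  have h2 := congrArg (chi I φb e hred) h1
  rw [AlgHom.commutes, chi_mk] at h2
  simp only [AlgHom.comp_apply, Ideal.Quotient.mkₐ_eq_mk]
  rw [Ideal.Quotient.algebraMap_eq] at h2
  rw [h2]
  simp [red, psi]

end lift

theorem formallyEtale_of_flat [Module.Flat R S] [Algebra.FormallyUnramified R S]
    [Algebra.EssFiniteType R S] : Algebra.FormallyEtale R S := by
  have : Algebra.FormallySmooth R S := by
    apply Algebra.FormallySmooth.of_comp_surjective
    intro B _ _ I hI φb
    exact exists_lift I φb hI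
  exact Algebra.FormallyEtale.of_formallyUnramified_and_formallySmooth

end Groth.Agent.Lib.Helper15.FlatUnram
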