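import Groth.Agent.Lib.Helper15.ThickGlobal3
import Groth.Agent.Lib.Helper15.FinThickBC
import Groth.Agent.Lib.Helper15.Thick2
import Groth.Agent.Lib.Helper3.AlgSpChartPts
import Groth.Agent.S9906

set_option autoImplicit false
universe u
open CategoryTheory CategoryTheory.Limits AlgebraicGeometry
open AlgSp

namespace Groth.Agent.Lib.Helper15.FpThick
set_option backward.isDefEq.respectTransparency.types false

theorem ker_fg_of_finitePresentation_surjective {A B : Type u} [CommRing A] [CommRing B]
    (φ : A →+* B) (h1 : φ.FinitePresentation) (h2 : Function.Surjective φ) :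
    (RingHom.ker φ).FG := by
  algebraize [φ]
  exact Algebra.FinitePresentation.ker_fG_of_surjective (Algebra.ofId A B) h2

/-- a thickening of finite presentation with affine target is of finite order -/
theorem isFiniteOrderThickening_of_lfp_affine {V V' : Scheme.{u}} (i : V ⟶ V') [IsAffine V']
    (hi : MoreMor.IsThickening i) [LocallyOfFinitePresentation i] :
    MoreMor.IsFiniteOrderThickening i := by
  haveI : IsClosedImmersion i := hi.1
  haveI : Surjective i := hi.2
  haveI : IsAffine V := isAffine_of_isAffineHom i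
  refine ⟨hi, ?_⟩
  have hfp : (i.appTop).hom.FinitePresentation :=
    (HasRingHomProperty.iff_of_isAffine (P := @LocallyOfFinitePresentation)).1 inferInstance
  have hsurj : Function.Surjective (i.appTop).hom := by
    have := i.app_surjective ⊤ (isAffineOpen_top V')
    exact this
  have hfg := ker_fg_of_finitePresentation_surjective _ hfp hsurj
  have hnil : RingHom.ker (i.appTop).hom ≤ nilradical Γ(V', ⊤) :=
    Thick.ker_app_le_nilradical i ⟨⊤, isAffineOpen_top V'⟩
  obtain ⟨n, hn⟩ := hfg.isNilpotent_iff_le_nilradical.2 hnil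
  refine ⟨n, ?_⟩
  apply Scheme.IdealSheafData.ext_of_isAffine
  rw [Scheme.IdealSheafData.ideal_pow, Pi.pow_apply, Scheme.Hom.ker_apply]
  exact hn


variable {S : Scheme.{u}}
open Groth.Agent.Lib.Helper3 Groth.Agent.Lib.Helper15.AlgSpThick

/-- chart with affine target chart -/
theorem lft_chart_of_affine {X X' B B' : Sp S} (i : X' ⟶ X) (g : B' ⟶ B) (snd : X' ⟶ B')
    (f : X ⟶ B) (hi : IsThickMor i) (hg : IsThickMor g) (hcart : IsPullback i snd f g)
    (hsnd : LocP @LocallyOfFiniteType snd) (hfp : LocP @LocallyOfFinitePresentation g)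
    {U' V' : Over S} (a' : (yon S).obj U' ⟶ X) (b' : (yon S).obj V' ⟶ B) (h' : U' ⟶ V')
    (ha' : RepWith @Etale a') (hb' : RepWith @Etale b') (w' : a' ≫ f = (yon S).map h' ≫ b')
    [IsAffine V'.left] : LocallyOfFiniteType h'.left := by
  obtain ⟨U, V, iU, iV, h, a, b, hae, hbe, hw, hU, hV, sq, sqa, sqb⟩ :=
    exists_thick_chart i g snd f hi hg hcart a' b' h' ha' hb' w'
  haveI : LocallyOfFinitePresentation iV.left := hfp b b' iV hbe hb' sqb.w
  have hfinV : MoreMor.IsFiniteOrderThickening iV.left :=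
    isFiniteOrderThickening_of_lfp_affine iV.left hV
  have hfinU : MoreMor.IsFiniteOrderThickening iU.left :=
    FinThickBC.isFiniteOrderThickening_of_isPullback iU.left iV.left h.left h'.left hfinV sq
  exact ThickSrc.lft_of_lft_src iU.left iV.left h.left h'.left hfinU hV.1 sq (hsnd a b h hae hbe hw)


theorem locP_lft_of_fp {X X' B B' : Sp S} (i : X' ⟶ X) (g : B' ⟶ B) (snd : X' ⟶ B')
    (f : X ⟶ B) (hi : IsThickMor i) (hg : IsThickMor g) (hcart : IsPullback i snd f g)
    (hsnd : LocP @LocallyOfFiniteType snd) (hfp : LocP @LocallyOfFinitePresentation g) :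
    LocP @LocallyOfFiniteType f := by
  intro U' V' a' b' h' ha' hb' w'
  rw [IsZariskiLocalAtTarget.iff_of_iSup_eq_top (P := @LocallyOfFiniteType) _
    (iSup_affineOpens_eq_top V'.left)]
  intro O
  let UO : Over S := Over.mk ((h'.left ⁻¹ᵁ O.1).ι ≫ U'.hom)
  let VO : Over S := Over.mk (O.1.ι ≫ V'.hom)
  let hO : UO ⟶ VO := CategoryTheory.Over.homMk (h'.left ∣_ O.1) (by
    change (h'.left ∣_ O.1) ≫ O.1.ι ≫ V'.hom = (h'.left ⁻¹ᵁ O.1).ι ≫ U'.hom
    rw [← Category.assoc, morphismRestrict_ι, Category.assoc, Over.w h'])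
  haveI : IsAffine VO.left := O.2
  have key : (CategoryTheory.Over.homMk (h'.left ⁻¹ᵁ O.1).ι rfl : UO ⟶ U') ≫ h' =
      hO ≫ (CategoryTheory.Over.homMk O.1.ι rfl : VO ⟶ V') := by
    ext
    exact (morphismRestrict_ι h'.left O.1).symm
  have := lft_chart_of_affine i g snd f hi hg hcart hsnd hfp
    (chartRestrict a' (h'.left ⁻¹ᵁ O.1)) (chartRestrict b' O.1) hO
    (chartRestrict_etale a' ha' _) (chartRestrict_etale b' hb' _) (by
      unfold chartRestrict
      rw [Category.assoc, w', ← Category.assoc, ← Functor.map_comp, key, Functor.map_comp,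
        Category.assoc])
  exact this

theorem closedImmersion_of_bc {X B B' : AlgSp.Space S}
    (f : X ⟶ B) (g : B' ⟶ B) (hg : AlgSp.RepWith @IsClosedImmersion g.hom)
    (hbij : Function.Bijective (AlgSp.Points.map g.hom))
    (X' : AlgSp.Sp S) (fst : X' ⟶ X.obj) (snd : X' ⟶ B'.obj) (hX' : IsPullback fst snd f.hom g.hom)
    (hsnd : AlgSp.RepWith @IsClosedImmersion snd)
    (hor : AlgSp.IsFiniteTypeMor f.hom ∨ AlgSp.IsFinitePresentationMor g.hom) :
    AlgSp.RepWith @IsClosedImmersion f.hom := by
  have hgs : RepWith @Surjective g.hom :=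
    (Groth.Agent.S9906.repWith_surjective_iff g.hom hg.rep).2 hbij.surjective
  have hgT : IsThickMor g.hom := repWith_inf hg hgs
  have hiT : IsThickMor fst := MorphismProperty.of_isPullback (P := RepWith thick) hX'.flip hgT
  have hXa : IsAlgSpace X' :=
    isAlgSpace_of_isPullback' B.property X.property B'.property hX'
  let X'sp : AlgSp.Space S := ⟨X', hXa⟩
  let i : X'sp ⟶ X := ⟨fst⟩
  let s : X'sp ⟶ B' := ⟨snd⟩
  have hsl : LocP @LocallyOfFiniteType snd := ThickGlobal.lft_of_closed snd hsnd
  have hfl : LocP @LocallyOfFiniteType f.hom := by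
    rcases hor with h | h
    · exact h.1
    · exact locP_lft_of_fp fst g.hom snd f.hom hiT hgT hX' hsl h.1
  have w : i ≫ f = s ≫ g := by
    ext : 1
    exact hX'.w
  exact ThickGlobal.closed_up i g s f hiT hgT w hX' hsl hfl hsnd

end Groth.Agent.Lib.Helper15.FpThick
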