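import Mathlib.AlgebraicGeometry.Sites.Fpqc
import Mathlib.AlgebraicGeometry.Pullbacks
import Mathlib.CategoryTheory.Comma.Over.Pullback
import Mathlib.CategoryTheory.Comma.Over.Basic

set_option autoImplicit false
universe w u

open AlgebraicGeometry CategoryTheory Limits

namespace Groth.Agent.Lib.Helper15.FpqcColim

theorem isSheafFor_yoneda {W : Scheme.{u}} (R : Presieve W) (hR : R ∈ Scheme.fpqcPrecoverage W)
    (T : Scheme.{u}) : R.IsSheafFor (yoneda.obj T) := by
  have h : Presieve.IsSheaf Scheme.fpqcTopology (yoneda.obj T) :=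
    GrothendieckTopology.Subcanonical.isSheaf_of_isRepresentable _
  rw [Presieve.isSheafFor_iff_generate]
  exact h _ (Precoverage.generate_mem_toGrothendieck hR)

/-- gluing morphisms along an fpqc cover -/
theorem glue {W : Scheme.{u}} (F : PreZeroHypercover.{w} W)
    (hF : F.presieve₀ ∈ Scheme.fpqcPrecoverage W) (T : Scheme.{u})
    (t : ∀ a, F.X a ⟶ T)
    (ht : ∀ a b, pullback.fst (F.f a) (F.f b) ≫ t a = pullback.snd (F.f a) (F.f b) ≫ t b) :
    ∃! g : W ⟶ T, ∀ a, F.f a ≫ g = t a := by
  have h := isSheafFor_yoneda _ hF T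
  rw [Presieve.isSheafFor_arrows_iff_pullbacks] at h
  exact h t ht

theorem hom_ext_of_cover {W : Scheme.{u}} (F : PreZeroHypercover.{w} W)
    (hF : F.presieve₀ ∈ Scheme.fpqcPrecoverage W) {T : Scheme.{u}} (g g' : W ⟶ T)
    (h : ∀ a, F.f a ≫ g = F.f a ≫ g') : g = g' := by
  have hs := (isSheafFor_yoneda _ hF T).isSeparatedFor
  refine hs.ext ?_
  rintro Y f ⟨a⟩
  exact h a

variable {J : Type u} [SmallCategory J] (D : J ⥤ Scheme.{u}) (c : Cocone D)

/-- The base-changed diagram over `W'`. -/
noncomputable abbrev E {W' : Scheme.{u}} (g : W' ⟶ c.pt) : J ⥤ Over W' :=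
  D.toOver c.pt (fun j => c.ι.app j) (fun g => c.w g) ⋙ Over.pullback g

noncomputable abbrev coc {W' : Scheme.{u}} (g : W' ⟶ c.pt) : Cocone (E D c g ⋙ Over.forget W') :=
  (Over.forgetCocone W').whisker (E D c g)

/-- the cocone on the base-changed diagram induced by a cocone `s` on `D`. -/
noncomputable def sCoc (s : Cocone D) {W' : Scheme.{u}} (g : W' ⟶ c.pt) :
    Cocone (E D c g ⋙ Over.forget W') where
  pt := s.pt
  ι :=
    { app := fun j => pullback.fst (c.ι.app j) g ≫ s.ι.app j
      naturality := fun j j' φ => by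
        have h1 : (E D c g ⋙ Over.forget W').map φ ≫ pullback.fst (c.ι.app j') g =
            pullback.fst (c.ι.app j) g ≫ D.map φ := by
          change pullback.lift _ _ _ ≫ _ = _
          exact pullback.lift_fst _ _ _
        have h2 : (E D c g ⋙ Over.forget W').map φ ≫ pullback.fst (c.ι.app j') g ≫ s.ι.app j' =
            pullback.fst (c.ι.app j) g ≫ s.ι.app j :=
          calc (E D c g ⋙ Over.forget W').map φ ≫ pullback.fst (c.ι.app j') g ≫ s.ι.app j'
              = ((E D c g ⋙ Over.forget W').map φ ≫ pullback.fst (c.ι.app j') g) ≫ s.ι.app j' :=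
                (Category.assoc _ _ _).symm
            _ = (pullback.fst (c.ι.app j) g ≫ D.map φ) ≫ s.ι.app j' :=
                congrArg (fun k => k ≫ s.ι.app j') h1
            _ = pullback.fst (c.ι.app j) g ≫ (D.map φ ≫ s.ι.app j') := Category.assoc _ _ _
            _ = pullback.fst (c.ι.app j) g ≫ s.ι.app j := congrArg (fun k => _ ≫ k) (s.w φ)
        exact h2.trans (Category.comp_id _).symm }

theorem main (F : PreZeroHypercover.{w} c.pt) (hF : F.presieve₀ ∈ Scheme.fpqcPrecoverage c.pt)
    (h1 : ∀ a : F.I₀, Nonempty (IsColimit (coc D c (F.f a))))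
    (h2 : ∀ a b : F.I₀, Nonempty (IsColimit (coc D c (pullback.fst (F.f a) (F.f b) ≫ F.f a)))) :
    Nonempty (IsColimit c) := by
  have key : ∀ s : Cocone D, ∃! g : c.pt ⟶ s.pt, ∀ j, c.ι.app j ≫ g = s.ι.app j := by
    intro s
    -- the local descents
    let t : ∀ a, F.X a ⟶ s.pt := fun a => (h1 a).some.desc (sCoc D c s (F.f a))
    have ht : ∀ a j, pullback.snd (c.ι.app j) (F.f a) ≫ t a =
        pullback.fst (c.ι.app j) (F.f a) ≫ s.ι.app j := fun a j =>
      (h1 a).some.fac (sCoc D c s (F.f a)) j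
    have htu : ∀ a (g : F.X a ⟶ s.pt), (∀ j, pullback.snd (c.ι.app j) (F.f a) ≫ g =
        pullback.fst (c.ι.app j) (F.f a) ≫ s.ι.app j) → g = t a := fun a g hg =>
      (h1 a).some.uniq (sCoc D c s (F.f a)) g hg
    have hcompat : ∀ a b, pullback.fst (F.f a) (F.f b) ≫ t a =
        pullback.snd (F.f a) (F.f b) ≫ t b := by
      intro a b
      refine (h2 a b).some.hom_ext fun j => ?_
      change pullback.snd (c.ι.app j) (pullback.fst (F.f a) (F.f b) ≫ F.f a) ≫ _ =
        pullback.snd (c.ι.app j) (pullback.fst (F.f a) (F.f b) ≫ F.f a) ≫ _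
      have hpq : pullback.fst (c.ι.app j) (pullback.fst (F.f a) (F.f b) ≫ F.f a) ≫ c.ι.app j =
          pullback.snd (c.ι.app j) (pullback.fst (F.f a) (F.f b) ≫ F.f a) ≫
            pullback.fst (F.f a) (F.f b) ≫ F.f a := pullback.condition
      have e1 : pullback.snd (c.ι.app j) (pullback.fst (F.f a) (F.f b) ≫ F.f a) ≫
          pullback.fst (F.f a) (F.f b) ≫ t a =
          pullback.fst (c.ι.app j) (pullback.fst (F.f a) (F.f b) ≫ F.f a) ≫ s.ι.app j := by
        have hl : pullback.fst (c.ι.app j) (pullback.fst (F.f a) (F.f b) ≫ F.f a) ≫ c.ι.app j =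
            (pullback.snd (c.ι.app j) (pullback.fst (F.f a) (F.f b) ≫ F.f a) ≫
              pullback.fst (F.f a) (F.f b)) ≫ F.f a := by
          rw [hpq, Category.assoc]
        have h3 := ht a j
        have h4 : pullback.lift _ _ hl ≫ pullback.snd (c.ι.app j) (F.f a) ≫ t a =
            pullback.lift _ _ hl ≫ pullback.fst (c.ι.app j) (F.f a) ≫ s.ι.app j := by rw [h3]
        rw [pullback.lift_snd_assoc, pullback.lift_fst_assoc, Category.assoc] at h4
        exact h4
      have e2 : pullback.snd (c.ι.app j) (pullback.fst (F.f a) (F.f b) ≫ F.f a) ≫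
          pullback.snd (F.f a) (F.f b) ≫ t b =
          pullback.fst (c.ι.app j) (pullback.fst (F.f a) (F.f b) ≫ F.f a) ≫ s.ι.app j := by
        have hl : pullback.fst (c.ι.app j) (pullback.fst (F.f a) (F.f b) ≫ F.f a) ≫ c.ι.app j =
            (pullback.snd (c.ι.app j) (pullback.fst (F.f a) (F.f b) ≫ F.f a) ≫
              pullback.snd (F.f a) (F.f b)) ≫ F.f b := by
          rw [hpq, Category.assoc, pullback.condition]
        have h3 := ht b j
        have h4 : pullback.lift _ _ hl ≫ pullback.snd (c.ι.app j) (F.f b) ≫ t b =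
            pullback.lift _ _ hl ≫ pullback.fst (c.ι.app j) (F.f b) ≫ s.ι.app j := by rw [h3]
        rw [pullback.lift_snd_assoc, pullback.lift_fst_assoc, Category.assoc] at h4
        exact h4
      rw [e1, e2]
    obtain ⟨g, hg, hgu⟩ := glue F hF s.pt t hcompat
    have hg' : ∀ j, c.ι.app j ≫ g = s.ι.app j := by
      intro j
      -- pulled back cover of D.obj j
      let Fj : PreZeroHypercover.{w} (D.obj j) :=
        { I₀ := F.I₀
          X := fun a => pullback (c.ι.app j) (F.f a)
          f := fun a => pullback.fst (c.ι.app j) (F.f a) }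
      have hFj : Fj.presieve₀ ∈ Scheme.fpqcPrecoverage (D.obj j) :=
        Precoverage.mem_coverings_of_isPullback F.f hF (c.ι.app j) _
          (fun a => pullback.snd (c.ι.app j) (F.f a))
          (fun a => IsPullback.of_hasPullback _ _)
      refine hom_ext_of_cover Fj hFj _ _ fun a => ?_
      change pullback.fst (c.ι.app j) (F.f a) ≫ c.ι.app j ≫ g =
        pullback.fst (c.ι.app j) (F.f a) ≫ s.ι.app j
      rw [← Category.assoc, pullback.condition, Category.assoc, hg a, ht a j]
    refine ⟨g, hg', fun g' hg'' => ?_⟩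
    refine hgu g' fun a => ?_
    refine htu a _ fun j => ?_
    rw [← Category.assoc, ← pullback.condition, Category.assoc, hg'' j]
  choose d hd hdu using key
  exact ⟨{ desc := d, fac := hd, uniq := fun s m hm => hdu s m hm }⟩

end Groth.Agent.Lib.Helper15.FpqcColim
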