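import Mathlib

set_option autoImplicit false

namespace Groth.Agent.Lib.Helper15.GDomain

/-- **A finite type point is locally closed (ring form).** If `φ : A → k` is a ring map of finite type
to a field, there is `f` with `φ f ≠ 0` such that `ker φ` is maximal among the primes not
containing `f`. -/
theorem exists_basicOpen_closed {A k : Type*} [CommRing A] [Field k] (φ : A →+* k)
    (hφ : φ.FiniteType) :
    ∃ f : A, φ f ≠ 0 ∧ ∀ (q : Ideal A), q.IsPrime → RingHom.ker φ ≤ q → f ∉ q →
      q = RingHom.ker φ := by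
  classical
  algebraize [φ]
  let D : Subring k := φ.range
  let K := FractionRing D
  letI : Algebra K k := FractionRing.liftAlgebra D k
  haveI : IsScalarTower D K k := FractionRing.isScalarTower_liftAlgebra D k
  letI : Algebra A K := ((algebraMap D K).comp φ.rangeRestrict).toAlgebra
  haveI : IsScalarTower A K k := IsScalarTower.of_algebraMap_eq (fun a => by
    change φ a = algebraMap K k (algebraMap D K (φ.rangeRestrict a))
    rw [← IsScalarTower.algebraMap_apply D K k]
    rfl)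
  haveI : Algebra.FiniteType K k := Algebra.FiniteType.of_restrictScalars_finiteType A K k
  haveI : Module.Finite K k := finite_of_finite_type_of_isJacobsonRing K k
  haveI : Algebra.IsAlgebraic K k := Algebra.IsAlgebraic.of_finite K k
  haveI : Algebra.IsAlgebraic D K := IsLocalization.isAlgebraic K (nonZeroDivisors D)
  haveI : Algebra.IsAlgebraic D k := Algebra.IsAlgebraic.trans D K k
  obtain ⟨s, hs⟩ := (‹Algebra.FiniteType A k›).out
  obtain ⟨y, hy0, hy⟩ := Algebra.IsAlgebraic.exists_integral_multiples D s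
  obtain ⟨f, hf⟩ : ∃ f : A, φ f = (y : k) := y.2
  have hf0 : φ f ≠ 0 := by
    rw [hf]
    exact fun h => hy0 (Subtype.ext h)
  refine ⟨f, hf0, ?_⟩
  -- the subring `D[1/f]` of `k`
  let B' : Subring k :=
    { carrier := {z | ∃ (a : A) (n : ℕ), z * (φ f) ^ n = φ a}
      mul_mem' := by
        rintro z₁ z₂ ⟨a₁, n₁, h₁⟩ ⟨a₂, n₂, h₂⟩
        refine ⟨a₁ * a₂, n₁ + n₂, ?_⟩
        rw [map_mul, ← h₁, ← h₂, pow_add]; ring
      one_mem' := ⟨1, 0, by simp⟩
      add_mem' := by
        rintro z₁ z₂ ⟨a₁, n₁, h₁⟩ ⟨a₂, n₂, h₂⟩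
        refine ⟨a₁ * f ^ n₂ + a₂ * f ^ n₁, n₁ + n₂, ?_⟩
        rw [map_add, map_mul, map_mul, map_pow, map_pow, ← h₁, ← h₂, pow_add]; ring
      zero_mem' := ⟨0, 0, by simp⟩
      neg_mem' := by
        rintro z ⟨a, n, h⟩
        exact ⟨-a, n, by rw [map_neg, ← h]; ring⟩ }
  have hDB : D ≤ B' := by
    rintro z ⟨a, rfl⟩
    exact ⟨a, 0, by simp⟩
  have hinv : (φ f)⁻¹ ∈ B' := ⟨1, 1, by rw [pow_one, inv_mul_cancel₀ hf0, map_one]⟩
  letI : Algebra D B' := (Subring.inclusion hDB).toAlgebra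
  haveI : IsScalarTower D B' k := IsScalarTower.of_algebraMap_eq (fun a => rfl)
  -- `k` is integral over `B'`
  have hint : ∀ z : k, IsIntegral B' z := by
    intro z
    have hz : z ∈ Algebra.adjoin A (s : Set k) := by rw [hs]; trivial
    induction hz using Algebra.adjoin_induction with
    | mem z hz =>
      have h1 : IsIntegral B' (y • z) := (hy z hz).tower_top
      have h2 : IsIntegral B' ((φ f)⁻¹) := isIntegral_algebraMap (x := (⟨(φ f)⁻¹, hinv⟩ : B'))
      have h3 : z = (φ f)⁻¹ * (y • z) := by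
        change z = (φ f)⁻¹ * ((y : k) * z)
        rw [← hf, ← mul_assoc, inv_mul_cancel₀ hf0, one_mul]
      rw [h3]
      exact h2.mul h1
    | algebraMap a =>
      exact isIntegral_algebraMap (x := (⟨φ a, hDB ⟨a, rfl⟩⟩ : B'))
    | add z₁ z₂ _ _ h₁ h₂ => exact h₁.add h₂
    | mul z₁ z₂ _ _ h₁ h₂ => exact h₁.mul h₂
  haveI : Algebra.IsIntegral B' k := ⟨hint⟩
  have hfield : IsField B' :=
    isField_of_isIntegral_of_isField (R := B') (S := k) Subtype.val_injective (Field.toIsField k)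
  intro q hq hker hfq
  refine le_antisymm ?_ hker
  intro x hx
  by_contra hx0
  have hx0' : φ x ≠ 0 := hx0
  have hne : (⟨φ x, hDB ⟨x, rfl⟩⟩ : B') ≠ 0 := fun h => hx0' (congrArg Subtype.val h)
  obtain ⟨⟨w, a, n, hw⟩, hw1⟩ := hfield.mul_inv_cancel hne
  have hw1' : φ x * w = 1 := congrArg Subtype.val hw1
  have h1 : φ (f ^ n - x * a) = 0 := by
    rw [map_sub, map_pow, map_mul, ← hw]
    calc φ f ^ n - φ x * (w * φ f ^ n) = φ f ^ n - (φ x * w) * φ f ^ n := by ring
      _ = 0 := by rw [hw1', one_mul, sub_self]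
  have h2 : f ^ n - x * a ∈ q := hker h1
  have h3 : f ^ n ∈ q := by
    have := q.add_mem h2 (q.mul_mem_right a hx)
    simpa using this
  exact hfq (hq.mem_of_pow_mem n h3)

end Groth.Agent.Lib.Helper15.GDomain
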