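import Groth.Agent.Lib.Helper15.ProdChart

set_option autoImplicit false
set_option backward.isDefEq.respectTransparency.types false
universe u
open CategoryTheory CategoryTheory.Limits AlgebraicGeometry
open AlgSp

namespace Groth.Agent.Lib.Helper15.GeomRedBC

open Groth.Agent.Lib.Helper3 Groth.Agent.Lib.Helper15.ProdChart

variable (k : Type u) [Field k] (K : Type u) [Field K] [Algebra k K]

/-- `Spec K` as a scheme over `Spec k` -/
noncomputable abbrev TK : Over (Spec (CommRingCat.of k)) :=
  Over.mk (Spec.map (CommRingCat.ofHom (algebraMap k K)))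

variable {k K}

/-- the underlying scheme of `U × Spec K` is the base change of `U` -/
noncomputable def prodIso (U : Over (Spec (CommRingCat.of k))) :
    (U ⨯ TK k K).left ≅ FBase.bc U.hom K :=
  Over.prodLeftIsoPullback U (TK k K)

theorem isReduced_prod_iff (U : Over (Spec (CommRingCat.of k))) :
    IsReduced (U ⨯ TK k K).left ↔ IsReduced (FBase.bc U.hom K) :=
  ⟨fun _ => isReduced_of_isOpenImmersion (prodIso U).inv,
    fun _ => isReduced_of_isOpenImmersion (prodIso U).hom⟩

theorem isReduced_bc_of_etaleLocally {X : Sp (Spec (CommRingCat.of k))}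
    (h : EtaleLocally (fun U => IsReduced U) (X ⨯ (yon _).obj (TK k K)))
    {U : Over (Spec (CommRingCat.of k))} (a : (yon _).obj U ⟶ X) (ha : RepWith @Etale a) :
    IsReduced (FBase.bc U.hom K) :=
  (isReduced_prod_iff U).1
    (Groth.Agent.Lib.Helper15.OnePointSp.isReduced_chart h (prodChart a (TK k K))
      (prodChart_etale a _ ha))

theorem etaleLocally_of_isReduced_bc {X : Sp (Spec (CommRingCat.of k))}
    {U : Over (Spec (CommRingCat.of k))} (a : (yon _).obj U ⟶ X) (ha : RepWith @Etale a)
    (has : RepWith @Surjective a) (h : IsReduced (FBase.bc U.hom K)) :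
    EtaleLocally (fun U => IsReduced U) (X ⨯ (yon _).obj (TK k K)) :=
  ⟨U ⨯ TK k K, prodChart a (TK k K), prodChart_etale a _ ha, prodChart_surjective a _ has,
    (isReduced_prod_iff U).2 h⟩

theorem isReduced_bc_of_geometricallyReduced {U : Scheme.{u}} (f : U ⟶ Spec (CommRingCat.of k))
    [GeometricallyReduced f] : IsReduced (FBase.bc f K) :=
  GeometricallyReduced.geometrically_isReduced _ _ _ (.of_hasPullback _ _)

end Groth.Agent.Lib.Helper15.GeomRedBC
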