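import Groth.Agent.Lib.Helper15.GeomRedBC
import Groth.Agent.S1545

set_option autoImplicit false
set_option backward.isDefEq.respectTransparency.types false
universe u
open CategoryTheory CategoryTheory.Limits AlgebraicGeometry
open AlgSp

namespace Groth.Agent.Lib.Helper15.GeomRedBC

open Groth.Agent.Lib.Helper3 Groth.Agent.Lib.Helper15.ProdChart Groth.Agent.Lib.Helper15.GeomRedEt

section General

variable {S : Scheme.{u}} {K : Type u} [Field K]

/-- chart independence of geometric reducedness, for charts carrying compatible structure maps to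
the spectrum of a field -/
theorem chart_iff' {Z : Sp S} {U V : Over S}
    (a : (yon S).obj U ⟶ Z) (b : (yon S).obj V ⟶ Z) (ha : RepWith @Etale a)
    (hb : RepWith @Etale b) (u : ↥U.left) (v : ↥V.left)
    (h : Points.ofPt a u = Points.ofPt b v)
    (fU : U.left ⟶ Spec (CommRingCat.of K)) (fV : V.left ⟶ Spec (CommRingCat.of K))
    (hcompat : ∀ {W : Over S} (pU : W ⟶ U) (pV : W ⟶ V),
      (yon S).map pU ≫ a = (yon S).map pV ≫ b → pU.left ≫ fU = pV.left ≫ fV) :
    FBase.IsGeomReducedAt fU u ↔ FBase.IsGeomReducedAt fV v := by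
  have sq := ha.rep.isPullback b
  obtain ⟨pU, hpU⟩ := (yon S).map_surjective (ha.rep.fst b)
  rw [← hpU] at sq
  haveI hpV : Etale (ha.rep.snd b).left := ha.property_snd b
  haveI hpUe : Etale pU.left := hb.property a _ _ sq.flip
  obtain ⟨w, hw1, hw2⟩ := exists_of_ofPt_eq_of_isPullback sq u v h
  have h1 := isGeomReducedAt_comp_iff fU pU.left w
  have h2 := isGeomReducedAt_comp_iff fV (ha.rep.snd b).left w
  rw [hcompat pU (ha.rep.snd b) sq.w] at h1
  rw [hw1] at h1
  rw [hw2] at h2
  exact h1.symm.trans h2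

/-- a point of `X × h_T` and a point of a chart of `X` with the same image come from a point of
the product chart -/
theorem exists_pt_prodChart {X : Sp S} {U : Over S} (a : (yon S).obj U ⟶ X) (T : Over S)
    (u : ↥U.left) (x' : Points (X ⨯ (yon S).obj T))
    (h : Points.map (prod.fst : X ⨯ (yon S).obj T ⟶ X) x' = Points.ofPt a u) :
    ∃ u' : ↥(U ⨯ T).left, Points.ofPt (prodChart a T) u' = x' ∧
      (prod.fst : U ⨯ T ⟶ U).left u' = u := by
  rw [Points.ofPt_eq_map_ofScheme] at h
  obtain ⟨z, hz1, hz2⟩ := Points.exists_of_isPullback (isPullback_prodChart a T) x' _ h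
  obtain ⟨u', rfl⟩ := (Points.schemeHomeo (U ⨯ T)).surjective z
  refine ⟨u', ?_, ?_⟩
  · rw [Points.ofPt_eq_map_ofScheme]
    exact hz1
  · apply (Points.schemeHomeo U).injective
    rw [← Points.map_yon_map_apply]
    exact hz2

end General

variable {k : Type u} [Field k] {K : Type u} [Field K] [Algebra k K]

/-- geometric reducedness of `U` over `k` at `u` versus that of `U × Spec K` over `K` at a point
above `u` -/
theorem bc_iff (U : Over (Spec (CommRingCat.of k))) (u' : ↥(U ⨯ TK k K).left) :
    FBase.IsGeomReducedAt U.hom ((prod.fst : U ⨯ TK k K ⟶ U).left u') ↔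
      FBase.IsGeomReducedAt (prod.snd : U ⨯ TK k K ⟶ TK k K).left u' := by
  letI : U.left.Over (Spec (CommRingCat.of k)) := ⟨U.hom⟩
  have e1 : (prodIso (K := K) U).hom ≫ FBase.bcStr U.hom K =
      (prod.snd : U ⨯ TK k K ⟶ TK k K).left :=
    Over.prodLeftIsoPullback_hom_snd U (TK k K)
  have e2 : (prodIso (K := K) U).hom ≫ FBase.bcπ U.hom K =
      (prod.fst : U ⨯ TK k K ⟶ U).left :=
    Over.prodLeftIsoPullback_hom_fst U (TK k K)
  have h1 := isGeomReducedAt_comp_iff (FBase.bcStr U.hom K) (prodIso (K := K) U).hom u'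
  rw [e1] at h1
  rw [h1]
  have h2 := Groth.Agent.S1545.result k U.left K ((prod.fst : U ⨯ TK k K ⟶ U).left u')
    ((prodIso (K := K) U).hom u') (by
      change (FBase.bcπ U.hom K) ((prodIso (K := K) U).hom u') = _
      rw [← Scheme.Hom.comp_apply, e2])
  exact h2

end Groth.Agent.Lib.Helper15.GeomRedBC
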