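import Mathlib
import Groth.Prelude.Def_FDesc
import Groth.Agent.Lib.Helper16.StalkPB
import Groth.Agent.Lib.Helper3.ReducedDescent

set_option autoImplicit false
universe u
open CategoryTheory CategoryTheory.Limits AlgebraicGeometry

namespace Groth.Agent.Lib.Helper15.GeomRedEt

open Groth.Agent.Lib.Helper16.StalkPB

/-- stalk maps of flat morphisms are injective -/
theorem stalkMap_injective_of_flat {X Y : Scheme.{u}} (f : X ⟶ Y) [Flat f] (x : X) :
    Function.Injective (f.stalkMap x).hom := by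
  algebraize [(f.stalkMap x).hom]
  have : Module.FaithfullyFlat (Y.presheaf.stalk (f x)) (X.presheaf.stalk x) :=
    @Module.FaithfullyFlat.of_flat_of_isLocalHom _ _ _ _ _ _ _
      (Flat.stalkMap f x) (f.toLRSHom.prop x)
  exact ‹RingHom.FaithfullyFlat _›.injective

theorem isReduced_stalk_of_flat {X Y : Scheme.{u}} (f : X ⟶ Y) [Flat f] (x : X)
    (h : _root_.IsReduced (X.presheaf.stalk x)) : _root_.IsReduced (Y.presheaf.stalk (f x)) :=
  isReduced_of_injective (f.stalkMap x).hom (stalkMap_injective_of_flat f x)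

theorem isReduced_stalk_of_etale {X Y : Scheme.{u}} (g : X ⟶ Y) [Etale g] (x : X)
    (h : _root_.IsReduced (Y.presheaf.stalk (g x))) : _root_.IsReduced (X.presheaf.stalk x) := by
  haveI := h
  haveI : IsReduced (Spec (Y.presheaf.stalk (g x))) := inferInstance
  haveI : IsReduced (pullback g (Y.fromSpecStalk (g x))) :=
    Groth.Agent.Lib.Helper3.isReduced_of_etale_scheme (pullback.snd g (Y.fromSpecStalk (g x)))
  obtain ⟨p, hp1, -⟩ := Scheme.Pullback.exists_preimage_pullback (f := g)
    (g := Y.fromSpecStalk (g x)) x (IsLocalRing.closedPoint _)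
    (by rw [Scheme.fromSpecStalk_closedPoint])
  have h2 := isReduced_stalk_of_flat (pullback.fst g (Y.fromSpecStalk (g x))) p inferInstance
  rw [hp1] at h2
  exact h2

theorem exists_preimage_of_isPullback {P X Y Z : Scheme.{u}} {fst : P ⟶ X} {snd : P ⟶ Y}
    {f : X ⟶ Z} {g : Y ⟶ Z} (sq : IsPullback fst snd f g) (x : X) (y : Y) (h : f x = g y) :
    ∃ z : P, fst z = x ∧ snd z = y := by
  obtain ⟨w, hw1, hw2⟩ := Scheme.Pullback.exists_preimage_pullback (f := f) (g := g) x y h
  refine ⟨sq.isoPullback.inv w, ?_, ?_⟩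
  · rw [← Scheme.Hom.comp_apply, sq.isoPullback_inv_fst, hw1]
  · rw [← Scheme.Hom.comp_apply, sq.isoPullback_inv_snd, hw2]

section Geom

variable {k : Type u} [Field k]

/-- the base change of an etale `k`-morphism to a field extension -/
noncomputable def bcMap {U' U : Scheme.{u}} (f : U ⟶ Spec (CommRingCat.of k)) (g : U' ⟶ U)
    (K : Type u) [Field K] [Algebra k K] : FBase.bc (g ≫ f) K ⟶ FBase.bc f K :=
  pullback.lift (f := f) (g := Spec.map (CommRingCat.ofHom (algebraMap k K)))
    (FBase.bcπ (g ≫ f) K ≫ g) (FBase.bcStr (g ≫ f) K)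
    (by
      change (pullback.fst (g ≫ f) (Spec.map (CommRingCat.ofHom (algebraMap k K))) ≫ g) ≫ f =
        pullback.snd (g ≫ f) (Spec.map (CommRingCat.ofHom (algebraMap k K))) ≫ _
      rw [Category.assoc]
      exact pullback.condition)

theorem bcMap_fst {U' U : Scheme.{u}} (f : U ⟶ Spec (CommRingCat.of k)) (g : U' ⟶ U)
    (K : Type u) [Field K] [Algebra k K] :
    bcMap f g K ≫ FBase.bcπ f K = FBase.bcπ (g ≫ f) K ≫ g := by
  unfold bcMap FBase.bcπ
  exact pullback.lift_fst _ _ _

theorem bcMap_snd {U' U : Scheme.{u}} (f : U ⟶ Spec (CommRingCat.of k)) (g : U' ⟶ U)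
    (K : Type u) [Field K] [Algebra k K] :
    bcMap f g K ≫ FBase.bcStr f K = FBase.bcStr (g ≫ f) K := by
  unfold bcMap FBase.bcStr
  exact pullback.lift_snd _ _ _

theorem isPullback_bcMap {U' U : Scheme.{u}} (f : U ⟶ Spec (CommRingCat.of k)) (g : U' ⟶ U)
    (K : Type u) [Field K] [Algebra k K] :
    IsPullback (bcMap f g K) (FBase.bcπ (g ≫ f) K) (FBase.bcπ f K) g := by
  have h1 : IsPullback (FBase.bcStr f K) (FBase.bcπ f K)
      (Spec.map (CommRingCat.ofHom (algebraMap k K))) f :=
    (IsPullback.of_hasPullback f (Spec.map (CommRingCat.ofHom (algebraMap k K)))).flip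
  have h2 : IsPullback (FBase.bcStr (g ≫ f) K) (FBase.bcπ (g ≫ f) K)
      (Spec.map (CommRingCat.ofHom (algebraMap k K))) (g ≫ f) :=
    (IsPullback.of_hasPullback (g ≫ f) (Spec.map (CommRingCat.ofHom (algebraMap k K)))).flip
  refine IsPullback.of_right ?_ (bcMap_fst f g K) h1
  rw [bcMap_snd]
  exact h2

/-- geometric reducedness at a point is insensitive to etale morphisms -/
theorem isGeomReducedAt_comp_iff {U' U : Scheme.{u}} (f : U ⟶ Spec (CommRingCat.of k))
    (g : U' ⟶ U) [Etale g] (u' : U') :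
    FBase.IsGeomReducedAt (g ≫ f) u' ↔ FBase.IsGeomReducedAt f (g u') := by
  constructor
  · intro h K _ _ x hx
    have sq := isPullback_bcMap f g K
    obtain ⟨x', hx1, hx2⟩ := exists_preimage_of_isPullback sq x u' hx
    have h1 := h K x' hx2
    haveI : Etale (bcMap f g K) := MorphismProperty.of_isPullback sq.flip ‹Etale g›
    have h2 := isReduced_stalk_of_flat (bcMap f g K) x' h1
    rwa [hx1] at h2
  · intro h K _ _ x' hx'
    have sq := isPullback_bcMap f g K
    haveI : Etale (bcMap f g K) := MorphismProperty.of_isPullback sq.flip ‹Etale g›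
    apply isReduced_stalk_of_etale (bcMap f g K) x'
    apply h K
    rw [← Scheme.Hom.comp_apply, sq.w, Scheme.Hom.comp_apply, hx']

end Geom

end Groth.Agent.Lib.Helper15.GeomRedEt
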