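import Groth.Agent.Lib.Helper15.DvrSp
import Groth.Agent.Lib.Helper15.OnePointSp
import Groth.Agent.Lib.Helper3.AlgSpFibre
import Groth.Agent.Lib.Helper3.AlgSpPoints
import Groth.Agent.Lib.Helper3.AlgSpChartSurj
import Groth.Prelude.Def_AlgSp4
import Groth.Prelude.Def_AlgSpDec

set_option autoImplicit false
universe u
open CategoryTheory CategoryTheory.Limits AlgebraicGeometry Opposite MorphismProperty
open AlgSp

namespace Groth.Agent.Lib.Helper15.GeomRedFib

open Groth.Agent.Lib.Helper3 Groth.Agent.Lib.Helper15 Groth.Agent.Lib.Helper15.DvrSp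
set_option backward.isDefEq.respectTransparency.types false

variable {S : Scheme.{u}}

/-- every fibre product of `f` with `g` is (etale locally) reduced -/
def RedOver {X Y : Sp S} (f : X ⟶ Y) (T : Over S) (g : (yon S).obj T ⟶ Y) : Prop :=
  ∀ (Xk : Sp S) (a : Xk ⟶ X) (b : Xk ⟶ (yon S).obj T), IsPullback a b f g →
    EtaleLocally (fun U => IsReduced U) Xk

/-- descent of reducedness of the fibre product along a flat surjective morphism -/
theorem RedOver.descend {X Y : Sp S} (hX : IsAlgSpace X) (hY : IsAlgSpace Y) (f : X ⟶ Y)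
    {T T' : Over S} (c : T' ⟶ T) [Flat c.left] [Surjective c.left] (g : (yon S).obj T ⟶ Y)
    (h : RedOver f T' ((yon S).map c ≫ g)) : RedOver f T g := by
  intro Xk a b sq
  have hXk : IsAlgSpace Xk := isAlgSpace_of_isPullback' hY hX (IsAlgSpace.yon_obj T) sq
  obtain ⟨W, p, hpe, hps⟩ := hXk.atlas
  obtain ⟨hW, hh⟩ := (yon S).map_surjective (p ≫ b)
  have sq' : IsPullback (pullback.fst b ((yon S).map c)) (pullback.snd b ((yon S).map c)) b
      ((yon S).map c) := IsPullback.of_hasPullback _ _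
  have big : IsPullback (pullback.fst b ((yon S).map c) ≫ a) (pullback.snd b ((yon S).map c)) f
      ((yon S).map c ≫ g) := sq'.paste_horiz sq
  have hred := h _ _ _ big
  obtain ⟨t, sqt, -⟩ := exists_chart_baseChange b c _ _ sq' p hW hh.symm
  have hte : RepWith @Etale t := MorphismProperty.of_isPullback sqt hpe
  haveI : IsReduced (pullback hW c).left := OnePointSp.isReduced_chart hred t hte
  have sqL : IsPullback (pullback.fst hW c).left (pullback.snd hW c).left hW.left c.left :=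
    (IsPullback.of_hasPullback hW c).map (Over.forget S)
  haveI : Flat (pullback.fst hW c).left :=
    MorphismProperty.of_isPullback (P := @Flat) sqL.flip inferInstance
  haveI : Surjective (pullback.fst hW c).left :=
    MorphismProperty.of_isPullback (P := @Surjective) sqL.flip inferInstance
  exact ⟨W, p, hpe, hps, isReduced_of_flat_surjective (pullback.fst hW c).left⟩

/-- chart criterion for reducedness of a fibre product -/
theorem redOver_iff_of_chart {X Y : Sp S} (f : X ⟶ Y) {V U : Over S} (a : (yon S).obj V ⟶ Y)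
    {P : Sp S} (pX : P ⟶ X) (pV : P ⟶ (yon S).obj V) (sqP : IsPullback pX pV f a)
    (p : (yon S).obj U ⟶ P) (hpe : RepWith @Etale p) (hps : RepWith @Surjective p)
    (h : U ⟶ V) (hh : p ≫ pV = (yon S).map h) {T : Over S} (c : T ⟶ V) :
    RedOver f T ((yon S).map c ≫ a) ↔ IsReduced (pullback h c).left := by
  constructor
  · intro hr
    have sq0 : IsPullback (pullback.fst f ((yon S).map c ≫ a)) (pullback.snd f ((yon S).map c ≫ a))
        f ((yon S).map c ≫ a) := IsPullback.of_hasPullback _ _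
    have hred := hr _ _ _ sq0
    have sq1 : IsPullback (sqP.lift (pullback.fst f ((yon S).map c ≫ a))
        (pullback.snd f ((yon S).map c ≫ a) ≫ (yon S).map c) (by rw [sq0.w, Category.assoc]))
        (pullback.snd f ((yon S).map c ≫ a)) pV ((yon S).map c) :=
      IsPullback.of_right (by rw [sqP.lift_fst]; exact sq0) (sqP.lift_snd _ _ _) sqP
    obtain ⟨t, sqt, -⟩ := exists_chart_baseChange pV c _ _ sq1 p h hh
    exact OnePointSp.isReduced_chart hred t (MorphismProperty.of_isPullback sqt hpe)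
  · intro hr Xk a' b' sq
    have sq1 : IsPullback (sqP.lift a' (b' ≫ (yon S).map c) (by rw [sq.w, Category.assoc]))
        b' pV ((yon S).map c) :=
      IsPullback.of_right (by rw [sqP.lift_fst]; exact sq) (sqP.lift_snd _ _ _) sqP
    obtain ⟨t, sqt, -⟩ := exists_chart_baseChange pV c _ _ sq1 p h hh
    exact ⟨_, t, MorphismProperty.of_isPullback sqt hpe, MorphismProperty.of_isPullback sqt hps, hr⟩

/-- geometric reducedness of the fibres of `f` over `g : T ⟶ Y`: reducedness over every field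
valued point of `T` -/
def GRgen {X Y : Sp S} (f : X ⟶ Y) (T : Over S) (g : (yon S).obj T ⟶ Y) : Prop :=
  ∀ (K : Type u) [Field K] (w : Spec (CommRingCat.of K) ⟶ S) (c : Over.mk w ⟶ T),
    RedOver f (Over.mk w) ((yon S).map c ≫ g)

theorem GRgen.precomp {X Y : Sp S} {f : X ⟶ Y} {T T₁ : Over S} {g : (yon S).obj T ⟶ Y}
    (h : GRgen f T g) (d : T₁ ⟶ T) : GRgen f T₁ ((yon S).map d ≫ g) := by
  intro K _ w c
  have := h K w (c ≫ d)
  rwa [Functor.map_comp, Category.assoc] at this

/-- amalgamation of two field points over a third -/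
theorem exists_amalgamation_over {K K₁ K₂ : Type u} [Field K] [Field K₁] [Field K₂]
    {w : Spec (CommRingCat.of K) ⟶ S} {w₁ : Spec (CommRingCat.of K₁) ⟶ S}
    {w₂ : Spec (CommRingCat.of K₂) ⟶ S} (d₁ : Over.mk w₁ ⟶ Over.mk w) (d₂ : Over.mk w₂ ⟶ Over.mk w) :
    ∃ (Ω : Type u) (_ : Field Ω) (w' : Spec (CommRingCat.of Ω) ⟶ S) (e₁ : Over.mk w' ⟶ Over.mk w₁)
      (e₂ : Over.mk w' ⟶ Over.mk w₂), e₁ ≫ d₁ = e₂ ≫ d₂ := by
  obtain ⟨Ω, _, i₁, i₂, hi⟩ :=
    FieldPt.exists_amalgamation (Spec.preimage d₁.left).hom (Spec.preimage d₂.left).hom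
  have hL : Spec.map (CommRingCat.ofHom i₁) ≫ d₁.left = Spec.map (CommRingCat.ofHom i₂) ≫ d₂.left := by
    conv_lhs => rw [← Spec.map_preimage d₁.left]
    conv_rhs => rw [← Spec.map_preimage d₂.left]
    rw [← Spec.map_comp, ← Spec.map_comp]
    congr 1
    exact CommRingCat.hom_ext hi
  have e₁ : d₁.left ≫ w = w₁ := Over.w d₁
  have e₂ : d₂.left ≫ w = w₂ := Over.w d₂
  refine ⟨Ω, inferInstance, Spec.map (CommRingCat.ofHom i₁) ≫ w₁,
    Over.homMk (Spec.map (CommRingCat.ofHom i₁)) rfl,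
    Over.homMk (Spec.map (CommRingCat.ofHom i₂)) ?_, ?_⟩
  · change Spec.map (CommRingCat.ofHom i₂) ≫ w₂ = Spec.map (CommRingCat.ofHom i₁) ≫ w₁
    rw [← e₁, ← e₂, ← Category.assoc, ← Category.assoc, hL]
  · exact Over.OverMorphism.ext (by simpa using hL)

instance flat_left_of_field {K K₁ : Type u} [Field K] [Field K₁]
    {w : Spec (CommRingCat.of K) ⟶ S} {w₁ : Spec (CommRingCat.of K₁) ⟶ S}
    (d : Over.mk w₁ ⟶ Over.mk w) : Flat d.left := by
  have : d.left = Spec.map (Spec.preimage d.left) := (Spec.map_preimage _).symm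
  rw [this, Flat.SpecMap_iff]
  exact RingHom.Flat.of_isField (Field.toIsField K) _

instance surjective_left_of_field {K K₁ : Type u} [Field K] [Field K₁]
    {w : Spec (CommRingCat.of K) ⟶ S} {w₁ : Spec (CommRingCat.of K₁) ⟶ S}
    (d : Over.mk w₁ ⟶ Over.mk w) : Surjective d.left := by
  haveI : Subsingleton ↥(Spec (CommRingCat.of K)) := inferInstanceAs (Subsingleton (PrimeSpectrum K))
  exact ⟨fun x => ⟨IsLocalRing.closedPoint K₁, Subsingleton.elim (α := ↥(Spec (CommRingCat.of K))) _ _⟩⟩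

/-- geometric reducedness descends along an extension of the field of definition -/
theorem GRgen.descend {X Y : Sp S} (hX : IsAlgSpace X) (hY : IsAlgSpace Y) {f : X ⟶ Y}
    {K K₁ : Type u} [Field K] [Field K₁]
    {w : Spec (CommRingCat.of K) ⟶ S} {w₁ : Spec (CommRingCat.of K₁) ⟶ S}
    (d : Over.mk w₁ ⟶ Over.mk w) {g : (yon S).obj (Over.mk w) ⟶ Y}
    (h : GRgen f (Over.mk w₁) ((yon S).map d ≫ g)) : GRgen f (Over.mk w) g := by
  intro K₂ _ w₂ c
  obtain ⟨Ω, _, w', e₁, e₂, he⟩ := exists_amalgamation_over d c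
  apply RedOver.descend hX hY f e₂
  have := h Ω w' e₁
  rwa [← Category.assoc, ← Functor.map_comp, he, Functor.map_comp, Category.assoc] at this

/-- the statement form of geometric reducedness of the fibre over a field valued point -/
def GR {X Y : Sp S} (f : X ⟶ Y) (k : FieldPt Y) : Prop :=
  ∀ (k' : Type u) [Field k'] (φ : k.K →+* k') (Xk' : Sp S) (a : Xk' ⟶ X)
    (b : Xk' ⟶ (yon S).obj (Over.mk (Spec.map (CommRingCat.ofHom φ) ≫ k.str))),
    IsPullback a b f ((yon S).map (Over.homMk (Spec.map (CommRingCat.ofHom φ)) rfl :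
      Over.mk (Spec.map (CommRingCat.ofHom φ) ≫ k.str) ⟶ k.pt) ≫ k.toHom) →
    EtaleLocally (fun U => IsReduced U) Xk'

theorem gr_iff_gRgen {X Y : Sp S} (hX : IsAlgSpace X) (hY : IsAlgSpace Y) (f : X ⟶ Y)
    (k : FieldPt Y) : GR f k ↔ GRgen f k.pt k.toHom := by
  constructor
  · intro h K _ w c
    have hφ : Spec.map (CommRingCat.ofHom (Spec.preimage c.left).hom) = c.left :=
      Spec.map_preimage c.left
    have hw : c.left ≫ k.str = w := Over.w c
    let e : Over.mk (Spec.map (CommRingCat.ofHom (Spec.preimage c.left).hom) ≫ k.str) ⟶ Over.mk w :=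
      Over.homMk (𝟙 _) (by
        change 𝟙 _ ≫ w = Spec.map (CommRingCat.ofHom (Spec.preimage c.left).hom) ≫ k.str
        rw [Category.id_comp, hφ, hw])
    apply RedOver.descend hX hY f e
    have he : e ≫ c = (Over.homMk (Spec.map (CommRingCat.ofHom (Spec.preimage c.left).hom)) rfl :
        Over.mk (Spec.map (CommRingCat.ofHom (Spec.preimage c.left).hom) ≫ k.str) ⟶ k.pt) :=
      Over.OverMorphism.ext (by
        change 𝟙 _ ≫ c.left = Spec.map (CommRingCat.ofHom (Spec.preimage c.left).hom)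
        rw [Category.id_comp, hφ])
    rw [← Category.assoc, ← Functor.map_comp, he]
    exact h K (Spec.preimage c.left).hom
  · intro h k' _ φ
    exact h k' (Spec.map (CommRingCat.ofHom φ) ≫ k.str) (Over.homMk (Spec.map (CommRingCat.ofHom φ)) rfl)

theorem toHom_eq_of_rel {Y : Sp S} {k₁ k₂ : FieldPt Y} (h : FieldPt.Rel k₁ k₂) :
    ∃ (Ω : Type u) (_ : Field Ω) (w : Spec (CommRingCat.of Ω) ⟶ S) (a : Over.mk w ⟶ k₁.pt)
      (b : Over.mk w ⟶ k₂.pt), (yon S).map a ≫ k₁.toHom = (yon S).map b ≫ k₂.toHom := by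
  obtain ⟨Ω, _, w, a, b, h⟩ := h
  refine ⟨Ω, inferInstance, w, a, b, ?_⟩
  apply (J S).uliftYonedaEquiv.{u+1}.injective
  rw [← (J S).uliftYonedaEquiv_naturality.{u+1} k₁.toHom a,
    ← (J S).uliftYonedaEquiv_naturality.{u+1} k₂.toHom b, FieldPt.uliftYonedaEquiv_toHom,
    FieldPt.uliftYonedaEquiv_toHom]
  exact h

/-- geometric reducedness of the fibre only depends on the point -/
theorem gRgen_of_mk_eq {X Y : Sp S} (hX : IsAlgSpace X) (hY : IsAlgSpace Y) (f : X ⟶ Y)
    {k₁ k₂ : FieldPt Y} (h : Points.mk k₁ = Points.mk k₂) (h1 : GRgen f k₁.pt k₁.toHom) :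
    GRgen f k₂.pt k₂.toHom := by
  obtain ⟨Ω, _, w, a, b, hab⟩ := toHom_eq_of_rel (Points.mk_eq_mk_iff.1 h)
  apply GRgen.descend hX hY b
  rw [← hab]
  exact h1.precomp a

theorem gr_of_mk_eq {X Y : Sp S} (hX : IsAlgSpace X) (hY : IsAlgSpace Y) (f : X ⟶ Y)
    {k₁ k₂ : FieldPt Y} (h : Points.mk k₁ = Points.mk k₂) (h1 : GR f k₁) : GR f k₂ :=
  (gr_iff_gRgen hX hY f k₂).2 (gRgen_of_mk_eq hX hY f h ((gr_iff_gRgen hX hY f k₁).1 h1))

theorem isReduced_iff_of_isPullback {A B C Z Z' : Scheme.{u}} {f : A ⟶ C} {g : B ⟶ C}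
    {fst : Z ⟶ A} {snd : Z ⟶ B} {fst' : Z' ⟶ A} {snd' : Z' ⟶ B}
    (sq : IsPullback fst snd f g) (sq' : IsPullback fst' snd' f g) : IsReduced Z ↔ IsReduced Z' :=
  ⟨fun _ => isReduced_of_isOpenImmersion (sq.isoIsPullback _ _ sq').inv,
    fun _ => isReduced_of_isOpenImmersion (sq.isoIsPullback _ _ sq').hom⟩

theorem isReduced_fiber_pullback_iff {U V : Scheme.{u}} (h : U ⟶ V) (v : V) {B Z Z' : Scheme.{u}}
    (y : B ⟶ Spec (V.residueField v)) {fst : Z ⟶ h.fiber v} {snd : Z ⟶ B}
    {fst' : Z' ⟶ U} {snd' : Z' ⟶ B}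
    (sq : IsPullback fst snd (h.fiberToSpecResidueField v) y)
    (sq' : IsPullback fst' snd' h (y ≫ V.fromSpecResidueField v)) : IsReduced Z ↔ IsReduced Z' := by
  have fib : IsPullback (h.fiberι v) (h.fiberToSpecResidueField v) h (V.fromSpecResidueField v) :=
    IsPullback.of_hasPullback _ _
  exact isReduced_iff_of_isPullback (sq.flip.paste_vert fib.flip).flip sq'

/-- the chart criterion for geometric reducedness of the fibre at the image of a point of a chart -/
theorem gRgen_ofPt_iff {X Y : Sp S} (f : X ⟶ Y) {V U : Over S} (a : (yon S).obj V ⟶ Y)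
    {P : Sp S} (pX : P ⟶ X) (pV : P ⟶ (yon S).obj V) (sqP : IsPullback pX pV f a)
    (p : (yon S).obj U ⟶ P) (hpe : RepWith @Etale p) (hps : RepWith @Surjective p)
    (h : U ⟶ V) (hh : p ≫ pV = (yon S).map h) (v : ↥V.left) :
    GRgen f (FieldPt.ofPt a v).pt (FieldPt.ofPt a v).toHom ↔
      GeometricallyReduced (h.left.fiberToSpecResidueField v) := by
  let jv : (FieldPt.ofPt a v).pt ⟶ V := Over.homMk (V.left.fromSpecResidueField v) rfl
  have hto : (FieldPt.ofPt a v).toHom = (yon S).map jv ≫ a := FieldPt.toHom_ofPt a v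
  have key : ∀ (K : Type u) [Field K] (w : Spec (CommRingCat.of K) ⟶ S)
      (c : Over.mk w ⟶ (FieldPt.ofPt a v).pt),
      RedOver f (Over.mk w) ((yon S).map c ≫ (FieldPt.ofPt a v).toHom) ↔
        IsReduced (pullback (h.left.fiberToSpecResidueField v) c.left) := by
    intro K _ w c
    rw [hto, ← Category.assoc, ← Functor.map_comp,
      redOver_iff_of_chart f a pX pV sqP p hpe hps h hh (c ≫ jv)]
    have sqL : IsPullback (pullback.fst h (c ≫ jv)).left (pullback.snd h (c ≫ jv)).left h.left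
        (c.left ≫ V.left.fromSpecResidueField v) :=
      (IsPullback.of_hasPullback h (c ≫ jv)).map (Over.forget S)
    exact (isReduced_fiber_pullback_iff h.left v c.left (IsPullback.of_hasPullback _ _) sqL).symm
  constructor
  · intro hg
    refine ⟨fun K _ y Z fst snd sq => ?_⟩
    have h1 := (key K (y ≫ (FieldPt.ofPt a v).str) (Over.homMk y rfl)).1
      (hg K (y ≫ (FieldPt.ofPt a v).str) (Over.homMk y rfl))
    exact (isReduced_iff_of_isPullback sq (IsPullback.of_hasPullback _ _)).2 h1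
  · intro hg K _ w c
    rw [key]
    exact GeometricallyReduced.geometrically_isReduced _ _ _ (IsPullback.of_hasPullback _ _)

end Groth.Agent.Lib.Helper15.GeomRedFib
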