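import Groth.Agent.Lib.Helper15.GeomRedEt
import Groth.Agent.Lib.Helper3.AlgSpChartPts
import Groth.Agent.Lib.Helper3.AlgSpIntegralDim

set_option autoImplicit false
set_option backward.isDefEq.respectTransparency.types false
universe u
open CategoryTheory CategoryTheory.Limits AlgebraicGeometry
open AlgSp

namespace Groth.Agent.Lib.Helper15.GeomRedSp

open Groth.Agent.Lib.Helper3 Groth.Agent.Lib.Helper15.GeomRedEt

variable {k : Type u} [Field k]

theorem over_iff {U W : Over (Spec (CommRingCat.of k))} (φ : W ⟶ U) (hφ : Etale φ.left)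
    (w : ↥W.left) :
    FBase.IsGeomReducedAt W.hom w ↔ FBase.IsGeomReducedAt U.hom (φ.left w) := by
  have := isGeomReducedAt_comp_iff U.hom φ.left w
  rwa [Over.w φ] at this

/-- geometric reducedness at a point can be tested on any etale chart through it -/
theorem chart_iff {X : Sp (Spec (CommRingCat.of k))} {U V : Over (Spec (CommRingCat.of k))}
    (a : (yon _).obj U ⟶ X) (b : (yon _).obj V ⟶ X) (ha : RepWith @Etale a)
    (hb : RepWith @Etale b) (u : ↥U.left) (v : ↥V.left)
    (h : Points.ofPt a u = Points.ofPt b v) :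
    FBase.IsGeomReducedAt U.hom u ↔ FBase.IsGeomReducedAt V.hom v := by
  have sq := ha.rep.isPullback b
  obtain ⟨pU, hpU⟩ := (yon _).map_surjective (ha.rep.fst b)
  rw [← hpU] at sq
  have hpV : Etale (ha.rep.snd b).left := ha.property_snd b
  have hpUe : Etale pU.left := hb.property a _ _ sq.flip
  obtain ⟨w, hw1, hw2⟩ := exists_of_ofPt_eq_of_isPullback sq u v h
  rw [← hw1, ← hw2, ← over_iff pU hpUe w, ← over_iff (ha.rep.snd b) hpV w]

end Groth.Agent.Lib.Helper15.GeomRedSp
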