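import Groth.Agent.Lib.Helper23.EtUnit
import Groth.Agent.Lib.Helper23.ComapGerm

/-!
# Germs of sections of an inverse image sheaf on the small etale site (helper15)
-/

set_option autoImplicit false
set_option backward.isDefEq.respectTransparency false
set_option backward.isDefEq.respectTransparency.types false

universe u

namespace Groth.Agent.Lib.Helper15.GermLift

open CategoryTheory Limits Opposite AlgebraicGeometry GrothendieckTopology
open Groth.Agent.Lib.Helper23.EtSite Groth.Agent.Lib.Helper23.EtGlue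

variable {X S : Scheme.{u}} (f : X ⟶ S) (F : EtCoh.Ab S)

/-- the unit on sections over `V` -/
noncomputable abbrev η (V : S.Etale) :
    F.obj.obj (op V) ⟶ ((EtCoh.pull f).obj F).obj.obj (op ((EtCoh.bc f).obj V)) :=
  ((EtCoh.pullPushAdj f).unit.app F).hom.app (op V)

variable {Ω : Type u} [Field Ω] [IsSepClosed Ω] (ξ : Spec (CommRingCat.of Ω) ⟶ X)

instance : InitiallySmall.{u} (EtCoh.bc f ⋙ (Scheme.pointSmallEtale ξ).fiber).Elements :=
  Groth.Agent.Lib.Helper23.PointIso.initiallySmall_elements_of_iso (Groth.Agent.S0100.fiberIso f ξ)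

/-- the point of the small etale site of `S` induced by a geometric point of `X` -/
noncomputable abbrev Φ' : Point.{u} S.smallEtaleTopology :=
  (Scheme.pointSmallEtale ξ).comap (EtCoh.bc f) (EtCoh.coverPreserving_bc f)

/-- germ of the unit -/
lemma germ_unit (V : S.Etale) (v : (Scheme.pointSmallEtale ξ).fiber.obj ((EtCoh.bc f).obj V))
    (t : F.obj.obj (op V)) :
    (((Scheme.pointSmallEtale ξ).sheafFiberComapIso (EtCoh.bc f) (EtCoh.coverPreserving_bc f)
        AddCommGrpCat.{u+1}).hom.app F) ((Φ' f ξ).toPresheafFiber V v F.obj t) =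
      (Scheme.pointSmallEtale ξ).toPresheafFiber ((EtCoh.bc f).obj V) v
        ((EtCoh.pull f).obj F).obj (η f F V t) := by
  have h := Groth.Agent.Lib.Helper23.ComapGerm.toPresheafFiber_sheafFiberComapIso_hom_app
    (Scheme.pointSmallEtale ξ) (EtCoh.bc f) (EtCoh.coverPreserving_bc f) AddCommGrpCat.{u+1} F V v
  exact ConcreteCategory.congr_hom h t

/-- the tautological geometric point at a point of a scheme -/
noncomputable abbrev geomPt {P : Scheme.{u}} (n : P) :
    Spec (CommRingCat.of (SeparableClosure (P.residueField n))) ⟶ P :=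
  Spec.map (CommRingCat.ofHom (algebraMap (P.residueField n) (SeparableClosure (P.residueField n)))) ≫
    P.fromSpecResidueField n

lemma geomPt_apply {P : Scheme.{u}} (n : P) (a) : geomPt n a = n := by
  change (P.fromSpecResidueField n) _ = n
  exact Scheme.fromSpecResidueField_apply n _

/-- local injectivity of the unit: sections whose images agree on an etale neighbourhood of a point
agree on an etale neighbourhood of the image point -/
lemma exists_nhd_of_eq_on (V : S.Etale) (t₁ t₂ : F.obj.obj (op V)) (N : X.Etale)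
    (k : N ⟶ (EtCoh.bc f).obj V)
    (h : ((EtCoh.pull f).obj F).obj.map k.op (η f F V t₁) =
      ((EtCoh.pull f).obj F).obj.map k.op (η f F V t₂)) (n : N.left) :
    ∃ (V' : S.Etale) (g : V' ⟶ V) (v' : V'.left),
      g.left v' = (pullback.fst V.hom f : ((EtCoh.bc f).obj V).left ⟶ V.left) (k.left n) ∧
      F.obj.map g.op t₁ = F.obj.map g.op t₂ := by
  let P : Scheme.{u} := N.left
  let Ω := SeparableClosure (P.residueField n)
  let ζ : Spec (CommRingCat.of Ω) ⟶ P := geomPt n
  let ξ : Spec (CommRingCat.of Ω) ⟶ X := ζ ≫ N.hom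
  let Φ := Scheme.pointSmallEtale ξ
  let e1 := Φ.sheafFiberComapIso (EtCoh.bc f) (EtCoh.coverPreserving_bc f) AddCommGrpCat.{u+1}
  let y : Φ.fiber.obj N := Over.homMk ζ rfl
  let v : Φ.fiber.obj ((EtCoh.bc f).obj V) := Φ.fiber.map k y
  have hg : (Φ' f ξ).toPresheafFiber V v F.obj t₁ = (Φ' f ξ).toPresheafFiber V v F.obj t₂ := by
    have hinj : Function.Injective (e1.hom.app F) :=
      ((ConcreteCategory.isIso_iff_bijective (e1.hom.app F)).1 inferInstance).1
    apply hinj
    rw [germ_unit, germ_unit]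
    have hw := Φ.toPresheafFiber_w k y ((EtCoh.pull f).obj F).obj
    have h1 := ConcreteCategory.congr_hom hw (η f F V t₁)
    have h2 := ConcreteCategory.congr_hom hw (η f F V t₂)
    simp only [ConcreteCategory.comp_apply] at h1 h2
    rw [← h1, ← h2, h]
  rw [Point.toPresheafFiber_eq_iff'] at hg
  obtain ⟨V', g, y', hy, hst⟩ := hg
  let yl : Spec (CommRingCat.of Ω) ⟶ ((EtCoh.bc f).obj V').left := y'.left
  refine ⟨V', g, (yl ≫ (pullback.fst V'.hom f : ((EtCoh.bc f).obj V').left ⟶ V'.left))
    (default : Spec (CommRingCat.of Ω)), ?_, hst⟩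
  have h1 : yl ≫ ((EtCoh.bc f).map g).left = ζ ≫ k.left := congrArg (fun φ => φ.left) hy
  have h2 : (yl ≫ (pullback.fst V'.hom f : ((EtCoh.bc f).obj V').left ⟶ V'.left)) ≫ g.left =
      (ζ ≫ k.left) ≫ (pullback.fst V.hom f : ((EtCoh.bc f).obj V).left ⟶ V.left) := by
    rw [Category.assoc, ← (EtCoh.isPullback_bc_map f g).w, ← Category.assoc, h1]
  have h3 := congrArg (fun φ : Spec (CommRingCat.of Ω) ⟶ V.left =>
    φ (default : Spec (CommRingCat.of Ω))) h2
  simp only [Scheme.Hom.comp_apply] at h3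
  rw [geomPt_apply] at h3
  exact h3

/-- naturality of the unit on sections -/
lemma unit_map {V' V : S.Etale} (g : V' ⟶ V) (t : F.obj.obj (op V)) :
    ((EtCoh.pull f).obj F).obj.map ((EtCoh.bc f).map g).op (η f F V t) =
      η f F V' (F.obj.map g.op t) := by
  have h := ConcreteCategory.congr_hom
    (((EtCoh.pullPushAdj f).unit.app F).hom.naturality g.op) t
  simp only [ConcreteCategory.comp_apply] at h
  exact h.symm

/-- points of a base change lift -/
lemma exists_point_bc {V' V : S.Etale} (g : V' ⟶ V) (n : ((EtCoh.bc f).obj V).left) (v' : V'.left)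
    (h : g.left v' = (pullback.fst V.hom f : ((EtCoh.bc f).obj V).left ⟶ V.left) n) :
    ∃ n' : ((EtCoh.bc f).obj V').left, ((EtCoh.bc f).map g).left n' = n ∧
      (pullback.fst V'.hom f : ((EtCoh.bc f).obj V').left ⟶ V'.left) n' = v' := by
  have sq := EtCoh.isPullback_bc_map f g
  obtain ⟨z, hz1, hz2⟩ := Scheme.Pullback.exists_preimage_pullback
    (f := (pullback.fst V.hom f : ((EtCoh.bc f).obj V).left ⟶ V.left)) (g := g.left) n v' h.symm
  refine ⟨sq.isoPullback.inv z, ?_, ?_⟩
  · have h1 := congrArg (fun φ : pullback (pullback.fst V.hom f) g.left ⟶ ((EtCoh.bc f).obj V).left => φ z)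
      sq.isoPullback_inv_fst
    exact h1.trans hz1
  · have h1 := congrArg (fun φ : pullback (pullback.fst V.hom f) g.left ⟶ V'.left => φ z)
      sq.isoPullback_inv_snd
    exact h1.trans hz2

/-- local lifts: a section of the inverse image is, near a geometric point, the image of a section of
`F` over an etale neighbourhood (which may be taken to refine a given one) -/
lemma exists_local_lift (U : S.Etale) (b : ((EtCoh.pull f).obj F).obj.obj (op ((EtCoh.bc f).obj U)))
    (p : (Scheme.pointSmallEtale ξ).fiber.obj ((EtCoh.bc f).obj U)) :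
    ∃ (V : S.Etale) (g : V ⟶ U) (t₂ : F.obj.obj (op V)) (N : X.Etale)
      (k : N ⟶ (EtCoh.bc f).obj V) (y : (Scheme.pointSmallEtale ξ).fiber.obj N),
      (Scheme.pointSmallEtale ξ).fiber.map ((EtCoh.bc f).map g)
        ((Scheme.pointSmallEtale ξ).fiber.map k y) = p ∧
      ((EtCoh.pull f).obj F).obj.map k.op
          (((EtCoh.pull f).obj F).obj.map ((EtCoh.bc f).map g).op b) =
        ((EtCoh.pull f).obj F).obj.map k.op (η f F V t₂) := by
  let Φ := Scheme.pointSmallEtale ξ
  let G := (EtCoh.pull f).obj F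
  let e1 := Φ.sheafFiberComapIso (EtCoh.bc f) (EtCoh.coverPreserving_bc f) AddCommGrpCat.{u+1}
  have hsurj : Function.Surjective (e1.hom.app F) :=
    ((ConcreteCategory.isIso_iff_bijective (e1.hom.app F)).1 inferInstance).2
  obtain ⟨δ, hδ⟩ := hsurj (Φ.toPresheafFiber ((EtCoh.bc f).obj U) p G.obj b)
  obtain ⟨V₀, v₀, t₀, ht₀⟩ := (Φ' f ξ).toPresheafFiber_jointly_surjective (P := F.obj) δ
  let A : (Φ' f ξ).fiber.Elements := ⟨V₀, v₀⟩
  let B : (Φ' f ξ).fiber.Elements := ⟨U, p⟩
  let M := IsCofiltered.min A B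
  let g₀ : M.1 ⟶ V₀ := (IsCofiltered.minToLeft A B).1
  have hg₀ : (Φ' f ξ).fiber.map g₀ M.2 = v₀ := (IsCofiltered.minToLeft A B).2
  let g : M.1 ⟶ U := (IsCofiltered.minToRight A B).1
  have hg : (Φ' f ξ).fiber.map g M.2 = p := (IsCofiltered.minToRight A B).2
  let v : Φ.fiber.obj ((EtCoh.bc f).obj M.1) := M.2
  let t₂ : F.obj.obj (op M.1) := F.obj.map g₀.op t₀
  have h1 : (Φ' f ξ).toPresheafFiber M.1 v F.obj t₂ = δ := by
    have hw := (Φ' f ξ).toPresheafFiber_w g₀ M.2 F.obj
    have h := ConcreteCategory.congr_hom hw t₀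
    simp only [ConcreteCategory.comp_apply] at h
    rw [← ht₀, ← hg₀]
    exact h
  have h2 : Φ.toPresheafFiber ((EtCoh.bc f).obj M.1) v G.obj (η f F M.1 t₂) =
      Φ.toPresheafFiber ((EtCoh.bc f).obj U) p G.obj b := by
    rw [← germ_unit, h1, hδ]
  have h3 : Φ.toPresheafFiber ((EtCoh.bc f).obj U) p G.obj b =
      Φ.toPresheafFiber ((EtCoh.bc f).obj M.1) v G.obj
        (G.obj.map ((EtCoh.bc f).map g).op b) := by
    have hw := Φ.toPresheafFiber_w ((EtCoh.bc f).map g) v G.obj
    have h := ConcreteCategory.congr_hom hw b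
    simp only [ConcreteCategory.comp_apply] at h
    have hp : Φ.fiber.map ((EtCoh.bc f).map g) v = p := hg
    rw [← hp]
    exact h.symm
  have h4 := h3.symm.trans h2.symm
  rw [Point.toPresheafFiber_eq_iff'] at h4
  obtain ⟨N, k, y, hy, hk⟩ := h4
  refine ⟨M.1, g, t₂, N, k, y, ?_, hk⟩
  rw [hy]
  exact hg

end Groth.Agent.Lib.Helper15.GermLift
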