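import Mathlib
import Groth.Prelude.Def_EtGlue

set_option autoImplicit false
universe u
open TensorProduct

namespace Groth.Agent.Lib.Helper15.Glue1

variable (R R' : Type u) [CommRing R] [CommRing R'] [Algebra R R'] (f : R)

/-- `R_f` as localized module -/
abbrev Rf := LocalizedModule (Submonoid.powers f) R
/-- `R'_f` as localized module -/
abbrev R'f := LocalizedModule (Submonoid.powers f) R'

noncomputable abbrev mkR : R →ₗ[R] Rf R f := LocalizedModule.mkLinearMap (Submonoid.powers f) R
noncomputable abbrev mkR' : R' →ₗ[R] R'f R R' f := LocalizedModule.mkLinearMap (Submonoid.powers f) R'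

noncomputable def dR : Rf R f →ₗ[R] R'f R R' f :=
  IsLocalizedModule.map (Submonoid.powers f) (mkR R f) (mkR' R R' f) (Algebra.linearMap R R')

noncomputable def uMap : R →ₗ[R] R' × Rf R f := (Algebra.linearMap R R').prod (mkR R f)

noncomputable def vMap : R' × Rf R f →ₗ[R] R'f R R' f :=
  (mkR' R R' f) ∘ₗ LinearMap.fst R R' (Rf R f) - (dR R R' f) ∘ₗ LinearMap.snd R R' (Rf R f)

variable (M : Type u) [AddCommGroup M] [Module R M]

/-- tensor model of glueability -/
def GlT : Prop :=
  Function.Injective (LinearMap.lTensor M (uMap R R' f)) ∧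
    Function.Exact (LinearMap.lTensor M (uMap R R' f)) (LinearMap.lTensor M (vMap R R' f))


section Compare

/-- a localization map stays one after `M ⊗ -` -/
lemma isLocalizedModule_lTensor {T T' : Type u} [AddCommGroup T] [Module R T] [AddCommGroup T'] [Module R T']
    (g : T →ₗ[R] T') [IsLocalizedModule (Submonoid.powers f) g] :
    IsLocalizedModule (Submonoid.powers f) (LinearMap.lTensor M g) := by
  have h1 : IsLocalizedModule (Submonoid.powers f) (AlgebraTensorModule.rTensor R M g) := inferInstance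
  have h2 : LinearMap.lTensor M g =
      (TensorProduct.comm R T' M).toLinearMap ∘ₗ (AlgebraTensorModule.rTensor R M g) ∘ₗ
        (TensorProduct.comm R M T).toLinearMap :=
    TensorProduct.ext rfl
  rw [h2]
  infer_instance

/-- `ℓ : M → M ⊗ R_f`, `m ↦ m ⊗ 1` -/
noncomputable def ellMap : M →ₗ[R] M ⊗[R] Rf R f :=
  (LinearMap.lTensor M (mkR R f)) ∘ₗ (TensorProduct.rid R M).symm.toLinearMap

lemma ellMap_apply (m : M) : ellMap R f M m = m ⊗ₜ[R] (mkR R f 1) := rfl

instance : IsLocalizedModule (Submonoid.powers f) (ellMap R f M) := by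
  unfold ellMap
  haveI := isLocalizedModule_lTensor R f M (mkR R f)
  infer_instance

/-- `κ : R' ⊗ M → M ⊗ R'_f` -/
noncomputable def kapMap : R' ⊗[R] M →ₗ[R] M ⊗[R] R'f R R' f :=
  (LinearMap.lTensor M (mkR' R R' f)) ∘ₗ (TensorProduct.comm R R' M).toLinearMap

lemma kapMap_tmul (x : R') (m : M) : kapMap R R' f M (x ⊗ₜ m) = m ⊗ₜ[R] (mkR' R R' f x) := rfl

instance : IsLocalizedModule (Submonoid.powers f) (kapMap R R' f M) := by
  unfold kapMap
  haveI := isLocalizedModule_lTensor R f M (mkR' R R' f)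
  infer_instance

/-- `M ⊗ R_f ≃ M_f` -/
noncomputable def eL : M ⊗[R] Rf R f ≃ₗ[R] LocalizedModule (Submonoid.powers f) M :=
  (IsLocalizedModule.iso (Submonoid.powers f) (ellMap R f M)).symm

lemma eL_ell (m : M) : eL R f M (ellMap R f M m) = LocalizedModule.mkLinearMap (Submonoid.powers f) M m :=
  LinearMap.congr_fun (IsLocalizedModule.iso_symm_comp (Submonoid.powers f) (ellMap R f M)) m

/-- `M ⊗ R'_f ≃ (R' ⊗ M)_f` -/
noncomputable def eQ : M ⊗[R] R'f R R' f ≃ₗ[R] LocalizedModule (Submonoid.powers f) (R' ⊗[R] M) :=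
  (IsLocalizedModule.iso (Submonoid.powers f) (kapMap R R' f M)).symm

lemma eQ_kap (x : R' ⊗[R] M) : eQ R R' f M (kapMap R R' f M x) =
    LocalizedModule.mkLinearMap (Submonoid.powers f) (R' ⊗[R] M) x :=
  LinearMap.congr_fun (IsLocalizedModule.iso_symm_comp (Submonoid.powers f) (kapMap R R' f M)) x

end Compare

section Compare2

/-- the middle iso -/
noncomputable def e2 : M ⊗[R] (R' × Rf R f) ≃ₗ[R] (R' ⊗[R] M) × LocalizedModule (Submonoid.powers f) M :=
  (TensorProduct.prodRight R R M R' (Rf R f)) ≪≫ₗ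
    ((TensorProduct.comm R M R').prodCongr (eL R f M))

lemma e2_tmul (m : M) (x : R') (y : Rf R f) :
    e2 R R' f M (m ⊗ₜ (x, y)) = (x ⊗ₜ m, eL R f M (m ⊗ₜ y)) := rfl

lemma mkR_eq (r : R) : mkR R f r = r • mkR R f 1 := by
  rw [← map_smul, smul_eq_mul, mul_one]

lemma sq1 (t : M ⊗[R] R) : e2 R R' f M (LinearMap.lTensor M (uMap R R' f) t) =
    ((1 : R') ⊗ₜ[R] (TensorProduct.rid R M t),
      LocalizedModule.mkLinearMap (Submonoid.powers f) M (TensorProduct.rid R M t)) := by
  have h : (e2 R R' f M).toLinearMap ∘ₗ LinearMap.lTensor M (uMap R R' f) =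
      ((TensorProduct.mk R R' M 1).prod (LocalizedModule.mkLinearMap (Submonoid.powers f) M)) ∘ₗ
        (TensorProduct.rid R M).toLinearMap := by
    apply TensorProduct.ext'
    intro m r
    simp only [LinearMap.comp_apply, LinearEquiv.coe_coe, LinearMap.lTensor_tmul, uMap,
      LinearMap.prod_apply, TensorProduct.rid_tmul]
    refine Prod.ext ?_ ?_
    · show (algebraMap R R' r) ⊗ₜ[R] m = (1 : R') ⊗ₜ[R] (r • m)
      rw [Algebra.algebraMap_eq_smul_one, TensorProduct.smul_tmul]
    · show eL R f M (m ⊗ₜ[R] (mkR R f r)) = LocalizedModule.mkLinearMap (Submonoid.powers f) M (r • m)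
      rw [mkR_eq, TensorProduct.tmul_smul, map_smul, ← ellMap_apply, eL_ell, map_smul]
  exact LinearMap.congr_fun h t

lemma dR_mk_one : dR R R' f (mkR R f 1) = mkR' R R' f 1 := by
  unfold dR
  rw [IsLocalizedModule.map_apply (Submonoid.powers f) (mkR R f) (mkR' R R' f) (Algebra.linearMap R R') 1]
  simp

lemma key (w : M ⊗[R] Rf R f) :
    eQ R R' f M (LinearMap.lTensor M (dR R R' f) w) = EtGlue.tensorOfLoc R R' f M (eL R f M w) := by
  have h : (eQ R R' f M).toLinearMap ∘ₗ LinearMap.lTensor M (dR R R' f) =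
      (EtGlue.tensorOfLoc R R' f M) ∘ₗ (eL R f M).toLinearMap := by
    apply IsLocalizedModule.linearMap_ext (Submonoid.powers f) (ellMap R f M)
      (LocalizedModule.mkLinearMap (Submonoid.powers f) (R' ⊗[R] M))
    ext m
    simp only [LinearMap.comp_apply, LinearEquiv.coe_coe]
    rw [eL_ell, ellMap_apply, LinearMap.lTensor_tmul]
    rw [dR_mk_one, ← kapMap_tmul, eQ_kap]
    exact (IsLocalizedModule.map_apply (Submonoid.powers f)
      (LocalizedModule.mkLinearMap (Submonoid.powers f) M)
      (LocalizedModule.mkLinearMap (Submonoid.powers f) (R' ⊗[R] M)) (TensorProduct.mk R R' M 1) m).symm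
  exact LinearMap.congr_fun h w

lemma sq2 (z : M ⊗[R] (R' × Rf R f)) :
    eQ R R' f M (LinearMap.lTensor M (vMap R R' f) z) + EtGlue.tensorOfLoc R R' f M (e2 R R' f M z).2 =
      EtGlue.locOfTensor R R' f M (e2 R R' f M z).1 := by
  have h : (eQ R R' f M).toLinearMap ∘ₗ LinearMap.lTensor M (vMap R R' f) +
      (EtGlue.tensorOfLoc R R' f M) ∘ₗ
        (LinearMap.snd R (R' ⊗[R] M) (LocalizedModule (Submonoid.powers f) M)) ∘ₗ (e2 R R' f M).toLinearMap =
      (EtGlue.locOfTensor R R' f M) ∘ₗ
        (LinearMap.fst R (R' ⊗[R] M) (LocalizedModule (Submonoid.powers f) M)) ∘ₗ (e2 R R' f M).toLinearMap := by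
    apply TensorProduct.ext'
    rintro m ⟨x, y⟩
    simp only [LinearMap.add_apply, LinearMap.comp_apply, LinearEquiv.coe_coe, LinearMap.lTensor_tmul,
      e2_tmul, LinearMap.fst_apply, LinearMap.snd_apply]
    have h1 : vMap R R' f (x, y) = mkR' R R' f x - dR R R' f y := rfl
    rw [h1, TensorProduct.tmul_sub, map_sub, ← kapMap_tmul, eQ_kap, ← LinearMap.lTensor_tmul, key]
    exact sub_add_cancel _ _
  exact LinearMap.congr_fun h z

lemma vu_zero (t : M ⊗[R] R) :
    LinearMap.lTensor M (vMap R R' f) (LinearMap.lTensor M (uMap R R' f) t) = 0 := by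
  have h : vMap R R' f ∘ₗ uMap R R' f = 0 := by
    ext
    have h0 : uMap R R' f 1 = ((1 : R'), mkR R f 1) := by
      simp [uMap]
    rw [LinearMap.comp_apply, h0]
    show mkR' R R' f 1 - dR R R' f (mkR R f 1) = 0
    rw [dR_mk_one, sub_self]
  rw [← LinearMap.comp_apply, ← LinearMap.lTensor_comp, h, LinearMap.lTensor_zero, LinearMap.zero_apply]

end Compare2

theorem isGlueable_iff_glT : EtGlue.IsGlueable R R' f M ↔ GlT R R' f M := by
  constructor
  · rintro ⟨h1, h2⟩
    refine ⟨?_, ?_⟩
    · intro t t' htt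
      have := congrArg (e2 R R' f M) htt
      rw [sq1, sq1] at this
      exact (TensorProduct.rid R M).injective (h1 this)
    · intro z
      constructor
      · intro hz
        have hs := sq2 R R' f M z
        rw [hz, map_zero, zero_add] at hs
        obtain ⟨m, hm1, hm2⟩ := h2 _ _ hs.symm
        refine ⟨(TensorProduct.rid R M).symm m, ?_⟩
        apply (e2 R R' f M).injective
        rw [sq1, LinearEquiv.apply_symm_apply]
        exact Prod.ext hm1 hm2
      · rintro ⟨t, rfl⟩
        exact vu_zero R R' f M t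
  · rintro ⟨h1, h2⟩
    refine ⟨?_, ?_⟩
    · intro m m' hmm
      have h3 : e2 R R' f M (LinearMap.lTensor M (uMap R R' f) ((TensorProduct.rid R M).symm m)) =
          e2 R R' f M (LinearMap.lTensor M (uMap R R' f) ((TensorProduct.rid R M).symm m')) := by
        rw [sq1, sq1, LinearEquiv.apply_symm_apply, LinearEquiv.apply_symm_apply]
        exact hmm
      exact (TensorProduct.rid R M).symm.injective (h1 ((e2 R R' f M).injective h3))
    · intro x y hxy
      have hs := sq2 R R' f M ((e2 R R' f M).symm (x, y))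
      rw [LinearEquiv.apply_symm_apply] at hs
      have hz : LinearMap.lTensor M (vMap R R' f) ((e2 R R' f M).symm (x, y)) = 0 := by
        apply (eQ R R' f M).injective
        rw [map_zero]
        have hs' : eQ R R' f M (LinearMap.lTensor M (vMap R R' f) ((e2 R R' f M).symm (x, y))) +
            EtGlue.tensorOfLoc R R' f M y = EtGlue.locOfTensor R R' f M x := hs
        have h5 : eQ R R' f M (LinearMap.lTensor M (vMap R R' f) ((e2 R R' f M).symm (x, y))) =
            EtGlue.locOfTensor R R' f M x - EtGlue.tensorOfLoc R R' f M y := eq_sub_of_add_eq hs'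
        rw [h5]
        exact sub_eq_zero.mpr hxy
      obtain ⟨t, ht⟩ := (h2 _).mp hz
      have h4 := sq1 R R' f M t
      rw [ht, LinearEquiv.apply_symm_apply] at h4
      exact ⟨TensorProduct.rid R M t, (congrArg Prod.fst h4).symm, (congrArg Prod.snd h4).symm⟩

end Groth.Agent.Lib.Helper15.Glue1
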