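import Mathlib
import Groth.Agent.Lib.Helper15.Glue1

set_option autoImplicit false
universe u
open TensorProduct

namespace Groth.Agent.Lib.Helper15.Glue2

section Core

variable {A : Type u} [CommRing A]

/-- an element killed by `B ⊗ -` for a jointly surjective family of flat algebras vanishes -/
theorem core {N : Type u} [AddCommGroup N] [Module A N] (y : N)
    (H : ∀ p : PrimeSpectrum A, ∃ (B : Type u) (_ : CommRing B) (_ : Algebra A B), Module.Flat A B ∧
      (∃ q : PrimeSpectrum B, q.comap (algebraMap A B) = p) ∧ (1 : B) ⊗ₜ[A] y = 0) : y = 0 := by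
  by_contra hy
  set I : Ideal A := LinearMap.ker (LinearMap.toSpanSingleton A N y) with hI
  have hI1 : I ≠ ⊤ := by
    intro h
    have : (1 : A) ∈ I := h ▸ Submodule.mem_top
    rw [hI, LinearMap.mem_ker, LinearMap.toSpanSingleton_apply, one_smul] at this
    exact hy this
  obtain ⟨m, hm, hIm⟩ := Ideal.exists_le_maximal I hI1
  obtain ⟨B, _, _, hflat, ⟨q, hq⟩, h0⟩ := H ⟨m, hm.isPrime⟩
  -- the injective map A/I → N
  let φ : A ⧸ I →ₗ[A] N := Submodule.liftQ I (LinearMap.toSpanSingleton A N y) le_rfl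
  have hφ : Function.Injective φ := by
    rw [← LinearMap.ker_eq_bot]
    exact Submodule.ker_liftQ_eq_bot _ _ _ le_rfl
  have hφ' : Function.Injective (LinearMap.lTensor B φ) :=
    Module.Flat.lTensor_preserves_injective_linearMap φ hφ
  have h1 : (1 : B) ⊗ₜ[A] (Submodule.Quotient.mk (1 : A) : A ⧸ I) = 0 := by
    apply hφ'
    rw [map_zero, LinearMap.lTensor_tmul]
    have : φ (Submodule.Quotient.mk (1 : A)) = y := by
      show Submodule.liftQ I (LinearMap.toSpanSingleton A N y) le_rfl (Submodule.Quotient.mk 1) = y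
      rw [Submodule.liftQ_apply, LinearMap.toSpanSingleton_apply, one_smul]
    rw [this, h0]
  -- ring hom B ⊗ A/I → B/q
  have hle : ∀ a ∈ I, algebraMap A (B ⧸ q.asIdeal) a = 0 := by
    intro a ha
    have h2 : a ∈ m := hIm ha
    have h3 : a ∈ (q.comap (algebraMap A B)).asIdeal := by rw [hq]; exact h2
    rw [IsScalarTower.algebraMap_apply A B (B ⧸ q.asIdeal), Ideal.Quotient.algebraMap_eq,
      Ideal.Quotient.eq_zero_iff_mem]
    exact h3
  let g₂ : A ⧸ I →ₐ[A] B ⧸ q.asIdeal := Ideal.Quotient.liftₐ I (Algebra.ofId A (B ⧸ q.asIdeal)) hle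
  let ψ : B ⊗[A] (A ⧸ I) →ₐ[A] B ⧸ q.asIdeal :=
    Algebra.TensorProduct.lift (IsScalarTower.toAlgHom A B (B ⧸ q.asIdeal)) g₂ (fun _ _ => Commute.all _ _)
  have h4 : ψ ((1 : B) ⊗ₜ[A] (Submodule.Quotient.mk (1 : A) : A ⧸ I)) = 1 := by
    have : ((1 : B) ⊗ₜ[A] (Submodule.Quotient.mk (1 : A) : A ⧸ I)) = (1 : B ⊗[A] (A ⧸ I)) := rfl
    rw [this, map_one]
  rw [h1, map_zero] at h4
  haveI : q.asIdeal.IsPrime := q.isPrime
  exact zero_ne_one h4

theorem injective_of_family {M₁ M₂ : Type u} [AddCommGroup M₁] [Module A M₁] [AddCommGroup M₂] [Module A M₂]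
    (a : M₁ →ₗ[A] M₂)
    (H : ∀ p : PrimeSpectrum A, ∃ (B : Type u) (_ : CommRing B) (_ : Algebra A B), Module.Flat A B ∧
      (∃ q : PrimeSpectrum B, q.comap (algebraMap A B) = p) ∧ Function.Injective (LinearMap.lTensor B a)) :
    Function.Injective a := by
  rw [injective_iff_map_eq_zero]
  intro x hx
  apply core (A := A) x
  intro p
  obtain ⟨B, i1, i2, hflat, hq, hinj⟩ := H p
  refine ⟨B, i1, i2, hflat, hq, ?_⟩
  apply hinj
  rw [map_zero, LinearMap.lTensor_tmul, hx, TensorProduct.tmul_zero]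

theorem exact_of_family {M₁ M₂ M₃ : Type u} [AddCommGroup M₁] [Module A M₁] [AddCommGroup M₂] [Module A M₂]
    [AddCommGroup M₃] [Module A M₃]
    (a : M₁ →ₗ[A] M₂) (b : M₂ →ₗ[A] M₃) (hba : ∀ x, b (a x) = 0)
    (H : ∀ p : PrimeSpectrum A, ∃ (B : Type u) (_ : CommRing B) (_ : Algebra A B), Module.Flat A B ∧
      (∃ q : PrimeSpectrum B, q.comap (algebraMap A B) = p) ∧
        Function.Exact (LinearMap.lTensor B a) (LinearMap.lTensor B b)) :
    Function.Exact a b := by
  intro x
  constructor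
  · intro hx
    have h0 : (Submodule.mkQ (LinearMap.range a)) x = 0 := by
      apply core (A := A)
      intro p
      obtain ⟨B, i1, i2, hflat, hq, hex⟩ := H p
      refine ⟨B, i1, i2, hflat, hq, ?_⟩
      have h1 : LinearMap.lTensor B b ((1 : B) ⊗ₜ[A] x) = 0 := by
        rw [LinearMap.lTensor_tmul, hx, TensorProduct.tmul_zero]
      obtain ⟨w, hw⟩ := (hex _).mp h1
      have h2 : (LinearMap.lTensor B (Submodule.mkQ (LinearMap.range a))) ∘ₗ (LinearMap.lTensor B a) = 0 := by
        rw [← LinearMap.lTensor_comp]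
        have : (Submodule.mkQ (LinearMap.range a)) ∘ₗ a = 0 := by
          ext z
          simp
        rw [this, LinearMap.lTensor_zero]
      have h3 := LinearMap.congr_fun h2 w
      rw [LinearMap.comp_apply, hw, LinearMap.lTensor_tmul] at h3
      exact h3
    rw [Submodule.mkQ_apply, Submodule.Quotient.mk_eq_zero] at h0
    exact h0
  · rintro ⟨w, rfl⟩
    exact hba w

end Core

section BaseChange

variable {R : Type u} [CommRing R] (A : Type u) [CommRing A] [Algebra R A]
  (N : Type u) [AddCommGroup N] [Module R N] [Module A N] [IsScalarTower R A N]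
  {T₁ T₂ T₃ : Type u} [AddCommGroup T₁] [Module R T₁] [AddCommGroup T₂] [Module R T₂]
  [AddCommGroup T₃] [Module R T₃]

open TensorProduct.AlgebraTensorModule in
lemma cbc_sq (u : T₁ →ₗ[R] T₂) (x : N ⊗[A] (A ⊗[R] T₁)) :
    (LinearMap.lTensor N u) (cancelBaseChange R A A N T₁ x) =
      cancelBaseChange R A A N T₂ (LinearMap.lTensor N (AlgebraTensorModule.lTensor A A u) x) := by
  have h := lTensor_comp_cancelBaseChange (R := R) (A := A) (B := A) (M := N) (N := T₁) (Q := T₂) u
  exact LinearMap.congr_fun h x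

lemma injective_iff (u : T₁ →ₗ[R] T₂) :
    Function.Injective (LinearMap.lTensor N u) ↔
      Function.Injective (LinearMap.lTensor N (AlgebraTensorModule.lTensor A A u)) := by
  constructor
  · intro h x x' hxx
    have := congrArg (AlgebraTensorModule.cancelBaseChange R A A N T₂) hxx
    rw [← cbc_sq, ← cbc_sq] at this
    exact (AlgebraTensorModule.cancelBaseChange R A A N T₁).injective (h this)
  · intro h x x' hxx
    obtain ⟨w, rfl⟩ := (AlgebraTensorModule.cancelBaseChange R A A N T₁).surjective x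
    obtain ⟨w', rfl⟩ := (AlgebraTensorModule.cancelBaseChange R A A N T₁).surjective x'
    rw [cbc_sq, cbc_sq] at hxx
    rw [h ((AlgebraTensorModule.cancelBaseChange R A A N T₂).injective hxx)]

lemma exact_iff (u : T₁ →ₗ[R] T₂) (v : T₂ →ₗ[R] T₃) :
    Function.Exact (LinearMap.lTensor N u) (LinearMap.lTensor N v) ↔
      Function.Exact (LinearMap.lTensor N (AlgebraTensorModule.lTensor A A u))
        (LinearMap.lTensor N (AlgebraTensorModule.lTensor A A v)) := by
  constructor
  · intro h x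
    have h1 := h (AlgebraTensorModule.cancelBaseChange R A A N T₂ x)
    rw [cbc_sq, LinearEquiv.map_eq_zero_iff] at h1
    rw [h1]
    constructor
    · rintro ⟨w, hw⟩
      obtain ⟨w', rfl⟩ := (AlgebraTensorModule.cancelBaseChange R A A N T₁).surjective w
      rw [cbc_sq] at hw
      exact ⟨w', (AlgebraTensorModule.cancelBaseChange R A A N T₂).injective hw⟩
    · rintro ⟨w, rfl⟩
      exact ⟨_, cbc_sq A N u w⟩
  · intro h x
    obtain ⟨x', rfl⟩ := (AlgebraTensorModule.cancelBaseChange R A A N T₂).surjective x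
    rw [cbc_sq, LinearEquiv.map_eq_zero_iff, h x']
    constructor
    · rintro ⟨w, rfl⟩
      exact ⟨_, cbc_sq A N u w⟩
    · rintro ⟨w, hw⟩
      obtain ⟨w', rfl⟩ := (AlgebraTensorModule.cancelBaseChange R A A N T₁).surjective w
      rw [cbc_sq] at hw
      exact ⟨w', (AlgebraTensorModule.cancelBaseChange R A A N T₂).injective hw⟩

end BaseChange

section Final

open Groth.Agent.Lib.Helper15.Glue1

variable (R R' : Type u) [CommRing R] [CommRing R'] [Algebra R R'] (f : R)

theorem glT_of_flat (A₀ B : Type u) [CommRing A₀] [Algebra R A₀] [CommRing B] [Algebra R B] [Algebra A₀ B]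
    [IsScalarTower R A₀ B] [Module.Flat A₀ B] (h : GlT R R' f A₀) : GlT R R' f B := by
  obtain ⟨h1, h2⟩ := h
  refine ⟨?_, ?_⟩
  · rw [injective_iff A₀ B]
    exact Module.Flat.lTensor_preserves_injective_linearMap
      (AlgebraTensorModule.lTensor A₀ A₀ (uMap R R' f)) h1
  · rw [exact_iff A₀ B]
    exact Module.Flat.lTensor_exact B (f := AlgebraTensorModule.lTensor A₀ A₀ (uMap R R' f))
      (g := AlgebraTensorModule.lTensor A₀ A₀ (vMap R R' f)) h2

theorem glT_of_family (A : Type u) [CommRing A] [Algebra R A]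
    (H : ∀ p : PrimeSpectrum A, ∃ (B : Type u) (_ : CommRing B) (_ : Algebra R B) (_ : Algebra A B),
      IsScalarTower R A B ∧ Module.Flat A B ∧ (∃ q : PrimeSpectrum B, q.comap (algebraMap A B) = p) ∧
        GlT R R' f B) : GlT R R' f A := by
  refine ⟨?_, ?_⟩
  · apply injective_of_family (A := A) (AlgebraTensorModule.lTensor A A (uMap R R' f))
    intro p
    obtain ⟨B, i1, i2, i3, i4, hflat, hq, hB⟩ := H p
    refine ⟨B, i1, i3, hflat, hq, ?_⟩
    rw [← injective_iff A B]
    exact hB.1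
  · apply exact_of_family (A := A) (AlgebraTensorModule.lTensor A A (uMap R R' f))
      (AlgebraTensorModule.lTensor A A (vMap R R' f))
    · intro x
      exact vu_zero R R' f A x
    · intro p
      obtain ⟨B, i1, i2, i3, i4, hflat, hq, hB⟩ := H p
      refine ⟨B, i1, i3, hflat, hq, ?_⟩
      rw [← exact_iff A B]
      exact hB.2

theorem isGlueable_of_family (A : Type u) [CommRing A] [Algebra R A]
    (H : ∀ p : PrimeSpectrum A, ∃ (A₀ B : Type u) (_ : CommRing A₀) (_ : CommRing B) (_ : Algebra R A₀)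
      (_ : Algebra R B) (φ₀ : A₀ →ₐ[R] B) (φ : A →ₐ[R] B), φ₀.toRingHom.Flat ∧ φ.toRingHom.Flat ∧
        (∃ q : PrimeSpectrum B, q.comap φ.toRingHom = p) ∧ EtGlue.IsGlueable R R' f A₀) :
    EtGlue.IsGlueable R R' f A := by
  rw [isGlueable_iff_glT]
  apply glT_of_family
  intro p
  obtain ⟨A₀, B, i1, i2, i3, i4, φ₀, φ, hφ₀, hφ, hq, hgl⟩ := H p
  letI alg : Algebra A B := φ.toRingHom.toAlgebra
  have htow : IsScalarTower R A B := IsScalarTower.of_algebraMap_eq (fun r => (φ.commutes r).symm)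
  refine ⟨B, i2, i4, alg, htow, hφ, hq, ?_⟩
  letI alg₀ : Algebra A₀ B := φ₀.toRingHom.toAlgebra
  haveI htow₀ : IsScalarTower R A₀ B := IsScalarTower.of_algebraMap_eq (fun r => (φ₀.commutes r).symm)
  haveI : Module.Flat A₀ B := hφ₀
  exact glT_of_flat R R' f A₀ B ((isGlueable_iff_glT R R' f A₀).mp hgl)

end Final

end Groth.Agent.Lib.Helper15.Glue2
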