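import Mathlib
import Groth.Prelude.Def_AlgSp2
import Groth.Agent.Lib.Helper3.AlgSpChartPts
import Groth.Agent.Lib.Helper3.AlgSpHasAtMor
import Groth.Agent.Lib.Helper15.Glue2
import Groth.Prelude.Def_EtGlue

set_option autoImplicit false
universe u
open CategoryTheory CategoryTheory.Limits AlgebraicGeometry Opposite
open AlgSp

namespace Groth.Agent.Lib.Helper15.Glue3

variable {R : Type u} [CommRing R]

/-- `Spec A` over `Spec R` -/
noncomputable abbrev specOver (A : Type u) [CommRing A] [Algebra R A] : Over (Spec (CommRingCat.of R)) :=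
  Over.mk (Spec.map (CommRingCat.ofHom (algebraMap R A)))

/-- an affine scheme over `Spec R` is `Spec` of an `R`-algebra -/
theorem exists_algebra (W : Over (Spec (CommRingCat.of R))) (hW : IsAffine W.left) :
    ∃ (A : Type u) (_ : CommRing A) (_ : Algebra R A), Nonempty (specOver A ≅ W) := by
  let φ : CommRingCat.of R ⟶ Γ(W.left, ⊤) := (Scheme.ΓSpecIso (CommRingCat.of R)).inv ≫ W.hom.appTop
  letI alg : Algebra R Γ(W.left, ⊤) := φ.hom.toAlgebra
  refine ⟨Γ(W.left, ⊤), inferInstance, alg, ⟨?_⟩⟩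
  have h1 : CommRingCat.ofHom (algebraMap R Γ(W.left, ⊤)) = φ := rfl
  refine Over.isoMk W.left.isoSpec.symm ?_
  show W.left.isoSpec.inv ≫ W.hom = Spec.map (CommRingCat.ofHom (algebraMap R Γ(W.left, ⊤)))
  rw [h1, ← Scheme.isoSpec_inv_naturality, Scheme.isoSpec_Spec_inv, ← Spec.map_comp]

/-- a morphism over `Spec R` between spectra of `R`-algebras is induced by an algebra hom -/
theorem exists_algHom {A B : Type u} [CommRing A] [Algebra R A] [CommRing B] [Algebra R B]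
    (h : (specOver B : Over (Spec (CommRingCat.of R))) ⟶ specOver A) :
    ∃ φ : A →ₐ[R] B, h.left = Spec.map (CommRingCat.ofHom φ.toRingHom) := by
  let ψ : CommRingCat.of A ⟶ CommRingCat.of B := Spec.preimage h.left
  have hψ : Spec.map ψ = h.left := Spec.map_preimage _
  have hw := Over.w h
  have h2 : CommRingCat.ofHom (algebraMap R A) ≫ ψ = CommRingCat.ofHom (algebraMap R B) := by
    apply Spec.map_injective
    rw [Spec.map_comp, hψ]
    exact hw
  refine ⟨{ ψ.hom with commutes' := fun r => ?_ }, ?_⟩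
  · have := congrArg (fun t => t.hom r) h2
    exact this
  · rw [← hψ]
    rfl

open Groth.Agent.Lib.Helper3

theorem forward (R' : Type u) [CommRing R'] [Algebra R R'] (f : R)
    (Y : AlgSp.Space (Spec (CommRingCat.of R)))
    (ι : Type u) (A : ι → Type u) [i1 : ∀ k, CommRing (A k)] [i2 : ∀ k, Algebra R (A k)]
    (g : ∀ k, (AlgSp.yon (Spec (CommRingCat.of R))).obj (specOver (A k)) ⟶ Y.obj)
    (hét : ∀ k, AlgSp.RepWith @Etale (g k))
    (hsurj : ∀ y : AlgSp.Points Y.obj, ∃ k, y ∈ Set.range (AlgSp.Points.map (g k)))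
    (hgl : ∀ k, EtGlue.IsGlueable R R' f (A k))
    (A₁ : Type u) [CommRing A₁] [Algebra R A₁]
    (g₁ : (AlgSp.yon (Spec (CommRingCat.of R))).obj (specOver A₁) ⟶ Y.obj)
    (hg₁ : AlgSp.RepWith @Etale g₁) : EtGlue.IsGlueable R R' f A₁ := by
  apply Groth.Agent.Lib.Helper15.Glue2.isGlueable_of_family
  intro p
  let x : ↥(specOver A₁ : Over (Spec (CommRingCat.of R))).left := p
  obtain ⟨k, z, hz⟩ := hsurj (Points.ofPt g₁ x)
  obtain ⟨W, pU, pT, sq⟩ := exists_pullback_charts (g k) (hét k).1 g₁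
  have hpT : Etale pT.left := (hét k).2 g₁ ((yon _).map pU) pT sq
  have hpU : Etale pU.left := hg₁.2 (g k) ((yon _).map pT) pU sq.flip
  have hx2 : Points.ofPt (g k) (Points.toScheme _ z) = Points.ofPt g₁ x := by
    rw [Points.ofPt_eq_map_ofScheme, Points.ofScheme_toScheme, hz]
  obtain ⟨w, hw1, hw2⟩ := exists_of_ofPt_eq_of_isPullback sq _ _ hx2
  obtain ⟨_, ⟨O₀, hO, rfl⟩, hwO, -⟩ :=
    W.left.isBasis_affineOpens.exists_subset_of_mem_open (Set.mem_univ w) isOpen_univ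
  let O : W.left.Opens := O₀
  obtain ⟨B, iB1, iB2, ⟨e⟩⟩ := exists_algebra (Over.mk (O.ι ≫ W.hom)) hO
  let j : Over.mk (O.ι ≫ W.hom) ⟶ W := Over.homMk O.ι rfl
  obtain ⟨φ, hφ⟩ := exists_algHom (e.hom ≫ j ≫ pT)
  obtain ⟨φ₀, hφ₀⟩ := exists_algHom (e.hom ≫ j ≫ pU)
  have hj : Etale j.left := by
    change Etale O.ι
    infer_instance
  have he : Etale e.hom.left := inferInstance
  have het1 : Etale (e.hom ≫ j ≫ pT).left := by
    rw [Over.comp_left, Over.comp_left]
    infer_instance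
  have het0 : Etale (e.hom ≫ j ≫ pU).left := by
    rw [Over.comp_left, Over.comp_left]
    infer_instance
  rw [hφ] at het1
  rw [hφ₀] at het0
  refine ⟨A k, B, i1 k, iB1, i2 k, iB2, φ₀, φ, ?_, ?_, ?_, hgl k⟩
  · have hfl : Flat (Spec.map (CommRingCat.ofHom φ₀.toRingHom)) := inferInstance
    exact Flat.SpecMap_iff.mp hfl
  · have hfl : Flat (Spec.map (CommRingCat.ofHom φ.toRingHom)) := inferInstance
    exact Flat.SpecMap_iff.mp hfl
  · refine ⟨e.inv.left ⟨w, hwO⟩, ?_⟩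
    have h1 : (e.hom ≫ j ≫ pT).left (e.inv.left ⟨w, hwO⟩) = x := by
      rw [Over.comp_left, Over.comp_left]
      simp only [Scheme.Hom.comp_apply]
      have : e.hom.left (e.inv.left ⟨w, hwO⟩) = ⟨w, hwO⟩ := by
        rw [← Scheme.Hom.comp_apply, ← Over.comp_left, e.inv_hom_id]
        rfl
      rw [this]
      exact hw2
    rw [hφ] at h1
    exact h1

theorem exists_cover (Y : AlgSp.Space (Spec (CommRingCat.of R))) :
    ∃ (ι : Type u) (A : ι → Type u) (_ : ∀ k, CommRing (A k)) (_ : ∀ k, Algebra R (A k))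
      (g : ∀ k, (AlgSp.yon (Spec (CommRingCat.of R))).obj (specOver (A k)) ⟶ Y.obj),
      (∀ k, AlgSp.RepWith @Etale (g k)) ∧
        (∀ y : AlgSp.Points Y.obj, ∃ k, y ∈ Set.range (AlgSp.Points.map (g k))) := by
  obtain ⟨U, p, hpe, hps⟩ := Y.property.atlas
  let WV : U.left.affineOpens → Over (Spec (CommRingCat.of R)) := fun V => Over.mk (V.1.ι ≫ U.hom)
  choose A i1 i2 e using fun V : U.left.affineOpens => exists_algebra (WV V) V.2
  let e' : ∀ V, specOver (A V) ≅ WV V := fun V => (e V).some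
  refine ⟨U.left.affineOpens, A, i1, i2,
    fun V => (yon _).map (e' V).hom ≫ chartRestrict p V.1, ?_, ?_⟩
  · intro V
    refine (RepWith @Etale).comp_mem _ _ ?_ (chartRestrict_etale p hpe V.1)
    rw [repWith_yon_map_iff]
    infer_instance
  · intro y
    obtain ⟨u, hu⟩ := exists_ofPt_eq p hps y
    obtain ⟨_, ⟨V, hV, rfl⟩, huV, -⟩ :=
      U.left.isBasis_affineOpens.exists_subset_of_mem_open (Set.mem_univ u) isOpen_univ
    refine ⟨⟨V, hV⟩, Points.ofScheme _ ((e' ⟨V, hV⟩).inv.left ⟨u, huV⟩), ?_⟩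
    rw [← Points.ofPt_eq_map_ofScheme, Points.ofPt_yon_map_comp]
    have h1 : (e' ⟨V, hV⟩).hom.left ((e' ⟨V, hV⟩).inv.left ⟨u, huV⟩) = ⟨u, huV⟩ := by
      rw [← Scheme.Hom.comp_apply, ← Over.comp_left, (e' ⟨V, hV⟩).inv_hom_id]
      rfl
    rw [h1, ofPt_chartRestrict, ← hu]
    rfl

theorem main (R' : Type u) [CommRing R'] [Algebra R R'] (f : R)
    (Y : AlgSp.Space (Spec (CommRingCat.of R))) :
    (∃ (ι : Type u) (A : ι → Type u) (_ : ∀ k, CommRing (A k)) (_ : ∀ k, Algebra R (A k))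
        (g : ∀ k, (AlgSp.yon (Spec (CommRingCat.of R))).obj (Over.mk (Spec.map (CommRingCat.ofHom (algebraMap R (A k)))) : Over (Spec (CommRingCat.of R))) ⟶ Y.obj),
        (∀ k, AlgSp.RepWith @Etale (g k)) ∧ (∀ y : AlgSp.Points Y.obj, ∃ k, y ∈ Set.range (AlgSp.Points.map (g k))) ∧
          ∀ k, EtGlue.IsGlueable R R' f (A k)) ↔
      (∀ (A : Type u) [CommRing A] [Algebra R A]
      (g : (AlgSp.yon (Spec (CommRingCat.of R))).obj (Over.mk (Spec.map (CommRingCat.ofHom (algebraMap R A))) : Over (Spec (CommRingCat.of R))) ⟶ Y.obj),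
      AlgSp.RepWith @Etale g → EtGlue.IsGlueable R R' f A) := by
  constructor
  · rintro ⟨ι, A, i1, i2, g, hét, hsurj, hgl⟩ A₁ _ _ g₁ hg₁
    exact forward R' f Y ι A g hét hsurj hgl A₁ g₁ hg₁
  · intro H
    obtain ⟨ι, A, i1, i2, g, hét, hsurj⟩ := exists_cover Y
    exact ⟨ι, A, i1, i2, g, hét, hsurj, fun k => H (A k) (g k) (hét k)⟩

end Groth.Agent.Lib.Helper15.Glue3
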