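import Groth.Agent.S3627
import Groth.Agent.S3625
import Groth.Agent.Lib.helper19.AlgSpCM1
import Groth.Agent.Lib.Helper15.FlatAtSch

set_option autoImplicit false
universe u
open CategoryTheory CategoryTheory.Limits AlgebraicGeometry

namespace Groth.Agent.Lib.Helper15.GorSp

open Groth.Agent.Lib.Helper15.FlatAtSch

/-- Fibres of a morphism locally of finite type are locally Noetherian. -/
theorem isLocallyNoetherian_fiber_of_lft {X Y : Scheme.{u}} (f : X ⟶ Y) [LocallyOfFiniteType f]
    (y : Y) : IsLocallyNoetherian (f.fiber y) := by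
  haveI : LocallyOfFiniteType (f.fiberToSpecResidueField y) :=
    MorphismProperty.pullback_snd (P := @LocallyOfFiniteType) _ _ inferInstance
  exact LocallyOfFiniteType.isLocallyNoetherian (f.fiberToSpecResidueField y)

/-- An etale morphism is Gorenstein at every point. -/
theorem isGorensteinAt_of_etale {X Y : Scheme.{u}} (f : X ⟶ Y) [Etale f] (x : X) :
    Dual3.IsGorensteinAt f x := by
  refine ⟨Flat.stalkMap f x, ?_⟩
  haveI : Etale (f.fiberToSpecResidueField (f x)) :=
    MorphismProperty.pullback_snd (P := @Etale) _ _ inferInstance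
  apply Groth.Agent.Lib.Helper19.AlgSpCM1.isGor_of_isField
  apply Groth.Agent.Lib.Helper19.AlgSpCM1.isField_stalk_of_etale (f.fiberToSpecResidueField (f x))
  exact Groth.Agent.Lib.Helper19.AlgSpCM1.isField_stalk_spec_field (Y.residueField (f x)) _

end Groth.Agent.Lib.Helper15.GorSp
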