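import Groth.Agent.Lib.Helper15.GorSp1
import Groth.Agent.Lib.Helper15.AlgSpFlatAt
import Groth.Agent.Lib.Helper3.AlgSpNoethChart
import Groth.Agent.Lib.Helper3.Rep0418F
import Groth.Agent.Lib.Helper3.AlgSpLocBase

set_option autoImplicit false
universe u
open CategoryTheory CategoryTheory.Limits AlgebraicGeometry Opposite MorphismProperty

namespace Groth.Agent.Lib.Helper15.GorSp
set_option backward.isDefEq.respectTransparency.types false

open AlgSp Groth.Agent.Lib.Helper3 Groth.Agent.Lib.Helper15.FlatAtSch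
open Groth.Agent.Lib.Helper15.AlgSpFlatAt Groth.Agent.Lib.Helper3.Rep0418

variable {S : Scheme.{u}}

/-- Fibres over field points are locally Noetherian spaces. -/
def FibNoethSp {X Y : Sp S} (f : X ⟶ Y) : Prop :=
  ∀ (k : FieldPt Y) (Xk : Sp S) (a : Xk ⟶ X) (b : Xk ⟶ (yon S).obj k.pt),
    IsPullback a b f k.toHom → IsLocNoethSp Xk

/-- Base change of a chart (etale part only). -/
theorem exists_chart_base_change_etale {X Y : Sp S} (f : X ⟶ Y) {W V' U : Over S}
    (c : (yon S).obj W ⟶ Y) (u : (yon S).obj U ⟶ pullback f c) (h : U ⟶ W)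
    (hue : RepWith @Etale u)
    (hh : (yon S).map h = u ≫ pullback.snd f c) (l : V' ⟶ W) {Q : Sp S} (fstQ : Q ⟶ X)
    (q : Q ⟶ (yon S).obj V') (sqQ : IsPullback fstQ q f ((yon S).map l ≫ c)) :
    ∃ t : (yon S).obj (pullback h l) ⟶ Q, RepWith @Etale t ∧
      t ≫ q = (yon S).map (pullback.snd h l) := by
  have hw : fstQ ≫ f = (q ≫ (yon S).map l) ≫ c := by rw [sqQ.w, Category.assoc]
  let m : Q ⟶ pullback f c := pullback.lift fstQ (q ≫ (yon S).map l) hw
  have hm1 : m ≫ pullback.fst f c = fstQ := pullback.lift_fst _ _ _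
  have hm2 : m ≫ pullback.snd f c = q ≫ (yon S).map l := pullback.lift_snd _ _ _
  have sqM : IsPullback m q (pullback.snd f c) ((yon S).map l) := by
    refine IsPullback.of_right ?_ hm2 (IsPullback.of_hasPullback f c)
    rw [hm1]
    exact sqQ
  have sqT : IsPullback ((yon S).map (pullback.fst h l)) ((yon S).map (pullback.snd h l))
      ((yon S).map h) ((yon S).map l) := (IsPullback.of_hasPullback h l).map (yon S)
  have hw2 : ((yon S).map (pullback.fst h l) ≫ u) ≫ pullback.snd f c =
      (yon S).map (pullback.snd h l) ≫ (yon S).map l := by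
    rw [Category.assoc, ← hh, sqT.w]
  let t : (yon S).obj (pullback h l) ⟶ Q := sqM.lift _ _ hw2
  have ht1 : t ≫ m = (yon S).map (pullback.fst h l) ≫ u := sqM.lift_fst _ _ _
  have ht2 : t ≫ q = (yon S).map (pullback.snd h l) := sqM.lift_snd _ _ _
  have sqU : IsPullback ((yon S).map (pullback.fst h l)) t u m := by
    refine IsPullback.of_bot ?_ ht1.symm sqM
    rw [ht2, ← hh]
    exact sqT
  exact ⟨t, MorphismProperty.of_isPullback sqU hue, ht2⟩

/-- The induced map from a chart to the fibre product is etale. -/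
theorem repWith_etale_lift {X Y : Sp S} (f : X ⟶ Y) {U V : Over S} (a : (yon S).obj U ⟶ X)
    (b : (yon S).obj V ⟶ Y) (h : U ⟶ V) (ha : RepWith @Etale a) (hb : RepWith @Etale b)
    (w : a ≫ f = (yon S).map h ≫ b) : RepWith @Etale (pullback.lift a ((yon S).map h) w) := by
  have sq := IsPullback.of_hasPullback f b
  have hprd : RepWith @IsOpenImmersion (pullback.diagonal (pullback.fst f b)) :=
    repWith_diagonal_of_isPullback @IsOpenImmersion sq.flip
      (repWith_diagonal_of_repWith etale_diagonal_openImm b hb)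
  refine repWith_of_comp_of_diagonal isOpenImmersion_le_etale _ (pullback.fst f b) hprd ?_
  rw [pullback.lift_fst]
  exact ha

/-- (FN) The scheme fibres of the top arrow of a chart diagram are locally Noetherian. -/
theorem isLocallyNoetherian_fiber_of_chart {X Y : Sp S} (f : X ⟶ Y) (hf : FibNoethSp f)
    {U V : Over S} (a : (yon S).obj U ⟶ X) (b : (yon S).obj V ⟶ Y) (h : U ⟶ V)
    (ha : RepWith @Etale a) (hb : RepWith @Etale b) (w : a ≫ f = (yon S).map h ≫ b)
    (y : ↥V.left) : IsLocallyNoetherian (h.left.fiber y) := by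
  let ιy : Over.mk (V.left.fromSpecResidueField y ≫ V.hom) ⟶ V :=
    Over.homMk (V.left.fromSpecResidueField y) rfl
  have hue := repWith_etale_lift f a b h ha hb w
  have sqQ := IsPullback.of_hasPullback f ((yon S).map ιy ≫ b)
  obtain ⟨t, hte, -⟩ := exists_chart_base_change_etale f b _ h hue
    (pullback.lift_snd _ _ _).symm ιy _ _ sqQ
  have hQ : IsLocNoethSp (pullback f ((yon S).map ιy ≫ b)) := by
    refine hf (FieldPt.ofPt b y) _ (pullback.fst _ _) (pullback.snd _ _) ?_
    rw [FieldPt.toHom_ofPt]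
    exact sqQ
  have hN : IsLocallyNoetherian (pullback h ιy).left := isLocallyNoetherian_of_isLocNoethSp hQ t hte
  have sq3 : IsPullback (pullback.fst h ιy).left (pullback.snd h ιy).left h.left ιy.left :=
    (IsPullback.of_hasPullback h ιy).map (Over.forget S)
  have hι : ιy.left = V.left.fromSpecResidueField y := rfl
  rw [hι] at sq3
  exact isLocallyNoetherian_of_isOpenImmersion (sq3.isoPullback).inv

end Groth.Agent.Lib.Helper15.GorSp
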