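import Groth.Agent.Lib.Helper15.GorSp2

set_option autoImplicit false
universe u
open CategoryTheory CategoryTheory.Limits AlgebraicGeometry Opposite MorphismProperty

namespace Groth.Agent.Lib.Helper15.GorSp
set_option backward.isDefEq.respectTransparency.types false

open AlgSp Groth.Agent.Lib.Helper3 Groth.Agent.Lib.Helper15.FlatAtSch
open Groth.Agent.Lib.Helper15.AlgSpFlatAt Groth.Agent.Lib.Helper3.Rep0418

variable {S : Scheme.{u}}

/-- fibres locally Noetherian (schemes) -/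
abbrev FibN {X Y : Scheme.{u}} (f : X ⟶ Y) : Prop := ∀ y, IsLocallyNoetherian (f.fiber y)

theorem fibN_of_etale {X Y : Scheme.{u}} (f : X ⟶ Y) [Etale f] : FibN f :=
  fun y => isLocallyNoetherian_fiber_of_lft f y

theorem gor_comp {X Y Z : Scheme.{u}} (f : X ⟶ Y) (g : Y ⟶ Z) (x : X) (h1 : FibN f) (h2 : FibN g)
    (h3 : FibN (f ≫ g)) (hf : Dual3.IsGorensteinAt f x) (hg : Dual3.IsGorensteinAt g (f x)) :
    Dual3.IsGorensteinAt (f ≫ g) x :=
  (Groth.Agent.S3627.result X Y Z f g h1 h2 h3 x).1 hf hg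

theorem gor_of_comp {X Y Z : Scheme.{u}} (f : X ⟶ Y) (g : Y ⟶ Z) (x : X) (h1 : FibN f)
    (h2 : FibN g) (h3 : FibN (f ≫ g)) (h : Dual3.IsGorensteinAt (f ≫ g) x) (hfl : FlatAt f x) :
    Dual3.IsGorensteinAt f x ∧ Dual3.IsGorensteinAt g (f x) :=
  (Groth.Agent.S3627.result X Y Z f g h1 h2 h3 x).2 h hfl

theorem gor_congr {X Y : Scheme.{u}} {f g : X ⟶ Y} (e : f = g) (x : X)
    (h : Dual3.IsGorensteinAt f x) : Dual3.IsGorensteinAt g x := by
  subst e; exact h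

theorem gor_congr_pt {X Y : Scheme.{u}} (f : X ⟶ Y) {x x' : X} (e : x = x')
    (h : Dual3.IsGorensteinAt f x) : Dual3.IsGorensteinAt f x' := by
  subst e; exact h

/-- One chart diagram suffices for being Gorenstein at a point. -/
theorem locPAt_gor_of_chart {X Y : Sp S} (f : X ⟶ Y) (hf : FibNoethSp f) {U V : Over S}
    (a : (yon S).obj U ⟶ X) (b : (yon S).obj V ⟶ Y) (k : U ⟶ V) (u : ↥U.left)
    (ha : RepWith @Etale a) (hb : RepWith @Etale b) (w : a ≫ f = (yon S).map k ≫ b)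
    (hk : Dual3.IsGorensteinAt k.left u) :
    LocPAt (fun h u => Dual3.IsGorensteinAt h u) f (Points.ofPt a u) := by
  intro U₂ V₂ a₂ b₂ k₂ u₂ ha₂ hb₂ w₂ hu₂
  obtain ⟨U₁₂, p₁, p₂, sqU⟩ := exists_pullback_charts a ha.1 a₂
  have hp₂ : Etale p₂.left := ha.2 a₂ ((yon S).map p₁) p₂ sqU
  have hp₁ : Etale p₁.left := ha₂.2 a ((yon S).map p₂) p₁ sqU.flip
  obtain ⟨v, hv1, hv2⟩ := exists_of_isPullback_chart sqU (Points.ofScheme U u) u₂
    (by rw [← Points.ofPt_eq_map_ofScheme, hu₂])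
  have hv1' : p₁.left v = u := by
    have e1 : Points.ofScheme U (p₁.left v) = Points.ofScheme U u := by
      rw [← hv1]
      show Points.ofPt (𝟙 _) (p₁.left v) = _
      rw [← Points.ofPt_yon_map_comp, Category.comp_id]
    have := congrArg (Points.toScheme U) e1
    rwa [Points.toScheme_ofScheme, Points.toScheme_ofScheme] at this
  obtain ⟨V₁₂, q₁, q₂, sqV⟩ := exists_pullback_charts b hb.1 b₂
  have hq₂ : Etale q₂.left := hb.2 b₂ ((yon S).map q₁) q₂ sqV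
  have hq₁ : Etale q₁.left := hb₂.2 b ((yon S).map q₂) q₁ sqV.flip
  have hcomm : (yon S).map (p₁ ≫ k) ≫ b = (yon S).map (p₂ ≫ k₂) ≫ b₂ := by
    rw [Functor.map_comp, Functor.map_comp, Category.assoc, Category.assoc, ← w, ← w₂,
      ← Category.assoc, ← Category.assoc, sqU.w]
  obtain ⟨k₁₂, hk₁₂⟩ := (yon S).map_surjective (sqV.lift _ _ hcomm)
  have hk1 : k₁₂ ≫ q₁ = p₁ ≫ k :=
    (yon S).map_injective (by rw [Functor.map_comp, hk₁₂, sqV.lift_fst])
  have hk2 : k₁₂ ≫ q₂ = p₂ ≫ k₂ :=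
    (yon S).map_injective (by rw [Functor.map_comp, hk₁₂, sqV.lift_snd])
  have hk1' : k₁₂.left ≫ q₁.left = p₁.left ≫ k.left := congrArg CommaMorphism.left hk1
  have hk2' : k₁₂.left ≫ q₂.left = p₂.left ≫ k₂.left := congrArg CommaMorphism.left hk2
  -- etale charts
  have hp₁a : RepWith @Etale ((yon S).map p₁ ≫ a) :=
    MorphismProperty.comp_mem _ _ _ ((repWith_yon_map_iff _ _).2 hp₁) ha
  have hp₂a : RepWith @Etale ((yon S).map p₂ ≫ a₂) :=
    MorphismProperty.comp_mem _ _ _ ((repWith_yon_map_iff _ _).2 hp₂) ha₂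
  have hq₁b : RepWith @Etale ((yon S).map q₁ ≫ b) :=
    MorphismProperty.comp_mem _ _ _ ((repWith_yon_map_iff _ _).2 hq₁) hb
  -- Noetherian fibres
  have Nk : FibN k.left := isLocallyNoetherian_fiber_of_chart f hf a b k ha hb w
  have Nk₂ : FibN k₂.left := isLocallyNoetherian_fiber_of_chart f hf a₂ b₂ k₂ ha₂ hb₂ w₂
  have Np₁k : FibN (p₁.left ≫ k.left) :=
    isLocallyNoetherian_fiber_of_chart f hf ((yon S).map p₁ ≫ a) b (p₁ ≫ k) hp₁a hb
      (by rw [Category.assoc, w, Functor.map_comp, Category.assoc])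
  have Np₂k₂ : FibN (p₂.left ≫ k₂.left) :=
    isLocallyNoetherian_fiber_of_chart f hf ((yon S).map p₂ ≫ a₂) b₂ (p₂ ≫ k₂) hp₂a hb₂
      (by rw [Category.assoc, w₂, Functor.map_comp, Category.assoc])
  have Nk₁₂ : FibN k₁₂.left :=
    isLocallyNoetherian_fiber_of_chart f hf ((yon S).map p₁ ≫ a) ((yon S).map q₁ ≫ b) k₁₂ hp₁a hq₁b
      (by rw [Category.assoc, w, ← Category.assoc, ← Functor.map_comp, ← hk1, Functor.map_comp,
        Category.assoc])
  have Nkq₁ : FibN (k₁₂.left ≫ q₁.left) := by rw [hk1']; exact Np₁k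
  have Nkq₂ : FibN (k₁₂.left ≫ q₂.left) := by rw [hk2']; exact Np₂k₂
  have s1 : Dual3.IsGorensteinAt (p₁.left ≫ k.left) v :=
    gor_comp p₁.left k.left v (fibN_of_etale _) Nk Np₁k (isGorensteinAt_of_etale p₁.left v)
      (gor_congr_pt _ hv1'.symm hk)
  have s1' : Dual3.IsGorensteinAt (k₁₂.left ≫ q₁.left) v := gor_congr hk1'.symm v s1
  have s2 : Dual3.IsGorensteinAt k₁₂.left v :=
    (gor_of_comp k₁₂.left q₁.left v Nk₁₂ (fibN_of_etale _) Nkq₁ s1'
      (flatAt_of_comp_etale k₁₂.left q₁.left v s1'.1)).1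
  have s3 : Dual3.IsGorensteinAt (k₁₂.left ≫ q₂.left) v :=
    gor_comp k₁₂.left q₂.left v Nk₁₂ (fibN_of_etale _) Nkq₂ s2 (isGorensteinAt_of_etale q₂.left _)
  have s4 : Dual3.IsGorensteinAt k₂.left (p₂.left v) :=
    (gor_of_comp p₂.left k₂.left v (fibN_of_etale _) Nk₂ Np₂k₂ (gor_congr hk2' v s3)
      (flatAt_of_flat p₂.left v)).2
  exact gor_congr_pt _ hv2 s4

end Groth.Agent.Lib.Helper15.GorSp
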