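import Groth.Agent.Lib.Helper15.GorSp3
import Groth.Agent.Lib.Helper3.AlgSpHasAtMor

set_option autoImplicit false
universe u
open CategoryTheory CategoryTheory.Limits AlgebraicGeometry Opposite MorphismProperty

namespace Groth.Agent.Lib.Helper15.GorSp
set_option backward.isDefEq.respectTransparency.types false

open AlgSp Groth.Agent.Lib.Helper3 Groth.Agent.Lib.Helper15.FlatAtSch
open Groth.Agent.Lib.Helper15.AlgSpFlatAt Groth.Agent.Lib.Helper3.Rep0418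

variable {S : Scheme.{u}}

theorem gor_comp_sp {X Y Z : Sp S} (hX : IsAlgSpace X) (hY : IsAlgSpace Y) (hZ : IsAlgSpace Z)
    (f : X ⟶ Y) (g : Y ⟶ Z) (hf : FibNoethSp f) (hg : FibNoethSp g) (hfg : FibNoethSp (f ≫ g))
    (x : Points X) :
    (LocPAt (fun h u => Dual3.IsGorensteinAt h u) f x →
        LocPAt (fun h u => Dual3.IsGorensteinAt h u) g (Points.map f x) →
        LocPAt (fun h u => Dual3.IsGorensteinAt h u) (f ≫ g) x) ∧
      (LocPAt (fun h u => Dual3.IsGorensteinAt h u) (f ≫ g) x → IsFlatAtMor f x →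
        LocPAt (fun h u => Dual3.IsGorensteinAt h u) f x ∧
          LocPAt (fun h u => Dual3.IsGorensteinAt h u) g (Points.map f x)) := by
  obtain ⟨W, c₀, hc₀e, hc₀s⟩ := hZ.atlas
  obtain ⟨V, v, kVW, -, -, hb₀e, hb₀s, -, hwVW⟩ := exists_chart_over hY hZ g c₀ hc₀e
  generalize v ≫ pullback.fst g c₀ = b₀ at hb₀e hb₀s hwVW
  obtain ⟨U, u, kUV, -, -, ha₀e, ha₀s, -, hwUV⟩ := exists_chart_over hX hY f b₀ hb₀e
  generalize u ≫ pullback.fst f b₀ = a₀ at ha₀e ha₀s hwUV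
  obtain ⟨u₀, hu₀⟩ := exists_ofPt_eq a₀ (ha₀s (hb₀s hc₀s)) x
  have hw3 : a₀ ≫ f ≫ g = (yon S).map (kUV ≫ kVW) ≫ c₀ := by
    rw [← Category.assoc, hwUV, Category.assoc, hwVW, Functor.map_comp, Category.assoc]
  have hpt : Points.ofPt b₀ (kUV.left u₀) = Points.map f x := by
    rw [← hu₀, Points.map_ofPt, hwUV, Points.ofPt_yon_map_comp]
  have N1 : FibN kUV.left := isLocallyNoetherian_fiber_of_chart f hf a₀ b₀ kUV ha₀e hb₀e hwUV
  have N2 : FibN kVW.left := isLocallyNoetherian_fiber_of_chart g hg b₀ c₀ kVW hb₀e hc₀e hwVW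
  have N3 : FibN (kUV.left ≫ kVW.left) :=
    isLocallyNoetherian_fiber_of_chart (f ≫ g) hfg a₀ c₀ (kUV ≫ kVW) ha₀e hc₀e hw3
  constructor
  · intro h1 h2
    have g1 : Dual3.IsGorensteinAt kUV.left u₀ := h1 a₀ b₀ kUV u₀ ha₀e hb₀e hwUV hu₀
    have g2 : Dual3.IsGorensteinAt kVW.left (kUV.left u₀) :=
      h2 b₀ c₀ kVW (kUV.left u₀) hb₀e hc₀e hwVW hpt
    have g3 := gor_comp kUV.left kVW.left u₀ N1 N2 N3 g1 g2
    rw [← hu₀]
    exact locPAt_gor_of_chart (f ≫ g) hfg a₀ c₀ (kUV ≫ kVW) u₀ ha₀e hc₀e hw3 g3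
  · intro h3 hfl
    have g3 : Dual3.IsGorensteinAt (kUV.left ≫ kVW.left) u₀ :=
      h3 a₀ c₀ (kUV ≫ kVW) u₀ ha₀e hc₀e hw3 hu₀
    have fl : FlatAt kUV.left u₀ := hfl a₀ b₀ kUV u₀ ha₀e hb₀e hwUV hu₀
    obtain ⟨g1, g2⟩ := gor_of_comp kUV.left kVW.left u₀ N1 N2 N3 g3 fl
    refine ⟨?_, ?_⟩
    · rw [← hu₀]
      exact locPAt_gor_of_chart f hf a₀ b₀ kUV u₀ ha₀e hb₀e hwUV g1
    · rw [← hpt]
      exact locPAt_gor_of_chart g hg b₀ c₀ kVW (kUV.left u₀) hb₀e hc₀e hwVW g2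

end Groth.Agent.Lib.Helper15.GorSp
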