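import Groth.Agent.Lib.Helper15.GorSp4

set_option autoImplicit false
universe u
open CategoryTheory CategoryTheory.Limits AlgebraicGeometry Opposite MorphismProperty

namespace Groth.Agent.Lib.Helper15.GorSp
set_option backward.isDefEq.respectTransparency.types false

open AlgSp Groth.Agent.Lib.Helper3 Groth.Agent.Lib.Helper15.FlatAtSch
open Groth.Agent.Lib.Helper15.AlgSpFlatAt Groth.Agent.Lib.Helper3.Rep0418

variable {S : Scheme.{u}}

theorem FibNoethSp.baseChange {X Y X' Y' : Sp S} {f : X ⟶ Y} {g : Y' ⟶ Y} {pX : X' ⟶ X}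
    {f' : X' ⟶ Y'} (sq : IsPullback pX f' f g) (hf : FibNoethSp f) : FibNoethSp f' := by
  intro k' Xk a' b' sq1
  refine hf (k'.map g) Xk (a' ≫ pX) b' ?_
  rw [FieldPt.toHom_map]
  exact sq1.paste_horiz sq

/-- Chart diagrams of `f` and of its base change `f'`, the latter being the base change (as
schemes) of the former, through a given point. -/
theorem exists_baseChange_chart1 {X Y X' Y' : Sp S} (hX : IsAlgSpace X) (hY : IsAlgSpace Y)
    (hY' : IsAlgSpace Y') (f : X ⟶ Y) (g : Y' ⟶ Y) (pX : X' ⟶ X) (f' : X' ⟶ Y')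
    (sqX : IsPullback pX f' f g) (x' : Points X') :
    ∃ (U V U'' V'' : Over S) (a₀ : (yon S).obj U ⟶ X) (b₀ : (yon S).obj V ⟶ Y) (kUV : U ⟶ V)
      (a'' : (yon S).obj U'' ⟶ X') (b'' : (yon S).obj V'' ⟶ Y') (kUV'' : U'' ⟶ V'')
      (mU : U'' ⟶ U) (mV : V'' ⟶ V) (w₀ : ↥U''.left),
      RepWith @Etale a₀ ∧ RepWith @Etale b₀ ∧ RepWith @Etale a'' ∧ RepWith @Etale b'' ∧
      a₀ ≫ f = (yon S).map kUV ≫ b₀ ∧ a'' ≫ f' = (yon S).map kUV'' ≫ b'' ∧
      IsPullback mU.left kUV''.left kUV.left mV.left ∧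
      a'' ≫ pX = (yon S).map mU ≫ a₀ ∧ b'' ≫ g = (yon S).map mV ≫ b₀ ∧
      Points.ofPt a'' w₀ = x' := by
  obtain ⟨V, b₀, hb₀e, hb₀s⟩ := hY.atlas
  have sqY := IsPullback.of_hasPullback g b₀
  have hPY : IsAlgSpace (pullback g b₀) :=
    isAlgSpace_of_isPullback' hY hY' (IsAlgSpace.yon_obj V) sqY
  obtain ⟨V'', vV, hvVe, hvVs⟩ := hPY.atlas
  obtain ⟨mV, hmV⟩ := (yon S).map_surjective (vV ≫ pullback.snd g b₀)
  have hb''e : RepWith @Etale (vV ≫ pullback.fst g b₀) :=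
    MorphismProperty.comp_mem _ _ _ hvVe (MorphismProperty.of_isPullback sqY.flip hb₀e)
  obtain ⟨U, u, kUV, -, -, ha₀e, ha₀s, -, hwUV⟩ := exists_chart_over hX hY f b₀ hb₀e
  generalize u ≫ pullback.fst f b₀ = a₀ at ha₀e ha₀s hwUV
  obtain ⟨uU, huUe, huUs, huU2, huU3⟩ :=
    chart_step f g pX f' sqX a₀ b₀ kUV hwUV vV hvVe mV hmV
  have sqPX := IsPullback.of_hasPullback pX a₀
  have ha''e : RepWith @Etale (uU ≫ pullback.fst pX a₀) :=
    MorphismProperty.comp_mem _ _ _ huUe (MorphismProperty.of_isPullback sqPX.flip ha₀e)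
  obtain ⟨u₀, hu₀⟩ := exists_ofPt_eq a₀ (ha₀s hb₀s) (Points.map pX x')
  have hxy : Points.map pX x' = Points.map a₀ (Points.ofScheme U u₀) := by
    rw [← Points.ofPt_eq_map_ofScheme, hu₀]
  obtain ⟨z, hz1, -⟩ := Points.exists_of_isPullback sqPX x' (Points.ofScheme U u₀) hxy
  obtain ⟨w₀, hw₀⟩ := exists_ofPt_eq uU (huUs hvVs) z
  refine ⟨U, V, pullback kUV mV, V'', a₀, b₀, kUV, uU ≫ pullback.fst pX a₀,
    vV ≫ pullback.fst g b₀, pullback.snd kUV mV, pullback.fst kUV mV, mV, w₀,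
    ha₀e, hb₀e, ha''e, hb''e, hwUV, huU3,
    (IsPullback.of_hasPullback kUV mV).map (Over.forget S), ?_, ?_, ?_⟩
  · rw [Category.assoc, sqPX.w, ← Category.assoc, huU2]
  · rw [Category.assoc, sqY.w, ← Category.assoc, hmV]
  · rw [← Points.map_ofPt, hw₀, hz1]

theorem gor_baseChange_sp {X Y X' Y' : Sp S} (hX : IsAlgSpace X) (hY : IsAlgSpace Y)
    (hY' : IsAlgSpace Y') (f : X ⟶ Y) (g : Y' ⟶ Y) (pX : X' ⟶ X) (f' : X' ⟶ Y')
    (sqX : IsPullback pX f' f g) (hf : FibNoethSp f) (hg : LocP @LocallyOfFiniteType g)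
    (x' : Points X') :
    (LocPAt (fun h u => Dual3.IsGorensteinAt h u) f (Points.map pX x') →
        LocPAt (fun h u => Dual3.IsGorensteinAt h u) f' x') ∧
      (IsFlatAtMor f (Points.map pX x') → LocPAt (fun h u => Dual3.IsGorensteinAt h u) f' x' →
        LocPAt (fun h u => Dual3.IsGorensteinAt h u) f (Points.map pX x')) ∧
      (IsFlatAtMor g (Points.map f' x') → LocPAt (fun h u => Dual3.IsGorensteinAt h u) f' x' →
        LocPAt (fun h u => Dual3.IsGorensteinAt h u) f (Points.map pX x')) := by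
  obtain ⟨U, V, U'', V'', a₀, b₀, kUV, a'', b'', kUV'', mU, mV, w₀, ha₀e, hb₀e, ha''e, hb''e,
    hwUV, hwUV'', sqS, hmU, hmV, hw₀⟩ := exists_baseChange_chart1 hX hY hY' f g pX f' sqX x'
  have hf' : FibNoethSp f' := hf.baseChange sqX
  have hlft : LocallyOfFiniteType mV.left := hg b'' b₀ mV hb''e hb₀e hmV
  have N1 : FibN kUV.left := isLocallyNoetherian_fiber_of_chart f hf a₀ b₀ kUV ha₀e hb₀e hwUV
  have hpt : Points.ofPt a₀ (mU.left w₀) = Points.map pX x' := by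
    rw [← Points.ofPt_yon_map_comp, ← hmU, ← Points.map_ofPt, hw₀]
  have hpt' : Points.ofPt b'' (kUV''.left w₀) = Points.map f' x' := by
    rw [← Points.ofPt_yon_map_comp, ← hwUV'', ← Points.map_ofPt, hw₀]
  have key := Groth.Agent.S3625.result U.left V.left U''.left V''.left kUV.left mV.left
    kUV''.left mU.left sqS N1 w₀
  refine ⟨fun h1 => ?_, fun hfl h2 => ?_, fun hfl h2 => ?_⟩
  · have g1 : Dual3.IsGorensteinAt kUV.left (mU.left w₀) :=
      h1 a₀ b₀ kUV (mU.left w₀) ha₀e hb₀e hwUV hpt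
    rw [← hw₀]
    exact locPAt_gor_of_chart f' hf' a'' b'' kUV'' w₀ ha''e hb''e hwUV'' (key.1 g1)
  · have g2 : Dual3.IsGorensteinAt kUV''.left w₀ := h2 a'' b'' kUV'' w₀ ha''e hb''e hwUV'' hw₀
    have fl : FlatAt kUV.left (mU.left w₀) := hfl a₀ b₀ kUV (mU.left w₀) ha₀e hb₀e hwUV hpt
    rw [← hpt]
    exact locPAt_gor_of_chart f hf a₀ b₀ kUV _ ha₀e hb₀e hwUV (key.2.1 fl g2)
  · have g2 : Dual3.IsGorensteinAt kUV''.left w₀ := h2 a'' b'' kUV'' w₀ ha''e hb''e hwUV'' hw₀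
    have fl : FlatAt mV.left (kUV''.left w₀) :=
      hfl b'' b₀ mV (kUV''.left w₀) hb''e hb₀e hmV hpt'
    rw [← hpt]
    exact locPAt_gor_of_chart f hf a₀ b₀ kUV _ ha₀e hb₀e hwUV (key.2.2 fl g2)

end Groth.Agent.Lib.Helper15.GorSp
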