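import Groth.Agent.Lib.Helper15.GorSp5
import Groth.Agent.S3624
import Groth.Agent.Lib.Helper12.HensFibre
import Groth.Agent.Lib.Helper12.StrictStruct5
import Groth.Agent.Lib.Helper12.StrictTensorF
import Groth.Agent.Lib.Helper3.NoethDescent

set_option autoImplicit false
universe u
open CategoryTheory CategoryTheory.Limits AlgebraicGeometry Opposite MorphismProperty

namespace Groth.Agent.Lib.Helper15.GorSp
set_option backward.isDefEq.respectTransparency.types false

open AlgSp Groth.Agent.Lib.Helper3 Groth.Agent.Lib.Helper15.FlatAtSch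
open Groth.Agent.Lib.Helper15.AlgSpFlatAt Groth.Agent.Lib.Helper3.Rep0418 IsLocalRing

variable {S : Scheme.{u}}

/-- every etale chart of a Gorenstein sheaf is a Gorenstein scheme. -/
theorem isGorenstein_chart {Z : Sp S} (hr : EtaleLocally Dual3.IsGorenstein Z) {V : Over S}
    (b : (yon S).obj V ⟶ Z) (hb : RepWith @Etale b) : Dual3.IsGorenstein V.left := by
  obtain ⟨U, a, hae, has, hU1, hU2⟩ := hr
  obtain ⟨W, pE, pU, sq⟩ := exists_pullback_charts b hb.1 a
  have hpU : Etale pU.left := hb.2 a ((yon S).map pE) pU sq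
  have hpE : Etale pE.left := hae.2 b ((yon S).map pU) pE sq.flip
  have hpEs : Surjective pE.left := has.2 b ((yon S).map pU) pE sq.flip
  haveI : IsLocallyNoetherian U.left := hU1
  haveI : IsLocallyNoetherian W.left := LocallyOfFiniteType.isLocallyNoetherian pU.left
  haveI : IsLocallyNoetherian V.left := isLocallyNoetherian_of_flat_lfp_surjective pE.left
  refine ⟨inferInstance, fun v => ?_⟩
  obtain ⟨w, rfl⟩ := pE.left.surjective v
  rw [← (Groth.Agent.Lib.Helper19.AlgSpCM1.stalk_iff_of_etale pE.left w).2,
    (Groth.Agent.Lib.Helper19.AlgSpCM1.stalk_iff_of_etale pU.left w).2]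
  exact hU2 _

/-- The strict henselization of a Gorenstein local ring is Gorenstein. -/
theorem isGor_of_isStrictHenselization (A R : Type u) [CommRing A] [IsLocalRing A]
    [IsNoetherianRing A] [CommRing R] [IsLocalRing R] [Algebra A R]
    [IsLocalHom (algebraMap A R)] [Hensel.IsStrictHenselization A R]
    (hA : LocCoh.IsGorensteinLocalRing A) : LocCoh.IsGorensteinLocalRing R := by
  haveI : IsNoetherianRing R :=
    Groth.Agent.Lib.Helper12.HensFibre.isNoetherianRing_of_isStrictHenselization A R
  haveI : Module.Flat A R := Groth.Agent.Lib.Helper12.StrictStruct.flat_of_isStrictHenselization A R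
  obtain ⟨n, hn⟩ := Groth.Agent.Lib.Helper21.DepthKit.exists_nat_supportDim (A := A) (M := A)
  rw [Module.supportDim_self_eq_ringKrullDim] at hn
  rw [Groth.Agent.Lib.Helper5.GorFlat.gorenstein_iff_fibre n A R hA hn]
  have hF : IsField (R ⧸ (maximalIdeal A).map (algebraMap A R)) := by
    rw [Groth.Agent.Lib.Helper12.StrictTensor.map_maximalIdeal_eq A R]
    exact (Ideal.Quotient.maximal_ideal_iff_isField_quotient _).1 (maximalIdeal.isMaximal R)
  exact Groth.Agent.Lib.Helper19.AlgSpCM1.isGor_of_isField _ hF

theorem gor_of_flat_gorenstein_sp {X Y : Sp S} (hX : IsAlgSpace X) (hY : IsAlgSpace Y)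
    (f : X ⟶ Y) (hf : LocP @Flat f) (hX1 : IsLocNoethSp X) (hY1 : IsLocNoethSp Y)
    (hX2 : EtaleLocally Dual3.IsGorenstein X) :
    (∀ x : Points X, LocPAt (fun h u => Dual3.IsGorensteinAt h u) f x) ∧
      ∀ (x : Points X) (V : Over S) (b : (yon S).obj V ⟶ Y), RepWith @Etale b →
        ∀ (v : ↥V.left), Points.ofPt b v = Points.map f x →
          ∀ (R : Type u) [CommRing R] [IsLocalRing R] [Algebra ↥(V.left.presheaf.stalk v) R]
            [IsLocalHom (algebraMap ↥(V.left.presheaf.stalk v) R)]
            [Hensel.IsStrictHenselization ↥(V.left.presheaf.stalk v) R],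
            LocCoh.IsGorensteinLocalRing R := by
  have key : ∀ {U V : Over S} (a : (yon S).obj U ⟶ X) (b : (yon S).obj V ⟶ Y) (h : U ⟶ V),
      RepWith @Etale a → RepWith @Etale b → a ≫ f = (yon S).map h ≫ b →
      Dual3.IsGorensteinMor h.left ∧
        ∀ u : ↥U.left, LocCoh.IsGorensteinLocalRing (V.left.presheaf.stalk (h.left u)) := by
    intro U V a b h ha hb w
    haveI : IsLocallyNoetherian V.left := isLocallyNoetherian_of_isLocNoethSp hY1 b hb
    haveI : Flat h.left := hf a b h ha hb w
    exact Groth.Agent.S3624.result U.left V.left h.left (isGorenstein_chart hX2 a ha)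
  refine ⟨fun x U V a b h u ha hb w _ => (key a b h ha hb w).1 u, ?_⟩
  intro x V b hb v hv R _ _ _ _ _
  haveI : IsLocallyNoetherian V.left := isLocallyNoetherian_of_isLocNoethSp hY1 b hb
  -- a chart of `X` over `V` through `x` and `v`
  obtain ⟨U, u₀, h, hue, hus, hae, -, hh, hcomm⟩ := exists_chart_over hX hY f b hb
  have sq := IsPullback.of_hasPullback f b
  have hxy : Points.map f x = Points.map b (Points.ofScheme V v) := by
    rw [← Points.ofPt_eq_map_ofScheme, hv]
  obtain ⟨z, -, hz2⟩ := Points.exists_of_isPullback sq x (Points.ofScheme V v) hxy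
  obtain ⟨u, hu⟩ := exists_ofPt_eq u₀ hus z
  have hhu : h.left u = v := by
    have e1 : Points.ofScheme V (h.left u) = Points.ofScheme V v := by
      rw [← hz2, ← hu, Points.map_ofPt, ← hh]
      show Points.ofPt (𝟙 _) (h.left u) = _
      rw [← Points.ofPt_yon_map_comp, Category.comp_id]
    have := congrArg (Points.toScheme V) e1
    rwa [Points.toScheme_ofScheme, Points.toScheme_ofScheme] at this
  have hG : LocCoh.IsGorensteinLocalRing (V.left.presheaf.stalk v) := by
    have := (key _ b h hae hb hcomm).2 u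
    rwa [hhu] at this
  exact isGor_of_isStrictHenselization (V.left.presheaf.stalk v) R hG

end Groth.Agent.Lib.Helper15.GorSp
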