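import Groth.Agent.Lib.Helper15.GorSp6
import Groth.Agent.Lib.Helper12.WEtStrict
import Groth.Agent.Lib.Helper12.StrictQuotient
import Groth.Agent.Lib.Helper7.FibreStalkIso

set_option autoImplicit false
universe u
open CategoryTheory CategoryTheory.Limits AlgebraicGeometry Opposite MorphismProperty

namespace Groth.Agent.Lib.Helper15.GorSp
set_option backward.isDefEq.respectTransparency.types false

open AlgSp Groth.Agent.Lib.Helper3 Groth.Agent.Lib.Helper15.FlatAtSch
open Groth.Agent.Lib.Helper15.AlgSpFlatAt Groth.Agent.Lib.Helper3.Rep0418 IsLocalRing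
open Groth.Agent.Lib.Helper12

variable {S : Scheme.{u}}

section Ring

variable {A' A R' R : Type u} [CommRing A'] [IsLocalRing A'] [CommRing A] [IsLocalRing A]
  [CommRing R'] [IsLocalRing R'] [CommRing R] [IsLocalRing R]
  [Algebra A' R'] [IsLocalHom (algebraMap A' R')] [Hensel.IsStrictHenselization A' R']
  [Algebra A R] [IsLocalHom (algebraMap A R)] [Hensel.IsStrictHenselization A R]
  (ψ : A' →+* A) [IsLocalHom ψ] (φ : R' →+* R) [IsLocalHom φ]
  (hφ : φ.comp (algebraMap A' R') = (algebraMap A R).comp ψ)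

include hφ

theorem flat_strict_iff : ψ.Flat ↔ φ.Flat := by
  have hAR : (algebraMap A R).Flat :=
    (RingHom.flat_algebraMap_iff).2 (StrictStruct.flat_of_isStrictHenselization A R)
  have hAR' : (algebraMap A' R').Flat :=
    (RingHom.flat_algebraMap_iff).2 (StrictStruct.flat_of_isStrictHenselization A' R')
  constructor
  · intro hψ
    have hθ : ((algebraMap A R).comp ψ).Flat := RingHom.Flat.comp hψ hAR
    letI : Algebra R' R := φ.toAlgebra
    letI : Algebra A' R := ((algebraMap A R).comp ψ).toAlgebra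
    haveI : IsScalarTower A' R' R := IsScalarTower.of_algebraMap_eq' (by
      rw [RingHom.algebraMap_toAlgebra, RingHom.algebraMap_toAlgebra, hφ])
    have hM : Module.Flat A' R := hθ
    exact WEtFlat.flat_of_isStrictHenselization A' R' R hM
  · intro hφf
    have h1 : (φ.comp (algebraMap A' R')).Flat := RingHom.Flat.comp hAR' hφf
    rw [hφ] at h1
    exact Groth.Agent.Lib.Helper15.AlgSpDeform.ringHom_flat_of_comp ψ (algebraMap A R) hAR h1

theorem gor_quot_strict_iff (hN : IsNoetherianRing (A ⧸ (maximalIdeal A').map ψ)) :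
    LocCoh.IsGorensteinLocalRing (A ⧸ (maximalIdeal A').map ψ) ↔
      LocCoh.IsGorensteinLocalRing (R ⧸ (maximalIdeal R').map φ) := by
  have hI : (maximalIdeal R').map φ = ((maximalIdeal A').map ψ).map (algebraMap A R) := by
    rw [← StrictTensor.map_maximalIdeal_eq A' R', Ideal.map_map, Ideal.map_map, hφ]
  rw [hI]
  have hle : (maximalIdeal A').map ψ ≤ maximalIdeal A :=
    ((local_hom_TFAE ψ).out 0 2).1 ‹_›
  have hIne : (maximalIdeal A').map ψ ≠ ⊤ :=
    ne_top_of_le_ne_top (maximalIdeal.isMaximal A).ne_top hle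
  obtain ⟨hl1, hl2, hl3, hsh⟩ :=
    StrictQuotient.isStrictHenselization_quotient A R ((maximalIdeal A').map ψ) hIne
  constructor
  · intro h
    exact isGor_of_isStrictHenselization (A ⧸ (maximalIdeal A').map ψ)
      (R ⧸ ((maximalIdeal A').map ψ).map (algebraMap A R)) h
  · intro h
    haveI : IsNoetherianRing (R ⧸ ((maximalIdeal A').map ψ).map (algebraMap A R)) :=
      HensFibre.isNoetherianRing_of_isStrictHenselization (A ⧸ (maximalIdeal A').map ψ) _
    haveI : Module.Flat (A ⧸ (maximalIdeal A').map ψ)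
        (R ⧸ ((maximalIdeal A').map ψ).map (algebraMap A R)) :=
      StrictStruct.flat_of_isStrictHenselization _ _
    exact Groth.Agent.Lib.Helper5.GorFlat.isGorensteinLocalRing_of_flat
      (A ⧸ (maximalIdeal A').map ψ) (R ⧸ ((maximalIdeal A').map ψ).map (algebraMap A R)) h

end Ring

theorem gorAt_iff_strict_sp {X Y : Sp S} (f : X ⟶ Y) (hf : FibNoethSp f) (x : Points X)
    {U V : Over S} (a : (yon S).obj U ⟶ X) (b : (yon S).obj V ⟶ Y) (h : U ⟶ V)
    (ha : RepWith @Etale a) (hb : RepWith @Etale b) (hc : a ≫ f = (yon S).map h ≫ b)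
    (u : ↥U.left) (hu : Points.ofPt a u = x)
    (R : Type u) [CommRing R] [IsLocalRing R] [Algebra ↥(U.left.presheaf.stalk u) R]
    [IsLocalHom (algebraMap ↥(U.left.presheaf.stalk u) R)]
    [Hensel.IsStrictHenselization ↥(U.left.presheaf.stalk u) R]
    (R' : Type u) [CommRing R'] [IsLocalRing R'] [Algebra ↥(V.left.presheaf.stalk (h.left u)) R']
    [IsLocalHom (algebraMap ↥(V.left.presheaf.stalk (h.left u)) R')]
    [Hensel.IsStrictHenselization ↥(V.left.presheaf.stalk (h.left u)) R']
    (φ : R' →+* R) [IsLocalHom φ]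
    (hφ : φ.comp (algebraMap ↥(V.left.presheaf.stalk (h.left u)) R') =
      (algebraMap ↥(U.left.presheaf.stalk u) R).comp (h.left.stalkMap u).hom) :
    LocPAt (fun h u => Dual3.IsGorensteinAt h u) f x ↔
      φ.Flat ∧ LocCoh.IsGorensteinLocalRing (R ⧸ (IsLocalRing.maximalIdeal R').map φ) := by
  haveI : IsLocallyNoetherian (h.left.fiber (h.left u)) :=
    isLocallyNoetherian_fiber_of_chart f hf a b h ha hb hc _
  have hN : IsNoetherianRing (U.left.presheaf.stalk u ⧸
      (maximalIdeal (V.left.presheaf.stalk (h.left u))).map (h.left.stalkMap u).hom) :=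
    Groth.Agent.Lib.Helper5.FibreStalk.isNoetherianRing_quot_of_fiber h.left u
  rw [← flat_strict_iff (h.left.stalkMap u).hom φ hφ,
    ← gor_quot_strict_iff (h.left.stalkMap u).hom φ hφ hN]
  obtain ⟨e⟩ := Groth.Agent.Lib.Helper7.FibreStalkIso.nonempty_ringEquiv h.left u
  constructor
  · intro hG
    have h0 : Dual3.IsGorensteinAt h.left u := hG a b h u ha hb hc hu
    exact ⟨h0.1, Groth.Agent.Lib.Helper5.GorIso.isGorensteinLocalRing_of_ringEquiv e.symm (h := h0.2)⟩
  · rintro ⟨h1, h2⟩
    rw [← hu]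
    exact locPAt_gor_of_chart f hf a b h u ha hb hc
      ⟨h1, Groth.Agent.Lib.Helper5.GorIso.isGorensteinLocalRing_of_ringEquiv e (h := h2)⟩

end Groth.Agent.Lib.Helper15.GorSp
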