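import Groth.Agent.Lib.Helper15.GorSp7

set_option autoImplicit false
universe u
open CategoryTheory CategoryTheory.Limits AlgebraicGeometry Opposite MorphismProperty

namespace Groth.Agent.Lib.Helper15.GorSp
set_option backward.isDefEq.respectTransparency.types false

open AlgSp Groth.Agent.Lib.Helper3 Groth.Agent.Lib.Helper15.FlatAtSch
open Groth.Agent.Lib.Helper15.AlgSpFlatAt Groth.Agent.Lib.Helper3.Rep0418 IsLocalRing
open Groth.Agent.Lib.Helper12

variable {S : Scheme.{u}}

/-- (SG1) If `h` is Gorenstein at all points over `v` then the fibre is a Gorenstein scheme. -/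
theorem isGorenstein_fiber_of_gorAt {U V : Scheme.{u}} (h : U ⟶ V) (v : V)
    [IsLocallyNoetherian (h.fiber v)] (H : ∀ x : U, h x = v → Dual3.IsGorensteinAt h x) :
    Dual3.IsGorenstein (h.fiber v) := by
  refine ⟨inferInstance, fun z => ?_⟩
  obtain ⟨e1⟩ := Groth.Agent.Lib.Helper7.FibreStalkIso.nonempty_ringEquiv_aux h v z
    (h.fiberι v z) rfl
  obtain ⟨e2⟩ := Groth.Agent.Lib.Helper7.FibreStalkIso.nonempty_ringEquiv h (h.fiberι v z)
  have hG := (H (h.fiberι v z) (fiberι_mem h v z)).2
  exact Groth.Agent.Lib.Helper5.GorIso.isGorensteinLocalRing_of_ringEquiv (e2.symm.trans e1)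
    (h := hG)

/-- (SG2) -/
theorem gorAt_of_isGorenstein_fiber {U V : Scheme.{u}} (h : U ⟶ V) (v : V)
    (hG : Dual3.IsGorenstein (h.fiber v)) (x : U) (hx : h x = v) (hfl : FlatAt h x) :
    Dual3.IsGorensteinAt h x := by
  subst hx
  exact ⟨hfl, hG.2 _⟩

/-- (TI) Gorenstein schemes are invariant under isomorphism. -/
theorem isGorenstein_of_iso {T F : Scheme.{u}} (e : T ≅ F) (hF : Dual3.IsGorenstein F) :
    Dual3.IsGorenstein T := by
  haveI : IsLocallyNoetherian F := hF.1
  haveI : IsLocallyNoetherian T := isLocallyNoetherian_of_isOpenImmersion e.hom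
  refine ⟨inferInstance, fun t => ?_⟩
  rw [(Groth.Agent.Lib.Helper19.AlgSpCM1.stalk_iff_of_etale e.hom t).2]
  exact hF.2 _

/-- the scheme fibre as the `left` of the fibre product in `Over S` -/
noncomputable def fiberIso {U V : Over S} (h : U ⟶ V) (v : ↥V.left) :
    (pullback h (Over.homMk (V.left.fromSpecResidueField v) rfl :
      Over.mk (V.left.fromSpecResidueField v ≫ V.hom) ⟶ V)).left ≅ h.left.fiber v :=
  (((IsPullback.of_hasPullback h (Over.homMk (V.left.fromSpecResidueField v) rfl :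
      Over.mk (V.left.fromSpecResidueField v ≫ V.hom) ⟶ V)).map (Over.forget S)).isoPullback)

theorem gor_tfae_sp {X Y : Sp S} (hX : IsAlgSpace X) (hY : IsAlgSpace Y) (f : X ⟶ Y)
    (hf : FibNoethSp f) :
    [∀ x : Points X, LocPAt (fun h u => Dual3.IsGorensteinAt h u) f x,
      LocP @Flat f ∧ ∃ (V : Over S) (b : (yon S).obj V ⟶ Y),
        RepWith @Etale b ∧ RepWith @Surjective b ∧
          ∀ (v : ↥V.left) (Xv : Sp S) (a : Xv ⟶ X)
            (c : Xv ⟶ (yon S).obj (Over.mk (V.left.fromSpecResidueField v ≫ V.hom))),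
            IsPullback a c f ((yon S).map (Over.homMk (V.left.fromSpecResidueField v) rfl :
              Over.mk (V.left.fromSpecResidueField v ≫ V.hom) ⟶ V) ≫ b) →
            EtaleLocally Dual3.IsGorenstein Xv,
      LocP @Flat f ∧ ∀ (V : Over S) (b : (yon S).obj V ⟶ Y), RepWith @Etale b →
          ∀ (v : ↥V.left) (Xv : Sp S) (a : Xv ⟶ X)
            (c : Xv ⟶ (yon S).obj (Over.mk (V.left.fromSpecResidueField v ≫ V.hom))),
            IsPullback a c f ((yon S).map (Over.homMk (V.left.fromSpecResidueField v) rfl :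
              Over.mk (V.left.fromSpecResidueField v ≫ V.hom) ⟶ V) ≫ b) →
            EtaleLocally Dual3.IsGorenstein Xv].TFAE := by
  tfae_have 1 → 3 := by
    intro h1
    refine ⟨fun U V a b h ha hb w => ?_, fun V b hb v Xv a' c sq => ?_⟩
    · exact Flat.of_stalkMap h.left fun u => (h1 _ a b h u ha hb w rfl).1
    · obtain ⟨U, u₀, h, hue, hus, hae, -, hh, hcomm⟩ := exists_chart_over hX hY f b hb
      obtain ⟨t, hte, hts, -, -⟩ := exists_chart_base_change f b u₀ h hue hus hh
        (Over.homMk (V.left.fromSpecResidueField v) rfl :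
          Over.mk (V.left.fromSpecResidueField v ≫ V.hom) ⟶ V) a' c sq
      refine ⟨_, t, hte, hts, ?_⟩
      haveI : IsLocallyNoetherian (h.left.fiber v) :=
        isLocallyNoetherian_fiber_of_chart f hf _ b h hae hb hcomm v
      exact isGorenstein_of_iso (fiberIso h v)
        (isGorenstein_fiber_of_gorAt h.left v fun x _ => h1 _ _ b h x hae hb hcomm rfl)
  tfae_have 3 → 2 := by
    rintro ⟨hfl, h3⟩
    obtain ⟨V, b, hbe, hbs⟩ := hY.atlas
    exact ⟨hfl, V, b, hbe, hbs, h3 V b hbe⟩
  tfae_have 2 → 1 := by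
    rintro ⟨hfl, V, b, hbe, hbs, h2⟩ x
    obtain ⟨U, u₀, h, hue, hus, hae, has, hh, hcomm⟩ := exists_chart_over hX hY f b hbe
    obtain ⟨u, hu⟩ := exists_ofPt_eq _ (has hbs) x
    have sq := IsPullback.of_hasPullback f ((yon S).map (Over.homMk
      (V.left.fromSpecResidueField (h.left u)) rfl :
        Over.mk (V.left.fromSpecResidueField (h.left u) ≫ V.hom) ⟶ V) ≫ b)
    have hXv := h2 (h.left u) _ _ _ sq
    obtain ⟨t, hte, -⟩ := exists_chart_base_change_etale f b u₀ h hue hh
      (Over.homMk (V.left.fromSpecResidueField (h.left u)) rfl :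
        Over.mk (V.left.fromSpecResidueField (h.left u) ≫ V.hom) ⟶ V) _ _ sq
    have hT := isGorenstein_chart hXv t hte
    have hF : Dual3.IsGorenstein (h.left.fiber (h.left u)) :=
      isGorenstein_of_iso (fiberIso h (h.left u)).symm hT
    haveI : Flat h.left := hfl _ b h hae hbe hcomm
    have hG := gorAt_of_isGorenstein_fiber h.left (h.left u) hF u rfl (flatAt_of_flat h.left u)
    rw [← hu]
    exact locPAt_gor_of_chart f hf _ b h u hae hbe hcomm hG
  tfae_finish

end Groth.Agent.Lib.Helper15.GorSp
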