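import Groth.Prelude.Def_AlgSpGpd

set_option autoImplicit false
universe u
open CategoryTheory CategoryTheory.Limits AlgebraicGeometry Opposite
open AlgSp

namespace Groth.Agent.Lib.Helper15.GpdAlg

variable {S : Scheme.{u}} {B : Sp S} (G : GroupoidSp B)

theorem lift_congr {C : Type*} [Category C] {X Y Z T : C} {f : X ⟶ Z} {g : Y ⟶ Z} [HasPullback f g]
    {a a' : T ⟶ X} {b b' : T ⟶ Y} (ha : a = a') (hb : b = b') (h : a ≫ f = b ≫ g) :
    pullback.lift a b h = pullback.lift a' b' (by rw [← ha, ← hb]; exact h) := by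
  subst ha; subst hb; rfl

theorem comp_lift {C : Type*} [Category C] {X Y Z T T' : C} {f : X ⟶ Z} {g : Y ⟶ Z}
    [HasPullback f g] (x : T' ⟶ T) (a : T ⟶ X) (b : T ⟶ Y) (h : a ≫ f = b ≫ g) :
    x ≫ pullback.lift a b h = pullback.lift (x ≫ a) (x ≫ b)
      (by rw [Category.assoc, Category.assoc, h]) := by
  apply pullback.hom_ext
  · rw [Category.assoc, pullback.lift_fst, pullback.lift_fst]
  · rw [Category.assoc, pullback.lift_snd, pullback.lift_snd]

section
variable {T : Sp S}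

/-- `(α ∘ β) ∘ β⁻¹ = α`. -/
theorem comp_comp_inv (α β : T ⟶ G.R) (h : α ≫ G.s = β ≫ G.t) :
    pullback.lift (pullback.lift α β h ≫ G.c) (β ≫ G.i)
      ((G.comp_s α β h).trans (by rw [Category.assoc, G.i_t])) ≫ G.c = α := by
  have h₂ : β ≫ G.s = (β ≫ G.i) ≫ G.t := by rw [Category.assoc, G.i_t]
  rw [G.assoc α β (β ≫ G.i) h h₂]
  refine Eq.trans ?_ (G.comp_e α)
  congr 1
  exact lift_congr rfl (by rw [G.comp_i β, ← Category.assoc, ← h, Category.assoc]) _

/-- `(γ ∘ β⁻¹) ∘ β = γ`. -/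
theorem comp_inv_comp (γ β : T ⟶ G.R) (h : γ ≫ G.s = β ≫ G.s) :
    pullback.lift (pullback.lift γ (β ≫ G.i) (by rw [h, Category.assoc, G.i_t]) ≫ G.c) β
      ((G.comp_s γ (β ≫ G.i) (by rw [h, Category.assoc, G.i_t])).trans
        (by rw [Category.assoc, G.i_s])) ≫ G.c = γ := by
  have h₁ : γ ≫ G.s = (β ≫ G.i) ≫ G.t := by rw [h, Category.assoc, G.i_t]
  have h₂ : (β ≫ G.i) ≫ G.s = β ≫ G.t := by rw [Category.assoc, G.i_s]
  rw [G.assoc γ (β ≫ G.i) β h₁ h₂]
  refine Eq.trans ?_ (G.comp_e γ)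
  congr 1
  exact lift_congr rfl (by rw [G.i_comp β, ← Category.assoc, ← h, Category.assoc]) _

end

/-- The composition of a groupoid is a base change of the source map along itself. -/
theorem isPullback_c : IsPullback G.c (pullback.snd G.s G.t) G.s G.s := by
  set p₁ := pullback.fst G.s G.t with hp₁
  set p₂ := pullback.snd G.s G.t with hp₂
  have hc : p₁ ≫ G.s = p₂ ≫ G.t := pullback.condition
  have hid : pullback.lift p₁ p₂ hc = 𝟙 _ := by
    apply pullback.hom_ext
    · rw [pullback.lift_fst, Category.id_comp]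
    · rw [pullback.lift_snd, Category.id_comp]
  have hcs : G.c ≫ G.s = p₂ ≫ G.s := by
    have := G.comp_s p₁ p₂ hc
    rwa [hid, Category.id_comp] at this
  refine IsPullback.mk' hcs ?_ ?_
  · intro Z x y h1 h2
    have hx := comp_comp_inv G (x ≫ p₁) (x ≫ p₂) (by rw [Category.assoc, Category.assoc, hc])
    have hy := comp_comp_inv G (y ≫ p₁) (y ≫ p₂) (by rw [Category.assoc, Category.assoc, hc])
    have hxc : pullback.lift (x ≫ p₁) (x ≫ p₂) (by rw [Category.assoc, Category.assoc, hc]) ≫ G.c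
        = x ≫ G.c := by
      rw [← comp_lift x p₁ p₂ hc, hid, Category.comp_id]
    have hyc : pullback.lift (y ≫ p₁) (y ≫ p₂) (by rw [Category.assoc, Category.assoc, hc]) ≫ G.c
        = y ≫ G.c := by
      rw [← comp_lift y p₁ p₂ hc, hid, Category.comp_id]
    have h12 : x ≫ p₁ = y ≫ p₁ := by
      rw [← hx, ← hy]
      congr 1
      exact lift_congr (by rw [hxc, hyc, h1]) (by rw [h2]) _
    apply pullback.hom_ext
    · exact h12
    · exact h2
  · intro Z γ β h
    have h₁ : γ ≫ G.s = (β ≫ G.i) ≫ G.t := by rw [h, Category.assoc, G.i_t]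
    have h₃ : (pullback.lift γ (β ≫ G.i) h₁ ≫ G.c) ≫ G.s = β ≫ G.t :=
      (G.comp_s γ (β ≫ G.i) h₁).trans (by rw [Category.assoc, G.i_s])
    refine ⟨pullback.lift (pullback.lift γ (β ≫ G.i) h₁ ≫ G.c) β h₃, ?_, pullback.lift_snd _ _ _⟩
    exact comp_inv_comp G γ β h

end Groth.Agent.Lib.Helper15.GpdAlg
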