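import Groth.Agent.Lib.Helper15.GpdTr
import Groth.Agent.Lib.Helper15.EquidimSp

set_option autoImplicit false
set_option backward.isDefEq.respectTransparency.types false
universe u
open CategoryTheory CategoryTheory.Limits AlgebraicGeometry Opposite
open AlgSp

namespace Groth.Agent.Lib.Helper15.GpdDim

open Groth.Agent.Lib.Helper3 Groth.Agent.Lib.Helper15

variable {S : Scheme.{u}}

/-- All field-valued points of the spectrum of a field define the same point. -/
theorem mk_fieldPtOfHom_eq_of_iso_field {U : Sp S} (k : Type u) [Field k]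
    (σ : Spec (CommRingCat.of k) ⟶ S) (eU : U ≅ (yon S).obj (Over.mk σ))
    (K : Type u) [Field K] (str : Spec (CommRingCat.of K) ⟶ S)
    (τ : (yon S).obj (Over.mk str) ⟶ U) :
    Points.mk (fieldPtOfHom K str τ) = Points.mk (fieldPtOfHom k σ eU.inv) := by
  obtain ⟨c, hc⟩ := (yon S).map_surjective (τ ≫ eU.hom)
  have : τ = (yon S).map c ≫ eU.inv := by
    rw [hc, Category.assoc, eU.hom_inv_id, Category.comp_id]
  rw [this]
  exact mk_fieldPtOfHom_comp c eU.inv

theorem main (B : AlgSp.Sp S) (G : AlgSp.GroupoidSp B) (hR : AlgSp.IsAlgSpace G.R) (k : Type u)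
    [Field k] (σ : Spec (CommRingCat.of k) ⟶ S) (eU : G.U ≅ (AlgSp.yon S).obj (Over.mk σ))
    (hs : AlgSp.LocP @LocallyOfFiniteType G.s) (r : AlgSp.Points G.R) :
    AlgSp.HasAt (fun V v => FlatMor.localDim ↥V v = AlgSp.dim G.R) G.R r := by
  refine EquidimSp.hasAt_localDim_eq_dim_of_homogeneous hR k σ eU G.s hs
    (Points.map G.e (Points.mk (fieldPtOfHom k σ eU.inv))) ?_ r
  intro x
  obtain ⟨K, _, str, ρ, rfl⟩ := Points.exists_hom x
  have hρ₁ : (ρ ≫ G.t ≫ G.e) ≫ G.s = ρ ≫ G.t := by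
    rw [Category.assoc, Category.assoc, G.e_s, Category.comp_id]
  refine ⟨K, inferInstance, str, ρ ≫ G.t, ρ ≫ G.s, pullback G.s (ρ ≫ G.t), pullback G.s (ρ ≫ G.s),
    pullback.fst _ _, pullback.snd _ _, pullback.fst _ _, pullback.snd _ _,
    IsPullback.of_hasPullback _ _, IsPullback.of_hasPullback _ _, GpdTr.trIso G ρ,
    Points.mk (fieldPtOfHom K str (pullback.lift (ρ ≫ G.t ≫ G.e) (𝟙 _)
      (by rw [hρ₁, Category.id_comp]))), ?_, ?_⟩
  · rw [Points.map_mk_fieldPtOfHom, pullback.lift_fst,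
      ← mk_fieldPtOfHom_eq_of_iso_field k σ eU K str (ρ ≫ G.t), Points.map_mk_fieldPtOfHom,
      Category.assoc]
  · rw [Points.map_mk_fieldPtOfHom, Points.map_mk_fieldPtOfHom]
    have : (pullback.lift (ρ ≫ G.t ≫ G.e) (𝟙 _) (by rw [hρ₁, Category.id_comp]) ≫
        (GpdTr.trIso G ρ).hom) ≫ pullback.fst G.s (ρ ≫ G.s) = ρ := by
      change (_ ≫ GpdTr.trHom G ρ) ≫ _ = _
      rw [GpdTr.lift_trHom G ρ (ρ ≫ G.t ≫ G.e) hρ₁, pullback.lift_fst]
      exact GpdTr.m_e_left G ρ _ rfl hρ₁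
    rw [this]

end Groth.Agent.Lib.Helper15.GpdDim
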