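import Groth.Prelude.Def_AlgSpGpd
import Groth.Agent.Lib.Helper15.FieldAut
import Groth.Agent.Lib.Helper3.AlgSpPoints
import Groth.Agent.S9906

set_option autoImplicit false
set_option backward.isDefEq.respectTransparency.types false
universe u
open CategoryTheory CategoryTheory.Limits AlgebraicGeometry Opposite

namespace Groth.Agent.Lib.Helper15.GpdPt

variable {S : Scheme.{u}}
open AlgSp Groth.Agent.Lib.Helper3

theorem main (B : AlgSp.Sp S)
    (G : AlgSp.GroupoidSp B) (k : Type u) [Field k]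
    (σ : Spec (CommRingCat.of k) ⟶ S) (eU : G.U ≅ (AlgSp.yon S).obj (Over.mk σ)) (r : AlgSp.Points G.R) :
    ∃ (k' : Type u) (_ : Field k') (_ : Algebra k k'), IsAlgClosed k' ∧
      ∀ (G' : AlgSp.GroupoidSp B) (φ : AlgSp.GroupoidSp.Hom G' G), φ.IsRestriction →
        ∀ (eU' : G'.U ≅ (AlgSp.yon S).obj (Over.mk (Spec.map (CommRingCat.ofHom (algebraMap k k')) ≫ σ))),
          φ.fU = eU'.hom ≫ (AlgSp.yon S).map (CategoryTheory.Over.homMk (Spec.map (CommRingCat.ofHom (algebraMap k k'))) rfl :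
            Over.mk (Spec.map (CommRingCat.ofHom (algebraMap k k')) ≫ σ) ⟶ Over.mk σ) ≫ eU.inv →
          ∃ r' : G'.U ⟶ G'.R, (∀ x : AlgSp.Points G'.U, AlgSp.Points.map (r' ≫ φ.fR) x = r) ∧
            IsIso (r' ≫ G'.s) ∧ IsIso (r' ≫ G'.t) := by
  obtain ⟨K, _, str, ρ₀, rfl⟩ := Points.exists_hom r
  -- the two embeddings
  obtain ⟨ms, hms⟩ := (yon S).map_surjective (ρ₀ ≫ G.s ≫ eU.hom)
  obtain ⟨mt, hmt⟩ := (yon S).map_surjective (ρ₀ ≫ G.t ≫ eU.hom)
  obtain ⟨σs, hσs⟩ : ∃ σs : k →+* K, ms.left = Spec.map (CommRingCat.ofHom σs) :=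
    ⟨(Spec.preimage ms.left).hom, by simp⟩
  obtain ⟨σt, hσt⟩ : ∃ σt : k →+* K, mt.left = Spec.map (CommRingCat.ofHom σt) :=
    ⟨(Spec.preimage mt.left).hom, by simp⟩
  have ws : Spec.map (CommRingCat.ofHom σs) ≫ σ = str := by rw [← hσs]; exact Over.w ms
  have wt : Spec.map (CommRingCat.ofHom σt) ≫ σ = str := by rw [← hσt]; exact Over.w mt
  obtain ⟨k', _, j, b, hac, hb⟩ := FieldAut.exists_aut k K σs σt
  letI : Algebra k k' := (j.comp σs).toAlgebra
  refine ⟨k', inferInstance, inferInstance, hac, ?_⟩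
  intro G' φ hφ eU' hfU
  let T' : Over S := Over.mk (Spec.map (CommRingCat.ofHom (algebraMap k k')) ≫ σ)
  have halg : Spec.map (CommRingCat.ofHom (algebraMap k k')) =
      Spec.map (CommRingCat.ofHom j) ≫ Spec.map (CommRingCat.ofHom σs) := by
    rw [← Spec.map_comp]
    rfl
  let jm : T' ⟶ Over.mk str := CategoryTheory.Over.homMk (Spec.map (CommRingCat.ofHom j)) (by
    change Spec.map (CommRingCat.ofHom j) ≫ str =
      Spec.map (CommRingCat.ofHom (algebraMap k k')) ≫ σ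
    rw [halg, Category.assoc, ws])
  let πm : T' ⟶ Over.mk σ :=
    CategoryTheory.Over.homMk (Spec.map (CommRingCat.ofHom (algebraMap k k'))) rfl
  have hbσ : Spec.map (CommRingCat.ofHom b.toRingHom) ≫
      Spec.map (CommRingCat.ofHom (algebraMap k k')) =
      Spec.map (CommRingCat.ofHom j) ≫ Spec.map (CommRingCat.ofHom σt) := by
    rw [← Spec.map_comp, ← Spec.map_comp]
    congr 1
    ext x
    exact hb x
  let βm : T' ⟶ T' := CategoryTheory.Over.homMk (Spec.map (CommRingCat.ofHom b.toRingHom)) (by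
    change Spec.map (CommRingCat.ofHom b.toRingHom) ≫
      Spec.map (CommRingCat.ofHom (algebraMap k k')) ≫ σ =
      Spec.map (CommRingCat.ofHom (algebraMap k k')) ≫ σ
    rw [← Category.assoc, hbσ, Category.assoc, wt, halg, Category.assoc, ws])
  have hjs : jm ≫ ms = πm := by
    ext
    change Spec.map (CommRingCat.ofHom j) ≫ ms.left = Spec.map (CommRingCat.ofHom (algebraMap k k'))
    rw [hσs, halg]
  have hjt : jm ≫ mt = βm ≫ πm := by
    ext
    change Spec.map (CommRingCat.ofHom j) ≫ mt.left = Spec.map (CommRingCat.ofHom b.toRingHom) ≫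
      Spec.map (CommRingCat.ofHom (algebraMap k k'))
    rw [hσt, hbσ]
  haveI : IsIso (CommRingCat.ofHom b.toRingHom) :=
    (ConcreteCategory.isIso_iff_bijective _).2 b.bijective
  haveI : IsIso βm.left := by
    change IsIso (Spec.map (CommRingCat.ofHom b.toRingHom))
    infer_instance
  haveI : IsIso ((Over.forget S).map βm) := (inferInstance : IsIso βm.left)
  haveI : IsIso βm := isIso_of_reflects_iso βm (Over.forget S)
  let ρ : G'.U ⟶ G.R := eU'.hom ≫ (yon S).map jm ≫ ρ₀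
  let β : G'.U ⟶ G'.U := eU'.hom ≫ (yon S).map βm ≫ eU'.inv
  have e1 : ρ₀ ≫ G.s = (yon S).map ms ≫ eU.inv := by
    rw [hms, Category.assoc, Category.assoc, eU.hom_inv_id, Category.comp_id]
  have e2 : ρ₀ ≫ G.t = (yon S).map mt ≫ eU.inv := by
    rw [hmt, Category.assoc, Category.assoc, eU.hom_inv_id, Category.comp_id]
  have hρs : ρ ≫ G.s = φ.fU := by
    change (eU'.hom ≫ (yon S).map jm ≫ ρ₀) ≫ G.s = φ.fU
    rw [Category.assoc, Category.assoc, e1, ← Category.assoc ((yon S).map jm), ← Functor.map_comp,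
      hjs, hfU]
  have hρt : ρ ≫ G.t = β ≫ φ.fU := by
    change (eU'.hom ≫ (yon S).map jm ≫ ρ₀) ≫ G.t = (eU'.hom ≫ (yon S).map βm ≫ eU'.inv) ≫ φ.fU
    rw [Category.assoc, Category.assoc, e2, ← Category.assoc ((yon S).map jm), ← Functor.map_comp,
      hjt, hfU, Functor.map_comp]
    simp only [Category.assoc, Iso.inv_hom_id_assoc]
    rfl
  have hpU1 : G'.pU = ρ ≫ G.pR := by
    rw [← G.s_over, ← Category.assoc, hρs, φ.fU_over]
  have hpU2 : β ≫ G'.pU = ρ ≫ G.pR := by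
    have h0 : β ≫ G'.pU = β ≫ φ.fU ≫ G.pU := by rw [φ.fU_over]
    rw [h0, ← Category.assoc, ← hρt, Category.assoc, G.t_over]
  have hpU : β ≫ G'.pU = 𝟙 _ ≫ G'.pU := by
    rw [Category.id_comp, hpU2, ← hpU1]
  let pair : G'.U ⟶ pullback G'.pU G'.pU := pullback.lift β (𝟙 G'.U) hpU
  have hcomp : ρ ≫ G.j = pair ≫ φ.prodMap := by
    have hp1 : φ.prodMap ≫ pullback.fst G.pU G.pU = pullback.fst _ _ ≫ φ.fU :=
      pullback.lift_fst _ _ _
    have hp2 : φ.prodMap ≫ pullback.snd G.pU G.pU = pullback.snd _ _ ≫ φ.fU :=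
      pullback.lift_snd _ _ _
    have hq1 : pair ≫ pullback.fst _ _ = β := pullback.lift_fst _ _ _
    have hq2 : pair ≫ pullback.snd _ _ = 𝟙 _ := pullback.lift_snd _ _ _
    apply pullback.hom_ext
    · calc (ρ ≫ G.j) ≫ pullback.fst _ _ = ρ ≫ G.j ≫ pullback.fst _ _ := Category.assoc _ _ _
        _ = ρ ≫ G.t := by rw [G.j_fst]
        _ = β ≫ φ.fU := hρt
        _ = (pair ≫ pullback.fst _ _) ≫ φ.fU := by rw [hq1]
        _ = pair ≫ (φ.prodMap ≫ pullback.fst _ _) := by rw [hp1, Category.assoc]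
        _ = (pair ≫ φ.prodMap) ≫ pullback.fst _ _ := (Category.assoc _ _ _).symm
    · calc (ρ ≫ G.j) ≫ pullback.snd _ _ = ρ ≫ G.j ≫ pullback.snd _ _ := Category.assoc _ _ _
        _ = ρ ≫ G.s := by rw [G.j_snd]
        _ = φ.fU := hρs
        _ = (pair ≫ pullback.snd _ _) ≫ φ.fU := by rw [hq2, Category.id_comp]
        _ = pair ≫ (φ.prodMap ≫ pullback.snd _ _) := by rw [hp2, Category.assoc]
        _ = (pair ≫ φ.prodMap) ≫ pullback.snd _ _ := (Category.assoc _ _ _).symm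
  let r' : G'.U ⟶ G'.R := hφ.lift ρ pair hcomp
  have h1 : r' ≫ φ.fR = ρ := hφ.lift_fst _ _ _
  have h2 : r' ≫ G'.j = pair := hφ.lift_snd _ _ _
  have hs' : r' ≫ G'.s = 𝟙 _ := by
    rw [← G'.j_snd, ← Category.assoc, h2, pullback.lift_snd]
  have ht' : r' ≫ G'.t = β := by
    rw [← G'.j_fst, ← Category.assoc, h2, pullback.lift_fst]
  refine ⟨r', fun x => ?_, by rw [hs']; infer_instance, by rw [ht']; infer_instance⟩
  rw [h1]
  change Points.map (eU'.hom ≫ (yon S).map jm ≫ ρ₀) x = Points.mk (fieldPtOfHom K str ρ₀)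
  rw [← Category.assoc, Points.map_comp, Groth.Agent.S9906.mk_fieldPtOfHom_eq_ofPt,
    Points.ofPt_eq_map_ofScheme]
  congr 1
  obtain ⟨t, ht⟩ := (Points.schemeEquiv (Over.mk str)).surjective
    (Points.map (eU'.hom ≫ (yon S).map jm) x)
  rw [← ht]
  change Points.ofScheme _ t = Points.ofScheme _ _
  congr 1
  haveI : Subsingleton (Spec (CommRingCat.of K)) :=
    (inferInstance : Subsingleton (PrimeSpectrum K))
  exact Subsingleton.elim (α := (Spec (CommRingCat.of K) : Scheme.{u})) _ _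

end Groth.Agent.Lib.Helper15.GpdPt
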