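import Groth.Prelude.Def_AlgSpGpd

set_option autoImplicit false
universe u
open CategoryTheory CategoryTheory.Limits AlgebraicGeometry
open AlgSp AlgSp.GroupoidSp

namespace Groth.Agent.Lib.Helper15.GpdTr

variable {S : Scheme.{u}} {B : AlgSp.Sp S} (G : AlgSp.GroupoidSp B)

/-- composition of two composable `T`-points -/
noncomputable def m {T : AlgSp.Sp S} (α β : T ⟶ G.R) (h : α ≫ G.s = β ≫ G.t) : T ⟶ G.R :=
  pullback.lift α β h ≫ G.c

lemma m_congr {T : AlgSp.Sp S} {α α' β β' : T ⟶ G.R} (hα : α = α') (hβ : β = β')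
    (h : α ≫ G.s = β ≫ G.t) (h' : α' ≫ G.s = β' ≫ G.t) : m G α β h = m G α' β' h' := by
  subst hα hβ
  rfl

lemma m_pre {T T' : AlgSp.Sp S} (f : T' ⟶ T) (α β : T ⟶ G.R) (h : α ≫ G.s = β ≫ G.t) :
    f ≫ m G α β h = m G (f ≫ α) (f ≫ β) (by rw [Category.assoc, Category.assoc, h]) := by
  unfold m
  rw [← Category.assoc]
  congr 1
  apply pullback.hom_ext
  · rw [Category.assoc, pullback.lift_fst, pullback.lift_fst]
  · rw [Category.assoc, pullback.lift_snd, pullback.lift_snd]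

lemma m_s {T : AlgSp.Sp S} (α β : T ⟶ G.R) (h : α ≫ G.s = β ≫ G.t) :
    m G α β h ≫ G.s = β ≫ G.s := G.comp_s α β h

lemma m_t {T : AlgSp.Sp S} (α β : T ⟶ G.R) (h : α ≫ G.s = β ≫ G.t) :
    m G α β h ≫ G.t = α ≫ G.t := G.comp_t α β h

lemma m_assoc {T : AlgSp.Sp S} (α β γ : T ⟶ G.R) (h₁ : α ≫ G.s = β ≫ G.t)
    (h₂ : β ≫ G.s = γ ≫ G.t) :
    m G (m G α β h₁) γ ((m_s G α β h₁).trans h₂) =
      m G α (m G β γ h₂) (h₁.trans (m_t G β γ h₂).symm) := G.assoc α β γ h₁ h₂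

lemma m_e_left {T : AlgSp.Sp S} (α : T ⟶ G.R) (x : T ⟶ G.R) (hx : x = α ≫ G.t ≫ G.e)
    (h : x ≫ G.s = α ≫ G.t) : m G x α h = α := by
  subst hx
  exact G.e_comp α

lemma m_e_right {T : AlgSp.Sp S} (α : T ⟶ G.R) (x : T ⟶ G.R) (hx : x = α ≫ G.s ≫ G.e)
    (h : α ≫ G.s = x ≫ G.t) : m G α x h = α := by
  subst hx
  exact G.comp_e α

lemma m_i_left {T : AlgSp.Sp S} (α : T ⟶ G.R) (x : T ⟶ G.R) (hx : x = α ≫ G.i)
    (h : x ≫ G.s = α ≫ G.t) : m G x α h = α ≫ G.s ≫ G.e := by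
  subst hx
  exact G.i_comp α

lemma m_i_right {T : AlgSp.Sp S} (α : T ⟶ G.R) (x : T ⟶ G.R) (hx : x = α ≫ G.i)
    (h : α ≫ G.s = x ≫ G.t) : m G α x h = α ≫ G.t ≫ G.e := by
  subst hx
  exact G.comp_i α

section
variable {T : AlgSp.Sp S} (g : T ⟶ G.R)

lemma trHom_aux : (pullback.fst G.s (g ≫ G.t)) ≫ G.s = (pullback.snd G.s (g ≫ G.t) ≫ g) ≫ G.t := by
  rw [pullback.condition, Category.assoc]

lemma trInv_aux :
    (pullback.fst G.s (g ≫ G.s)) ≫ G.s = (pullback.snd G.s (g ≫ G.s) ≫ g ≫ G.i) ≫ G.t := by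
  rw [pullback.condition, Category.assoc, Category.assoc, G.i_t]

/-- Right translation by `g`: `(f, u) ↦ (f ∘ g(u), u)`. -/
noncomputable def trHom : pullback G.s (g ≫ G.t) ⟶ pullback G.s (g ≫ G.s) :=
  pullback.lift (m G (pullback.fst _ _) (pullback.snd _ _ ≫ g) (trHom_aux G g)) (pullback.snd _ _)
    (by rw [m_s, Category.assoc])

/-- Right translation by the inverse of `g`. -/
noncomputable def trInv : pullback G.s (g ≫ G.s) ⟶ pullback G.s (g ≫ G.t) :=
  pullback.lift (m G (pullback.fst _ _) (pullback.snd _ _ ≫ g ≫ G.i) (trInv_aux G g))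
    (pullback.snd _ _)
    (by rw [m_s, Category.assoc, Category.assoc, G.i_s])

@[reassoc]
lemma trHom_fst : trHom G g ≫ pullback.fst _ _ =
    m G (pullback.fst _ _) (pullback.snd _ _ ≫ g) (trHom_aux G g) := pullback.lift_fst _ _ _

@[reassoc]
lemma trHom_snd : trHom G g ≫ pullback.snd _ _ = pullback.snd _ _ := pullback.lift_snd _ _ _

@[reassoc]
lemma trInv_fst : trInv G g ≫ pullback.fst _ _ =
    m G (pullback.fst _ _) (pullback.snd _ _ ≫ g ≫ G.i) (trInv_aux G g) := pullback.lift_fst _ _ _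

@[reassoc]
lemma trInv_snd : trInv G g ≫ pullback.snd _ _ = pullback.snd _ _ := pullback.lift_snd _ _ _

lemma trHom_trInv : trHom G g ≫ trInv G g = 𝟙 _ := by
  apply pullback.hom_ext
  · rw [Category.assoc, trInv_fst, Category.id_comp, m_pre]
    have hA : (pullback.snd G.s (g ≫ G.t) ≫ g) ≫ G.s =
        (pullback.snd G.s (g ≫ G.t) ≫ g ≫ G.i) ≫ G.t := by
      simp only [Category.assoc, G.i_t]
    refine (m_congr G (trHom_fst G g) (by rw [trHom_snd_assoc]) _
      ((m_s G _ _ (trHom_aux G g)).trans hA)).trans ?_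
    refine (m_assoc G _ _ _ (trHom_aux G g) hA).trans ?_
    refine m_e_right G _ _ ?_ _
    rw [m_i_right G (pullback.snd G.s (g ≫ G.t) ≫ g) _ (Category.assoc _ _ _).symm hA,
      pullback.condition_assoc]
    simp only [Category.assoc]
  · rw [Category.assoc, trInv_snd, trHom_snd, Category.id_comp]

lemma trInv_trHom : trInv G g ≫ trHom G g = 𝟙 _ := by
  apply pullback.hom_ext
  · rw [Category.assoc, trHom_fst, Category.id_comp, m_pre]
    have hA : (pullback.snd G.s (g ≫ G.s) ≫ g ≫ G.i) ≫ G.s =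
        (pullback.snd G.s (g ≫ G.s) ≫ g) ≫ G.t := by
      simp only [Category.assoc, G.i_s]
    refine (m_congr G (trInv_fst G g) (by rw [trInv_snd_assoc]) _
      ((m_s G _ _ (trInv_aux G g)).trans hA)).trans ?_
    refine (m_assoc G _ _ _ (trInv_aux G g) hA).trans ?_
    refine m_e_right G _ _ ?_ _
    rw [m_i_left G (pullback.snd G.s (g ≫ G.s) ≫ g) _ (Category.assoc _ _ _).symm hA,
      pullback.condition_assoc]
    simp only [Category.assoc]
  · rw [Category.assoc, trHom_snd, trInv_snd, Category.id_comp]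

/-- Right translation by `g` as an isomorphism. -/
noncomputable def trIso : pullback G.s (g ≫ G.t) ≅ pullback G.s (g ≫ G.s) where
  hom := trHom G g
  inv := trInv G g
  hom_inv_id := trHom_trInv G g
  inv_hom_id := trInv_trHom G g

/-- Translation maps the section `(ρ, id)` to `(ρ ∘ g, id)`. -/
lemma lift_trHom (ρ : T ⟶ G.R) (hρ : ρ ≫ G.s = g ≫ G.t) :
    pullback.lift ρ (𝟙 T) (by rw [hρ, Category.id_comp]) ≫ trHom G g =
      pullback.lift (m G ρ g hρ) (𝟙 T) (by rw [m_s, Category.id_comp]) := by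
  apply pullback.hom_ext
  · rw [Category.assoc, trHom_fst, m_pre]
    refine (m_congr G (pullback.lift_fst _ _ _)
      (by rw [pullback.lift_snd_assoc, Category.id_comp]) _ hρ).trans ?_
    exact (pullback.lift_fst _ _ _).symm
  · rw [Category.assoc, trHom_snd, pullback.lift_snd, pullback.lift_snd]

end

end Groth.Agent.Lib.Helper15.GpdTr
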