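import Groth.Agent.Lib.Helper15.GrpTr
import Groth.Agent.Lib.Helper15.GpdDim

set_option autoImplicit false
set_option backward.isDefEq.respectTransparency.types false
universe u
open CategoryTheory CategoryTheory.Limits AlgebraicGeometry Opposite MonoidalCategory CartesianMonoidalCategory MonObj
open AlgSp

namespace Groth.Agent.Lib.Helper15.GrpDim

open Groth.Agent.Lib.Helper3 Groth.Agent.Lib.Helper15

variable {S : Scheme.{u}}

theorem main {U : Sp S} (k : Type u) [Field k] (σ : Spec (CommRingCat.of k) ⟶ S)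
    (eU : U ≅ (yon S).obj (Over.mk σ)) (G : Over U) [GrpObj G] (hG : AlgSp.IsAlgSpace G.left)
    (hlft : AlgSp.LocP @LocallyOfFiniteType G.hom) (g : AlgSp.Points G.left) :
    AlgSp.HasAt (fun V v => FlatMor.localDim ↥V v = AlgSp.dim G.left) G.left g := by
  refine EquidimSp.hasAt_localDim_eq_dim_of_homogeneous hG k σ eU G.hom hlft
    (Points.map (η[G]).left (Points.mk (fieldPtOfHom k σ eU.inv))) ?_ g
  intro x
  obtain ⟨K, _, str, gm, rfl⟩ := Points.exists_hom x
  obtain ⟨t, s₀, s₁, -, h01, -, -, h1, h0⟩ := GrpTr.exists_translation G gm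
  refine ⟨K, inferInstance, str, gm ≫ G.hom, gm ≫ G.hom, _, _,
    pullback.fst _ _, pullback.snd _ _, pullback.fst _ _, pullback.snd _ _,
    IsPullback.of_hasPullback _ _, IsPullback.of_hasPullback _ _, t,
    Points.mk (fieldPtOfHom K str s₀), ?_, ?_⟩
  · rw [Points.map_mk_fieldPtOfHom, h0,
      ← GpdDim.mk_fieldPtOfHom_eq_of_iso_field k σ eU K str (gm ≫ G.hom), Points.map_mk_fieldPtOfHom]
  · rw [Points.map_mk_fieldPtOfHom, Points.map_mk_fieldPtOfHom, h01, h1]

end Groth.Agent.Lib.Helper15.GrpDim
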