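import Groth.Agent.Lib.Helper15.GrpTr
import Groth.Agent.Lib.Helper3.AlgSpHasAtMor
import Groth.Agent.Lib.Helper3.AlgSpOpenSub
import Groth.Agent.Lib.Helper3.AlgSpOpenSubsp
import Groth.Agent.Lib.Helper3.AlgSpLargestOpen
import Groth.Agent.Lib.Helper3.AlgSpPoints

/-!
# Helper15 — largest open of the base over which a group algebraic space has a pointwise property.
-/

set_option autoImplicit false
universe u
open CategoryTheory CategoryTheory.Limits AlgebraicGeometry Opposite MonoidalCategory CartesianMonoidalCategory MonObj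
open AlgSp

namespace Groth.Agent.Lib.Helper15.GrpLocus

open Groth.Agent.Lib.Helper3 Groth.Agent.Lib.Helper15
set_option backward.isDefEq.respectTransparency.types false

variable {S : Scheme.{u}}

/-- invariance of a pointwise property under an automorphism of the source over the target. -/
theorem hasAtMor_of_iso {Q : ∀ (U V : Scheme.{u}), (U ⟶ V) → ↥U → Prop} {F G' : Sp S}
    (f : F ⟶ G') (t : F ≅ F) (ht : t.hom ≫ f = f) (x : Points F) (h : HasAtMor Q f x) :
    HasAtMor Q f (Points.map t.hom x) := by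
  obtain ⟨U, V, a, b, k, u, hae, hbe, w, hx, hQ⟩ := h
  refine ⟨U, V, a ≫ t.hom, b, k, u,
    MorphismProperty.comp_mem _ _ _ hae (MorphismProperty.of_isIso (RepWith @Etale) t.hom), hbe,
    by rw [Category.assoc, ht, w], by rw [← hx, Points.map_ofPt], hQ⟩

section Main

variable (B : Sp S) (hB : IsAlgSpace B) (G : Over B) [GrpObj G] (hG : IsAlgSpace G.left)
  (Q : ∀ (U V : Scheme.{u}), (U ⟶ V) → ↥U → Prop)
  (𝒰 : Set (Points G.left))
  (hbc : ∀ {Y'' X'' : Sp S}, IsAlgSpace Y'' → IsAlgSpace X'' → ∀ (g : Y'' ⟶ B) (b : X'' ⟶ G.left)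
    (f'' : X'' ⟶ Y''), IsPullback b f'' G.hom g → ∀ x'' : Points X'',
      Points.map b x'' ∈ 𝒰 ↔ HasAtMor Q f'' x'')

include hB hG hbc in
/-- homogeneity: the locus is determined along the unit section. -/
theorem mem_of_unit_mem (x : Points G.left)
    (h : Points.map (η[G]).left (Points.map G.hom x) ∈ 𝒰) : x ∈ 𝒰 := by
  obtain ⟨K, _, str, g, rfl⟩ := Points.exists_hom x
  obtain ⟨t, s₀, s₁, ht, hst, hs₀, hs₁, hs₁g, hs₀e⟩ := GrpTr.exists_translation G g
  have sq := IsPullback.of_hasPullback G.hom (g ≫ G.hom)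
  have hGK : IsAlgSpace (pullback G.hom (g ≫ G.hom)) :=
    isAlgSpace_of_isPullback' hB hG (IsAlgSpace.yon_obj _) sq
  have hK := hbc (IsAlgSpace.yon_obj (Over.mk str)) hGK (g ≫ G.hom) _ _ sq
  have h0 : HasAtMor Q (pullback.snd G.hom (g ≫ G.hom)) (Points.mk (fieldPtOfHom K str s₀)) := by
    rw [← hK, Points.map_mk_fieldPtOfHom, hs₀e]
    rw [Points.map_mk_fieldPtOfHom, Points.map_mk_fieldPtOfHom, Category.assoc] at h
    exact h
  have h1 := hasAtMor_of_iso _ t ht _ h0
  rw [Points.map_mk_fieldPtOfHom, hst, ← hK, Points.map_mk_fieldPtOfHom, hs₁g] at h1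
  exact h1

include hB hG hbc in
/-- the key equivalence for an arbitrary base change of `G`. -/
theorem locP_iff_forall_mem (P : MorphismProperty Scheme.{u})
    (hloc : ∀ {X'' Y'' : Sp S}, IsAlgSpace X'' → IsAlgSpace Y'' → ∀ f'' : X'' ⟶ Y'',
      LocP P f'' ↔ ∀ x'' : Points X'', HasAtMor Q f'' x'')
    {Y'' X'' : Sp S} (hY'' : IsAlgSpace Y'') (hX'' : IsAlgSpace X'') (g : Y'' ⟶ B)
    (b : X'' ⟶ G.left) (f'' : X'' ⟶ Y'') (sq : IsPullback b f'' G.hom g) :
    LocP P f'' ↔ ∀ y'' : Points Y'', Points.map (η[G]).left (Points.map g y'') ∈ 𝒰 := by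
  rw [hloc hX'' hY'' f'']
  constructor
  · intro H y''
    have hη : (η[G]).left ≫ G.hom = 𝟙 B := Over.w η[G]
    obtain ⟨x'', hx1, hx2⟩ := Points.exists_of_isPullback sq
      (Points.map (η[G]).left (Points.map g y'')) y'' (by
        rw [← Points.map_comp, hη]
        exact Points.map_id (F := B) _)
    rw [← hx1, hbc hY'' hX'' g b f'' sq]
    exact H x''
  · intro H x''
    rw [← hbc hY'' hX'' g b f'' sq]
    refine mem_of_unit_mem B hB G hG Q 𝒰 hbc _ ?_
    have := H (Points.map f'' x'')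
    rwa [← Points.map_comp f'' g, ← sq.w, Points.map_comp] at this

include hB hG hbc in
theorem main (P : MorphismProperty Scheme.{u}) (h𝒰 : IsOpen 𝒰)
    (hloc : ∀ {X'' Y'' : Sp S}, IsAlgSpace X'' → IsAlgSpace Y'' → ∀ f'' : X'' ⟶ Y'',
      LocP P f'' ↔ ∀ x'' : Points X'', HasAtMor Q f'' x'') :
    ∃ (W : Sp S) (w : W ⟶ B), RepWith @IsOpenImmersion w ∧
      (∀ (W' : Sp S) (w' : W' ⟶ B), RepWith @IsOpenImmersion w' →
        (LocP P (pullback.snd G.hom w') ↔ ∃ k : W' ⟶ W, k ≫ w = w')) ∧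
      (∀ (B' : Sp S), IsAlgSpace B' → ∀ (f : B' ⟶ B) (W'' : Sp S) (w'' : W'' ⟶ B'),
        RepWith @IsOpenImmersion w'' →
        (LocP P (pullback.snd (pullback.snd G.hom f) w'') ↔
          ∃ k : W'' ⟶ pullback w f, k ≫ pullback.snd w f = w'')) := by
  set W₀ : Set (Points B) := Points.map (η[G]).left ⁻¹' 𝒰 with hW₀
  have hW₀o : IsOpen W₀ := h𝒰.preimage (Points.continuous_map _)
  have hw := repWith_isOpenImmersion_openSubι B W₀ hW₀o
  -- factoring through `W` is a pointwise condition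
  have hfac : ∀ {F : Sp S} (φ : F ⟶ B), (∃ k : F ⟶ openSub B W₀, k ≫ openSubι B W₀ = φ) ↔
      ∀ y : Points F, Points.map φ y ∈ W₀ := by
    intro F φ
    constructor
    · rintro ⟨k, rfl⟩ y
      have : Points.map (k ≫ openSubι B W₀) y ∈ Set.range (Points.map (openSubι B W₀)) := by
        rw [Points.map_comp]; exact ⟨_, rfl⟩
      rwa [range_map_openSubι] at this
    · intro H
      refine exists_factor_of_range_subset (openSubι B W₀) hw φ ?_
      rw [range_map_openSubι]
      rintro _ ⟨y, rfl⟩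
      exact H y
  refine ⟨openSub B W₀, openSubι B W₀, hw, ?_, ?_⟩
  · intro W' w' hw'
    haveI := mono_of_repWith_isOpenImmersion w' hw'
    have hW' : IsAlgSpace W' := isAlgSpace_of_mono_representable hB w' hw'.1
    have sq := IsPullback.of_hasPullback G.hom w'
    have hX'' : IsAlgSpace (pullback G.hom w') := isAlgSpace_of_isPullback' hB hG hW' sq
    rw [locP_iff_forall_mem B hB G hG Q 𝒰 hbc P hloc hW' hX'' w' _ _ sq, hfac]
    rfl
  · intro B' hB' f W'' w'' hw''
    haveI := mono_of_repWith_isOpenImmersion w'' hw''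
    have hW'' : IsAlgSpace W'' := isAlgSpace_of_mono_representable hB' w'' hw''.1
    have sq' := IsPullback.of_hasPullback G.hom f
    have hG' : IsAlgSpace (pullback G.hom f) := isAlgSpace_of_isPullback' hB hG hB' sq'
    have sq'' := IsPullback.of_hasPullback (pullback.snd G.hom f) w''
    have hX'' : IsAlgSpace (pullback (pullback.snd G.hom f) w'') :=
      isAlgSpace_of_isPullback' hB' hG' hW'' sq''
    have big := sq''.paste_horiz sq'
    rw [locP_iff_forall_mem B hB G hG Q 𝒰 hbc P hloc hW'' hX'' (w'' ≫ f) _ _ big]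
    constructor
    · intro H
      obtain ⟨k₀, hk₀⟩ := (hfac (w'' ≫ f)).2 H
      exact ⟨pullback.lift k₀ w'' hk₀, pullback.lift_snd _ _ _⟩
    · rintro ⟨k, rfl⟩
      refine (hfac _).1 ⟨k ≫ pullback.fst _ _, ?_⟩
      rw [Category.assoc, pullback.condition, Category.assoc]

end Main

end Groth.Agent.Lib.Helper15.GrpLocus
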