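import Groth.Agent.Lib.Helper15.GrpTr
import Groth.Agent.Lib.Helper3.AlgSpUC3

set_option autoImplicit false
set_option backward.isDefEq.respectTransparency.types false
universe u
open CategoryTheory CategoryTheory.Limits AlgebraicGeometry Opposite MonoidalCategory CartesianMonoidalCategory MonObj
open AlgSp

namespace Groth.Agent.Lib.Helper15.GrpSep

variable {S : Scheme.{u}}

section cat
variable {C : Type*} [Category C] [HasPullbacks C]

/-- A section `e` of `π` is a base change of the relative diagonal of `π`. -/
theorem isPullback_section_diagonal {G B : C} (π : G ⟶ B) (e : B ⟶ G) (he : e ≫ π = 𝟙 B) :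
    IsPullback e e (pullback.diagonal π)
      (pullback.lift (𝟙 G) (π ≫ e) (by rw [Category.id_comp, Category.assoc, he, Category.comp_id])) := by
  refine IsPullback.mk' ?_ ?_ ?_
  · apply pullback.hom_ext
    · rw [Category.assoc, Category.assoc, pullback.diagonal_fst, pullback.lift_fst]
    · rw [Category.assoc, Category.assoc, pullback.diagonal_snd, pullback.lift_snd,
        Category.comp_id, reassoc_of% he]
  · intro Z φ φ' h1 h2
    have := h1 =≫ π
    simpa only [Category.assoc, he, Category.comp_id] using this
  · intro Z z t hzt
    have h1 : z = t := by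
      have := hzt =≫ pullback.fst π π
      simpa only [Category.assoc, pullback.diagonal_fst, Category.comp_id, pullback.lift_fst] using this
    have h2 : z = t ≫ π ≫ e := by
      have := hzt =≫ pullback.snd π π
      simpa only [Category.assoc, pullback.diagonal_snd, Category.comp_id, pullback.lift_snd] using this
    refine ⟨t ≫ π, ?_, ?_⟩
    · rw [Category.assoc, ← h2]
    · rw [Category.assoc, ← h2, h1]

omit [HasPullbacks C] in
/-- A section `e` of `π` is a base change of the absolute diagonal of the source of `π`. -/
theorem isPullback_section_diag [HasBinaryProducts C] {G B : C} (π : G ⟶ B) (e : B ⟶ G)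
    (he : e ≫ π = 𝟙 B) :
    IsPullback e e (Limits.diag G) (prod.lift (𝟙 G) (π ≫ e)) := by
  refine IsPullback.mk' ?_ ?_ ?_
  · apply Limits.prod.hom_ext
    · rw [Category.assoc, Category.assoc, Limits.diag, Limits.prod.lift_fst, Limits.prod.lift_fst]
    · rw [Category.assoc, Category.assoc, Limits.diag, Limits.prod.lift_snd, Limits.prod.lift_snd,
        Category.comp_id, reassoc_of% he]
  · intro Z φ φ' h1 h2
    have := h1 =≫ π
    simpa only [Category.assoc, he, Category.comp_id] using this
  · intro Z z t hzt
    have h1 : z = t := by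
      have := hzt =≫ Limits.prod.fst
      simpa only [Category.assoc, Limits.diag, Limits.prod.lift_fst, Category.comp_id] using this
    have h2 : z = t ≫ π ≫ e := by
      have := hzt =≫ Limits.prod.snd
      simpa only [Category.assoc, Limits.diag, Limits.prod.lift_snd, Category.comp_id] using this
    refine ⟨t ≫ π, ?_, ?_⟩
    · rw [Category.assoc, ← h2]
    · rw [Category.assoc, ← h2, h1]

end cat

section grp
variable {B : Sp S} (G : Over B) [GrpObj G]

theorem unit_hom : (η[G]).left ≫ G.hom = 𝟙 B := Over.w η[G]

/-- The relative diagonal of a group sheaf is, up to an automorphism of `G ×_B G`, a base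
change of the unit section. -/
theorem exists_isPullback_unit :
    ∃ (s₀ : G.left ⟶ pullback G.hom G.hom) (t : pullback G.hom G.hom ≅ pullback G.hom G.hom),
      s₀ ≫ t.hom = pullback.diagonal G.hom ∧
      IsPullback s₀ G.hom (pullback.fst G.hom G.hom) (η[G]).left := by
  obtain ⟨t, s₀, s₁, ht, h01, hs0, hs1, hs1f, hs0f⟩ := GrpTr.exists_translation G (𝟙 G.left)
  let c : pullback G.hom (𝟙 G.left ≫ G.hom) ≅ pullback G.hom G.hom :=
    pullback.congrHom rfl (Category.id_comp _)
  have hcf : c.hom ≫ pullback.fst _ _ = pullback.fst _ _ :=
    (pullback.lift_fst _ _ _).trans (Category.comp_id _)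
  have hcs : c.hom ≫ pullback.snd _ _ = pullback.snd _ _ :=
    (pullback.lift_snd _ _ _).trans (Category.comp_id _)
  refine ⟨s₀ ≫ c.hom, c.symm ≪≫ t ≪≫ c, ?_, ?_⟩
  · simp only [Iso.trans_hom, Iso.symm_hom, Category.assoc, Iso.hom_inv_id_assoc]
    rw [reassoc_of% h01]
    apply pullback.hom_ext
    · rw [Category.assoc, hcf, hs1f, pullback.diagonal_fst]
    · rw [Category.assoc, hcs, hs1, pullback.diagonal_snd]
  · have hu := unit_hom G
    refine IsPullback.mk' ?_ ?_ ?_
    · rw [Category.assoc, hcf, hs0f, Category.id_comp]
    · intro Z φ φ' h1 h2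
      have e1 := h1 =≫ pullback.snd G.hom G.hom
      simp only [Category.assoc, hcs, hs0, Category.comp_id] at e1
      exact e1
    · intro Z x y hxy
      have hy : x ≫ pullback.snd G.hom G.hom ≫ G.hom = y := by
        rw [← pullback.condition, reassoc_of% hxy, hu, Category.comp_id]
      refine ⟨x ≫ pullback.snd _ _, ?_, by rw [Category.assoc, hy]⟩
      apply pullback.hom_ext
      · rw [Category.assoc, Category.assoc, Category.assoc, hcf, hs0f, Category.id_comp,
          reassoc_of% hy, hxy]
      · rw [Category.assoc, Category.assoc, Category.assoc, hcs, hs0, Category.comp_id]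

variable (P : MorphismProperty Scheme.{u})

theorem repWith_unit_of_diagonal (h : RepWith P (pullback.diagonal G.hom)) :
    RepWith P (η[G]).left :=
  MorphismProperty.of_isPullback (P := RepWith (S := S) P)
    (isPullback_section_diagonal G.hom (η[G]).left (unit_hom G)) h

theorem repWith_diagonal_of_unit (h : RepWith P (η[G]).left) :
    RepWith P (pullback.diagonal G.hom) := by
  obtain ⟨s₀, t, h1, sq⟩ := exists_isPullback_unit G
  have h0 : RepWith P s₀ := MorphismProperty.of_isPullback (P := RepWith (S := S) P) sq.flip h
  rw [← h1]
  exact ((RepWith (S := S) P).cancel_right_of_respectsIso s₀ t.hom).2 h0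

theorem repWith_diagonal_iff_unit :
    RepWith P (pullback.diagonal G.hom) ↔ RepWith P (η[G]).left :=
  ⟨repWith_unit_of_diagonal G P, repWith_diagonal_of_unit G P⟩

theorem representable_unit (hG : IsAlgSpace G.left) : Representable (η[G]).left :=
  MorphismProperty.of_isPullback (P := Representable (S := S))
    (isPullback_section_diag G.hom (η[G]).left (unit_hom G)) hG.diag

end grp

end Groth.Agent.Lib.Helper15.GrpSep
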