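import Groth.Prelude.Def_AlgSpGpd
import Mathlib.CategoryTheory.Monoidal.Cartesian.Over
import Mathlib.CategoryTheory.Monoidal.Grp

set_option autoImplicit false
universe u
open CategoryTheory CategoryTheory.Limits AlgebraicGeometry Opposite MonoidalCategory CartesianMonoidalCategory MonObj
open AlgSp
open scoped CategoryTheory.Obj

namespace Groth.Agent.Lib.Helper15.GrpTr

variable {S : Scheme.{u}}

section
variable {B K : Sp S} (G : Over B) [GrpObj G] (g : K ⟶ G.left)

/-- Translation by a `K`-point of a group sheaf, after base change to `K`. -/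
theorem exists_translation :
    ∃ (t : pullback G.hom (g ≫ G.hom) ≅ pullback G.hom (g ≫ G.hom))
      (s₀ s₁ : K ⟶ pullback G.hom (g ≫ G.hom)),
      t.hom ≫ pullback.snd G.hom (g ≫ G.hom) = pullback.snd G.hom (g ≫ G.hom) ∧
      s₀ ≫ t.hom = s₁ ∧ s₀ ≫ pullback.snd _ _ = 𝟙 K ∧ s₁ ≫ pullback.snd _ _ = 𝟙 K ∧
      s₁ ≫ pullback.fst _ _ = g ∧ s₀ ≫ pullback.fst _ _ = (g ≫ G.hom) ≫ (η[G]).left := by
  set b := g ≫ G.hom with hb
  let GK : Over K := (Over.pullback b).obj G
  let σ : 𝟙_ (Over K) ⟶ GK := Over.homMk (pullback.lift g (𝟙 K) (Category.id_comp _).symm)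
    (pullback.lift_snd _ _ _)
  let T : GK ≅ GK := GrpObj.mulRight σ
  refine ⟨(Over.forget K).mapIso T, (η[GK]).left, σ.left, Over.w T.hom, ?_, Over.w η[GK],
    pullback.lift_snd _ _ _, pullback.lift_fst _ _ _, ?_⟩
  · show (η[GK]).left ≫ T.hom.left = σ.left
    rw [← Over.comp_left]
    congr 1
    show η[GK] ≫ lift (𝟙 GK) (toUnit GK ≫ σ) ≫ μ[GK] = σ
    have e1 : η[GK] ≫ toUnit GK = 𝟙 _ := toUnit_unique _ _
    rw [comp_lift_assoc, Category.comp_id, reassoc_of% e1]
    have := lift_comp_one_left (𝟙 (𝟙_ (Over K))) σ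
    rwa [Category.id_comp] at this
  · rw [Functor.obj.η_def, Over.comp_left, Category.assoc, Over.ε_pullback_left]
    have e1 : ((Over.pullback b).map η[G]).left ≫ pullback.fst G.hom b =
        pullback.fst (𝟙_ (Over B)).hom b ≫ (η[G]).left := by
      simp [Over.pullback]
      exact pullback.lift_fst _ _ _
    rw [e1]
    have e2 : pullback.fst (𝟙 B) b = pullback.snd (𝟙 B) b ≫ b := by
      have := pullback.condition (f := 𝟙 B) (g := b)
      rwa [Category.comp_id] at this
    show inv (pullback.snd (𝟙 B) b) ≫ pullback.fst (𝟙 B) b ≫ (η[G]).left = b ≫ (η[G]).left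
    rw [e2, Category.assoc, IsIso.inv_hom_id_assoc]

end

end Groth.Agent.Lib.Helper15.GrpTr
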