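import Groth.Prelude.Def_AlgSpGpd
import Mathlib.CategoryTheory.Monoidal.Cartesian.Over
import Mathlib.CategoryTheory.Monoidal.Grp

set_option autoImplicit false
universe u
open CategoryTheory CategoryTheory.Limits AlgebraicGeometry Opposite MonoidalCategory CartesianMonoidalCategory MonObj
open AlgSp
open scoped CategoryTheory.Obj

namespace Groth.Agent.Lib.Helper15.GrpTr2

variable {S : Scheme.{u}}

section
variable {B K : Sp S} (G : Over B) [GrpObj G] (g : K ⟶ G.left)

/-- Right translation by a `K`-point of a group sheaf, after base change to `K`: an automorphism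
`(x, k) ↦ (x · g k, k)` of `G ×_B K`. -/
theorem exists_translation_mul :
    ∃ (t : pullback G.hom (g ≫ G.hom) ≅ pullback G.hom (g ≫ G.hom)),
      t.hom ≫ pullback.snd G.hom (g ≫ G.hom) = pullback.snd G.hom (g ≫ G.hom) ∧
      t.hom ≫ pullback.fst G.hom (g ≫ G.hom) =
        (pullback.lift (pullback.fst _ _) (pullback.snd _ _ ≫ g)
          (by rw [pullback.condition, Category.assoc]) : pullback G.hom (g ≫ G.hom) ⟶ (G ⊗ G).left) ≫
          (μ[G]).left := by
  set b := g ≫ G.hom with hb
  let GK : Over K := (Over.pullback b).obj G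
  let σ : 𝟙_ (Over K) ⟶ GK := Over.homMk (pullback.lift g (𝟙 K) (Category.id_comp _).symm)
    (pullback.lift_snd _ _ _)
  let T : GK ≅ GK := GrpObj.mulRight σ
  refine ⟨(Over.forget K).mapIso T, Over.w T.hom, ?_⟩
  show T.hom.left ≫ pullback.fst G.hom b = _
  have hT : T.hom = lift (𝟙 GK) (toUnit GK ≫ σ) ≫ μ[GK] := rfl
  rw [hT, Functor.obj.μ_def, Over.comp_left, Over.comp_left, Category.assoc, Category.assoc]
  have e1 : ((Over.pullback b).map μ[G]).left ≫ pullback.fst G.hom b =
      pullback.fst (G ⊗ G).hom b ≫ (μ[G]).left := by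
    simp [Over.pullback]
    exact pullback.lift_fst _ _ _
  rw [e1, ← Category.assoc, ← Category.assoc]
  congr 1
  apply pullback.hom_ext
  · rw [pullback.lift_fst, Category.assoc, Category.assoc]
    have := Over.μ_pullback_left_fst_fst (f := b) G G
    rw [this]
    have h1 : (lift (𝟙 GK) (toUnit GK ≫ σ)).left ≫ pullback.fst GK.hom GK.hom = 𝟙 _ :=
      congrArg (fun f => f.left) (lift_fst (𝟙 GK) (toUnit GK ≫ σ))
    exact (reassoc_of% h1) _
  · rw [pullback.lift_snd, Category.assoc, Category.assoc]
    have := Over.μ_pullback_left_fst_snd (f := b) G G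
    rw [this]
    have h1 : (lift (𝟙 GK) (toUnit GK ≫ σ)).left ≫ pullback.snd GK.hom GK.hom =
        (toUnit GK ≫ σ).left :=
      congrArg (fun f => f.left) (lift_snd (𝟙 GK) (toUnit GK ≫ σ))
    rw [reassoc_of% h1, Over.comp_left, Category.assoc]
    have h2 : σ.left ≫ pullback.fst G.hom b = g := pullback.lift_fst _ _ _
    rw [h2]
    rfl

end

end Groth.Agent.Lib.Helper15.GrpTr2
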