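import Mathlib
import Groth.Prelude.Def_CAlgX
import Groth.Agent.Lib.Helper5.QRAppA
import Groth.Agent.Lib.Helper5.FlatKind
import Groth.Agent.S2104
import Groth.Prelude.Def_RegImm

set_option autoImplicit false
universe u

namespace Groth.Agent.Lib.Helper15.H1App

open Groth.Agent.Lib.Helper5.QRApp

variable {A : Type u} [CommRing A] {n m : ℕ}

/-- extension by zero on the right -/
def extL (m : ℕ) : (Fin n → A) →ₗ[A] (Fin (n + m) → A) where
  toFun v := Fin.append v 0
  map_add' x y := by
    funext p
    refine Fin.addCases (fun i => ?_) (fun j => ?_) p <;> simp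
  map_smul' r x := by
    funext p
    refine Fin.addCases (fun i => ?_) (fun j => ?_) p <;> simp

/-- extension by zero on the left -/
def extR (n : ℕ) : (Fin m → A) →ₗ[A] (Fin (n + m) → A) where
  toFun v := Fin.append 0 v
  map_add' x y := by
    funext p
    refine Fin.addCases (fun i => ?_) (fun j => ?_) p <;> simp
  map_smul' r x := by
    funext p
    refine Fin.addCases (fun i => ?_) (fun j => ?_) p <;> simp

theorem extL_single [DecidableEq (Fin n)] [DecidableEq (Fin (n + m))] (i : Fin n) (x : A) :
    extL (n := n) m (Pi.single i x) = Pi.single (Fin.castAdd m i) x := by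
  funext p
  refine Fin.addCases (fun i' => ?_) (fun j => ?_) p
  · simp [extL, Pi.single_apply]
  · simp [extL, Pi.single_apply, Fin.ext_iff]
    intro h; omega

theorem extR_single [DecidableEq (Fin m)] [DecidableEq (Fin (n + m))] (j : Fin m) (x : A) :
    extR (m := m) n (Pi.single j x) = Pi.single (Fin.natAdd n j) x := by
  funext p
  refine Fin.addCases (fun i' => ?_) (fun j' => ?_) p
  · simp [extR, Pi.single_apply, Fin.ext_iff]
    intro h; omega
  · simp [extR, Pi.single_apply]


theorem h1_append (f : Fin n → A) (g : Fin m → A) (hf : CAlgX.IsH1Regular f)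
    (hg : CAlgX.IsH1Regular (fun j => Ideal.Quotient.mk (Ideal.span (Set.range f)) (g j))) :
    CAlgX.IsH1Regular (Fin.append f g) := by
  classical
  intro a ha
  rw [Fin.sum_univ_add] at ha
  simp only [Fin.append_left, Fin.append_right] at ha
  have hb : ∑ j, a (Fin.natAdd n j) * g j ∈ Ideal.span (Set.range f) := by
    have h0 : ∑ j, a (Fin.natAdd n j) * g j = -(∑ i, a (Fin.castAdd m i) * f i) :=
      eq_neg_of_add_eq_zero_right ha
    rw [h0]
    refine neg_mem (Ideal.sum_mem _ fun i _ => ?_)
    exact Ideal.mul_mem_left _ _ (Ideal.subset_span ⟨i, rfl⟩)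
  obtain ⟨c, hc, hcd⟩ := h1_one g (Ideal.span (Set.range f)) hg (fun j => a (Fin.natAdd n j)) hb
  have hD : ∀ j, ∃ D : Fin n → A, ∑ i, D i * f i = a (Fin.natAdd n j) - c j :=
    fun j => Ideal.mem_span_range_iff_exists_fun.1 (hcd j)
  choose D hD using hD
  have hc0 := sum_mul_of_mem_Bnd g hc
  have h1 : ∑ i, (a (Fin.castAdd m i) + ∑ j, D j i * g j) * f i = 0 := by
    have e1 : ∑ i, (∑ j, D j i * g j) * f i = ∑ j, (a (Fin.natAdd n j) - c j) * g j := by
      simp only [Finset.sum_mul]
      rw [Finset.sum_comm]
      refine Finset.sum_congr rfl fun j _ => ?_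
      rw [← hD j, Finset.sum_mul]
      refine Finset.sum_congr rfl fun i _ => by ring
    simp only [add_mul, Finset.sum_add_distrib, e1, sub_mul, Finset.sum_sub_distrib, hc0, sub_zero]
    exact ha
  have h2 := hf _ h1
  -- the target span
  let T : Submodule A (Fin (n + m) → A) :=
    Submodule.span A {v | ∃ p q : Fin (n + m),
      v = Pi.single p (Fin.append f g q) - Pi.single q (Fin.append f g p)}
  change a ∈ T
  have hL : Submodule.map (extL (n := n) m) (Bnd f) ≤ T := by
    rw [Bnd, Submodule.map_span_le]
    rintro v ⟨i, k, rfl⟩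
    rw [map_sub, extL_single, extL_single]
    exact Submodule.subset_span ⟨Fin.castAdd m i, Fin.castAdd m k, by simp⟩
  have hR : Submodule.map (extR (m := m) n) (Bnd g) ≤ T := by
    rw [Bnd, Submodule.map_span_le]
    rintro v ⟨i, k, rfl⟩
    rw [map_sub, extR_single, extR_single]
    exact Submodule.subset_span ⟨Fin.natAdd n i, Fin.natAdd n k, by simp⟩
  have hdecomp : a = extL (n := n) m (fun i => a (Fin.castAdd m i) + ∑ j, D j i * g j) +
      extR (m := m) n c +
      ∑ j, ∑ i, D j i • (Pi.single (Fin.natAdd n j) (Fin.append f g (Fin.castAdd m i)) -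
        Pi.single (Fin.castAdd m i) (Fin.append f g (Fin.natAdd n j))) := by
    funext p
    refine Fin.addCases (fun i' => ?_) (fun j' => ?_) p
    · simp only [extL, extR, LinearMap.coe_mk, AddHom.coe_mk, Pi.add_apply, Fin.append_left,
        Finset.sum_apply, Pi.smul_apply, Pi.sub_apply, Pi.single_apply, smul_eq_mul,
        Fin.append_right, Pi.zero_apply]
      have e2 : ∀ j i, (D j i * ((if Fin.castAdd m i' = Fin.natAdd n j then f i else 0) -
          (if Fin.castAdd m i' = Fin.castAdd m i then g j else 0))) =
          if i = i' then -(D j i * g j) else 0 := by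
        intro j i
        have hne : Fin.castAdd m i' ≠ Fin.natAdd n j := by
          intro h; have := congrArg Fin.val h; simp at this; omega
        rw [if_neg hne]
        by_cases hi : i = i'
        · subst hi; simp
        · have : Fin.castAdd m i' ≠ Fin.castAdd m i := fun h => hi (Fin.castAdd_injective _ _ h).symm
          simp [this, hi]
      simp only [e2, Finset.sum_ite_eq', Finset.mem_univ, if_true, Finset.sum_neg_distrib]
      ring
    · simp only [extL, extR, LinearMap.coe_mk, AddHom.coe_mk, Pi.add_apply, Fin.append_left,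
        Finset.sum_apply, Pi.smul_apply, Pi.sub_apply, Pi.single_apply, smul_eq_mul,
        Fin.append_right, Pi.zero_apply]
      have e2 : ∀ j i, (D j i * ((if Fin.natAdd n j' = Fin.natAdd n j then f i else 0) -
          (if Fin.natAdd n j' = Fin.castAdd m i then g j else 0))) =
          if j = j' then D j i * f i else 0 := by
        intro j i
        have hne : Fin.natAdd n j' ≠ Fin.castAdd m i := by
          intro h; have := congrArg Fin.val h; simp at this; omega
        rw [if_neg hne]
        by_cases hj : j = j'
        · subst hj; simp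
        · have : Fin.natAdd n j' ≠ Fin.natAdd n j := fun h => hj (Fin.natAdd_injective _ _ h).symm
          simp [this, hj]
      simp only [e2]
      rw [Finset.sum_comm]
      simp only [Finset.sum_ite_eq', Finset.mem_univ, if_true, hD j']
      ring
  rw [hdecomp]
  refine Submodule.add_mem _ (Submodule.add_mem _ (hL ⟨_, h2, rfl⟩) (hR ⟨_, hc, rfl⟩)) ?_
  refine Submodule.sum_mem _ fun j _ => Submodule.sum_mem _ fun i _ => Submodule.smul_mem _ _ ?_
  exact Submodule.subset_span ⟨Fin.natAdd n j, Fin.castAdd m i, rfl⟩


open Groth.Agent.Lib.Helper5.FlatKind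

theorem h1_append' (f : Fin n → A) (g : Fin m → A) (K : Ideal A)
    (hK : K = Ideal.span (Set.range f)) (hf : CAlgX.IsH1Regular f)
    (hg : CAlgX.IsH1Regular (fun j => Ideal.Quotient.mk K (g j))) :
    CAlgX.IsH1Regular (Fin.append f g) := by
  subst hK
  exact h1_append f g hf hg

theorem qr_append' (f : Fin n → A) (g : Fin m → A) (K : Ideal A)
    (hK : K = Ideal.span (Set.range f)) (hf : CAlgX.IsQuasiRegular f)
    (hg : CAlgX.IsH1Regular (fun j => Ideal.Quotient.mk K (g j))) :
    CAlgX.IsQuasiRegular (Fin.append f g) := by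
  subst hK
  exact Groth.Agent.S2104.result f g hf hg

theorem append_get (fs gt : List A) (i : Fin (fs.length + gt.length)) :
    Fin.append fs.get gt.get i = (fs ++ gt).get (Fin.cast (List.length_append).symm i) := by
  refine Fin.addCases (fun a => ?_) (fun b => ?_) i
  · simp [List.getElem_append_left]
  · simp [List.getElem_append_right]

theorem ofList_eq (fs : List A) : Ideal.ofList fs = Ideal.span (Set.range fs.get) := by
  rw [Set.range_list_get]

/-- Appending to a sequence of kind `h1` (resp. `quasi`) a sequence which is `H_1`-regular modulo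
it gives a sequence of kind `h1` (resp. `quasi`). -/
theorem kind_append (k : RegImm.Kind) (hk : k = RegImm.Kind.h1 ∨ k = RegImm.Kind.quasi)
    (fs gt : List A) (hfs : k.Seq A fs)
    (hgt : RegImm.Kind.h1.Seq (A ⧸ Ideal.ofList fs) (gt.map (Ideal.Quotient.mk (Ideal.ofList fs)))) :
    k.Seq A (fs ++ gt) := by
  have hg : CAlgX.IsH1Regular
      (fun j : Fin gt.length => Ideal.Quotient.mk (Ideal.ofList fs) (gt.get j)) :=
    h1_congr (List.length_map _) _ _ (fun i => by simp) hgt
  rcases hk with rfl | rfl
  · exact h1_congr (List.length_append).symm _ _ (append_get fs gt)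
      (h1_append' fs.get gt.get _ (ofList_eq fs) hfs hg)
  · exact qr_congr (List.length_append).symm _ _ (append_get fs gt)
      (qr_append' fs.get gt.get _ (ofList_eq fs) hfs hg)

end Groth.Agent.Lib.Helper15.H1App
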