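import Groth.Agent.Lib.Helper3.FibPowN
import Groth.Agent.Lib.Helper15.ElemDist
import Groth.Agent.Lib.Helper3.SchImRed

set_option autoImplicit false
universe u
open CategoryTheory CategoryTheory.Limits AlgebraicGeometry Opposite
open AlgSp

namespace Groth.Agent.Lib.Helper15.IndPr1

open Groth.Agent.Lib.Helper3 Groth.Agent.Lib.Helper3.FibPow Groth.Agent.Lib.Helper15.ElemDist

variable {S : Scheme.{u}}

/-- A morphism from a reduced scheme whose points all lie in a closed subspace factors through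
it. -/
theorem exists_lift_of_isReduced {T₀ W : Sp S} {i : T₀ ⟶ W} (hi : RepWith @IsClosedImmersion i)
    {T : Over S} [IsReduced T.left] (x : (yon S).obj T ⟶ W)
    (ht : ∀ t, Points.ofPt x t ∈ Set.range (Points.map i)) :
    ∃ τ : (yon S).obj T ⟶ T₀, τ ≫ i = x := by
  have hc : IsClosedImmersion (hi.rep.snd x).left := hi.property_snd x
  have hsurj : Surjective (hi.rep.snd x).left :=
    ⟨fun pt => mem_range_of_isPullback (hi.rep.isPullback x) pt (ht pt)⟩
  have hiso : IsIso (hi.rep.snd x).left := isIso_of_isClosedImmersion_of_surjective _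
  let c' : T ⟶ hi.rep.pullback x := Over.homMk (inv (hi.rep.snd x).left) (by
    rw [IsIso.inv_comp_eq, Over.w])
  have hc' : c' ≫ hi.rep.snd x = 𝟙 T := by
    ext
    change inv (hi.rep.snd x).left ≫ (hi.rep.snd x).left = 𝟙 _
    rw [IsIso.inv_hom_id]
  refine ⟨(yon S).map c' ≫ hi.rep.fst x, ?_⟩
  rw [Category.assoc, (hi.rep.isPullback x).w, ← Category.assoc, ← Functor.map_comp, hc',
    CategoryTheory.Functor.map_id, Category.id_comp]

/-- The iso lemma for strata, with surjectivity only over the closed subspace. -/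
theorem isIso_fst_of_field_inj' {Uo T : Sp S} (hT : IsAlgSpace T) {M : Over S}
    (f : (yon S).obj M ⟶ Uo) (hfe : RepWith @Etale f)
    (i : T ⟶ Uo) (hi : RepWith @IsClosedImmersion i)
    (hsurj : Set.range (Points.map i) ⊆ Set.range (Points.map f))
    (hinj : ∀ (K : Type u) [Field K] (str : Spec (.of K) ⟶ S) (μ1 μ2 : Over.mk str ⟶ M),
      (yon S).map μ1 ≫ f = (yon S).map μ2 ≫ f →
      Points.mk (fieldPtOfHom K str ((yon S).map μ1 ≫ f)) ∈ Set.range (Points.map i) → μ1 = μ2)
    {P0 : Sp S} (fst : P0 ⟶ T) (snd : P0 ⟶ (yon S).obj M) (sq : IsPullback fst snd i f) :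
    IsIso fst := by
  have sq' := hi.rep.isPullback f
  have hiso : fst = (sq.isoIsPullback _ _ sq').hom ≫ hi.rep.fst f :=
    (IsPullback.isoIsPullback_hom_fst _ _ sq sq').symm
  rw [hiso]
  suffices IsIso (hi.rep.fst f) by infer_instance
  set Z := hi.rep.pullback f
  set ι : Z ⟶ M := hi.rep.snd f
  set q := hi.rep.fst f
  haveI : Mono i := Groth.Agent.S9928.mono_of_repWith @IsClosedImmersion
    (fun g hg => by have : IsClosedImmersion g := hg; infer_instance) i hi
  haveI : Mono ((yon S).map ι) :=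
    MorphismProperty.of_isPullback (P := MorphismProperty.monomorphisms (Sp S)) sq'
      (MorphismProperty.monomorphisms.infer_property i)
  have hqe : RepWith @Etale q := MorphismProperty.of_isPullback sq'.flip hfe
  have hqs : RepWith @Surjective q := by
    rw [Groth.Agent.S9906.repWith_surjective_iff q hqe.rep]
    intro t
    obtain ⟨v, hv⟩ := hsurj ⟨t, rfl⟩
    obtain ⟨z, hz1, -⟩ := Points.exists_of_isPullback sq' t v hv.symm
    exact ⟨z, hz1⟩
  refine isIso_of_etale_surjective_of_field_inj hT q hqe hqs ?_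
  intro K _ str z1 z2 h12
  have hmono : Mono ι := (yon S).mono_of_mono_map inferInstance
  rw [← cancel_mono ι]
  apply hinj K str
  · rw [Functor.map_comp, Functor.map_comp, Category.assoc, Category.assoc, ← sq'.w,
      ← Category.assoc, ← Category.assoc, h12]
  · refine ⟨Points.mk (fieldPtOfHom K str ((yon S).map z1 ≫ q)), ?_⟩
    rw [Points.map_mk_fieldPtOfHom, Functor.map_comp, Category.assoc, Category.assoc, sq'.w]

/-- From the isomorphism over a closed subspace, injectivity on field valued points over it. -/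
theorem inj_of_isIso {Uo T : Sp S} {M : Over S} (f : (yon S).obj M ⟶ Uo)
    (i : T ⟶ Uo) (hi : RepWith @IsClosedImmersion i)
    (hiso : ∀ (P : Sp S) (fst : P ⟶ T) (snd : P ⟶ (yon S).obj M),
      IsPullback fst snd i f → IsIso fst)
    (K : Type u) [Field K] (str : Spec (.of K) ⟶ S) (μ1 μ2 : Over.mk str ⟶ M)
    (h12 : (yon S).map μ1 ≫ f = (yon S).map μ2 ≫ f)
    (hmem : Points.mk (fieldPtOfHom K str ((yon S).map μ1 ≫ f)) ∈ Set.range (Points.map i)) :
    μ1 = μ2 := by
  haveI : IsReduced (Over.mk str).left := by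
    change IsReduced (Spec _)
    infer_instance
  obtain ⟨τ, hτ⟩ := exists_lift_of_isReduced hi ((yon S).map μ1 ≫ f) (fun t => by
    have hsub : Subsingleton ↥(Over.mk str).left := by
      change Subsingleton ↥(Spec (CommRingCat.of K))
      infer_instance
    have : t = IsLocalRing.closedPoint K := Subsingleton.elim _ _
    rw [this, ← Groth.Agent.S9906.mk_fieldPtOfHom_eq_ofPt]
    exact hmem)
  haveI : IsIso (pullback.fst i f) := hiso _ _ _ (IsPullback.of_hasPullback i f)
  have e : pullback.lift τ ((yon S).map μ1) hτ = pullback.lift τ ((yon S).map μ2) (hτ.trans h12) := by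
    rw [← cancel_mono (pullback.fst i f), pullback.lift_fst, pullback.lift_fst]
  have e2 := congrArg (fun l => l ≫ pullback.snd i f) e
  simp only [pullback.lift_snd] at e2
  exact (yon S).map_injective e2

theorem isPullback_of_mono_factor {C : Type*} [Category C] {A B Y : C} (k : A ⟶ B) (j₂ : B ⟶ Y)
    [Mono j₂] (j₁ : A ⟶ Y) (hk : k ≫ j₂ = j₁) : IsPullback k (𝟙 A) j₂ j₁ := by
  refine IsPullback.mk' ?_ (fun T φ φ' _ h2 => ?_) ?_
  · rw [Category.id_comp, hk]
  · rw [Category.comp_id, Category.comp_id] at h2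
    exact h2
  · intro T a b hab
    refine ⟨b, ?_, Category.comp_id _⟩
    rw [← cancel_mono j₂, Category.assoc, hk, hab]

/-- The step lemma: an elementary distinguished square from an etale map which is injective on
field valued points outside the smaller open. -/
theorem isElemDistSq_of_inj {Y W₁ W₂ : Sp S} (hW₂ : IsAlgSpace W₂)
    (j₁ : W₁ ⟶ Y) (j₂ : W₂ ⟶ Y)
    (hj₁ : RepWith @IsOpenImmersion j₁) (hj₂ : RepWith @IsOpenImmersion j₂)
    (k : W₁ ⟶ W₂) (hk : k ≫ j₂ = j₁) {V' : Over S} (g : (yon S).obj V' ⟶ Y)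
    (hg : RepWith @Etale g) (f : (yon S).obj V' ⟶ W₂) (hf : f ≫ j₂ = g)
    (hcov : Set.range (Points.map j₂) ⊆ Set.range (Points.map j₁) ∪ Set.range (Points.map g))
    (hinj : ∀ (K : Type u) [Field K] (str : Spec (.of K) ⟶ S) (μ1 μ2 : Over.mk str ⟶ V'),
      (yon S).map μ1 ≫ g = (yon S).map μ2 ≫ g →
      Points.mk (fieldPtOfHom K str ((yon S).map μ1 ≫ g)) ∉ Set.range (Points.map j₁) →
        μ1 = μ2) :
    IsElemDistSq k f := by
  haveI : Mono j₂ := mono_of_repWith_isOpenImmersion j₂ hj₂
  have hj₂inj : Function.Injective (Points.map j₂) := Points.map_injective_of_mono j₂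
  have hkop : RepWith @IsOpenImmersion k := by
    exact MorphismProperty.of_isPullback (isPullback_of_mono_factor k j₂ j₁ hk).flip hj₁
  have hfe : RepWith @Etale f :=
    MorphismProperty.of_isPullback (isPullback_of_mono_factor f j₂ g hf).flip hg
  have hkopen : IsOpen (Set.range (Points.map k)) :=
    (isOpenMap_map_of_etale (repWith_mono isOpenImmersion_le_etale hkop)).isOpen_range
  obtain ⟨Z, i, hi⟩ := Groth.Agent.S10192.result (⟨W₂, hW₂⟩ : Space S)
    (Set.range (Points.map k))ᶜ (isClosed_compl_iff.2 hkopen)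
  have hir : Set.range (Points.map i.hom) = (Set.range (Points.map k))ᶜ := hi.2.1
  have hj₁r : Set.range (Points.map j₁) = Points.map j₂ '' Set.range (Points.map k) := by
    rw [← Set.range_comp, ← hk]
    congr 1
    funext x
    exact Points.map_comp _ _ _
  refine ⟨hkop, isEtaleMor_of_repWith_etale hfe, Z.obj, pullback i.hom f, i.hom,
    pullback.fst i.hom f, pullback.snd i.hom f, hi, IsPullback.of_hasPullback _ _, ?_⟩
  refine isIso_fst_of_field_inj' Z.property f hfe i.hom hi.1 ?_ ?_ _ _
    (IsPullback.of_hasPullback _ _)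
  · intro w hw
    rw [hir] at hw
    have h1 : Points.map j₂ w ∈ Set.range (Points.map j₁) ∪ Set.range (Points.map g) :=
      hcov ⟨w, rfl⟩
    rcases h1 with h1 | h1
    · exfalso
      rw [hj₁r] at h1
      obtain ⟨w', hw', e⟩ := h1
      exact hw (hj₂inj e ▸ hw')
    · obtain ⟨v, hv⟩ := h1
      refine ⟨v, hj₂inj ?_⟩
      rw [← Points.map_comp, hf]
      exact hv
  · intro K _ str μ1 μ2 h12 hmem
    refine hinj K str μ1 μ2 ?_ ?_
    · rw [← hf, ← Category.assoc, h12, Category.assoc]
    · intro hcon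
      rw [← hf, ← Category.assoc, ← Points.map_mk_fieldPtOfHom, hj₁r] at hcon
      obtain ⟨w', hw', e⟩ := hcon
      rw [hir] at hmem
      exact hmem (hj₂inj e ▸ hw')

/-- injectivity on field valued points outside `Ω` -/
def Inj {X : Sp S} {V : Over S} (g : (yon S).obj V ⟶ X) (Ω : Set (Points X)) : Prop :=
  ∀ (K : Type u) [Field K] (str : Spec (.of K) ⟶ S) (μ1 μ2 : Over.mk str ⟶ V),
    (yon S).map μ1 ≫ g = (yon S).map μ2 ≫ g →
    Points.mk (fieldPtOfHom K str ((yon S).map μ1 ≫ g)) ∉ Ω → μ1 = μ2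

theorem Inj.mono {X : Sp S} {V : Over S} {g : (yon S).obj V ⟶ X} {Ω Ω' : Set (Points X)}
    (h : Inj g Ω) (hΩ : Ω ⊆ Ω') : Inj g Ω' :=
  fun K _ str μ1 μ2 h12 hmem => h K str μ1 μ2 h12 (fun hc => hmem (hΩ hc))

theorem Inj.restrict {X : Sp S} {V : Over S} {g : (yon S).obj V ⟶ X} {Ω : Set (Points X)}
    (h : Inj g Ω) (O : V.left.Opens) : Inj (chartRestrict g O) Ω := by
  intro K _ str μ1 μ2 h12 hmem
  let ιO : Over.mk (O.ι ≫ V.hom) ⟶ V := Over.homMk O.ι rfl
  have e : ∀ μ : Over.mk str ⟶ Over.mk (O.ι ≫ V.hom),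
      (yon S).map μ ≫ chartRestrict g O = (yon S).map (μ ≫ ιO) ≫ g := fun μ => by
    rw [Functor.map_comp, Category.assoc]
    rfl
  have h1 : μ1 ≫ ιO = μ2 ≫ ιO := by
    apply h K str
    · rw [← e, ← e, h12]
    · rw [← e]
      exact hmem
  have h2 : μ1.left ≫ O.ι = μ2.left ≫ O.ι := congrArg CommaMorphism.left h1
  apply Over.OverMorphism.ext
  exact (cancel_mono O.ι).1 h2

/-- one compact scheme worth of steps -/
theorem step_compact {X : Sp S} (Q : Set (Points X) → Prop)
    (hstep : ∀ (Ω : Set (Points X)) (V' : Over S) (g' : (yon S).obj V' ⟶ X), IsAffine V'.left →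
      RepWith @Etale g' → Inj g' Ω → Q Ω → Q (Ω ∪ Set.range (Points.map g')))
    {V : Over S} [CompactSpace ↥V.left] (g : (yon S).obj V ⟶ X) (hg : RepWith @Etale g)
    (Ω₀ : Set (Points X)) (hinj : Inj g Ω₀) (h0 : Q Ω₀) :
    Q (Ω₀ ∪ Set.range (Points.map g)) := by
  have key : Q (Ω₀ ∪ Points.ofPt g '' ((⊤ : V.left.Opens) : Set ↥V.left)) := by
    refine compact_open_induction_on (P := fun O : V.left.Opens =>
      Q (Ω₀ ∪ Points.ofPt g '' (O : Set ↥V.left))) ⊤ isCompact_univ ?_ ?_
    · change Q (Ω₀ ∪ Points.ofPt g '' ((⊥ : V.left.Opens) : Set ↥V.left))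
      have : ((⊥ : V.left.Opens) : Set ↥V.left) = ∅ := rfl
      rw [this, Set.image_empty, Set.union_empty]
      exact h0
    · intro O _ U hO
      change Q (Ω₀ ∪ Points.ofPt g '' ((O ⊔ U.1 : V.left.Opens) : Set ↥V.left))
      have hU : IsAffine (Over.mk (U.1.ι ≫ V.hom)).left := U.2
      have h1 := hstep (Ω₀ ∪ Points.ofPt g '' (O : Set ↥V.left)) (Over.mk (U.1.ι ≫ V.hom))
        (chartRestrict g U.1) hU (chartRestrict_etale g hg U.1)
        ((hinj.restrict U.1).mono Set.subset_union_left) hO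
      have h2 : Set.range (Points.map (chartRestrict g U.1)) =
          Points.ofPt g '' (U.1 : Set ↥V.left) := by
        rw [range_map_eq_range_ofPt]
        ext x
        constructor
        · rintro ⟨w, rfl⟩
          rw [ofPt_chartRestrict]
          exact ⟨U.1.ι w, w.2, rfl⟩
        · rintro ⟨v, hv, rfl⟩
          exact ⟨⟨v, hv⟩, ofPt_chartRestrict g U.1 ⟨v, hv⟩⟩
      have h3 : ((O ⊔ U.1 : V.left.Opens) : Set ↥V.left) = (O : Set ↥V.left) ∪ (U.1 : Set ↥V.left) :=
        rfl
      rw [h3, Set.image_union, ← Set.union_assoc, ← h2]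
      exact h1
  have : ((⊤ : V.left.Opens) : Set ↥V.left) = Set.univ := rfl
  rw [this, Set.image_univ, ← range_map_eq_range_ofPt] at key
  exact key

/-- **The induction principle on open subsets of the space of points.** -/
theorem open_induction [QuasiSeparatedSpace ↥S] (X : Space S)
    (hqc : IsQuasiCompactSp X.obj) (hqs : IsQuasiSeparatedSp X.obj)
    (Q : Set (Points X.obj) → Prop)
    (hstep : ∀ (Ω : Set (Points X.obj)) (V' : Over S) (g' : (yon S).obj V' ⟶ X.obj),
      IsAffine V'.left → RepWith @Etale g' → Inj g' Ω → Q Ω →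
        Q (Ω ∪ Set.range (Points.map g')))
    (Ω₀ : Set (Points X.obj)) (h0 : Q Ω₀) : Q Set.univ := by
  obtain ⟨n, Uo, j, k, T, i, hj, hkj, hj1, hempty, hi, hV⟩ := main10419 X hqc hqs
  have hAsub : ∀ p, Set.range (Points.map (j (p + 1)).hom) ⊆ Set.range (Points.map (j p).hom) := by
    rintro p _ ⟨y, rfl⟩
    refine ⟨Points.map (k p).hom y, ?_⟩
    rw [← Points.map_comp]
    have : (k p).hom ≫ (j p).hom = (j (p + 1)).hom := congrArg (fun φ => φ.hom) (hkj p)
    rw [this]
  have hA1 : Set.range (Points.map (j 1).hom) = Set.univ := by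
    have hiso : IsIso (j 1).hom := (ObjectProperty.isIso_hom_iff _).2 hj1
    apply Set.eq_univ_of_forall
    intro x
    refine ⟨Points.map (inv (j 1).hom) x, ?_⟩
    rw [← Points.map_comp, IsIso.inv_hom_id, Points.map_id]
  have hAe : Set.range (Points.map (j (n + 1)).hom) = ∅ := Set.range_eq_empty _
  have key : ∀ d, d ≤ n → Q (Ω₀ ∪ Set.range (Points.map (j (n + 1 - d)).hom)) := by
    intro d
    induction d with
    | zero =>
      intro _
      rw [Nat.sub_zero, hAe, Set.union_empty]
      exact h0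
    | succ d ih =>
      intro hd
      have ih' := ih (by omega)
      obtain ⟨p, hp⟩ : ∃ p, p = n + 1 - (d + 1) := ⟨_, rfl⟩
      have hp1 : n + 1 - d = p + 1 := by omega
      have hp2 : 1 ≤ p := by omega
      rw [← hp]
      rw [hp1] at ih'
      obtain ⟨V, f, -, hVc, hfe, hfs, hiso⟩ := hV p hp2
      haveI := hVc
      haveI : Mono (j p).hom := mono_of_repWith_isOpenImmersion _ (hj p)
      have hg : RepWith @Etale (f ≫ (j p).hom) :=
        (RepWith @Etale).comp_mem _ _ hfe (repWith_mono isOpenImmersion_le_etale (hj p))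
      have hrange : Set.range (Points.map (f ≫ (j p).hom)) = Set.range (Points.map (j p).hom) := by
        apply Set.Subset.antisymm
        · rintro _ ⟨v, rfl⟩
          exact ⟨Points.map f v, (Points.map_comp _ _ _).symm⟩
        · rintro _ ⟨y, rfl⟩
          obtain ⟨v, rfl⟩ := surjective_map_of_repWith hfs y
          exact ⟨v, Points.map_comp _ _ _⟩
      have hinj : Inj (f ≫ (j p).hom) (Ω₀ ∪ Set.range (Points.map (j (p + 1)).hom)) := by
        intro K _ str μ1 μ2 h12 hmem
        refine inj_of_isIso f (i p).hom (hi p).1 hiso K str μ1 μ2 ?_ ?_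
        · rw [← cancel_mono (j p).hom, Category.assoc, Category.assoc]
          exact h12
        · rw [(hi p).2.1]
          rintro ⟨y, hy⟩
          apply hmem
          right
          refine ⟨y, ?_⟩
          have e : (k p).hom ≫ (j p).hom = (j (p + 1)).hom := congrArg (fun φ => φ.hom) (hkj p)
          rw [← e, Points.map_comp, hy, Points.map_mk_fieldPtOfHom, Category.assoc]
      have h1 := step_compact Q hstep (f ≫ (j p).hom) hg _ hinj ih'
      rw [hrange, Set.union_assoc, Set.union_eq_self_of_subset_left (hAsub p)] at h1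
      exact h1
  have h2 := key n le_rfl
  have : n + 1 - n = 1 := by omega
  rw [this, hA1, Set.union_univ] at h2
  exact h2

end Groth.Agent.Lib.Helper15.IndPr1
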