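import Groth.Agent.Lib.Helper15.IndPr1

set_option autoImplicit false
universe u
open CategoryTheory CategoryTheory.Limits AlgebraicGeometry Opposite
open AlgSp

namespace Groth.Agent.Lib.Helper15.IndPr2

open Groth.Agent.Lib.Helper3 Groth.Agent.Lib.Helper3.FibPow Groth.Agent.Lib.Helper15.ElemDist
open Groth.Agent.Lib.Helper15.IndPr1

variable {S : Scheme.{u}}

/-- the empty scheme over `S` -/
noncomputable def E₀ (S : Scheme.{u}) : Over S := Over.mk (Scheme.emptyTo S)

instance : IsEmpty ↥(E₀ S).left := inferInstanceAs (IsEmpty (∅ : Scheme.{u}))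

instance : IsAffine (E₀ S).left := isAffine_of_isEmpty

/-- the map from the empty scheme to an algebraic space -/
theorem exists_emptyTo {Y : Sp S} (hY : IsAlgSpace Y) :
    ∃ e : (yon S).obj (E₀ S) ⟶ Y, RepWith @Etale e := by
  obtain ⟨U, p, hpe, -⟩ := hY.atlas
  let ε : E₀ S ⟶ U := Over.homMk (Scheme.emptyTo U.left) (Scheme.empty_ext _ _)
  refine ⟨(yon S).map ε ≫ p, (RepWith @Etale).comp_mem _ _ ?_ hpe⟩
  rw [repWith_yon_map_iff]
  change Etale (Scheme.emptyTo U.left)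
  infer_instance

theorem inj_emptyTo {Y : Sp S} (e : (yon S).obj (E₀ S) ⟶ Y) (Ω : Set (Points Y)) : Inj e Ω := by
  intro K _ str μ1 _ _ _
  exact (IsEmpty.false (μ1.left (IsLocalRing.closedPoint K : ↥(Over.mk str).left))).elim

theorem range_emptyTo {Y : Sp S} (e : (yon S).obj (E₀ S) ⟶ Y) :
    Set.range (Points.map e) = ∅ := by
  rw [range_map_eq_range_ofPt]
  exact Set.range_eq_empty _

theorem isCompact_range_of_isQuasiCompactSp {F G : Sp S} (j : F ⟶ G) (hF : IsQuasiCompactSp F) :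
    IsCompact (Set.range (Points.map j)) := by
  haveI := compactSpace_points_of_isQuasiCompactSp hF
  exact isCompact_range (Points.continuous_map j)

theorem isQuasiCompactSp_of_isCompact_range {F G : Sp S} (hG : IsAlgSpace G) (j : F ⟶ G)
    (hj : RepWith @IsOpenImmersion j) (hc : IsCompact (Set.range (Points.map j))) :
    IsQuasiCompactSp F := by
  haveI : Mono j := mono_of_repWith_isOpenImmersion j hj
  have hopen : IsOpen (Set.range (Points.map j)) :=
    (isOpenMap_map_of_etale (repWith_mono isOpenImmersion_le_etale hj)).isOpen_range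
  obtain ⟨W, q, hqe, hWc, hq⟩ := exists_compact_chart_of_isOpen_isCompact hG _ hopen hc
  obtain ⟨a', -, ha'e, ha's, -⟩ := exists_factor_surjective_etale q hqe j hj (by
    rw [← hq, range_map_eq_range_ofPt])
  exact ⟨W, a', ha'e, ha's, hWc⟩

section Main
variable (X : AlgSp.Space S)
  (P : ∀ U : AlgSp.Space S, (U ⟶ X) → Prop)
  (W : AlgSp.Space S) (jW : W ⟶ X)
  (h2 : ∀ (W₁ W₂ V : AlgSp.Space S) (j₁ : W₁ ⟶ X) (j₂ : W₂ ⟶ X) (k : W₁ ⟶ W₂) (m : W ⟶ W₁)
    (f : V ⟶ W₂),
    AlgSp.RepWith @IsOpenImmersion j₁.hom → AlgSp.RepWith @IsOpenImmersion j₂.hom →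
    k ≫ j₂ = j₁ → m ≫ j₁ = jW →
    AlgSp.IsQuasiCompactSp W₁.obj → AlgSp.IsQuasiCompactSp W₂.obj →
    (∃ T : Over S, IsAffine T.left ∧ Nonempty ((AlgSp.yon S).obj T ≅ V.obj)) →
    AlgSp.IsElemDistSq k.hom f.hom → P W₁ j₁ → P W₂ j₂)

include h2 in
/-- one application of `h2`, in terms of point sets -/
theorem move (W₁ W₂ : AlgSp.Space S) (j₁ : W₁ ⟶ X) (j₂ : W₂ ⟶ X)
    (hj₁ : RepWith @IsOpenImmersion j₁.hom) (hj₂ : RepWith @IsOpenImmersion j₂.hom)
    (hW : Set.range (Points.map jW.hom) ⊆ Set.range (Points.map j₁.hom))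
    (hc₁ : IsQuasiCompactSp W₁.obj) (hc₂ : IsQuasiCompactSp W₂.obj)
    {V' : Over S} (hV' : IsAffine V'.left) (g : (yon S).obj V' ⟶ X.obj) (hg : RepWith @Etale g)
    (hinj : Inj g (Set.range (Points.map j₁.hom)))
    (hr : Set.range (Points.map j₂.hom) =
      Set.range (Points.map j₁.hom) ∪ Set.range (Points.map g))
    (hP : P W₁ j₁) : P W₂ j₂ := by
  haveI : Mono j₁.hom := mono_of_repWith_isOpenImmersion _ hj₁
  obtain ⟨k, hk⟩ := exists_factor_of_range_subset j₂.hom hj₂ j₁.hom (by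
    rw [hr]; exact Set.subset_union_left)
  obtain ⟨m, hm⟩ := exists_factor_of_range_subset j₁.hom hj₁ jW.hom hW
  obtain ⟨f, hf⟩ := exists_factor_of_range_subset j₂.hom hj₂ g (by
    rw [hr]; exact Set.subset_union_right)
  have heds : IsElemDistSq k f :=
    isElemDistSq_of_inj W₂.property j₁.hom j₂.hom hj₁ hj₂ k hk g hg f hf (by rw [hr]) hinj
  exact h2 W₁ W₂ ⟨(yon S).obj V', IsAlgSpace.yon_obj V'⟩ j₁ j₂ (ObjectProperty.homMk k)
    (ObjectProperty.homMk m) (ObjectProperty.homMk f) hj₁ hj₂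
    (ObjectProperty.hom_ext _ hk) (ObjectProperty.hom_ext _ hm) hc₁ hc₂
    ⟨V', hV', ⟨Iso.refl _⟩⟩ heds hP

/-- the open subspace on an open set of points -/
noncomputable def oS (Ω : Set (Points X.obj)) (hΩ : IsOpen Ω) : AlgSp.Space S :=
  ⟨openSub X.obj Ω, isAlgSpace_openSub X.property Ω hΩ⟩

/-- its inclusion -/
noncomputable def oι (Ω : Set (Points X.obj)) (hΩ : IsOpen Ω) : oS X Ω hΩ ⟶ X :=
  ObjectProperty.homMk (openSubι X.obj Ω)

theorem range_oι (Ω : Set (Points X.obj)) (hΩ : IsOpen Ω) :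
    Set.range (Points.map (oι X Ω hΩ).hom) = Ω := range_map_openSubι X.obj Ω

theorem repWith_oι (Ω : Set (Points X.obj)) (hΩ : IsOpen Ω) :
    RepWith @IsOpenImmersion (oι X Ω hΩ).hom := repWith_isOpenImmersion_openSubι X.obj Ω hΩ

theorem isQuasiCompactSp_oS (Ω : Set (Points X.obj)) (hΩ : IsOpen Ω) (hc : IsCompact Ω) :
    IsQuasiCompactSp (oS X Ω hΩ).obj :=
  isQuasiCompactSp_of_isCompact_range X.property (oι X Ω hΩ).hom (repWith_oι X Ω hΩ) (by
    rw [range_oι]; exact hc)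

include h2 in
theorem main [QuasiSeparatedSpace ↥S] (hXc : AlgSp.IsQuasiCompactSp X.obj) (hXs : AlgSp.IsQuasiSeparatedSp X.obj)
    (hjW : AlgSp.RepWith @IsOpenImmersion jW.hom)
    (hWc : AlgSp.IsQuasiCompactSp W.obj) (h1 : P W jW) : P X (𝟙 X) := by
  obtain ⟨e, hee⟩ := exists_emptyTo X.property
  let Q : Set (Points X.obj) → Prop := fun Ω =>
    IsCompact Ω ∧ Set.range (Points.map jW.hom) ⊆ Ω ∧ ∃ hΩ : IsOpen Ω, P (oS X Ω hΩ) (oι X Ω hΩ)
  have hWopen : IsOpen (Set.range (Points.map jW.hom)) :=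
    (isOpenMap_map_of_etale (repWith_mono isOpenImmersion_le_etale hjW)).isOpen_range
  have hWcomp : IsCompact (Set.range (Points.map jW.hom)) :=
    isCompact_range_of_isQuasiCompactSp jW.hom hWc
  -- start
  have hstart : Q (Set.range (Points.map jW.hom)) := by
    refine ⟨hWcomp, le_rfl, hWopen, ?_⟩
    refine move X P W jW h2 W (oS X _ hWopen) jW (oι X _ hWopen) hjW (repWith_oι X _ hWopen) le_rfl
      hWc (isQuasiCompactSp_oS X _ hWopen hWcomp) (inferInstance : IsAffine (E₀ S).left) e hee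
      (inj_emptyTo e _) ?_ h1
    rw [range_oι, range_emptyTo, Set.union_empty]
  -- step
  have hstep : ∀ (Ω : Set (Points X.obj)) (V' : Over S) (g' : (yon S).obj V' ⟶ X.obj),
      IsAffine V'.left → RepWith @Etale g' → Inj g' Ω → Q Ω →
        Q (Ω ∪ Set.range (Points.map g')) := by
    rintro Ω V' g' hV' hg' hinj ⟨hΩc, hWΩ, hΩ, hPΩ⟩
    have hgo : IsOpen (Set.range (Points.map g')) := (isOpenMap_map_of_etale hg').isOpen_range
    have hgc : IsCompact (Set.range (Points.map g')) := by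
      rw [range_map_eq_range_ofPt]
      exact isCompact_range (Points.continuous_ofPt g')
    have hΩ' : IsOpen (Ω ∪ Set.range (Points.map g')) := hΩ.union hgo
    have hΩ'c : IsCompact (Ω ∪ Set.range (Points.map g')) := hΩc.union hgc
    refine ⟨hΩ'c, hWΩ.trans Set.subset_union_left, hΩ', ?_⟩
    refine move X P W jW h2 (oS X Ω hΩ) (oS X _ hΩ') (oι X Ω hΩ) (oι X _ hΩ') (repWith_oι X Ω hΩ)
      (repWith_oι X _ hΩ') (by rw [range_oι]; exact hWΩ) (isQuasiCompactSp_oS X Ω hΩ hΩc)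
      (isQuasiCompactSp_oS X _ hΩ' hΩ'c) hV' g' hg' (by rw [range_oι]; exact hinj) ?_ hPΩ
    rw [range_oι, range_oι]
  obtain ⟨hUc, hWU, hU, hPU⟩ := open_induction X hXc hXs Q hstep _ hstart
  -- end
  have hid : RepWith @IsOpenImmersion (𝟙 X : X ⟶ X).hom := by
    change RepWith @IsOpenImmersion (𝟙 X.obj)
    exact (RepWith @IsOpenImmersion).id_mem _
  have hidr : Set.range (Points.map (𝟙 X : X ⟶ X).hom) = Set.univ := by
    apply Set.eq_univ_of_forall
    intro x
    exact ⟨x, Points.map_id x⟩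
  refine move X P W jW h2 (oS X _ hU) X (oι X _ hU) (𝟙 X) (repWith_oι X _ hU) hid
    (by rw [range_oι]; exact Set.subset_univ _) (isQuasiCompactSp_oS X _ hU hUc) hXc
    (inferInstance : IsAffine (E₀ S).left) e hee (inj_emptyTo e _) ?_ hPU
  rw [range_oι, range_emptyTo, Set.union_empty, hidr]

end Main

end Groth.Agent.Lib.Helper15.IndPr2
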