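import Groth.Agent.Lib.Helper15.IndPr2
import Groth.Prelude.Def_AlgSpEt

set_option autoImplicit false
universe u
open CategoryTheory CategoryTheory.Limits AlgebraicGeometry Opposite
open AlgSp

namespace Groth.Agent.Lib.Helper15.IndPr3

open Groth.Agent.Lib.Helper3 Groth.Agent.Lib.Helper3.FibPow Groth.Agent.Lib.Helper15.ElemDist
open Groth.Agent.Lib.Helper15.IndPr1 Groth.Agent.Lib.Helper15.IndPr2

variable {S : Scheme.{u}}

section Obj
variable (X : AlgSp.Space S)

/-- the object of `EtSpOver X` given by a space and an etale map -/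
def mkE (U : Space S) (a : U ⟶ X) (ha : IsEtaleMor a.hom) : EtSpOver X := ⟨Over.mk a, ha⟩

variable {X}

/-- morphisms between such objects -/
def mkEHom {U U' : Space S} {a : U ⟶ X} {a' : U' ⟶ X} {ha : IsEtaleMor a.hom}
    {ha' : IsEtaleMor a'.hom} (φ : U.obj ⟶ U'.obj) (w : φ ≫ a'.hom = a.hom) :
    mkE X U a ha ⟶ mkE X U' a' ha' :=
  ObjectProperty.homMk (Over.homMk (ObjectProperty.homMk φ) (ObjectProperty.hom_ext _ w))

@[simp] theorem mkEHom_hom {U U' : Space S} {a : U ⟶ X} {a' : U' ⟶ X} {ha : IsEtaleMor a.hom}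
    {ha' : IsEtaleMor a'.hom} (φ : U.obj ⟶ U'.obj) (w : φ ≫ a'.hom = a.hom) :
    (mkEHom (ha := ha) (ha' := ha') φ w).hom.left.hom = φ := rfl

variable (X)

/-- the object attached to a scheme chart -/
noncomputable def chE (V' : Over S) (a : (yon S).obj V' ⟶ X.obj) (ha : RepWith @Etale a) :
    EtSpOver X :=
  mkE X ⟨(yon S).obj V', IsAlgSpace.yon_obj V'⟩ (ObjectProperty.homMk a) (isEtaleMor_of_repWith a ha)

/-- the scheme over `S` of an open -/
noncomputable def opS (V' : Over S) (O : V'.left.Opens) : Over S := Over.mk (O.ι ≫ V'.hom)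

/-- the inclusion of an open -/
noncomputable def opι (V' : Over S) (O : V'.left.Opens) : opS V' O ⟶ V' := Over.homMk O.ι rfl

/-- the inclusion between opens -/
noncomputable def opLE (V' : Over S) {O O' : V'.left.Opens} (h : O ≤ O') : opS V' O ⟶ opS V' O' :=
  Over.homMk (V'.left.homOfLE h) (by
    change V'.left.homOfLE h ≫ O'.ι ≫ V'.hom = O.ι ≫ V'.hom
    rw [← Category.assoc, Scheme.homOfLE_ι])

theorem opLE_opι (V' : Over S) {O O' : V'.left.Opens} (h : O ≤ O') :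
    opLE V' h ≫ opι V' O' = opι V' O := by
  apply Over.OverMorphism.ext
  exact Scheme.homOfLE_ι _ h

/-- the object attached to an open of a scheme chart -/
noncomputable def opE (V' : Over S) (a : (yon S).obj V' ⟶ X.obj) (ha : RepWith @Etale a)
    (O : V'.left.Opens) : EtSpOver X :=
  chE X (opS V' O) (chartRestrict a O) (chartRestrict_etale a ha O)

end Obj

section Opens
variable (V' : Over S)

instance (O : V'.left.Opens) : Mono (opι V' O) :=
  (Over.forget S).mono_of_mono_map (inferInstanceAs (Mono O.ι))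

theorem range_map_yon_opι (O : V'.left.Opens) :
    Set.range (Points.map ((yon S).map (opι V' O))) =
      Points.schemeHomeo V' '' (O : Set ↥V'.left) := by
  rw [range_map_eq_range_ofPt]
  ext x
  constructor
  · rintro ⟨u, rfl⟩
    rw [SpUC.ofPt_yon_map]
    exact ⟨O.ι u, u.2, rfl⟩
  · rintro ⟨v, hv, rfl⟩
    exact ⟨⟨v, hv⟩, SpUC.ofPt_yon_map (opι V' O) ⟨v, hv⟩⟩

theorem repWith_isOpenImmersion_yon_opι (O : V'.left.Opens) :
    RepWith @IsOpenImmersion ((yon S).map (opι V' O)) := by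
  rw [repWith_yon_map_iff]
  change IsOpenImmersion O.ι
  infer_instance

theorem repWith_etale_yon_opι (O : V'.left.Opens) :
    RepWith @Etale ((yon S).map (opι V' O)) := by
  rw [repWith_yon_map_iff]
  change Etale O.ι
  infer_instance

theorem inj_yon_map_of_mono {V V'' : Over S} (r : V'' ⟶ V) [Mono r]
    (Ω : Set (Points ((yon S).obj V))) : Inj ((yon S).map r) Ω := by
  intro K _ str μ1 μ2 h12 _
  rw [← Functor.map_comp, ← Functor.map_comp] at h12
  exact (cancel_mono r).1 ((yon S).map_injective h12)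

theorem isPullback_opLE {O₁ O₂ O : V'.left.Opens} (h₁ : O₁ ≤ O) (h₂ : O₂ ≤ O) :
    IsPullback ((yon S).map (opLE V' (inf_le_left : O₁ ⊓ O₂ ≤ O₁)))
      ((yon S).map (opLE V' (inf_le_right : O₁ ⊓ O₂ ≤ O₂)))
      ((yon S).map (opLE V' h₁)) ((yon S).map (opLE V' h₂)) := by
  have h := isPullback_opens_inf_le h₁ h₂
  have h' : IsPullback (opLE V' (inf_le_left : O₁ ⊓ O₂ ≤ O₁))
      (opLE V' (inf_le_right : O₁ ⊓ O₂ ≤ O₂)) (opLE V' h₁) (opLE V' h₂) :=
    IsPullback.of_map_of_faithful (Over.forget S) h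
  exact h'.map (yon S)

theorem isElemDistSq_opens (O₁ U₁ : V'.left.Opens) :
    IsElemDistSq ((yon S).map (opLE V' (le_sup_left : O₁ ≤ O₁ ⊔ U₁)))
      ((yon S).map (opLE V' (le_sup_right : U₁ ≤ O₁ ⊔ U₁))) := by
  refine isElemDistSq_of_inj (Y := (yon S).obj V') (IsAlgSpace.yon_obj _)
    ((yon S).map (opι V' O₁)) ((yon S).map (opι V' (O₁ ⊔ U₁)))
    (repWith_isOpenImmersion_yon_opι V' O₁) (repWith_isOpenImmersion_yon_opι V' _)
    _ ?_ ((yon S).map (opι V' U₁)) (repWith_etale_yon_opι V' U₁) _ ?_ ?_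
    (inj_yon_map_of_mono _ _)
  · rw [← Functor.map_comp, opLE_opι]
  · rw [← Functor.map_comp, opLE_opι]
  · rw [range_map_yon_opι, range_map_yon_opι, range_map_yon_opι, ← Set.image_union]
    rfl

end Opens

section PartI
variable (X : AlgSp.Space S) (B P : AlgSp.EtSpOver X → Prop)
  (h2 : ∀ (W U : AlgSp.EtSpOver X) (j : U ⟶ W), B W →
    AlgSp.RepWith @IsOpenImmersion j.hom.left.hom →
    AlgSp.IsQuasiCompactSp U.obj.left.obj → B U)
  (h3 : ∀ (V : AlgSp.EtSpOver X) (T : Over S), IsAffine T.left →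
    Nonempty ((AlgSp.yon S).obj T ≅ V.obj.left.obj) → B V ∧ P V)
  (h4 : ∀ (W U V UV : AlgSp.EtSpOver X) (j : U ⟶ W) (f : V ⟶ W) (p : UV ⟶ U) (q : UV ⟶ V),
    B W → AlgSp.IsQuasiCompactSp U.obj.left.obj →
    (∃ T : Over S, IsAffine T.left ∧ Nonempty ((AlgSp.yon S).obj T ≅ V.obj.left.obj)) →
    AlgSp.IsElemDistSq j.hom.left.hom f.hom.left.hom →
    IsPullback p.hom.left.hom q.hom.left.hom j.hom.left.hom f.hom.left.hom →
    P U → P V → P UV → P W)
  {V' : Over S} (a : (yon S).obj V' ⟶ X.obj) (ha : RepWith @Etale a)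

/-- the inclusion morphism between the objects of two opens -/
noncomputable def opEHom {O O' : V'.left.Opens} (h : O ≤ O') :
    opE X V' a ha O ⟶ opE X V' a ha O' :=
  mkEHom ((yon S).map (opLE V' h)) (by
    change (yon S).map (opLE V' h) ≫ (yon S).map (opι V' O') ≫ a = (yon S).map (opι V' O) ≫ a
    rw [← Category.assoc, ← Functor.map_comp, opLE_opι])

include h2 h3 in
theorem B_opE [IsAffine V'.left] (O : V'.left.Opens) (hO : IsCompact (O : Set ↥V'.left)) :
    B (opE X V' a ha O) := by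
  refine h2 (chE X V' a ha) (opE X V' a ha O)
    (mkEHom ((yon S).map (opι V' O)) rfl) (h3 (chE X V' a ha) V' inferInstance ⟨Iso.refl _⟩).1
    (repWith_isOpenImmersion_yon_opι V' O) ?_
  exact isQuasiCompactSp_yon (isCompact_iff_compactSpace.1 hO)

include h2 h3 h4 in
theorem stepI [IsAffine V'.left] (O₁ : V'.left.Opens) (U₁ : V'.left.Opens)
    (hO₁ : IsCompact (O₁ : Set ↥V'.left)) (hU₁ : IsAffineOpen U₁)
    (hP₁ : P (opE X V' a ha O₁)) (hP₁₂ : P (opE X V' a ha (O₁ ⊓ U₁))) :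
    P (opE X V' a ha (O₁ ⊔ U₁)) := by
  have hUaff : IsAffine (opS V' U₁).left := hU₁
  have hc : IsCompact ((O₁ ⊔ U₁ : V'.left.Opens) : Set ↥V'.left) := hO₁.union hU₁.isCompact
  exact h4 (opE X V' a ha (O₁ ⊔ U₁)) (opE X V' a ha O₁) (opE X V' a ha U₁)
    (opE X V' a ha (O₁ ⊓ U₁)) (opEHom X a ha le_sup_left) (opEHom X a ha le_sup_right)
    (opEHom X a ha inf_le_left) (opEHom X a ha inf_le_right)
    (B_opE X B P h2 h3 a ha _ hc)
    (isQuasiCompactSp_yon (isCompact_iff_compactSpace.1 hO₁))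
    ⟨opS V' U₁, hUaff, ⟨Iso.refl _⟩⟩ (isElemDistSq_opens V' O₁ U₁)
    (isPullback_opLE V' le_sup_left le_sup_right) hP₁
    (h3 (opE X V' a ha U₁) (opS V' U₁) hUaff ⟨Iso.refl _⟩).2 hP₁₂

include h2 h3 h4 in
/-- **Part I**: the property holds for all quasi-compact opens of an affine chart. -/
theorem partI [IsAffine V'.left] (O : V'.left.Opens) (hO : IsCompact (O : Set ↥V'.left)) :
    P (opE X V' a ha O) := by
  have key : P (opE X V' a ha O) ∧ ∀ U : V'.left.Opens, IsAffineOpen U →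
      P (opE X V' a ha (O ⊓ U)) := by
    refine compact_open_induction_on (P := fun O : V'.left.Opens =>
      P (opE X V' a ha O) ∧ ∀ U : V'.left.Opens, IsAffineOpen U → P (opE X V' a ha (O ⊓ U)))
      O hO ?_ ?_
    · have hbot : IsAffine (opS V' (⊥ : V'.left.Opens)).left := by
        have : IsEmpty ↥(opS V' (⊥ : V'.left.Opens)).left := by
          change IsEmpty ↥((⊥ : V'.left.Opens) : Set ↥V'.left)
          exact Set.isEmpty_coe_sort.2 rfl
        exact isAffine_of_isEmpty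
      have h0 : P (opE X V' a ha ⊥) := (h3 _ _ hbot ⟨Iso.refl _⟩).2
      refine ⟨h0, fun U _ => ?_⟩
      rw [bot_inf_eq]
      exact h0
    · rintro O' hO' U₀ ⟨hP1, hP2⟩
      refine ⟨stepI X B P h2 h3 h4 a ha O' U₀.1 hO' U₀.2 hP1 (hP2 U₀.1 U₀.2), fun U hU => ?_⟩
      have hUU : IsAffineOpen (U₀.1 ⊓ U) := U₀.2.inf hU
      have hc : IsCompact ((O' ⊓ U : V'.left.Opens) : Set ↥V'.left) :=
        QuasiSeparatedSpace.inter_isCompact _ _ O'.2 hO' U.2 hU.isCompact
      have e1 : (O' ⊓ U) ⊓ (U₀.1 ⊓ U) = O' ⊓ (U₀.1 ⊓ U) := by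
        rw [inf_assoc, inf_comm U (U₀.1 ⊓ U), inf_assoc, inf_idem]
      have e2 : (O' ⊓ U) ⊔ (U₀.1 ⊓ U) = (O' ⊔ U₀.1) ⊓ U := (inf_sup_right _ _ _).symm
      have h1 := stepI X B P h2 h3 h4 a ha (O' ⊓ U) (U₀.1 ⊓ U) hc hUU (hP2 U hU)
        (by rw [e1]; exact hP2 _ hUU)
      rw [e2] at h1
      exact h1
  exact key.1

end PartI

end Groth.Agent.Lib.Helper15.IndPr3
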