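import Groth.Agent.Lib.Helper15.IndPr3
import Groth.Agent.Lib.Helper15.Colim7

set_option autoImplicit false
universe u
open CategoryTheory CategoryTheory.Limits AlgebraicGeometry Opposite
open AlgSp

namespace Groth.Agent.Lib.Helper15.IndPr4

open Groth.Agent.Lib.Helper3 Groth.Agent.Lib.Helper3.FibPow Groth.Agent.Lib.Helper15.ElemDist
open Groth.Agent.Lib.Helper15.IndPr1 Groth.Agent.Lib.Helper15.IndPr2
open Groth.Agent.Lib.Helper15.IndPr3

variable {S : Scheme.{u}}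

/-- the pullback of an open immersion along a chart is the preimage open -/
theorem exists_isPullback_open {Y W₁ : Sp S} (j : W₁ ⟶ Y) (hj : RepWith @IsOpenImmersion j)
    {V' : Over S} (g : (yon S).obj V' ⟶ Y) (O : V'.left.Opens)
    (hO : (O : Set ↥V'.left) = Points.ofPt g ⁻¹' Set.range (Points.map j)) :
    ∃ p : (yon S).obj (opS V' O) ⟶ W₁, IsPullback p ((yon S).map (opι V' O)) j g := by
  haveI : Mono j := mono_of_repWith_isOpenImmersion j hj
  have hq := repWith_isOpenImmersion_yon_opι V' O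
  haveI : Mono ((yon S).map (opι V' O)) := mono_of_repWith_isOpenImmersion _ hq
  have hmem : ∀ z : Points ((yon S).obj V'),
      z ∈ Set.range (Points.map ((yon S).map (opι V' O))) ↔
        Points.map g z ∈ Set.range (Points.map j) := by
    intro z
    obtain ⟨v, rfl⟩ := (Points.schemeHomeo V').surjective z
    rw [range_map_yon_opι]
    have e : Points.map g (Points.schemeHomeo V' v) = Points.ofPt g v :=
      (Points.ofPt_eq_map_ofScheme g v).symm
    rw [e]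
    constructor
    · rintro ⟨v', hv', hvv⟩
      have : v' = v := (Points.schemeHomeo V').injective hvv
      subst this
      have : v' ∈ Points.ofPt g ⁻¹' Set.range (Points.map j) := hO ▸ hv'
      exact this
    · intro h
      have : v ∈ (O : Set ↥V'.left) := by rw [hO]; exact h
      exact ⟨v, this, rfl⟩
  obtain ⟨p, hp⟩ := exists_factor_of_range_subset j hj ((yon S).map (opι V' O) ≫ g) (by
    rintro _ ⟨x, rfl⟩
    rw [Points.map_comp]
    exact (hmem _).1 ⟨x, rfl⟩)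
  refine ⟨p, IsPullback.mk' hp (fun T φ φ' _ h2 => (cancel_mono _).1 h2) ?_⟩
  intro T a b hab
  obtain ⟨l, hl⟩ := exists_factor_of_range_subset ((yon S).map (opι V' O)) hq b (by
    rintro _ ⟨t, rfl⟩
    rw [hmem, ← Points.map_comp, ← hab, Points.map_comp]
    exact ⟨_, rfl⟩)
  refine ⟨l, ?_, hl⟩
  rw [← cancel_mono j, Category.assoc, hp, ← Category.assoc, hl, hab]

section PartII
variable [QuasiSeparatedSpace ↥S] (X : AlgSp.Space S) (B P : AlgSp.EtSpOver X → Prop)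
  (h1 : ∀ W, B W → AlgSp.IsQuasiCompactSp W.obj.left.obj ∧
    AlgSp.IsQuasiSeparatedSp W.obj.left.obj)
  (h2 : ∀ (W U : AlgSp.EtSpOver X) (j : U ⟶ W), B W →
    AlgSp.RepWith @IsOpenImmersion j.hom.left.hom →
    AlgSp.IsQuasiCompactSp U.obj.left.obj → B U)
  (h3 : ∀ (V : AlgSp.EtSpOver X) (T : Over S), IsAffine T.left →
    Nonempty ((AlgSp.yon S).obj T ≅ V.obj.left.obj) → B V ∧ P V)
  (h4 : ∀ (W U V UV : AlgSp.EtSpOver X) (j : U ⟶ W) (f : V ⟶ W) (p : UV ⟶ U) (q : UV ⟶ V),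
    B W → AlgSp.IsQuasiCompactSp U.obj.left.obj →
    (∃ T : Over S, IsAffine T.left ∧ Nonempty ((AlgSp.yon S).obj T ≅ V.obj.left.obj)) →
    AlgSp.IsElemDistSq j.hom.left.hom f.hom.left.hom →
    IsPullback p.hom.left.hom q.hom.left.hom j.hom.left.hom f.hom.left.hom →
    P U → P V → P UV → P W)
  (Y : AlgSp.Space S) (y : Y ⟶ X) (hy : IsEtaleMor y.hom) (hYs : IsQuasiSeparatedSp Y.obj)

include h2 h3 h4 hy hYs in
/-- one application of `h4`, in terms of point sets of `Y` -/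
theorem move4 (W₁ W₂ : AlgSp.Space S) (j₁ : W₁ ⟶ Y) (j₂ : W₂ ⟶ Y)
    (hj₁ : RepWith @IsOpenImmersion j₁.hom) (hj₂ : RepWith @IsOpenImmersion j₂.hom)
    (a₁ : W₁ ⟶ X) (a₂ : W₂ ⟶ X) (ha₁ : IsEtaleMor a₁.hom) (ha₂ : IsEtaleMor a₂.hom)
    (w₁ : j₁ ≫ y = a₁) (w₂ : j₂ ≫ y = a₂)
    (hc₁ : IsQuasiCompactSp W₁.obj) (hB : B (mkE X W₂ a₂ ha₂))
    {V' : Over S} (hV' : IsAffine V'.left) (g : (yon S).obj V' ⟶ Y.obj) (hg : RepWith @Etale g)
    (hinj : Inj g (Set.range (Points.map j₁.hom)))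
    (hr : Set.range (Points.map j₂.hom) =
      Set.range (Points.map j₁.hom) ∪ Set.range (Points.map g))
    (hP₁ : P (mkE X W₁ a₁ ha₁)) : P (mkE X W₂ a₂ ha₂) := by
  haveI := hV'
  haveI : Mono j₂.hom := mono_of_repWith_isOpenImmersion _ hj₂
  have w₁' : j₁.hom ≫ y.hom = a₁.hom := congrArg (fun φ => φ.hom) w₁
  have w₂' : j₂.hom ≫ y.hom = a₂.hom := congrArg (fun φ => φ.hom) w₂
  obtain ⟨k, hk⟩ := exists_factor_of_range_subset j₂.hom hj₂ j₁.hom (by
    rw [hr]; exact Set.subset_union_left)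
  obtain ⟨f, hf⟩ := exists_factor_of_range_subset j₂.hom hj₂ g (by
    rw [hr]; exact Set.subset_union_right)
  have heds : IsElemDistSq k f :=
    isElemDistSq_of_inj W₂.property j₁.hom j₂.hom hj₁ hj₂ k hk g hg f hf (by rw [hr]) hinj
  have hgy : RepWith @Etale (g ≫ y.hom) := hy g hg
  have hopen : IsOpen (Set.range (Points.map j₁.hom)) :=
    (isOpenMap_map_of_etale (repWith_mono isOpenImmersion_le_etale hj₁)).isOpen_range
  let O : V'.left.Opens := ⟨Points.ofPt g ⁻¹' Set.range (Points.map j₁.hom),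
    hopen.preimage (Points.continuous_ofPt g)⟩
  obtain ⟨p, hpb⟩ := exists_isPullback_open j₁.hom hj₁ g O rfl
  have hqcm : IsQuasiCompactMor j₁.hom :=
    isQuasiCompactMor_of_isQuasiCompactSp_of_isQuasiSeparatedSp W₁.property j₁.hom hc₁ hYs
  have hOq : IsQuasiCompactSp ((yon S).obj (opS V' O)) :=
    hqcm (IsAlgSpace.yon_obj V') (isQuasiCompactSp_yon inferInstance) g p _ hpb
  have hOc : IsCompact (O : Set ↥V'.left) :=
    isCompact_iff_compactSpace.2 (compactSpace_of_isQuasiCompactSp_yon hOq)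
  have hPV : P (chE X V' (g ≫ y.hom) hgy) := (h3 _ V' hV' ⟨Iso.refl _⟩).2
  have hPUV : P (opE X V' (g ≫ y.hom) hgy O) := partI X B P h2 h3 h4 (g ≫ y.hom) hgy O hOc
  have hpb' : IsPullback p ((yon S).map (opι V' O)) k f := by
    apply isPullback_of_comp_mono j₂.hom
    rw [hk, hf]
    exact hpb
  exact h4 (mkE X W₂ a₂ ha₂) (mkE X W₁ a₁ ha₁) (chE X V' (g ≫ y.hom) hgy)
    (opE X V' (g ≫ y.hom) hgy O)
    (mkEHom k (by rw [← w₂', ← Category.assoc, hk, w₁']))
    (mkEHom f (by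
      change f ≫ a₂.hom = g ≫ y.hom
      rw [← w₂', ← Category.assoc, hf]))
    (mkEHom p (by
      change p ≫ a₁.hom = (yon S).map (opι V' O) ≫ g ≫ y.hom
      rw [← w₁', ← Category.assoc, hpb.w, Category.assoc]))
    (mkEHom ((yon S).map (opι V' O)) rfl)
    hB hc₁ ⟨V', hV', ⟨Iso.refl _⟩⟩ heds hpb' hP₁ hPV hPUV

include h1 h2 h3 h4 in
/-- **The induction principle for a family of objects.** -/
theorem main (W₀ : AlgSp.EtSpOver X) (hB₀ : B W₀) : P W₀ := by
  obtain ⟨hYc, hYs⟩ := h1 W₀ hB₀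
  have hy : IsEtaleMor W₀.obj.hom.hom := W₀.property
  obtain ⟨e, hee⟩ := exists_emptyTo W₀.obj.left.property
  have haff : IsAffine (E₀ S).left := inferInstance
  -- structure maps of open subspaces
  have hsub : ∀ (W₂ : AlgSp.Space S) (j₂ : W₂ ⟶ W₀.obj.left),
      RepWith @IsOpenImmersion j₂.hom → IsEtaleMor (j₂ ≫ W₀.obj.hom).hom := fun W₂ j₂ hj₂ =>
    Colim7.isEtaleMor_comp
      (isEtaleMor_of_repWith_etale (repWith_mono isOpenImmersion_le_etale hj₂)) hy
  have hBsub : ∀ (W₂ : AlgSp.Space S) (j₂ : W₂ ⟶ W₀.obj.left)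
      (hj₂ : RepWith @IsOpenImmersion j₂.hom), IsQuasiCompactSp W₂.obj →
      B (mkE X W₂ (j₂ ≫ W₀.obj.hom) (hsub W₂ j₂ hj₂)) := fun W₂ j₂ hj₂ hq =>
    h2 W₀ (mkE X W₂ (j₂ ≫ W₀.obj.hom) (hsub W₂ j₂ hj₂))
      (ObjectProperty.homMk (Over.homMk j₂ rfl)) hB₀ hj₂ hq
  let Q : Set (Points W₀.obj.left.obj) → Prop := fun Ω =>
    IsCompact Ω ∧ ∃ hΩ : IsOpen Ω, P (mkE X (oS W₀.obj.left Ω hΩ)
      (oι W₀.obj.left Ω hΩ ≫ W₀.obj.hom) (hsub _ _ (repWith_oι W₀.obj.left Ω hΩ)))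
  -- start
  have hstart : Q ∅ := by
    refine ⟨isCompact_empty, isOpen_empty, ?_⟩
    haveI : Mono (oι W₀.obj.left ∅ isOpen_empty).hom :=
      mono_of_repWith_isOpenImmersion _ (repWith_oι W₀.obj.left ∅ isOpen_empty)
    obtain ⟨a', -, ha'e, ha's, -⟩ := exists_factor_surjective_etale e hee
      (oι W₀.obj.left ∅ isOpen_empty).hom (repWith_oι W₀.obj.left ∅ isOpen_empty) (by
        rw [range_oι, ← range_map_eq_range_ofPt, range_emptyTo])
    have hiso : IsIso a' := isIso_of_etale_surjective_of_field_inj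
      (oS W₀.obj.left ∅ isOpen_empty).property a' ha'e ha's (fun K _ str z1 _ _ =>
        (IsEmpty.false (z1.left (IsLocalRing.closedPoint K : ↥(Over.mk str).left))).elim)
    have iso : (yon S).obj (E₀ S) ≅ openSub W₀.obj.left.obj ∅ := @asIso _ _ _ _ a' hiso
    exact (h3 _ (E₀ S) haff ⟨iso⟩).2
  -- step
  have hstep : ∀ (Ω : Set (Points W₀.obj.left.obj)) (V' : Over S)
      (g' : (yon S).obj V' ⟶ W₀.obj.left.obj), IsAffine V'.left → RepWith @Etale g' →
      Inj g' Ω → Q Ω → Q (Ω ∪ Set.range (Points.map g')) := by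
    rintro Ω V' g' hV' hg' hinj ⟨hΩc, hΩ, hPΩ⟩
    have hgo : IsOpen (Set.range (Points.map g')) := (isOpenMap_map_of_etale hg').isOpen_range
    have hgc : IsCompact (Set.range (Points.map g')) := by
      haveI := hV'
      rw [range_map_eq_range_ofPt]
      exact isCompact_range (Points.continuous_ofPt g')
    have hΩ' : IsOpen (Ω ∪ Set.range (Points.map g')) := hΩ.union hgo
    have hΩ'c : IsCompact (Ω ∪ Set.range (Points.map g')) := hΩc.union hgc
    refine ⟨hΩ'c, hΩ', ?_⟩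
    refine move4 X B P h2 h3 h4 W₀.obj.left W₀.obj.hom hy hYs
      (oS W₀.obj.left Ω hΩ) (oS W₀.obj.left _ hΩ') (oι W₀.obj.left Ω hΩ) (oι W₀.obj.left _ hΩ')
      (repWith_oι _ Ω hΩ) (repWith_oι _ _ hΩ') _ _ _ _ rfl rfl
      (isQuasiCompactSp_oS _ Ω hΩ hΩc)
      (hBsub _ _ (repWith_oι _ _ hΩ') (isQuasiCompactSp_oS _ _ hΩ' hΩ'c))
      hV' g' hg' (by rw [range_oι]; exact hinj) ?_ hPΩ
    rw [range_oι, range_oι]
  obtain ⟨hUc, hU, hPU⟩ := open_induction W₀.obj.left hYc hYs Q hstep ∅ hstart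
  -- end
  have hid : RepWith @IsOpenImmersion (𝟙 W₀.obj.left : W₀.obj.left ⟶ W₀.obj.left).hom := by
    change RepWith @IsOpenImmersion (𝟙 W₀.obj.left.obj)
    exact (RepWith @IsOpenImmersion).id_mem _
  have hidr : Set.range (Points.map (𝟙 W₀.obj.left : W₀.obj.left ⟶ W₀.obj.left).hom) =
      Set.univ := by
    apply Set.eq_univ_of_forall
    intro x
    exact ⟨x, Points.map_id x⟩
  have hfin : P (mkE X W₀.obj.left W₀.obj.hom hy) := by
    refine move4 X B P h2 h3 h4 W₀.obj.left W₀.obj.hom hy hYs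
      (oS W₀.obj.left _ hU) W₀.obj.left (oι W₀.obj.left _ hU) (𝟙 _)
      (repWith_oι _ _ hU) hid _ _ _ hy rfl (Category.id_comp _)
      (isQuasiCompactSp_oS _ _ hU hUc) hB₀ haff e hee (inj_emptyTo e _) ?_ hPU
    rw [range_oι, range_emptyTo, Set.union_empty, hidr]
  exact hfin

end PartII

end Groth.Agent.Lib.Helper15.IndPr4
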