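import Groth.Agent.Lib.Helper15.LimDescend
import Groth.Agent.S0591
import Groth.Agent.S7383

set_option autoImplicit false
set_option backward.isDefEq.respectTransparency.types false
universe u
open CategoryTheory CategoryTheory.Limits AlgebraicGeometry

/-! An etale surjective quasi-compact quasi-separated morphism to a cofiltered limit of qcqs schemes
(affine transition maps) is the base change of an etale surjective morphism of finite presentation
to a stage. -/

namespace Groth.Agent.Lib.Helper15.LimModel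

variable {J : Type u} [SmallCategory J] [IsCofiltered J] (D : J ⥤ Scheme.{u}) (c : Cone D)
  (hc : IsLimit c) [∀ (i j : J) (f : i ⟶ j), IsAffineHom (D.map f)]
  [∀ i, CompactSpace (D.obj i)] [∀ i, QuasiSeparatedSpace (D.obj i)]

theorem isPullback_lift {X₀ X₁ U : Scheme.{u}} {i j : J} (φ : j ⟶ i) (f₀ : X₀ ⟶ D.obj i)
    (f₁ : X₁ ⟶ D.obj j) (p : X₁ ⟶ X₀) (hp : IsPullback p f₁ f₀ (D.map φ)) (g : U ⟶ X₀)
    (u : U ⟶ c.pt) (hg : IsPullback g u f₀ (c.π.app i)) :
    ∃ υ : U ⟶ X₁, υ ≫ p = g ∧ IsPullback υ u f₁ (c.π.app j) := by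
  have w : g ≫ f₀ = (u ≫ c.π.app j) ≫ D.map φ := by
    rw [Category.assoc, c.w, hg.w]
  refine ⟨hp.lift g (u ≫ c.π.app j) w, hp.lift_fst _ _ _, ?_⟩
  refine IsPullback.of_right ?_ (hp.lift_snd _ _ _) hp
  rw [hp.lift_fst, c.w]
  exact hg

include hc in
theorem exists_model {U : Scheme.{u}} (u : U ⟶ c.pt) [Etale u] [Surjective u] [QuasiCompact u]
    [QuasiSeparated u] :
    ∃ (j : J) (U' : Scheme.{u}) (u' : U' ⟶ D.obj j) (υ : U ⟶ U'),
      IsPullback υ u u' (c.π.app j) ∧ Etale u' ∧ Surjective u' ∧ QuasiCompact u' ∧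
        QuasiSeparated u' := by
  obtain ⟨i, X₀, f₀, g, hf₀p, hf₀c, hf₀s, hg⟩ := Groth.Agent.S0591.result D c hc U u
  haveI : CompactSpace X₀ := QuasiCompact.compactSpace_of_compactSpace f₀
  haveI : QuasiSeparatedSpace X₀ := quasiSeparatedSpace_of_quasiSeparated f₀
  have hY : ∀ i, IsPullback (c.π.app i) (𝟙 c.pt) (𝟙 (D.obj i)) (c.π.app i) := fun i =>
    haveI : IsIso (𝟙 c.pt) := IsIso.id _
    haveI : IsIso (𝟙 (D.obj i)) := IsIso.id _
    IsPullback.of_vert_isIso ⟨by simp⟩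
  -- etale
  obtain ⟨j₁, φ₁, X₁, f₁, p₁, hp₁, hf₁e⟩ := LimDescend.simplify_concl @Etale D i f₀
    (Groth.Agent.S9192.result D c hc i f₀ (𝟙 _) u (𝟙 _) (c.π.app i) g (hY i) hg)
  obtain ⟨υ₁, -, hυ₁⟩ := isPullback_lift D c φ₁ f₀ f₁ p₁ hp₁ g u hg
  haveI : LocallyOfFinitePresentation f₁ :=
    MorphismProperty.of_isPullback (P := @LocallyOfFinitePresentation) hp₁ hf₀p
  haveI : QuasiCompact f₁ := MorphismProperty.of_isPullback (P := @QuasiCompact) hp₁ hf₀c
  haveI : QuasiSeparated f₁ := MorphismProperty.of_isPullback (P := @QuasiSeparated) hp₁ hf₀s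
  -- surjective
  have e : f₁ ≫ 𝟙 (D.obj j₁) = f₁ := Category.comp_id _
  haveI : LocallyOfFinitePresentation (f₁ ≫ 𝟙 (D.obj j₁)) := by rw [e]; infer_instance
  haveI : QuasiCompact (f₁ ≫ 𝟙 (D.obj j₁)) := by rw [e]; infer_instance
  haveI : QuasiSeparated (f₁ ≫ 𝟙 (D.obj j₁)) := by rw [e]; infer_instance
  obtain ⟨j₂, φ₂, X₂, f₂, p₂, hp₂, hf₂s⟩ := LimDescend.simplify_concl @Surjective D j₁ f₁
    (Groth.Agent.S2581.result D c hc j₁ f₁ (𝟙 _) u (𝟙 _) (c.π.app j₁) υ₁ (hY j₁) hυ₁)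
  obtain ⟨υ₂, -, hυ₂⟩ := isPullback_lift D c φ₂ f₁ f₂ p₂ hp₂ υ₁ u hυ₁
  exact ⟨j₂, X₂, f₂, υ₂, hυ₂, MorphismProperty.of_isPullback (P := @Etale) hp₂ hf₁e, hf₂s,
    MorphismProperty.of_isPullback (P := @QuasiCompact) hp₂ inferInstance,
    MorphismProperty.of_isPullback (P := @QuasiSeparated) hp₂ inferInstance⟩


omit [IsCofiltered J] [∀ (i j : J) (f : i ⟶ j), IsAffineHom (D.map f)]
  [∀ i, CompactSpace (D.obj i)] [∀ i, QuasiSeparatedSpace (D.obj i)] in
/-- a compact subset of a scheme is contained in a quasi-compact open. -/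
theorem exists_compact_open_of_isCompact (S : Scheme.{u}) (K : Set S) (hK : IsCompact K) :
    ∃ S' : S.Opens, IsCompact (S' : Set S) ∧ K ⊆ (S' : Set S) := by
  classical
  obtain ⟨t, ht⟩ := hK.elim_finite_subcover (fun V : S.affineOpens => (V.1 : Set S))
    (fun V => V.1.isOpen) (fun s _ => by
      obtain ⟨_, ⟨V, hV, rfl⟩, hs, -⟩ := (S.isBasis_affineOpens).exists_subset_of_mem_open
        (Set.mem_univ s) isOpen_univ
      exact Set.mem_iUnion.2 ⟨⟨V, hV⟩, hs⟩)
  refine ⟨⨆ V ∈ t, V.1, ?_, ?_⟩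
  · have : ((⨆ V ∈ t, V.1 : S.Opens) : Set S) = ⋃ V ∈ t, (V.1 : Set S) := by
      simp
    rw [this]
    exact t.finite_toSet.isCompact_biUnion (fun V _ => V.2.isCompact)
  · intro s hs
    have := ht hs
    simp only [Set.mem_iUnion] at this
    obtain ⟨V, hV, hsV⟩ := this
    simp only [TopologicalSpace.Opens.coe_iSup, Set.mem_iUnion]
    exact ⟨V, hV, hsV⟩

omit [IsCofiltered J] [∀ (i j : J) (f : i ⟶ j), IsAffineHom (D.map f)]
  [∀ i, CompactSpace (D.obj i)] [∀ i, QuasiSeparatedSpace (D.obj i)] in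
/-- **Relative model**: an etale surjective chart of a qcqs scheme over a quasi-separated base is
the base change of an etale surjective chart of a scheme of finite presentation over the base,
along an affine morphism. -/
theorem exists_relative_model {S : Scheme.{u}} [QuasiSeparatedSpace S] {T U : Over S}
    [CompactSpace T.left] [QuasiSeparatedSpace T.left] (u : U ⟶ T) [Etale u.left]
    [Surjective u.left] [QuasiCompact u.left] [QuasiSeparated u.left] :
    ∃ (Z U' : Over S) (τ : T ⟶ Z) (u' : U' ⟶ Z) (υ : U ⟶ U'),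
      IsPullback υ u u' τ ∧ LocallyOfFinitePresentation Z.hom ∧ CompactSpace Z.left ∧
      QuasiSeparatedSpace Z.left ∧ IsAffineHom τ.left ∧ Etale u'.left ∧ Surjective u'.left ∧
      QuasiCompact u'.left ∧ QuasiSeparated u'.left := by
  obtain ⟨S', hS'c, hS'⟩ := exists_compact_open_of_isCompact S (Set.range T.hom.base)
    (isCompact_range T.hom.continuous)
  haveI hS'cs : CompactSpace ↥(S' : Scheme.{u}) := isCompact_iff_compactSpace.mp hS'c
  haveI : QuasiSeparatedSpace ↥(S' : Scheme.{u}) := quasiSeparatedSpace_of_quasiSeparated S'.ι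
  let f' : T.left ⟶ (S' : Scheme.{u}) := IsOpenImmersion.lift S'.ι T.hom (by
    rw [Scheme.Opens.range_ι]; exact hS')
  have hf' : f' ≫ S'.ι = T.hom := IsOpenImmersion.lift_fac _ _ _
  obtain ⟨Λ, _, _, _, D', c', hc', hfp, haff, ⟨e⟩⟩ := Groth.Agent.S7383.result f'
  haveI : IsConnected Λᵒᵖ := IsCofiltered.isConnected _
  let DZ : Λᵒᵖ ⥤ Scheme.{u} := D' ⋙ Over.forget _
  let cZ : Cone DZ := (Over.forget _).mapCone c'
  have hcZ : IsLimit cZ := isLimitOfPreserves (Over.forget _) hc'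
  haveI : ∀ (i j : Λᵒᵖ) (f : i ⟶ j), IsAffineHom (DZ.map f) := fun i j f => haff i j f
  haveI : ∀ i, CompactSpace (DZ.obj i) := fun i => by
    exact @QuasiCompact.compactSpace_of_compactSpace (D'.obj i).left (S' : Scheme.{u})
      (D'.obj i).hom (hfp i).2.1 hS'cs
  haveI : ∀ i, QuasiSeparatedSpace (DZ.obj i) := fun i => by
    exact @quasiSeparatedSpace_of_quasiSeparated (D'.obj i).left (S' : Scheme.{u})
      (D'.obj i).hom ‹_› (hfp i).2.2
  let eL : c'.pt.left ≅ T.left := (Over.forget _).mapIso e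
  let uZ : U.left ⟶ cZ.pt := u.left ≫ eL.inv
  haveI : Etale uZ := by dsimp only [uZ]; infer_instance
  haveI : Surjective uZ := by dsimp only [uZ]; infer_instance
  haveI : QuasiCompact uZ := by dsimp only [uZ]; infer_instance
  haveI : QuasiSeparated uZ := by dsimp only [uZ]; infer_instance
  obtain ⟨j, U'₀, u'₀, υ₀, hpb, hu'e, hu's, hu'c, hu'q⟩ := exists_model DZ cZ hcZ uZ
  have heL : eL.inv ≫ c'.pt.hom = f' := by
    have := Over.w e.inv
    exact this
  let Z : Over S := Over.mk ((D'.obj j).hom ≫ S'.ι)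
  have hτ : (eL.inv ≫ cZ.π.app j) ≫ Z.hom = T.hom := by
    have h1 : (c'.π.app j).left ≫ (D'.obj j).hom = c'.pt.hom := Over.w (c'.π.app j)
    calc (eL.inv ≫ cZ.π.app j) ≫ Z.hom
        = eL.inv ≫ ((c'.π.app j).left ≫ (D'.obj j).hom) ≫ S'.ι := by
          change (eL.inv ≫ (c'.π.app j).left) ≫ (D'.obj j).hom ≫ S'.ι = _
          simp only [Category.assoc]
      _ = eL.inv ≫ c'.pt.hom ≫ S'.ι := by rw [h1]
      _ = f' ≫ S'.ι := by rw [← Category.assoc, heL]
      _ = T.hom := hf'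
  let τ : T ⟶ Z := Over.homMk (eL.inv ≫ cZ.π.app j) hτ
  let U' : Over S := Over.mk (u'₀ ≫ Z.hom)
  let u' : U' ⟶ Z := Over.homMk u'₀ rfl
  have hυ : υ₀ ≫ U'.hom = U.hom := by
    change υ₀ ≫ u'₀ ≫ Z.hom = U.hom
    rw [← Category.assoc, hpb.w, Category.assoc]
    change (u.left ≫ eL.inv) ≫ cZ.π.app j ≫ Z.hom = U.hom
    rw [Category.assoc, ← Category.assoc eL.inv, hτ, Over.w u]
  let υ : U ⟶ U' := Over.homMk υ₀ hυ
  have hpb' : IsPullback υ₀ u.left u'₀ (eL.inv ≫ cZ.π.app j) := by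
    have h1 : IsPullback (𝟙 U.left) u.left uZ eL.inv := by
      refine IsPullback.of_horiz_isIso ⟨?_⟩
      simp [uZ]
    have := h1.paste_horiz hpb
    rw [Category.id_comp] at this
    exact this
  refine ⟨Z, U', τ, u', υ, ?_, ?_, (inferInstance : CompactSpace (DZ.obj j)),
    (inferInstance : QuasiSeparatedSpace (DZ.obj j)), ?_, hu'e, hu's, hu'c, hu'q⟩
  · refine IsPullback.of_map (Over.forget S) ?_ hpb'
    ext
    exact hpb'.w
  · haveI : LocallyOfFinitePresentation (D'.obj j).hom := (hfp j).1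
    change LocallyOfFinitePresentation ((D'.obj j).hom ≫ S'.ι)
    infer_instance
  · have h2 : IsAffineHom (cZ.π.app j) := isAffineHom_π_app DZ cZ hcZ j
    have h1 : IsAffineHom eL.inv := inferInstance
    change IsAffineHom (eL.inv ≫ cZ.π.app j)
    exact MorphismProperty.comp_mem @IsAffineHom _ _ h1 h2

end Groth.Agent.Lib.Helper15.LimModel
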