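import Groth.Agent.S10056

set_option autoImplicit false
set_option backward.isDefEq.respectTransparency.types false
universe u
open CategoryTheory CategoryTheory.Limits AlgebraicGeometry
open AlgSp

namespace Groth.Agent.Lib.Helper15.LimChart

open Groth.Agent.Lib.Helper15 Groth.Agent.Lib.Helper3 Groth.Agent.S10056.W1

variable {S : Scheme.{u}} {I : Type u} [SmallCategory I] [IsCofiltered I] (D : I ⥤ AlgSp.Sp S)
  (hDa : ∀ (i j : I) (φ : i ⟶ j), AlgSp.RepWith @IsAffineHom (D.map φ)) (i₀ : I)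
  {U₀ : Over S} (p₀ : (yon S).obj U₀ ⟶ D.obj i₀)

/-- The fibre product of a limit of sheaves (affine transitions) with a scheme over one stage is the
scheme limit of the stage-wise fibre products. -/
theorem exists_chart (c : Cone D) (hc : IsLimit c) :
    ∃ (cE : Cone (E D hDa i₀ p₀)) (_ : IsLimit cE) (_ : IsLimit ((Over.forget S).mapCone cE))
      (q : (yon S).obj cE.pt ⟶ c.pt) (a : cE.pt ⟶ U₀),
      IsPullback q ((yon S).map a) (c.π.app i₀) p₀ ∧
      (∀ k : Over i₀, (cE.π.app k : cE.pt ⟶ Uk D hDa i₀ p₀ k) ≫ ak D hDa i₀ p₀ k = a) ∧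
      (∀ k : Over i₀, q ≫ c.π.app k.left =
        (yon S).map (cE.π.app k : cE.pt ⟶ Uk D hDa i₀ p₀ k) ≫ pk D hDa i₀ p₀ k) ∧
      IsAffineHom a.left := by
  haveI : IsConnected (Over i₀) := IsCofiltered.isConnected (Over i₀)
  let E₀ := E D hDa i₀ p₀
  haveI : ∀ {k k' : Over i₀} (ψ : k ⟶ k'), IsAffineHom ((E₀ ⋙ Over.forget S).map ψ) :=
    fun ψ => isAffineHom_uk D hDa i₀ p₀ ψ
  haveI : HasLimit (E₀ ⋙ Over.forget S) := Groth.Agent.Lib.Helper9.AffLimExists.hasLimit _
  haveI : HasLimit E₀ := hasLimit_of_created E₀ (Over.forget S)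
  let cE : Cone E₀ := limit.cone E₀
  have hcE : IsLimit cE := limit.isLimit E₀
  have hcEL : IsLimit ((Over.forget S).mapCone cE) := isLimitOfPreserves (Over.forget S) hcE
  -- the restricted limit cone
  have hc' : IsLimit (c.whisker (Over.forget i₀)) :=
    (Functor.Initial.isLimitWhiskerEquiv (Over.forget i₀) c).symm hc
  let k₀ : Over i₀ := Over.mk (𝟙 i₀)
  let π : ∀ k : Over i₀, cE.pt ⟶ Uk D hDa i₀ p₀ k := fun k => cE.π.app k
  have hπw : ∀ (k k' : Over i₀) (ψ : k ⟶ k'), π k ≫ uk D hDa i₀ p₀ ψ = π k' :=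
    fun k k' ψ => cE.w ψ
  have hπext : ∀ {T : Over S} (x y : T ⟶ cE.pt), (∀ k, x ≫ π k = y ≫ π k) → x = y :=
    fun x y h => hcE.hom_ext h
  obtain ⟨aInf, haInfdef⟩ : ∃ a : cE.pt ⟶ U₀, a = π k₀ ≫ ak D hDa i₀ p₀ k₀ := ⟨_, rfl⟩
  have haInf : ∀ k : Over i₀, π k ≫ ak D hDa i₀ p₀ k = aInf := fun k => by
    rw [haInfdef, ← hπw k k₀ (Over.homMk k.hom), Category.assoc, uk_a]
  -- the map to the limit
  have hnat : ∀ (k k' : Over i₀) (ψ : k ⟶ k'),
      ((yon S).map (π k) ≫ pk D hDa i₀ p₀ k) ≫ D.map ψ.left =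
        (yon S).map (π k') ≫ pk D hDa i₀ p₀ k' := fun k k' ψ => by
    rw [Category.assoc, ← uk_p, ← Category.assoc, ← Functor.map_comp, hπw]
  let coneQ : Cone (Over.forget i₀ ⋙ D) := ⟨(yon S).obj cE.pt,
    ⟨fun k => (yon S).map (π k) ≫ pk D hDa i₀ p₀ k, fun k k' ψ => by
      simp only [Functor.const_obj_obj, Functor.const_obj_map, Category.id_comp]
      exact (hnat k k' ψ).symm⟩⟩
  let q : (yon S).obj cE.pt ⟶ c.pt := hc'.lift coneQ
  have hq : ∀ k : Over i₀, q ≫ c.π.app k.left =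
      (yon S).map (π k) ≫ pk D hDa i₀ p₀ k := fun k => hc'.fac coneQ k
  have w : q ≫ c.π.app i₀ = (yon S).map aInf ≫ p₀ := by
    have h1 : q ≫ c.π.app i₀ = (yon S).map (π k₀) ≫ pk D hDa i₀ p₀ k₀ := hq k₀
    have h2 : pk D hDa i₀ p₀ k₀ = (yon S).map (ak D hDa i₀ p₀ k₀) ≫ p₀ := by
      have h3 := (sqk D hDa i₀ p₀ k₀).w
      have h4 : D.map k₀.hom = 𝟙 _ := D.map_id i₀
      rw [h4] at h3
      exact (Category.comp_id _).symm.trans h3
    rw [h1, h2, ← Category.assoc, ← Functor.map_comp, haInfdef]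
  have sq : IsPullback q ((yon S).map aInf) (c.π.app i₀) p₀ := by
    refine UnivQuot.isPullback_of_points _ _ _ _ w ?_ ?_
    · intro T x y h1 h2
      obtain ⟨x₀, rfl⟩ := (yon S).map_surjective x
      obtain ⟨y₀, rfl⟩ := (yon S).map_surjective y
      congr 1
      refine hπext _ _ fun k => ?_
      apply hom_ext_Uk
      · rw [Functor.map_comp, Functor.map_comp, Category.assoc, Category.assoc, ← hq k,
          ← Category.assoc, h1, Category.assoc]
      · rw [Category.assoc, Category.assoc, haInf k]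
        apply (yon S).map_injective
        rw [Functor.map_comp, Functor.map_comp, h2]
    · intro T x₂ x₃ h
      obtain ⟨b₀, rfl⟩ := (yon S).map_surjective x₃
      have hw : ∀ k : Over i₀, (x₂ ≫ c.π.app k.left) ≫ D.map k.hom = (yon S).map b₀ ≫ p₀ := fun k => by
        rw [Category.assoc, c.w, h]
      let l : ∀ k : Over i₀, T ⟶ Uk D hDa i₀ p₀ k := fun k =>
        (yon S).preimage ((sqk D hDa i₀ p₀ k).lift (x₂ ≫ c.π.app k.left) ((yon S).map b₀) (hw k))
      have hl1 : ∀ k, (yon S).map (l k) ≫ pk D hDa i₀ p₀ k = x₂ ≫ c.π.app k.left := fun k => by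
        simp only [l, Functor.map_preimage, IsPullback.lift_fst]
      have hl2 : ∀ k, l k ≫ ak D hDa i₀ p₀ k = b₀ := fun k => by
        apply (yon S).map_injective
        simp only [l, Functor.map_comp, Functor.map_preimage, IsPullback.lift_snd]
      have hlnat : ∀ (k k' : Over i₀) (ψ : k ⟶ k'), l k ≫ uk D hDa i₀ p₀ ψ = l k' := fun k k' ψ => by
        apply hom_ext_Uk
        · rw [Functor.map_comp, Category.assoc, uk_p, ← Category.assoc, hl1, hl1, Category.assoc, c.w]
        · rw [Category.assoc, uk_a, hl2, hl2]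
      let coneT : Cone E₀ := ⟨T, ⟨l, fun k k' ψ => by
        simp only [Functor.const_obj_obj, Functor.const_obj_map, Category.id_comp]
        exact (hlnat k k' ψ).symm⟩⟩
      let lInf : T ⟶ cE.pt := hcE.lift coneT
      have hlInf : ∀ k, lInf ≫ π k = l k := fun k => hcE.fac coneT k
      refine ⟨(yon S).map lInf, ?_, ?_⟩
      · refine hc'.hom_ext fun k => ?_
        change ((yon S).map lInf ≫ q) ≫ c.π.app k.left = x₂ ≫ c.π.app k.left
        rw [Category.assoc, hq, ← Category.assoc, ← Functor.map_comp, hlInf, hl1]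
      · rw [← Functor.map_comp]
        congr 1
        rw [haInfdef, ← Category.assoc, hlInf, hl2]
  refine ⟨cE, hcE, hcEL, q, aInf, sq, haInf, hq, ?_⟩
  -- affineness of the projection
  have h1 : IsAffineHom (((Over.forget S).mapCone cE).π.app k₀) :=
    isAffineHom_π_app (E₀ ⋙ Over.forget S) _ hcEL k₀
  have h2 : IsAffineHom (ak D hDa i₀ p₀ k₀).left := isAffineHom_ak D hDa i₀ p₀ k₀
  rw [haInfdef, Over.comp_left]
  have h1' : IsAffineHom (π k₀).left := h1
  infer_instance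

end Groth.Agent.Lib.Helper15.LimChart
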