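import Groth.Agent.Lib.Helper15.LimChart
import Groth.Agent.Lib.Helper3.AlgSpLocP5
import Groth.Agent.Lib.Helper3.AlgSpPoints
import Groth.Agent.Lib.Helper3.AlgSpFpqcMono
import Groth.Agent.Lib.Helper3.AlgSpQC4
import Groth.Agent.Lib.Helper3.AlgSpDiag
import Groth.Agent.S9192
import Groth.Agent.S9191
import Groth.Agent.S2581

set_option autoImplicit false
set_option backward.isDefEq.respectTransparency.types false
universe u
open CategoryTheory CategoryTheory.Limits AlgebraicGeometry Opposite MorphismProperty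
open AlgSp

namespace Groth.Agent.Lib.Helper15.LimDescend

open Groth.Agent.Lib.Helper3 Groth.Agent.S10056.W1

variable {S : Scheme.{u}}


section ChartSq

variable {X₀ Y₀ B₀ : Sp S} (f₀ : X₀ ⟶ Y₀) (b₀ : Y₀ ⟶ B₀)
  {U₀ V₀ : Over S} (u₀ : (yon S).obj U₀ ⟶ X₀) (v₀ : (yon S).obj V₀ ⟶ Y₀) (h₀ : U₀ ⟶ V₀)
  (w₀ : u₀ ≫ f₀ = (yon S).map h₀ ≫ v₀)
  {Z Yz Xz : Sp S} (z : Z ⟶ B₀) (pYz : Yz ⟶ Y₀) (qYz : Yz ⟶ Z) (hYz : IsPullback pYz qYz b₀ z)
  (fz : Xz ⟶ Yz) (pXz : Xz ⟶ X₀) (hXz : IsPullback pXz fz f₀ pYz)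
  {VZ : Over S} (vz : VZ ⟶ V₀) (qz : (yon S).obj VZ ⟶ Z)
  (hVZ : IsPullback qz ((yon S).map vz) z (v₀ ≫ b₀))
  {UZ : Over S} (fstU : UZ ⟶ U₀) (sndU : UZ ⟶ VZ) (hUZ : IsPullback fstU sndU h₀ vz)

/-- the chart of `Yz` -/
noncomputable def bZ : (yon S).obj VZ ⟶ Yz :=
  hYz.lift ((yon S).map vz ≫ v₀) qz (by rw [Category.assoc, hVZ.w])

theorem bZ_p : bZ b₀ v₀ z pYz qYz hYz vz qz hVZ ≫ pYz = (yon S).map vz ≫ v₀ :=
  hYz.lift_fst _ _ _

theorem bZ_q : bZ b₀ v₀ z pYz qYz hYz vz qz hVZ ≫ qYz = qz :=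
  hYz.lift_snd _ _ _

theorem sqB : IsPullback (bZ b₀ v₀ z pYz qYz hYz vz qz hVZ) ((yon S).map vz) pYz v₀ := by
  have h1 : IsPullback ((yon S).map vz) (bZ b₀ v₀ z pYz qYz hYz vz qz hVZ) v₀ pYz := by
    refine IsPullback.of_bot ?_ (bZ_p b₀ v₀ z pYz qYz hYz vz qz hVZ).symm hYz
    rw [bZ_q]
    exact hVZ.flip
  exact h1.flip

/-- the chart of `Xz` -/
noncomputable def aZ : (yon S).obj UZ ⟶ Xz :=
  hXz.lift ((yon S).map fstU ≫ u₀) ((yon S).map sndU ≫ bZ b₀ v₀ z pYz qYz hYz vz qz hVZ) (by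
    rw [Category.assoc, w₀, Category.assoc, bZ_p, ← Category.assoc, ← Category.assoc,
      ← Functor.map_comp, ← Functor.map_comp, hUZ.w])

theorem aZ_p : aZ f₀ b₀ u₀ v₀ h₀ w₀ z pYz qYz hYz fz pXz hXz vz qz hVZ fstU sndU hUZ ≫ pXz =
    (yon S).map fstU ≫ u₀ := hXz.lift_fst _ _ _

theorem aZ_f : aZ f₀ b₀ u₀ v₀ h₀ w₀ z pYz qYz hYz fz pXz hXz vz qz hVZ fstU sndU hUZ ≫ fz =
    (yon S).map sndU ≫ bZ b₀ v₀ z pYz qYz hYz vz qz hVZ := hXz.lift_snd _ _ _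

theorem sqA : IsPullback (aZ f₀ b₀ u₀ v₀ h₀ w₀ z pYz qYz hYz fz pXz hXz vz qz hVZ fstU sndU hUZ)
    ((yon S).map fstU) pXz u₀ := by
  have h1 : IsPullback ((yon S).map fstU) ((yon S).map sndU) ((yon S).map h₀) ((yon S).map vz) :=
    hUZ.map (yon S)
  have h2 := (sqB b₀ v₀ z pYz qYz hYz vz qz hVZ).flip
  -- paste: [fstU ; sndU ≫ bZ ; h₀ ≫ v₀ ; pYz]
  have h3 : IsPullback ((yon S).map fstU) ((yon S).map sndU ≫ bZ b₀ v₀ z pYz qYz hYz vz qz hVZ)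
      ((yon S).map h₀ ≫ v₀) pYz := h1.paste_vert h2
  rw [← w₀] at h3
  have h4 : IsPullback ((yon S).map fstU)
      (aZ f₀ b₀ u₀ v₀ h₀ w₀ z pYz qYz hYz fz pXz hXz vz qz hVZ fstU sndU hUZ) u₀ pXz := by
    refine IsPullback.of_bot ?_ (aZ_p f₀ b₀ u₀ v₀ h₀ w₀ z pYz qYz hYz fz pXz hXz vz qz hVZ fstU sndU hUZ).symm hXz
    rw [aZ_f]
    exact h3
  exact h4.flip

/-- the map `Xz ×_{Yz} VZ ⟶ X₀ ×_{Y₀} V₀` -/
noncomputable def mQ : pullback fz (bZ b₀ v₀ z pYz qYz hYz vz qz hVZ) ⟶ pullback f₀ v₀ :=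
  pullback.lift (pullback.fst _ _ ≫ pXz) (pullback.snd _ _ ≫ (yon S).map vz) (by
    rw [Category.assoc, hXz.w, ← Category.assoc, pullback.condition, Category.assoc, bZ_p,
      Category.assoc])

theorem sqQ : IsPullback (pullback.fst fz (bZ b₀ v₀ z pYz qYz hYz vz qz hVZ))
    (mQ f₀ b₀ v₀ z pYz qYz hYz fz pXz hXz vz qz hVZ) pXz (pullback.fst f₀ v₀) := by
  have hP := IsPullback.of_hasPullback fz (bZ b₀ v₀ z pYz qYz hYz vz qz hVZ)
  have h1 := hP.paste_vert (sqB b₀ v₀ z pYz qYz hYz vz qz hVZ)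
  rw [← hXz.w] at h1
  refine IsPullback.of_bot ?_ ?_ (IsPullback.of_hasPullback f₀ v₀)
  · rw [mQ, pullback.lift_snd]
    exact h1
  · rw [mQ, pullback.lift_fst]

/-- the map `UZ ⟶ Xz ×_{Yz} VZ` -/
noncomputable def mZ : (yon S).obj UZ ⟶ pullback fz (bZ b₀ v₀ z pYz qYz hYz vz qz hVZ) :=
  pullback.lift (aZ f₀ b₀ u₀ v₀ h₀ w₀ z pYz qYz hYz fz pXz hXz vz qz hVZ fstU sndU hUZ)
    ((yon S).map sndU) (aZ_f f₀ b₀ u₀ v₀ h₀ w₀ z pYz qYz hYz fz pXz hXz vz qz hVZ fstU sndU hUZ)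

theorem sqM : IsPullback (mZ f₀ b₀ u₀ v₀ h₀ w₀ z pYz qYz hYz fz pXz hXz vz qz hVZ fstU sndU hUZ)
    ((yon S).map fstU) (mQ f₀ b₀ v₀ z pYz qYz hYz fz pXz hXz vz qz hVZ)
    (pullback.lift u₀ ((yon S).map h₀) w₀) := by
  refine IsPullback.of_right ?_ ?_ (sqQ f₀ b₀ v₀ z pYz qYz hYz fz pXz hXz vz qz hVZ)
  · rw [mZ, pullback.lift_fst, pullback.lift_fst]
    exact sqA f₀ b₀ u₀ v₀ h₀ w₀ z pYz qYz hYz fz pXz hXz vz qz hVZ fstU sndU hUZ
  · apply pullback.hom_ext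
    · rw [Category.assoc, Category.assoc, mQ, pullback.lift_fst, pullback.lift_fst, mZ,
        pullback.lift_fst_assoc, aZ_p]
    · rw [Category.assoc, Category.assoc, mQ, pullback.lift_snd, pullback.lift_snd, mZ,
        pullback.lift_snd_assoc, ← Functor.map_comp, ← Functor.map_comp, hUZ.w]

include w₀ hYz hXz hVZ hUZ in
/-- at the level `Z`: if `fz` is surjective then so is the chart map `UZ ⟶ VZ`, provided
`U₀ ⟶ X₀ ×_{Y₀} V₀` is surjective. -/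
theorem surjective_sndU (hu : RepWith @Surjective (pullback.lift u₀ ((yon S).map h₀) w₀))
    (hfz : IsSurjectiveMor fz) : Function.Surjective sndU.left := by
  apply surjective_of_isSurjectiveMor_yon_map
  have h1 : RepWith @Surjective
      (mZ f₀ b₀ u₀ v₀ h₀ w₀ z pYz qYz hYz fz pXz hXz vz qz hVZ fstU sndU hUZ) :=
    (repWith_isStableUnderBaseChange _).of_isPullback
      (sqM f₀ b₀ u₀ v₀ h₀ w₀ z pYz qYz hYz fz pXz hXz vz qz hVZ fstU sndU hUZ).flip hu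
  have h2 : IsSurjectiveMor (pullback.snd fz (bZ b₀ v₀ z pYz qYz hYz vz qz hVZ)) := by
    intro y
    obtain ⟨x, hx⟩ := hfz (Points.map (bZ b₀ v₀ z pYz qYz hYz vz qz hVZ) y)
    obtain ⟨p, -, hp⟩ := Points.exists_of_isPullback
      (IsPullback.of_hasPullback fz (bZ b₀ v₀ z pYz qYz hYz vz qz hVZ)) x y hx
    exact ⟨p, hp⟩
  have h3 := isSurjectiveMor_comp (surjective_map_of_repWith h1) h2
  rwa [mZ, pullback.lift_snd] at h3

include w₀ hYz hXz hVZ hUZ in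
/-- at the level `Z`: if the chart map `UZ ⟶ VZ` is surjective then so is `fz`, provided
`v₀` is surjective. -/
theorem isSurjectiveMor_of_sndU (hv : RepWith @Surjective v₀)
    (hs : Function.Surjective sndU.left) : IsSurjectiveMor fz := by
  have h1 : RepWith @Surjective (bZ b₀ v₀ z pYz qYz hYz vz qz hVZ) :=
    (repWith_isStableUnderBaseChange _).of_isPullback (sqB b₀ v₀ z pYz qYz hYz vz qz hVZ).flip hv
  have h2 : RepWith @Surjective ((yon S).map sndU) :=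
    (repWith_yon_map_iff _ _).2 ⟨hs⟩
  have h3 : IsSurjectiveMor ((yon S).map sndU ≫ bZ b₀ v₀ z pYz qYz hYz vz qz hVZ) :=
    isSurjectiveMor_comp (surjective_map_of_repWith h2) (surjective_map_of_repWith h1)
  rw [← aZ_f f₀ b₀ u₀ v₀ h₀ w₀ z pYz qYz hYz fz pXz hXz vz qz hVZ fstU sndU hUZ] at h3
  intro y
  obtain ⟨x, hx⟩ := h3 y
  exact ⟨Points.map (aZ f₀ b₀ u₀ v₀ h₀ w₀ z pYz qYz hYz fz pXz hXz vz qz hVZ fstU sndU hUZ) x,
    (Points.map_comp _ _ x).symm.trans hx⟩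

end ChartSq



section Charts

/-- Over a quasi-separated base, the fibre product of two quasi-compact schemes over a
quasi-separated sheaf is quasi-compact. -/
theorem compactSpace_of_isPullback [QuasiSeparatedSpace S] {X : Sp S} (hqs : IsQuasiSeparatedSp X)
    {U T P : Over S} [CompactSpace U.left] [CompactSpace T.left] (p : (yon S).obj U ⟶ X)
    (ξ : (yon S).obj T ⟶ X) (fst' : P ⟶ U) (snd : P ⟶ T)
    (sq : IsPullback ((yon S).map fst') ((yon S).map snd) p ξ) : CompactSpace P.left := by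
  have sqD := isPullback_diag_of_isPullback sq
  rw [prod_lift_yon'] at sqD
  replace sqD := isPullback_shift_iso sqD
  have hqc : QuasiCompact (prod.lift fst' snd).left := hqs.2 _ _ _ sqD
  have : CompactSpace ↥(pullback U.hom T.hom) := inferInstance
  have : CompactSpace ↥(U ⨯ T).left :=
    (Over.prodLeftIsoPullback U T).hom.homeomorph.symm.compactSpace
  exact QuasiCompact.compactSpace_of_compactSpace (prod.lift fst' snd).left

theorem exists_affine_charts [QuasiSeparatedSpace S] {X₀ Y₀ : Sp S}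
    (hXqc : IsQuasiCompactSp X₀) (hYqc : IsQuasiCompactSp Y₀) (hYqs : IsQuasiSeparatedSp Y₀)
    (f₀ : X₀ ⟶ Y₀) :
    ∃ (U₀ V₀ : Over S) (u₀ : (yon S).obj U₀ ⟶ X₀) (v₀ : (yon S).obj V₀ ⟶ Y₀) (h₀ : U₀ ⟶ V₀)
      (w₀ : u₀ ≫ f₀ = (yon S).map h₀ ≫ v₀), IsAffine U₀.left ∧ IsAffine V₀.left ∧
      RepWith @Etale u₀ ∧ RepWith @Surjective u₀ ∧ RepWith @Etale v₀ ∧ RepWith @Surjective v₀ ∧
      RepWith @Surjective (pullback.lift u₀ ((yon S).map h₀) w₀) := by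
  obtain ⟨V₀, v₀, hve, hvs, hVa⟩ := exists_affine_chart_of_isQuasiCompactSp hYqc
  obtain ⟨U₁, u₁, hu1e, hu1s, hU1a⟩ := exists_affine_chart_of_isQuasiCompactSp hXqc
  have hVa' : IsAffine V₀.left := hVa
  have hU1a' : IsAffine U₁.left := hU1a
  -- `W = U₁ ×_{Y₀} V₀`
  have sqW := hve.rep.isPullback (u₁ ≫ f₀)
  obtain ⟨hW, hhW⟩ := (yon S).map_surjective (hve.rep.fst (u₁ ≫ f₀))
  rw [← hhW] at sqW
  have hWc : CompactSpace (hve.rep.pullback (u₁ ≫ f₀)).left :=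
    compactSpace_of_isPullback hYqs v₀ (u₁ ≫ f₀) hW (hve.rep.snd (u₁ ≫ f₀)) sqW
  obtain ⟨M, m, hms, hme, hMa⟩ :=
    Scheme.exists_hom_isAffine_of_isZariskiLocalAtSource @Etale (hve.rep.pullback (u₁ ≫ f₀)).left
  let U₀ : Over S := Over.mk (m ≫ (hve.rep.pullback (u₁ ≫ f₀)).hom)
  let j : U₀ ⟶ hve.rep.pullback (u₁ ≫ f₀) := Over.homMk m rfl
  have hje : RepWith @Etale ((yon S).map j) := (repWith_yon_map_iff _ j).2 hme
  have hjs : RepWith @Surjective ((yon S).map j) := (repWith_yon_map_iff _ j).2 hms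
  have hse : RepWith @Etale ((yon S).map (hve.rep.snd (u₁ ≫ f₀))) :=
    (repWith_isStableUnderBaseChange _).of_isPullback sqW hve
  have hss : RepWith @Surjective ((yon S).map (hve.rep.snd (u₁ ≫ f₀))) :=
    (repWith_isStableUnderBaseChange _).of_isPullback sqW hvs
  have w₀ : ((yon S).map j ≫ (yon S).map (hve.rep.snd (u₁ ≫ f₀)) ≫ u₁) ≫ f₀ =
      (yon S).map (j ≫ hW) ≫ v₀ := by
    rw [Functor.map_comp, Category.assoc, Category.assoc, Category.assoc, sqW.w]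
  -- the map `W ⟶ X₀ ×_{Y₀} V₀`
  have wι : ((yon S).map (hve.rep.snd (u₁ ≫ f₀)) ≫ u₁) ≫ f₀ = (yon S).map hW ≫ v₀ := by
    rw [Category.assoc, sqW.w]
  have sqι : IsPullback (pullback.lift _ _ wι) ((yon S).map (hve.rep.snd (u₁ ≫ f₀)))
      (pullback.fst f₀ v₀) u₁ := by
    refine IsPullback.of_right ?_ ?_ (IsPullback.of_hasPullback f₀ v₀).flip
    · rw [pullback.lift_snd]
      exact sqW
    · rw [pullback.lift_fst]
  have hιs : RepWith @Surjective (pullback.lift _ _ wι) :=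
    (repWith_isStableUnderBaseChange _).of_isPullback sqι.flip hu1s
  refine ⟨U₀, V₀, (yon S).map j ≫ (yon S).map (hve.rep.snd (u₁ ≫ f₀)) ≫ u₁, v₀, j ≫ hW, w₀, hMa,
    hVa', ?_, ?_, hve, hvs, ?_⟩
  · exact MorphismProperty.comp_mem _ _ _ hje (MorphismProperty.comp_mem _ _ _ hse hu1e)
  · exact MorphismProperty.comp_mem _ _ _ hjs (MorphismProperty.comp_mem _ _ _ hss hu1s)
  · have : pullback.lift ((yon S).map j ≫ (yon S).map (hve.rep.snd (u₁ ≫ f₀)) ≫ u₁)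
        ((yon S).map (j ≫ hW)) w₀ = (yon S).map j ≫ pullback.lift _ _ wι := by
      apply pullback.hom_ext
      · rw [pullback.lift_fst, Category.assoc, pullback.lift_fst]
      · rw [pullback.lift_snd, Category.assoc, pullback.lift_snd, Functor.map_comp]
    rw [this]
    exact MorphismProperty.comp_mem _ _ _ hjs hιs

end Charts



section SchemeLevel

/-- Simplified shape of the scheme-level descent statements (base stage affine, `Y₀` the stage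
itself). -/
def Descends (P : MorphismProperty Scheme.{u}) : Prop :=
  ∀ {J : Type u} [SmallCategory J] [IsCofiltered J] (Dj : J ⥤ Scheme.{u}) (cj : Cone Dj)
    (_ : IsLimit cj) [∀ (i j : J) (f : i ⟶ j), IsAffineHom (Dj.map f)] (j₀ : J)
    [IsAffine (Dj.obj j₀)] {X₀ : Scheme.{u}} [IsAffine X₀] (f₀ : X₀ ⟶ Dj.obj j₀)
    [LocallyOfFinitePresentation f₀] {X : Scheme.{u}} (f : X ⟶ cj.pt) (qX : X ⟶ X₀)
    (_ : IsPullback qX f f₀ (cj.π.app j₀)), P f →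
    ∃ (j : J) (φ : j ⟶ j₀) (Xj : Scheme.{u}) (fj : Xj ⟶ Dj.obj j) (pX : Xj ⟶ X₀),
      IsPullback pX fj f₀ (Dj.map φ) ∧ P fj

theorem simplify_concl (P : MorphismProperty Scheme.{u}) [P.RespectsIso] {J : Type u}
    [SmallCategory J] (Dj : J ⥤ Scheme.{u}) (j₀ : J) {X₀ : Scheme.{u}} (f₀ : X₀ ⟶ Dj.obj j₀)
    (h : ∃ (i : J) (φ : i ⟶ j₀) (Xi Yi : Scheme.{u}) (fi : Xi ⟶ Yi) (gi : Yi ⟶ Dj.obj i)
      (pY : Yi ⟶ Dj.obj j₀) (pX : Xi ⟶ X₀), IsPullback pY gi (𝟙 _) (Dj.map φ) ∧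
        IsPullback pX fi f₀ pY ∧ P fi) :
    ∃ (j : J) (φ : j ⟶ j₀) (Xj : Scheme.{u}) (fj : Xj ⟶ Dj.obj j) (pX : Xj ⟶ X₀),
      IsPullback pX fj f₀ (Dj.map φ) ∧ P fj := by
  obtain ⟨i, φ, Xi, Yi, fi, gi, pY, pX, h1, h2, h3⟩ := h
  have : IsIso gi := h1.isIso_snd_of_isIso
  refine ⟨i, φ, Xi, fi ≫ gi, pX, ?_, (P.cancel_right_of_respectsIso fi gi).2 h3⟩
  have := h2.paste_vert h1
  rwa [Category.comp_id] at this

theorem descends_etale : Descends @Etale.{u} := by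
  intro J _ _ Dj cj hcj _ j₀ _ X₀ _ f₀ _ X f qX hX hf
  have : Etale f := hf
  have hY : IsPullback (cj.π.app j₀) (𝟙 cj.pt) (𝟙 (Dj.obj j₀)) (cj.π.app j₀) :=
    haveI : IsIso (𝟙 cj.pt) := IsIso.id _
    haveI : IsIso (𝟙 (Dj.obj j₀)) := IsIso.id _
    IsPullback.of_vert_isIso ⟨by simp⟩
  exact simplify_concl @Etale Dj j₀ f₀
    (Groth.Agent.S9192.result Dj cj hcj j₀ f₀ (𝟙 _) f (𝟙 _) (cj.π.app j₀) qX hY hX)

theorem descends_smooth : Descends @Smooth.{u} := by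
  intro J _ _ Dj cj hcj _ j₀ _ X₀ _ f₀ _ X f qX hX hf
  have : Smooth f := hf
  have hY : IsPullback (cj.π.app j₀) (𝟙 cj.pt) (𝟙 (Dj.obj j₀)) (cj.π.app j₀) :=
    haveI : IsIso (𝟙 cj.pt) := IsIso.id _
    haveI : IsIso (𝟙 (Dj.obj j₀)) := IsIso.id _
    IsPullback.of_vert_isIso ⟨by simp⟩
  exact simplify_concl @Smooth Dj j₀ f₀
    (Groth.Agent.S9191.result Dj cj hcj j₀ f₀ (𝟙 _) f (𝟙 _) (cj.π.app j₀) qX hY hX)

theorem descends_surjective : Descends @Surjective.{u} := by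
  intro J _ _ Dj cj hcj _ j₀ _ X₀ _ f₀ _ X f qX hX hf
  have : Surjective f := hf
  have hY : IsPullback (cj.π.app j₀) (𝟙 cj.pt) (𝟙 (Dj.obj j₀)) (cj.π.app j₀) :=
    haveI : IsIso (𝟙 cj.pt) := IsIso.id _
    haveI : IsIso (𝟙 (Dj.obj j₀)) := IsIso.id _
    IsPullback.of_vert_isIso ⟨by simp⟩
  have e : f₀ ≫ 𝟙 (Dj.obj j₀) = f₀ := Category.comp_id _
  have : LocallyOfFinitePresentation (f₀ ≫ 𝟙 (Dj.obj j₀)) := by rw [e]; infer_instance
  have : QuasiCompact (f₀ ≫ 𝟙 (Dj.obj j₀)) := by rw [e]; infer_instance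
  have : QuasiSeparated (f₀ ≫ 𝟙 (Dj.obj j₀)) := by rw [e]; infer_instance
  exact simplify_concl @Surjective Dj j₀ f₀
    (Groth.Agent.S2581.result Dj cj hcj j₀ f₀ (𝟙 _) f (𝟙 _) (cj.π.app j₀) qX hY hX)

variable {I : Type u} [SmallCategory I] (D : I ⥤ AlgSp.Sp S)
  (hDa : ∀ (i j : I) (φ : i ⟶ j), AlgSp.RepWith @IsAffineHom (D.map φ)) (i₀ : I)
  {V₀ : Over S} (p₀ : (yon S).obj V₀ ⟶ D.obj i₀)

theorem exists_stage [IsCofiltered I] {P : MorphismProperty Scheme.{u}} [P.RespectsIso]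
    (hP : Descends P) [IsAffine V₀.left] {U₀ : Over S} [IsAffine U₀.left] (h₀ : U₀ ⟶ V₀)
    [LocallyOfFinitePresentation h₀.left] (cE : Cone (E D hDa i₀ p₀))
    (hcEL : IsLimit ((Over.forget S).mapCone cE)) (a : cE.pt ⟶ V₀)
    (ha : ∀ k : Over i₀, (cE.π.app k : cE.pt ⟶ Uk D hDa i₀ p₀ k) ≫ ak D hDa i₀ p₀ k = a)
    {UL : Over S} (fstL : UL ⟶ U₀) (sndL : UL ⟶ cE.pt) (hUL : IsPullback fstL sndL h₀ a)
    (hPL : P sndL.left) :
    ∃ k : Over i₀, ∀ {UK : Over S} (fstK : UK ⟶ U₀) (sndK : UK ⟶ Uk D hDa i₀ p₀ k),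
      IsPullback fstK sndK h₀ (ak D hDa i₀ p₀ k) → P sndK.left := by
  obtain ⟨k₀, -⟩ : ∃ k₀ : Over i₀, True := ⟨Over.mk (𝟙 i₀), trivial⟩
  let π : ∀ k : Over i₀, cE.pt ⟶ Uk D hDa i₀ p₀ k := fun k => cE.π.app k
  haveI : ∀ (k k' : Over i₀) (ψ : k ⟶ k'), IsAffineHom ((E D hDa i₀ p₀ ⋙ Over.forget S).map ψ) :=
    fun _ _ ψ => isAffineHom_uk D hDa i₀ p₀ ψ
  haveI : IsAffine ((E D hDa i₀ p₀ ⋙ Over.forget S).obj k₀) := by
    exact @isAffine_of_isAffineHom _ _ (ak D hDa i₀ p₀ k₀).left (isAffineHom_ak D hDa i₀ p₀ k₀) ‹_›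
  let f₀s : pullback h₀.left (ak D hDa i₀ p₀ k₀).left ⟶ (E D hDa i₀ p₀ ⋙ Over.forget S).obj k₀ :=
    pullback.snd _ _
  haveI : LocallyOfFinitePresentation f₀s := by
    change LocallyOfFinitePresentation (pullback.snd _ _); infer_instance
  haveI : IsAffine (pullback h₀.left (ak D hDa i₀ p₀ k₀).left) := by
    haveI : IsAffine (Uk D hDa i₀ p₀ k₀).left := ‹_›
    infer_instance
  have hULs : IsPullback fstL.left sndL.left h₀.left a.left := hUL.map (Over.forget S)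
  have hak₀ : (π k₀).left ≫ (ak D hDa i₀ p₀ k₀).left = a.left := by
    rw [← Over.comp_left]
    exact congrArg _ (ha k₀)
  let qX : UL.left ⟶ pullback h₀.left (ak D hDa i₀ p₀ k₀).left :=
    pullback.lift fstL.left (sndL.left ≫ (π k₀).left) (by
      rw [Category.assoc, hak₀, hULs.w])
  have hX : IsPullback qX sndL.left f₀s (((Over.forget S).mapCone cE).π.app k₀) := by
    refine IsPullback.of_right ?_ ?_
      (IsPullback.of_hasPullback h₀.left (ak D hDa i₀ p₀ k₀).left)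
    · rw [pullback.lift_fst]
      change IsPullback fstL.left sndL.left h₀.left
        ((π k₀).left ≫ (ak D hDa i₀ p₀ k₀).left)
      rw [hak₀]
      exact hULs
    · exact pullback.lift_snd _ _ _
  obtain ⟨k, φ, Xk, fk, pX, hXk, hPk⟩ :=
    hP (E D hDa i₀ p₀ ⋙ Over.forget S) _ hcEL k₀ f₀s sndL.left qX hX hPL
  refine ⟨k, fun {UK} fstK sndK hUK => ?_⟩
  have hUKs : IsPullback fstK.left sndK.left h₀.left (ak D hDa i₀ p₀ k).left :=
    hUK.map (Over.forget S)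
  have h1 := hXk.paste_horiz (IsPullback.of_hasPullback h₀.left (ak D hDa i₀ p₀ k₀).left)
  have h2 : (E D hDa i₀ p₀ ⋙ Over.forget S).map φ ≫ (ak D hDa i₀ p₀ k₀).left =
      (ak D hDa i₀ p₀ k).left := by
    change (uk D hDa i₀ p₀ φ).left ≫ _ = _
    rw [← Over.comp_left, uk_a]
  rw [h2] at h1
  have h3 : sndK.left = (hUKs.isoIsPullback _ _ h1).hom ≫ fk :=
    (IsPullback.isoIsPullback_hom_snd _ _ hUKs h1).symm
  rw [h3]
  exact (P.cancel_left_of_respectsIso _ _).2 hPk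

end SchemeLevel


section Main

variable {I : Type u} [SmallCategory I] [IsCofiltered I]

/-- Chart reduction for base changes of a morphism of algebraic spaces along a cofiltered limit
with affine transitions: the base changes have compatible etale surjective charts by schemes,
and the scheme-level charts form a limit system to which scheme-level descent applies. -/
theorem exists_data [QuasiSeparatedSpace S] (D : I ⥤ Sp S)
    (hDa : ∀ (i j : I) (φ : i ⟶ j), IsAffineMor (D.map φ)) (c : Cone D) (hc : IsLimit c) (i₀ : I)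
    {X₀ Y₀ : Sp S} (f₀ : X₀ ⟶ Y₀) (b₀ : Y₀ ⟶ D.obj i₀)
    (hXqc : IsQuasiCompactSp X₀) (hYqc : IsQuasiCompactSp Y₀) (hYqs : IsQuasiSeparatedSp Y₀)
    (hf₀ : LocP @LocallyOfFinitePresentation f₀)
    {X Y : Sp S} (f : X ⟶ Y) (pY : Y ⟶ Y₀) (qY : Y ⟶ c.pt)
    (hY : IsPullback pY qY b₀ (c.π.app i₀)) (pX : X ⟶ X₀) (hX : IsPullback pX f f₀ pY) :
    ∃ (UL VL : Over S) (sL : UL ⟶ VL) (aL : (yon S).obj UL ⟶ X) (bL : (yon S).obj VL ⟶ Y),
      RepWith @Etale aL ∧ RepWith @Surjective aL ∧ RepWith @Etale bL ∧ RepWith @Surjective bL ∧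
      aL ≫ f = (yon S).map sL ≫ bL ∧ (IsSurjectiveMor f → Function.Surjective sL.left) ∧
      ∀ (P : MorphismProperty Scheme.{u}) [P.RespectsIso], Descends P → P sL.left →
        ∃ (i : I) (φ : i ⟶ i₀), ∀ (Xi Yi : Sp S) (fi : Xi ⟶ Yi) (pYi : Yi ⟶ Y₀)
          (qYi : Yi ⟶ D.obj i) (_ : IsPullback pYi qYi b₀ (D.map φ)) (pXi : Xi ⟶ X₀)
          (_ : IsPullback pXi fi f₀ pYi),
          ∃ (UK VK : Over S) (sK : UK ⟶ VK) (aK : (yon S).obj UK ⟶ Xi)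
            (bK : (yon S).obj VK ⟶ Yi), RepWith @Etale aK ∧ RepWith @Surjective aK ∧
            RepWith @Etale bK ∧ RepWith @Surjective bK ∧ aK ≫ fi = (yon S).map sK ≫ bK ∧
            P sK.left := by
  obtain ⟨U₀, V₀, u₀, v₀, h₀, w₀, hUa, hVa, hue, hus, hve, hvs, hu''⟩ :=
    exists_affine_charts hXqc hYqc hYqs f₀
  have hDa' : ∀ (i j : I) (φ : i ⟶ j), RepWith @IsAffineHom (D.map φ) :=
    fun i j φ => (isAffineMor_iff_repWith _).1 (hDa i j φ)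
  have hh₀ : LocallyOfFinitePresentation h₀.left := hf₀ u₀ v₀ h₀ hue hve w₀
  obtain ⟨cE, hcE, hcEL, q, a, sq, haπ, hqπ, -⟩ := LimChart.exists_chart D hDa' i₀ (v₀ ≫ b₀) c hc
  have hUL := IsPullback.of_hasPullback h₀ a
  refine ⟨pullback h₀ a, cE.pt, pullback.snd h₀ a,
    aZ f₀ b₀ u₀ v₀ h₀ w₀ (c.π.app i₀) pY qY hY f pX hX a q sq _ _ hUL,
    bZ b₀ v₀ (c.π.app i₀) pY qY hY a q sq, ?_, ?_, ?_, ?_,
    aZ_f f₀ b₀ u₀ v₀ h₀ w₀ (c.π.app i₀) pY qY hY f pX hX a q sq _ _ hUL, ?_, ?_⟩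
  · exact (repWith_isStableUnderBaseChange _).of_isPullback
      (sqA f₀ b₀ u₀ v₀ h₀ w₀ (c.π.app i₀) pY qY hY f pX hX a q sq _ _ hUL).flip hue
  · exact (repWith_isStableUnderBaseChange _).of_isPullback
      (sqA f₀ b₀ u₀ v₀ h₀ w₀ (c.π.app i₀) pY qY hY f pX hX a q sq _ _ hUL).flip hus
  · exact (repWith_isStableUnderBaseChange _).of_isPullback
      (sqB b₀ v₀ (c.π.app i₀) pY qY hY a q sq).flip hve
  · exact (repWith_isStableUnderBaseChange _).of_isPullback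
      (sqB b₀ v₀ (c.π.app i₀) pY qY hY a q sq).flip hvs
  · intro hfs
    exact surjective_sndU f₀ b₀ u₀ v₀ h₀ w₀ (c.π.app i₀) pY qY hY f pX hX a q sq _ _ hUL hu'' hfs
  · intro P _ hPd hPL
    obtain ⟨k, hk⟩ := exists_stage D hDa' i₀ (v₀ ≫ b₀) hPd h₀ cE hcEL a haπ _ _ hUL hPL
    refine ⟨k.left, k.hom, fun Xi Yi fi pYi qYi hYi pXi hXi => ?_⟩
    have hUK := IsPullback.of_hasPullback h₀ (ak D hDa' i₀ (v₀ ≫ b₀) k)
    have sqK := sqk D hDa' i₀ (v₀ ≫ b₀) k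
    refine ⟨pullback h₀ (ak D hDa' i₀ (v₀ ≫ b₀) k), Uk D hDa' i₀ (v₀ ≫ b₀) k, pullback.snd _ _,
      aZ f₀ b₀ u₀ v₀ h₀ w₀ (D.map k.hom) pYi qYi hYi fi pXi hXi _ _ sqK _ _ hUK,
      bZ b₀ v₀ (D.map k.hom) pYi qYi hYi _ _ sqK, ?_, ?_, ?_, ?_,
      aZ_f f₀ b₀ u₀ v₀ h₀ w₀ (D.map k.hom) pYi qYi hYi fi pXi hXi _ _ sqK _ _ hUK,
      hk _ _ hUK⟩
    · exact (repWith_isStableUnderBaseChange _).of_isPullback
        (sqA f₀ b₀ u₀ v₀ h₀ w₀ (D.map k.hom) pYi qYi hYi fi pXi hXi _ _ sqK _ _ hUK).flip hue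
    · exact (repWith_isStableUnderBaseChange _).of_isPullback
        (sqA f₀ b₀ u₀ v₀ h₀ w₀ (D.map k.hom) pYi qYi hYi fi pXi hXi _ _ sqK _ _ hUK).flip hus
    · exact (repWith_isStableUnderBaseChange _).of_isPullback
        (sqB b₀ v₀ (D.map k.hom) pYi qYi hYi _ _ sqK).flip hve
    · exact (repWith_isStableUnderBaseChange _).of_isPullback
        (sqB b₀ v₀ (D.map k.hom) pYi qYi hYi _ _ sqK).flip hvs

/-- surjectivity on points from a chart square with surjective chart map -/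
theorem isSurjectiveMor_of_chart {X Y : Sp S} (f : X ⟶ Y) {U V : Over S}
    (a : (yon S).obj U ⟶ X) (b : (yon S).obj V ⟶ Y) (s : U ⟶ V)
    (w : a ≫ f = (yon S).map s ≫ b) (hb : RepWith @Surjective b)
    (hs : Function.Surjective s.left) : IsSurjectiveMor f := by
  have h2 : RepWith @Surjective ((yon S).map s) := (repWith_yon_map_iff _ _).2 ⟨hs⟩
  have h3 : IsSurjectiveMor ((yon S).map s ≫ b) :=
    isSurjectiveMor_comp (surjective_map_of_repWith h2) (surjective_map_of_repWith hb)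
  rw [← w] at h3
  intro y
  obtain ⟨x, hx⟩ := h3 y
  exact ⟨Points.map a x, (Points.map_comp _ _ x).symm.trans hx⟩

end Main

end Groth.Agent.Lib.Helper15.LimDescend
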