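import Groth.Agent.Lib.Helper15.LimFactor
import Groth.Agent.Lib.Helper15.LimModel
import Groth.Agent.Lib.Helper15.EtCoverDesc
import Groth.Agent.Lib.Helper3.QSepChart
import Groth.Agent.Lib.Helper3.AffDescCover
import Groth.Agent.Lib.Helper3.AlgSpRepLocal2
import Groth.Agent.Lib.Helper3.AlgSpFibre
import Groth.Agent.Lib.Helper3.AlgSpUC3
import Groth.Agent.Lib.Helper3.AlgSpLocP4
import Groth.Agent.S9905
import Groth.Agent.S10004
import Groth.Agent.S10021
import Groth.Agent.S9200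

set_option autoImplicit false
set_option backward.isDefEq.respectTransparency.types false
universe u
open CategoryTheory CategoryTheory.Limits AlgebraicGeometry
open AlgSp

/-! A cofiltered limit (affine transition maps) of quasi-compact quasi-separated algebraic spaces
which is a scheme has a stage which is a scheme. -/

namespace Groth.Agent.Lib.Helper15.LimRep

open Groth.Agent.Lib.Helper15 Groth.Agent.Lib.Helper3 Groth.Agent.S10056.W1

variable {S : Scheme.{u}}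

section Bridge

theorem isQuasiSeparatedMor_of_isSeparatedMor {F G : Sp S} {f : F ⟶ G} (hf : IsSeparatedMor f) :
    IsQuasiSeparatedMor f :=
  MorphismProperty.relative_monotone (fun A B φ hφ => by
    have : IsClosedImmersion ((Over.forget S).map φ) := hφ
    change QuasiCompact ((Over.forget S).map φ)
    infer_instance) _ hf

theorem isQuasiSeparatedMor_of_repWith_isAffineHom {X Y : Sp S} (f : X ⟶ Y)
    (h : RepWith @IsAffineHom f) : IsQuasiSeparatedMor f := by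
  apply isQuasiSeparatedMor_of_isSeparatedMor
  refine (Groth.Agent.S9905.isSeparatedMor_iff_repWith f h.rep).2 (repWith_mono ?_ h)
  intro A B g hg
  have : IsAffineHom g := hg
  change IsSeparated g
  infer_instance

/-- A sheaf quasi-separated over a quasi-separated sheaf is quasi-separated. -/
theorem isQuasiSeparatedSp_of_mor {X Y : Sp S} (f : X ⟶ Y) (hf : IsQuasiSeparatedMor f)
    (hY : IsQuasiSeparatedSp Y) : IsQuasiSeparatedSp X := by
  have sq := isPullback_diag_of_isPullback (IsPullback.of_hasPullback f f)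
  have h1 : RepWith @QuasiCompact (prod.lift (pullback.fst f f) (pullback.snd f f)) :=
    MorphismProperty.of_isPullback sq hY
  have h2 : Limits.diag X = pullback.diagonal f ≫ prod.lift (pullback.fst f f) (pullback.snd f f) := by
    apply Limits.prod.hom_ext <;> simp
  change RepWith @QuasiCompact (Limits.diag X)
  rw [h2]
  exact (repWith_isMultiplicative (S := S) @QuasiCompact).comp_mem _ _ hf h1

/-- A scheme representing a quasi-separated sheaf over a quasi-separated base is quasi-separated. -/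
theorem quasiSeparatedSpace_of_iso [QuasiSeparatedSpace ↥S] {X : Sp S} (hqs : IsQuasiSeparatedSp X)
    {G : Over S} (e : (yon S).obj G ≅ X) : QuasiSeparatedSpace ↥G.left := by
  have h1 : IsQuasiSeparatedSp ((yon S).obj G) := QSepChart.isQuasiSeparatedSp_of_mono e.hom hqs
  have h2 : QuasiCompact (pullback.diagonal G.hom) := (repWith_diag_yon_iff @QuasiCompact G).1 h1
  have : QuasiSeparated G.hom := ⟨h2⟩
  exact quasiSeparatedSpace_of_quasiSeparated G.hom

theorem isQuasiSeparatedSp_yon [QuasiSeparatedSpace ↥S] (G : Over S) [QuasiSeparatedSpace ↥G.left] :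
    IsQuasiSeparatedSp ((yon S).obj G) := by
  refine (repWith_diag_yon_iff @QuasiCompact G).2 ?_
  infer_instance

end Bridge

section Abstract

variable [QuasiSeparatedSpace S] {I : Type u} [SmallCategory I] [IsCofiltered I]
  (D : I ⥤ AlgSp.Sp S) (hD : ∀ i, AlgSp.IsAlgSpace (D.obj i))
  (hDa : ∀ (i j : I) (φ : i ⟶ j), AlgSp.IsAffineMor (D.map φ))
  (c : Cone D) (hc : IsLimit c) (i₁ : I)
  (hBqc : IsQuasiCompactSp (D.obj i₁)) (hBqs : IsQuasiSeparatedSp (D.obj i₁))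

include hD hDa hc hBqc hBqs in
/-- The comparison map from a chart of a stage to the base change of an étale cover of a scheme
under the stage becomes an isomorphism at a later stage, if it is one in the limit. -/
theorem exists_isIso_stage {V W Z : Over S} [CompactSpace V.left] [QuasiSeparatedSpace V.left]
    (v : (yon S).obj V ⟶ D.obj i₁) (hve : RepWith @Etale v)
    (gk : D.obj i₁ ⟶ (yon S).obj Z) (u' : W ⟶ Z) [Etale u'.left] [QuasiCompact u'.left]
    [QuasiSeparated u'.left]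
    (h' : V ⟶ W) (w₀ : v ≫ gk = (yon S).map h' ≫ (yon S).map u')
    {Y : Sp S} (qY : Y ⟶ c.pt) (pV : Y ⟶ (yon S).obj V)
    (sqV : IsPullback qY pV (c.π.app i₁) v)
    (sqW : IsPullback (pV ≫ (yon S).map h') qY ((yon S).map u') (c.π.app i₁ ≫ gk)) :
    ∃ (i : I) (φ : i ⟶ i₁), ∀ (Vi : Sp S) (vi : Vi ⟶ D.obj i) (ri : Vi ⟶ (yon S).obj V)
      (_ : IsPullback vi ri (D.map φ) v)
      (wi : vi ≫ D.map φ ≫ gk = (ri ≫ (yon S).map h') ≫ (yon S).map u'),
      IsIso (pullback.lift vi (ri ≫ (yon S).map h') wi :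
        Vi ⟶ pullback (D.map φ ≫ gk) ((yon S).map u')) := by
  have hu'e : RepWith @Etale ((yon S).map u') := (repWith_yon_map_iff _ _).2 ‹_›
  have hu'qc : RepWith @QuasiCompact ((yon S).map u') := (repWith_yon_map_iff _ _).2 ‹_›
  have hu'qs : RepWith @QuasiSeparated ((yon S).map u') := (repWith_yon_map_iff _ _).2 ‹_›
  have sqP : IsPullback (pullback.fst gk ((yon S).map u')) (pullback.snd gk ((yon S).map u')) gk
      ((yon S).map u') := IsPullback.of_hasPullback _ _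
  have hb₀e : RepWith @Etale (pullback.fst gk ((yon S).map u')) :=
    (repWith_isStableUnderBaseChange _).of_isPullback sqP.flip hu'e
  have hb₀qc : RepWith @QuasiCompact (pullback.fst gk ((yon S).map u')) :=
    (repWith_isStableUnderBaseChange _).of_isPullback sqP.flip hu'qc
  have hb₀qs : RepWith @QuasiSeparated (pullback.fst gk ((yon S).map u')) :=
    (repWith_isStableUnderBaseChange _).of_isPullback sqP.flip hu'qs
  have hP : IsAlgSpace (pullback gk ((yon S).map u')) :=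
    isAlgSpace_of_isPullback' (IsAlgSpace.yon_obj Z) (hD i₁) (IsAlgSpace.yon_obj W) sqP
  have hPqc : IsQuasiCompactSp (pullback gk ((yon S).map u')) :=
    (isQuasiCompactMor_of_repWith_quasiCompact _ hb₀qc) (hD i₁) hBqc (𝟙 _) (𝟙 _)
      (pullback.fst gk ((yon S).map u')) (IsPullback.of_horiz_isIso ⟨by simp⟩)
  have hPqs : IsQuasiSeparatedSp (pullback gk ((yon S).map u')) :=
    isQuasiSeparatedSp_of_mor _
      ((Groth.Agent.S9905.isQuasiSeparatedMor_iff_repWith _ hb₀qs.rep).2 hb₀qs) hBqs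
  have hVqc : IsQuasiCompactSp ((yon S).obj V) := isQuasiCompactSp_yon ‹_›
  have hVqs : IsQuasiSeparatedSp ((yon S).obj V) := isQuasiSeparatedSp_yon V
  obtain ⟨f₀, hf₀1, hf₀2⟩ : ∃ f₀ : (yon S).obj V ⟶ pullback gk ((yon S).map u'),
      f₀ ≫ pullback.fst _ _ = v ∧ f₀ ≫ pullback.snd _ _ = (yon S).map h' :=
    ⟨pullback.lift v ((yon S).map h') w₀, pullback.lift_fst _ _ _, pullback.lift_snd _ _ _⟩
  have hf₀ : LocP @LocallyOfFinitePresentation f₀ := by
    refine EtCoverDesc.locP_lfp_of_comp (IsAlgSpace.yon_obj V) hP (hD i₁) f₀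
      (pullback.fst gk ((yon S).map u')) ?_ ?_
    · rw [hf₀1]
      refine locP_mono ?_ (locP_of_repWith isEtLocal_etale v hve)
      intro A B g hg
      have : Etale g := hg
      change LocallyOfFinitePresentation g
      infer_instance
    · refine locP_mono ?_ (locP_of_repWith isEtLocal_etale _ hb₀e)
      intro A B g hg
      have : Etale g := hg
      change LocallyOfFiniteType g
      infer_instance
  obtain ⟨pY, hpY1, hpY2⟩ : ∃ pY : Y ⟶ pullback gk ((yon S).map u'),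
      pY ≫ pullback.fst _ _ = qY ≫ c.π.app i₁ ∧ pY ≫ pullback.snd _ _ = pV ≫ (yon S).map h' :=
    ⟨pullback.lift (qY ≫ c.π.app i₁) (pV ≫ (yon S).map h')
      (by rw [Category.assoc]; exact sqW.w.symm), pullback.lift_fst _ _ _, pullback.lift_snd _ _ _⟩
  have hY : IsPullback pY qY (pullback.fst gk ((yon S).map u')) (c.π.app i₁) := by
    refine IsPullback.of_right ?_ hpY1 sqP.flip
    rw [hpY2]
    exact sqW
  have hX : IsPullback pV (𝟙 Y) f₀ pY := by
    refine IsPullback.of_bot ?_ ?_ hY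
    · rw [Category.id_comp, hf₀1]
      exact sqV.flip
    · rw [Category.id_comp]
      apply pullback.hom_ext
      · rw [Category.assoc, hf₀1, hpY1, sqV.w]
      · rw [Category.assoc, hf₀2, hpY2]
  obtain ⟨i, φ, H⟩ := Groth.Agent.S10021.result S D hD hDa c hc i₁ hBqc hBqs
    ⟨(yon S).obj V, IsAlgSpace.yon_obj V⟩ ⟨pullback gk ((yon S).map u'), hP⟩ f₀
    (pullback.fst gk ((yon S).map u')) hVqc hVqs hPqc hPqs Y Y (𝟙 Y) pY qY hY pV hX hf₀
  refine ⟨i, φ, fun Vi vi ri sqi wi => ?_⟩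
  obtain ⟨pYi, hpYi1, hpYi2⟩ : ∃ pYi : pullback (D.map φ ≫ gk) ((yon S).map u') ⟶
      pullback gk ((yon S).map u'),
      pYi ≫ pullback.fst _ _ = pullback.fst _ _ ≫ D.map φ ∧
      pYi ≫ pullback.snd _ _ = pullback.snd _ _ :=
    ⟨pullback.lift (pullback.fst _ _ ≫ D.map φ) (pullback.snd _ _)
      (by rw [Category.assoc]; exact pullback.condition), pullback.lift_fst _ _ _,
      pullback.lift_snd _ _ _⟩
  have hYi : IsPullback pYi (pullback.fst (D.map φ ≫ gk) ((yon S).map u'))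
      (pullback.fst gk ((yon S).map u')) (D.map φ) := by
    refine IsPullback.of_right ?_ hpYi1 sqP.flip
    rw [hpYi2]
    exact (IsPullback.of_hasPullback _ _).flip
  refine H Vi _ _ pYi _ hYi ri ?_
  refine IsPullback.of_bot ?_ ?_ hYi
  · rw [pullback.lift_fst, hf₀1]
    exact sqi.flip
  · apply pullback.hom_ext
    · rw [Category.assoc, hf₀1, Category.assoc, hpYi1, ← Category.assoc, pullback.lift_fst, sqi.w]
    · rw [Category.assoc, hf₀2, Category.assoc, hpYi2, pullback.lift_snd]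

end Abstract

section ChartSystem

variable {I : Type u} [SmallCategory I] (D : I ⥤ AlgSp.Sp S)
  (hDa : ∀ (i j : I) (φ : i ⟶ j), AlgSp.RepWith @IsAffineHom (D.map φ)) (i₀ : I)
  {U₀ : Over S} (p₀ : (yon S).obj U₀ ⟶ D.obj i₀)

theorem uk_id (k : Over i₀) : uk D hDa i₀ p₀ (𝟙 k) = 𝟙 _ := (E D hDa i₀ p₀).map_id k

theorem uk_comp {k k' k'' : Over i₀} (ψ : k ⟶ k') (ψ' : k' ⟶ k'') :
    uk D hDa i₀ p₀ (ψ ≫ ψ') = uk D hDa i₀ p₀ ψ ≫ uk D hDa i₀ p₀ ψ' :=
  (E D hDa i₀ p₀).map_comp ψ ψ'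

/-- the cartesian square between two stages of the chart system. -/
theorem sq_uk {k k' : Over i₀} (ψ : k ⟶ k') :
    IsPullback ((yon S).map (uk D hDa i₀ p₀ ψ)) (pk D hDa i₀ p₀ k) (pk D hDa i₀ p₀ k')
      (D.map ψ.left) := by
  refine IsPullback.of_right ?_ (uk_p D hDa i₀ p₀ ψ) (sqk D hDa i₀ p₀ k').flip
  rw [← Functor.map_comp, uk_a, ← D.map_comp, Over.w ψ]
  exact (sqk D hDa i₀ p₀ k).flip

variable [IsCofiltered I]

/-- If the map from the limit of the chart system to a qcqs scheme is affine, so are the maps from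
the later stages. -/
theorem exists_isAffineHom_stage [IsAffine U₀.left] (cE : Cone (E D hDa i₀ p₀))
    (hcEL : IsLimit ((Over.forget S).mapCone cE)) {U' : Over S} [CompactSpace U'.left]
    [QuasiSeparatedSpace U'.left] (k₁ : Over i₀) (h' : Uk D hDa i₀ p₀ k₁ ⟶ U')
    (haff : IsAffineHom ((cE.π.app k₁ : cE.pt ⟶ Uk D hDa i₀ p₀ k₁) ≫ h').left) :
    ∃ (k₂ : Over i₀) (ψ₂ : k₂ ⟶ k₁), ∀ (k : Over i₀) (ψ : k ⟶ k₂),
      IsAffineHom (uk D hDa i₀ p₀ (ψ ≫ ψ₂) ≫ h').left := by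
  let F : Over k₁ ⥤ Scheme.{u} := Over.forget k₁ ⋙ E D hDa i₀ p₀ ⋙ Over.forget S
  let t : F ⟶ (Functor.const (Over k₁)).obj U'.left :=
    { app := fun κ => (uk D hDa i₀ p₀ κ.hom ≫ h').left
      naturality := fun κ κ' m => by
        simp only [Functor.const_obj_obj, Functor.const_obj_map, Category.comp_id]
        change (uk D hDa i₀ p₀ m.left).left ≫ (uk D hDa i₀ p₀ κ'.hom ≫ h').left = _
        rw [← Over.comp_left, ← Category.assoc, ← uk_comp, Over.w m] }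
  have hcF : IsLimit (((Over.forget S).mapCone cE).whisker (Over.forget k₁)) :=
    (Functor.Initial.isLimitWhiskerEquiv (Over.forget k₁) _).symm hcEL
  haveI : ∀ (i j : Over k₁) (a : i ⟶ j), IsAffineHom (F.map a) :=
    fun i j a => isAffineHom_uk D hDa i₀ p₀ a.left
  haveI : ∀ i, IsAffine (F.obj i) := fun i => LimFactor.isAffine_Uk D hDa i₀ p₀ i.left
  haveI : ∀ i, CompactSpace (F.obj i) := fun i => inferInstance
  haveI : ∀ i, QuasiSeparatedSpace (F.obj i) := fun i => inferInstance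
  let κ₀ : Over k₁ := Over.mk (𝟙 k₁)
  haveI : IsAffineHom ((((Over.forget S).mapCone cE).whisker (Over.forget k₁)).π.app κ₀ ≫
      t.app κ₀) := by
    have e : (((Over.forget S).mapCone cE).whisker (Over.forget k₁)).π.app κ₀ ≫ t.app κ₀ =
        ((cE.π.app k₁ : cE.pt ⟶ Uk D hDa i₀ p₀ k₁) ≫ h').left := by
      change (cE.π.app k₁ : cE.pt ⟶ Uk D hDa i₀ p₀ k₁).left ≫
        (uk D hDa i₀ p₀ (𝟙 k₁) ≫ h').left = _
      rw [uk_id, Category.id_comp, Over.comp_left]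
    rw [e]
    exact haff
  obtain ⟨κ₁, hκ₁⟩ := Groth.Agent.S9200.result U'.left F t _ hcF κ₀
  refine ⟨κ₁.left, κ₁.hom, fun k ψ => ?_⟩
  exact hκ₁ (Over.mk (ψ ≫ κ₁.hom)) (Over.homMk ψ)

end ChartSystem

section Main

variable {I : Type u} [SmallCategory I]

/-- chart square at a later stage. -/
theorem sq_stage (D : I ⥤ AlgSp.Sp S)
    (hDa : ∀ (i j : I) (φ : i ⟶ j), AlgSp.RepWith @IsAffineHom (D.map φ)) (i₀ : I)
    {U₀ : Over S} (p₀ : (yon S).obj U₀ ⟶ D.obj i₀) (c : Cone D) (cE : Cone (E D hDa i₀ p₀))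
    (q : (yon S).obj cE.pt ⟶ c.pt) (a : cE.pt ⟶ U₀)
    (sq : IsPullback q ((yon S).map a) (c.π.app i₀) p₀)
    (haInf : ∀ k : Over i₀, (cE.π.app k : cE.pt ⟶ Uk D hDa i₀ p₀ k) ≫ ak D hDa i₀ p₀ k = a)
    (hq : ∀ k : Over i₀, q ≫ c.π.app k.left =
        (yon S).map (cE.π.app k : cE.pt ⟶ Uk D hDa i₀ p₀ k) ≫ pk D hDa i₀ p₀ k)
    (k : Over i₀) :
    IsPullback q ((yon S).map (cE.π.app k : cE.pt ⟶ Uk D hDa i₀ p₀ k)) (c.π.app k.left)
      (pk D hDa i₀ p₀ k) := by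
  obtain ⟨πk, hπk⟩ : ∃ πk : cE.pt ⟶ Uk D hDa i₀ p₀ k, πk = cE.π.app k := ⟨_, rfl⟩
  have h1 : πk ≫ ak D hDa i₀ p₀ k = a := by rw [hπk]; exact haInf k
  have h2 : q ≫ c.π.app k.left = (yon S).map πk ≫ pk D hDa i₀ p₀ k := by rw [hπk]; exact hq k
  rw [← hπk]
  refine (IsPullback.of_right ?_ h2.symm (sqk D hDa i₀ p₀ k).flip).flip
  rw [← Functor.map_comp, h1, c.w]
  exact sq.flip

theorem main [QuasiSeparatedSpace S] [IsCofiltered I] (D : I ⥤ AlgSp.Sp S) (hD : ∀ i, AlgSp.IsAlgSpace (D.obj i))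
    (hDa : ∀ (i j : I) (φ : i ⟶ j), AlgSp.IsAffineMor (D.map φ))
    (hqc : ∀ i, AlgSp.IsQuasiCompactSp (D.obj i)) (hqs : ∀ i, AlgSp.IsQuasiSeparatedSp (D.obj i))
    (c : Cone D) (hc : IsLimit c) (T : Over S) (e : (yon S).obj T ≅ c.pt) :
    ∃ (i : I) (W : Over S), Nonempty ((yon S).obj W ≅ D.obj i) := by
  have hDa' : ∀ (i j : I) (φ : i ⟶ j), RepWith @IsAffineHom (D.map φ) :=
    fun i j φ => (isAffineMor_iff_repWith _).1 (hDa i j φ)
  obtain ⟨i₀⟩ := IsCofiltered.nonempty (C := I)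
  obtain ⟨U₀, p₀, hp₀e, hp₀s, hU₀⟩ := exists_affine_chart_of_isQuasiCompactSp (hqc i₀)
  haveI : IsAffine U₀.left := hU₀
  obtain ⟨cE, hcE, hcEL, q, a, sq, haInf, hq, haff⟩ := LimChart.exists_chart D hDa' i₀ p₀ c hc
  haveI : IsAffineHom a.left := haff
  haveI : IsAffine cE.pt.left := isAffine_of_isAffineHom a.left
  -- étale surjective cover of T
  have hqe : RepWith @Etale q := (repWith_isStableUnderBaseChange _).of_isPullback sq.flip hp₀e
  have hqs' : RepWith @Surjective q :=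
    (repWith_isStableUnderBaseChange _).of_isPullback sq.flip hp₀s
  obtain ⟨u, hu⟩ : ∃ u : cE.pt ⟶ T, (yon S).map u = q ≫ e.inv :=
    ⟨(yon S).preimage _, Functor.map_preimage _ _⟩
  haveI hue : Etale u.left := (repWith_yon_map_iff @Etale u).1 (by
    rw [hu]; exact MorphismProperty.RespectsIso.postcomp _ _ _ hqe)
  haveI hus : Surjective u.left := (repWith_yon_map_iff @Surjective u).1 (by
    rw [hu]; exact MorphismProperty.RespectsIso.postcomp _ _ _ hqs')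
  haveI : CompactSpace T.left :=
    ⟨by rw [← Set.range_eq_univ.2 u.left.surjective]; exact isCompact_range u.left.continuous⟩
  obtain ⟨hcalg, hπaff⟩ := Groth.Agent.S10004.result S D hD hDa c hc
  have hcqs : IsQuasiSeparatedSp c.pt := isQuasiSeparatedSp_of_mor (c.π.app i₀)
    (isQuasiSeparatedMor_of_repWith_isAffineHom _ ((isAffineMor_iff_repWith _).1 (hπaff i₀)))
    (hqs i₀)
  haveI : QuasiSeparatedSpace T.left := quasiSeparatedSpace_of_iso hcqs e
  haveI : QuasiCompact u.left := inferInstance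
  haveI : QuasiSeparated u.left := inferInstance
  -- relative model
  obtain ⟨Z, U', τ, u', υ, hpb, hZlfp, hZc, hZqs, hτaff, hu'e, hu's, hu'qc, hu'qs⟩ :=
    LimModel.exists_relative_model u
  haveI := hZlfp; haveI := hZc; haveI := hZqs; haveI := hτaff; haveI := hu'e; haveI := hu's
  haveI := hu'qc; haveI := hu'qs
  haveI : LocallyOfFinitePresentation U'.hom := by
    rw [← Over.w u']; infer_instance
  haveI : CompactSpace U'.left := QuasiCompact.compactSpace_of_compactSpace u'.left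
  haveI : QuasiSeparatedSpace U'.left := quasiSeparatedSpace_of_quasiSeparated u'.left
  have hυaff : IsAffineHom υ.left :=
    MorphismProperty.of_isPullback (P := @IsAffineHom) (hpb.map (Over.forget S)).flip hτaff
  obtain ⟨g, hg⟩ : ∃ g : c.pt ⟶ (yon S).obj Z, g = e.inv ≫ (yon S).map τ := ⟨_, rfl⟩
  have hpbU : IsPullback ((yon S).map υ) q ((yon S).map u') g := by
    refine IsPullback.of_iso (hpb.map (yon S)) (Iso.refl _) (Iso.refl _) e (Iso.refl _)
      (by simp) ?_ (by simp) ?_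
    · rw [hu]; simp
    · rw [hg]; simp
  -- factor
  obtain ⟨k, gk, h, hgk1, hgk2, hgk3⟩ := LimFactor.exists_factor D hDa' i₀ p₀ c hc hqs hp₀e hp₀s
    cE hcEL q a sq haInf hq g
  obtain ⟨k₁, h₁, hh₁⟩ := LimFactor.exists_factor_chart D hDa' i₀ p₀ cE hcEL υ
  -- notation for the projections
  obtain ⟨π, hπ⟩ : ∃ π : ∀ k : Over i₀, cE.pt ⟶ Uk D hDa' i₀ p₀ k, π = fun k => cE.π.app k :=
    ⟨_, rfl⟩
  have hπw : ∀ {k k' : Over i₀} (ψ : k ⟶ k'), π k ≫ uk D hDa' i₀ p₀ ψ = π k' := by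
    intro k k' ψ; rw [hπ]; exact cE.w ψ
  have hqπ : ∀ k : Over i₀, q ≫ c.π.app k.left = (yon S).map (π k) ≫ pk D hDa' i₀ p₀ k := by
    intro k; rw [hπ]; exact hq k
  have hsqπ : ∀ k : Over i₀, IsPullback q ((yon S).map (π k)) (c.π.app k.left)
      (pk D hDa' i₀ p₀ k) := by
    intro k; rw [hπ]; exact sq_stage D hDa' i₀ p₀ c cE q a sq haInf hq k
  have hgk3' : π k ≫ h = υ ≫ u' := by
    have : π k ≫ h = (yon S).preimage (q ≫ g) := by rw [hπ]; exact hgk3
    rw [this]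
    apply (yon S).map_injective
    rw [Functor.map_preimage, hpb.w, Functor.map_comp, hu, hg, Category.assoc]
  have hh₁' : π k₁ ≫ h₁ = υ := by rw [hπ]; exact hh₁
  -- common stage
  let k₂ : Over i₀ := IsCofiltered.min k k₁
  let ψ : k₂ ⟶ k := IsCofiltered.minToLeft k k₁
  let ψ₁ : k₂ ⟶ k₁ := IsCofiltered.minToRight k k₁
  haveI : LocallyOfFiniteType Z.hom := inferInstance
  have hlim : π k₂ ≫ (uk D hDa' i₀ p₀ ψ₁ ≫ h₁) ≫ u' = π k₂ ≫ uk D hDa' i₀ p₀ ψ ≫ h := by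
    rw [← Category.assoc (π k₂), ← Category.assoc (π k₂), hπw, ← Category.assoc (π k₂), hπw,
      hh₁', hgk3']
  obtain ⟨k₃, ψ₃, hψ₃⟩ := LimFactor.exists_eq_of_limit_eq D hDa' i₀ p₀ cE hcEL k₂
    ((uk D hDa' i₀ p₀ ψ₁ ≫ h₁) ≫ u') (uk D hDa' i₀ p₀ ψ ≫ h) (by rw [hπ] at hlim; exact hlim)
  -- stage data and its transport
  have transport : ∀ {k k' : Over i₀} (ψ : k' ⟶ k) (gk : D.obj k.left ⟶ (yon S).obj Z)
      (h' : Uk D hDa' i₀ p₀ k ⟶ U'),
      (c.π.app k.left ≫ gk = g ∧ pk D hDa' i₀ p₀ k ≫ gk = (yon S).map (h' ≫ u') ∧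
        π k ≫ h' = υ) →
      (c.π.app k'.left ≫ D.map ψ.left ≫ gk = g ∧
        pk D hDa' i₀ p₀ k' ≫ D.map ψ.left ≫ gk =
          (yon S).map ((uk D hDa' i₀ p₀ ψ ≫ h') ≫ u') ∧
        π k' ≫ uk D hDa' i₀ p₀ ψ ≫ h' = υ) := by
    rintro k k' ψ gk h' ⟨h1, h2, h3⟩
    refine ⟨?_, ?_, ?_⟩
    · rw [← Category.assoc, c.w, h1]
    · rw [← Category.assoc, ← uk_p, Category.assoc, h2, ← Functor.map_comp, Category.assoc]
    · rw [← Category.assoc, hπw, h3]
  have data₃ : c.π.app k₃.left ≫ (D.map ψ₃.left ≫ D.map ψ.left ≫ gk) = g ∧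
      pk D hDa' i₀ p₀ k₃ ≫ (D.map ψ₃.left ≫ D.map ψ.left ≫ gk) =
        (yon S).map ((uk D hDa' i₀ p₀ ψ₃ ≫ uk D hDa' i₀ p₀ ψ₁ ≫ h₁) ≫ u') ∧
      π k₃ ≫ (uk D hDa' i₀ p₀ ψ₃ ≫ uk D hDa' i₀ p₀ ψ₁ ≫ h₁) = υ := by
    refine ⟨?_, ?_, ?_⟩
    · rw [← Category.assoc, c.w, ← Category.assoc, c.w, hgk1]
    · rw [← Category.assoc, ← uk_p, Category.assoc, ← Category.assoc (pk D hDa' i₀ p₀ k₂),
        ← uk_p, Category.assoc, hgk2, ← Functor.map_comp, ← Functor.map_comp]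
      congr 1
      simp only [Category.assoc] at hψ₃ ⊢
      exact hψ₃.symm
    · rw [← Category.assoc, hπw, ← Category.assoc, hπw, hh₁']
  obtain ⟨gk₃, hgk₃⟩ : ∃ gk₃ : D.obj k₃.left ⟶ (yon S).obj Z,
      gk₃ = D.map ψ₃.left ≫ D.map ψ.left ≫ gk := ⟨_, rfl⟩
  obtain ⟨h₃, hh₃⟩ : ∃ h₃ : Uk D hDa' i₀ p₀ k₃ ⟶ U',
      h₃ = uk D hDa' i₀ p₀ ψ₃ ≫ uk D hDa' i₀ p₀ ψ₁ ≫ h₁ := ⟨_, rfl⟩
  rw [← hgk₃, ← hh₃] at data₃
  -- affineness at later stages
  obtain ⟨k₄, ψ₄, hk₄⟩ := exists_isAffineHom_stage D hDa' i₀ p₀ cE hcEL k₃ h₃ (by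
    have : (cE.π.app k₃ : cE.pt ⟶ Uk D hDa' i₀ p₀ k₃) ≫ h₃ = υ := by
      have := data₃.2.2
      rw [hπ] at this
      exact this
    rw [this]
    exact hυaff)
  have data₄ := transport ψ₄ gk₃ h₃ data₃
  obtain ⟨gk₄, hgk₄⟩ : ∃ gk₄ : D.obj k₄.left ⟶ (yon S).obj Z,
      gk₄ = D.map ψ₄.left ≫ gk₃ := ⟨_, rfl⟩
  obtain ⟨h₄, hh₄⟩ : ∃ h₄ : Uk D hDa' i₀ p₀ k₄ ⟶ U', h₄ = uk D hDa' i₀ p₀ ψ₄ ≫ h₃ := ⟨_, rfl⟩
  rw [← hgk₄, ← hh₄] at data₄
  -- isomorphism at a later stage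
  haveI : IsAffine (Uk D hDa' i₀ p₀ k₄).left := LimFactor.isAffine_Uk D hDa' i₀ p₀ k₄
  obtain ⟨i, φ, H⟩ := exists_isIso_stage D hD hDa c hc k₄.left (hqc _) (hqs _)
    (pk D hDa' i₀ p₀ k₄) (LimFactor.repWith_pk D hDa' i₀ p₀ @Etale hp₀e k₄) gk₄ u' h₄
    (by rw [data₄.2.1, Functor.map_comp]) q ((yon S).map (π k₄)) (hsqπ k₄) (by
      rw [← Functor.map_comp, data₄.2.2, data₄.1]
      exact hpbU)
  let k₅ : Over i₀ := Over.mk (φ ≫ k₄.hom)
  let ψ₅ : k₅ ⟶ k₄ := Over.homMk φ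
  have data₅ := transport ψ₅ gk₄ h₄ data₄
  have hiso := H _ (pk D hDa' i₀ p₀ k₅) ((yon S).map (uk D hDa' i₀ p₀ ψ₅))
    (sq_uk D hDa' i₀ p₀ ψ₅).flip (by
      rw [← Functor.map_comp, ← Functor.map_comp]
      exact data₅.2.1)
  -- the affine morphism
  have haff₅ : IsAffineHom (uk D hDa' i₀ p₀ ψ₅ ≫ h₄).left := by
    have := hk₄ k₅ ψ₅
    rw [uk_comp, Category.assoc, ← hh₄] at this
    exact this
  obtain ⟨fi, hfiso, hfi⟩ : ∃ fi : (yon S).obj (Uk D hDa' i₀ p₀ k₅) ⟶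
      pullback (D.map φ ≫ gk₄) ((yon S).map u'), IsIso fi ∧
      fi ≫ pullback.snd _ _ = (yon S).map (uk D hDa' i₀ p₀ ψ₅ ≫ h₄) :=
    ⟨_, hiso, by rw [pullback.lift_snd, Functor.map_comp]⟩
  have hsnd : IsAffineMor (pullback.snd (D.map φ ≫ gk₄) ((yon S).map u')) := by
    refine (isAffineMor_iff_repWith _).2 ?_
    have e1 : pullback.snd (D.map φ ≫ gk₄) ((yon S).map u') =
        inv fi ≫ (yon S).map (uk D hDa' i₀ p₀ ψ₅ ≫ h₄) := by
      rw [IsIso.eq_inv_comp, hfi]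
    rw [e1]
    exact MorphismProperty.RespectsIso.precomp _ _ _ ((repWith_yon_map_iff _ _).2 haff₅)
  have hu'e' : RepWith @Etale ((yon S).map u') := (repWith_yon_map_iff _ _).2 hu'e
  have hu's' : RepWith @Surjective ((yon S).map u') := (repWith_yon_map_iff _ _).2 hu's
  have hfaff : IsAffineMor (D.map φ ≫ gk₄) := by
    intro Z' hZ' z
    obtain ⟨W₀, V', W, j, fst₀, q', w, c', g', fstW, sq', hW₀, -⟩ :=
      AffDesc.exists_descent_square (D.map φ ≫ gk₄) U' ((yon S).map u') hu'e' hu's'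
        (pullback.fst _ _) (pullback.snd _ _) (IsPullback.of_hasPullback _ _) hsnd hZ' z
    exact ⟨W₀, j, fst₀, sq', hW₀⟩
  have hfrep := ((isAffineMor_iff_repWith _).1 hfaff).rep
  have sqW := hfrep.isPullback (𝟙 ((yon S).obj Z))
  haveI : IsIso (hfrep.fst (𝟙 ((yon S).obj Z))) := sqW.isIso_fst_of_isIso
  exact ⟨i, hfrep.pullback (𝟙 _), ⟨asIso (hfrep.fst (𝟙 _))⟩⟩

end Main

end Groth.Agent.Lib.Helper15.LimRep
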