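import Groth.Agent.Lib.Helper15.IndPr4
import Groth.Agent.Lib.Helper15.LimRep
import Groth.Agent.Lib.Helper3.QSepChart

set_option autoImplicit false
universe u
open CategoryTheory CategoryTheory.Limits AlgebraicGeometry Opposite
open AlgSp

namespace Groth.Agent.Lib.Helper15.IndPr5

open Groth.Agent.Lib.Helper3

variable {S : Scheme.{u}}

theorem main [QuasiSeparatedSpace ↥S] (X : AlgSp.Space S)
    (P : AlgSp.EtSpOver X → Prop)
    (h1 : ∀ (W : AlgSp.EtSpOver X) (T : Over S), IsAffine T.left →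
      Nonempty ((AlgSp.yon S).obj T ≅ W.obj.left.obj) → P W)
    (h2 : ∀ (W U V UV : AlgSp.EtSpOver X) (j : U ⟶ W) (f : V ⟶ W) (p : UV ⟶ U) (q : UV ⟶ V),
      AlgSp.IsQuasiCompactSp W.obj.left.obj → AlgSp.IsQuasiSeparatedSp W.obj.left.obj →
      AlgSp.IsQuasiCompactSp U.obj.left.obj →
      (∃ T : Over S, IsAffine T.left ∧ Nonempty ((AlgSp.yon S).obj T ≅ V.obj.left.obj)) →
      AlgSp.IsElemDistSq j.hom.left.hom f.hom.left.hom →
      IsPullback p.hom.left.hom q.hom.left.hom j.hom.left.hom f.hom.left.hom →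
      P U → P V → P UV → P W) :
    ∀ W : AlgSp.EtSpOver X, AlgSp.IsQuasiCompactSp W.obj.left.obj →
      AlgSp.IsQuasiSeparatedSp W.obj.left.obj → P W := by
  intro W hWc hWs
  refine IndPr4.main X (fun W => AlgSp.IsQuasiCompactSp W.obj.left.obj ∧
    AlgSp.IsQuasiSeparatedSp W.obj.left.obj) P (fun W h => h) ?_ ?_ ?_ W ⟨hWc, hWs⟩
  · intro W U j hW hj hU
    exact ⟨hU, QSepChart.isQuasiSeparatedSp_of_openImmersion j.hom.left.hom hj hW.2⟩
  · rintro V T hT ⟨iso⟩
    haveI := hT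
    refine ⟨⟨?_, ?_⟩, h1 V T hT ⟨iso⟩⟩
    · refine isQuasiCompactSp_of_isSurjectiveMor iso.hom (fun x => ?_)
        (isQuasiCompactSp_yon inferInstance) V.obj.left.property
      refine ⟨Points.map iso.inv x, ?_⟩
      rw [← Points.map_comp, iso.inv_hom_id, Points.map_id]
    · exact QSepChart.isQuasiSeparatedSp_of_mono iso.inv (LimRep.isQuasiSeparatedSp_yon T)
  · intro W U V UV j f p q hW hU hV heds hpb hPU hPV hPUV
    exact h2 W U V UV j f p q hW.1 hW.2 hU hV heds hpb hPU hPV hPUV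

end Groth.Agent.Lib.Helper15.IndPr5
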