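import Groth.Agent.Lib.Helper15.IndPr4
import Groth.Agent.Lib.Helper15.Colim1
import Groth.Agent.Lib.Helper3.SpCoprod4
import Groth.Agent.Lib.Helper3.RNCo1
import Groth.Agent.S10203

set_option autoImplicit false
universe u
open CategoryTheory CategoryTheory.Limits AlgebraicGeometry Opposite
open AlgSp

namespace Groth.Agent.Lib.Helper15.IndPr6

open Groth.Agent.Lib.Helper3 Groth.Agent.Lib.Helper3.FibPow Groth.Agent.Lib.Helper15.ElemDist
open Groth.Agent.Lib.Helper15.IndPr1 Groth.Agent.Lib.Helper15.IndPr2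

variable {S : Scheme.{u}}

section Coprod
variable (V₁ V₂ : Over S)

/-- the coproduct of two schemes over `S` -/
noncomputable def cV : Over S := Over.mk (coprod.desc V₁.hom V₂.hom)

noncomputable def cι₁ : V₁ ⟶ cV V₁ V₂ := Over.homMk coprod.inl (coprod.inl_desc _ _)

noncomputable def cι₂ : V₂ ⟶ cV V₁ V₂ := Over.homMk coprod.inr (coprod.inr_desc _ _)

instance [IsAffine V₁.left] [IsAffine V₂.left] : IsAffine (cV V₁ V₂).left :=
  inferInstanceAs (IsAffine (V₁.left ⨿ V₂.left))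

/-- the two-element index type in universe `u` -/
abbrev Two : Type u := ULift.{u} Bool

noncomputable def cA : Two.{u} → Over S := fun b => cond b.down V₁ V₂

noncomputable def ca : ∀ b : Two.{u}, cA V₁ V₂ b ⟶ cV V₁ V₂
  | ⟨true⟩ => cι₁ V₁ V₂
  | ⟨false⟩ => cι₂ V₁ V₂

theorem ca_openImm (b : Two.{u}) : IsOpenImmersion (ca V₁ V₂ b).left := by
  obtain ⟨b⟩ := b
  cases b
  · exact inferInstanceAs (IsOpenImmersion (coprod.inr : V₂.left ⟶ V₁.left ⨿ V₂.left))
  · exact inferInstanceAs (IsOpenImmersion (coprod.inl : V₁.left ⟶ V₁.left ⨿ V₂.left))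

theorem ca_cover (v : ↥(cV V₁ V₂).left) : ∃ b, v ∈ Set.range (ca V₁ V₂ b).left := by
  have h := (isCompl_range_inl_inr V₁.left V₂.left).sup_eq_top
  have hv : v ∈ Set.range (coprod.inl : V₁.left ⟶ V₁.left ⨿ V₂.left) ∪
      Set.range (coprod.inr : V₂.left ⟶ V₁.left ⨿ V₂.left) := by
    have : v ∈ (⊤ : Set ↥(V₁.left ⨿ V₂.left)) := trivial
    rw [← h] at this
    exact this
  rcases hv with hv | hv
  · exact ⟨⟨true⟩, hv⟩
  · exact ⟨⟨false⟩, hv⟩

end Coprod

section Glue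
variable {V₁ V₂ : Over S} {F : Sp S} (g₁ : (yon S).obj V₁ ⟶ F) (g₂ : (yon S).obj V₂ ⟶ F)

noncomputable def cψ : ∀ b : Two.{u}, (yon S).obj (cA V₁ V₂ b) ⟶ F
  | ⟨true⟩ => g₁
  | ⟨false⟩ => g₂

theorem ca_mono (b : Two.{u}) : Mono (ca V₁ V₂ b) := by
  haveI := ca_openImm V₁ V₂ b
  exact (Over.forget S).mono_of_mono_map (inferInstanceAs (Mono (ca V₁ V₂ b).left))

theorem isEmpty_of_ne {Z : Over S} (x : Z ⟶ V₁) (y : Z ⟶ V₂)
    (h : x ≫ cι₁ V₁ V₂ = y ≫ cι₂ V₁ V₂) : IsEmpty ↥Z.left := by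
  refine ⟨fun z => ?_⟩
  have h1 : x.left ≫ (coprod.inl : V₁.left ⟶ V₁.left ⨿ V₂.left) =
      y.left ≫ (coprod.inr : V₂.left ⟶ V₁.left ⨿ V₂.left) := congrArg CommaMorphism.left h
  have h2 := congrArg (fun φ : Z.left ⟶ V₁.left ⨿ V₂.left => φ z) h1
  simp only [Scheme.Hom.comp_apply] at h2
  exact inl_ne_inr _ _ _ _ h2

theorem exists_coprod_chart (hF : IsAlgSpace F) (hg₁ : RepWith @Etale g₁)
    (hg₂ : RepWith @Etale g₂) :
    ∃ g : (yon S).obj (cV V₁ V₂) ⟶ F, (yon S).map (cι₁ V₁ V₂) ≫ g = g₁ ∧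
      (yon S).map (cι₂ V₁ V₂) ≫ g = g₂ ∧ RepWith @Etale g := by
  obtain ⟨g, hg⟩ := Colim1.exists_glue_of_cover (F := F) (V := cV V₁ V₂) (cA V₁ V₂) (ca V₁ V₂)
    (fun b => by haveI := ca_openImm V₁ V₂ b; infer_instance)
    (fun b => by haveI := ca_openImm V₁ V₂ b; infer_instance)
    (ca_cover V₁ V₂) (cψ g₁ g₂) (by
      rintro ⟨k⟩ ⟨l⟩ Z x y h
      cases k <;> cases l
      · haveI := ca_mono (V₁ := V₁) (V₂ := V₂) ⟨false⟩
        rw [(cancel_mono (ca V₁ V₂ ⟨false⟩)).1 h]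
      · exact Groth.Agent.Lib.Helper3.RelNorm.hom_ext_of_isEmpty (isEmpty_of_ne y x h.symm) _ _
      · exact Groth.Agent.Lib.Helper3.RelNorm.hom_ext_of_isEmpty (isEmpty_of_ne x y h) _ _
      · haveI := ca_mono (V₁ := V₁) (V₂ := V₂) ⟨true⟩
        rw [(cancel_mono (ca V₁ V₂ ⟨true⟩)).1 h])
  refine ⟨g, hg ⟨true⟩, hg ⟨false⟩, ?_⟩
  refine repWith_of_openCover_source @Etale g (hF.representable_from_yon g) (cA V₁ V₂) (ca V₁ V₂)
    (ca_openImm V₁ V₂) (ca_cover V₁ V₂) ?_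
  rintro ⟨b⟩
  cases b
  · rw [hg ⟨false⟩]; exact hg₂
  · rw [hg ⟨true⟩]; exact hg₁

end Glue

section Props
variable {V₁ V₂ : Over S} {F : Sp S} {g₁ : (yon S).obj V₁ ⟶ F} {g₂ : (yon S).obj V₂ ⟶ F}
  (g : (yon S).obj (cV V₁ V₂) ⟶ F) (h₁ : (yon S).map (cι₁ V₁ V₂) ≫ g = g₁)
  (h₂ : (yon S).map (cι₂ V₁ V₂) ≫ g = g₂)

include h₁ h₂ in
theorem range_coprod_chart :
    Set.range (Points.map g) = Set.range (Points.map g₁) ∪ Set.range (Points.map g₂) := by
  rw [range_map_eq_range_ofPt, range_map_eq_range_ofPt, range_map_eq_range_ofPt]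
  ext x
  constructor
  · rintro ⟨v, rfl⟩
    obtain ⟨⟨b⟩, v', hv'⟩ := ca_cover V₁ V₂ v
    cases b
    · right
      refine ⟨v', ?_⟩
      rw [← h₂, Points.ofPt_yon_map_comp]
      exact congrArg _ hv'
    · left
      refine ⟨v', ?_⟩
      rw [← h₁, Points.ofPt_yon_map_comp]
      exact congrArg _ hv'
  · rintro (⟨v', rfl⟩ | ⟨v', rfl⟩)
    · exact ⟨(cι₁ V₁ V₂).left v', by rw [← h₁, Points.ofPt_yon_map_comp]⟩
    · exact ⟨(cι₂ V₁ V₂).left v', by rw [← h₂, Points.ofPt_yon_map_comp]⟩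

omit g in
theorem exists_factor_field (K : Type u) [Field K] (str : Spec (.of K) ⟶ S)
    (μ : Over.mk str ⟶ cV V₁ V₂) :
    (∃ ν : Over.mk str ⟶ V₁, μ = ν ≫ cι₁ V₁ V₂) ∨ (∃ ν : Over.mk str ⟶ V₂, μ = ν ≫ cι₂ V₁ V₂) := by
  have hsub : Subsingleton ↥(Over.mk str).left := by
    change Subsingleton ↥(Spec (CommRingCat.of K))
    infer_instance
  let x₀ : ↥(Over.mk str).left := IsLocalRing.closedPoint K
  obtain ⟨⟨b⟩, v', hv'⟩ := ca_cover V₁ V₂ (μ.left x₀)
  have hr : Set.range μ.left ⊆ Set.range (ca V₁ V₂ ⟨b⟩).left := by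
    rintro _ ⟨x, rfl⟩
    rw [Subsingleton.elim x x₀]
    exact ⟨v', hv'⟩
  haveI := ca_openImm V₁ V₂ ⟨b⟩
  have hfac : IsOpenImmersion.lift (ca V₁ V₂ ⟨b⟩).left μ.left hr ≫ (ca V₁ V₂ ⟨b⟩).left = μ.left :=
    IsOpenImmersion.lift_fac _ _ _
  have hw : IsOpenImmersion.lift (ca V₁ V₂ ⟨b⟩).left μ.left hr ≫ (cA V₁ V₂ ⟨b⟩).hom = str := by
    rw [← Over.w (ca V₁ V₂ ⟨b⟩), ← Category.assoc, hfac]
    exact Over.w μ
  cases b
  · right
    exact ⟨Over.homMk _ hw, Over.OverMorphism.ext hfac.symm⟩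
  · left
    exact ⟨Over.homMk _ hw, Over.OverMorphism.ext hfac.symm⟩

include h₁ h₂ in
theorem inj_coprod_chart (Ω : Set (Points F)) (hinj₁ : Inj g₁ Ω)
    (hΩ₂ : Set.range (Points.map g₂) ⊆ Ω) : Inj g Ω := by
  intro K _ str μ1 μ2 h12 hmem
  have key : ∀ μ : Over.mk str ⟶ cV V₁ V₂,
      Points.mk (fieldPtOfHom K str ((yon S).map μ ≫ g)) ∉ Ω →
      ∃ ν : Over.mk str ⟶ V₁, μ = ν ≫ cι₁ V₁ V₂ := by
    intro μ hμ
    rcases exists_factor_field K str μ with h | ⟨ν, rfl⟩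
    · exact h
    · exfalso
      apply hμ
      apply hΩ₂
      refine ⟨Points.mk (fieldPtOfHom K str ((yon S).map ν)), ?_⟩
      rw [Points.map_mk_fieldPtOfHom, ← h₂, Functor.map_comp, Category.assoc]
  obtain ⟨ν1, rfl⟩ := key μ1 hmem
  obtain ⟨ν2, rfl⟩ := key μ2 (by rw [← h12]; exact hmem)
  have e : ∀ ν : Over.mk str ⟶ V₁, (yon S).map (ν ≫ cι₁ V₁ V₂) ≫ g = (yon S).map ν ≫ g₁ := by
    intro ν
    rw [Functor.map_comp, Category.assoc, h₁]
  rw [e, e] at h12
  rw [e] at hmem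
  rw [hinj₁ K str ν1 ν2 h12 hmem]

end Props

/-- the strata data extracted from the filtration -/
theorem exists_strata [QuasiSeparatedSpace ↥S] (X : Space S)
    (hqc : IsQuasiCompactSp X.obj) (hqs : IsQuasiSeparatedSp X.obj) :
    ∃ (n : ℕ) (A : ℕ → Set (Points X.obj)), A 1 = Set.univ ∧ A (n + 1) = ∅ ∧
      (∀ p, A (p + 1) ⊆ A p) ∧
      ∀ p, 1 ≤ p → ∃ (V : Over S) (g : (yon S).obj V ⟶ X.obj), CompactSpace ↥V.left ∧
        RepWith @Etale g ∧ Set.range (Points.map g) = A p ∧ Inj g (A (p + 1)) := by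
  obtain ⟨n, Uo, j, k, T, i, hj, hkj, hj1, hempty, hi, hV⟩ := main10419 X hqc hqs
  refine ⟨n, fun p => Set.range (Points.map (j p).hom), ?_, Set.range_eq_empty _, ?_, ?_⟩
  · have hiso : IsIso (j 1).hom := (ObjectProperty.isIso_hom_iff _).2 hj1
    apply Set.eq_univ_of_forall
    intro x
    refine ⟨Points.map (inv (j 1).hom) x, ?_⟩
    rw [← Points.map_comp, IsIso.inv_hom_id, Points.map_id]
  · rintro p _ ⟨y, rfl⟩
    refine ⟨Points.map (k p).hom y, ?_⟩
    rw [← Points.map_comp]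
    have : (k p).hom ≫ (j p).hom = (j (p + 1)).hom := congrArg (fun φ => φ.hom) (hkj p)
    rw [this]
  · intro p hp
    obtain ⟨V, f, -, hVc, hfe, hfs, hiso⟩ := hV p hp
    haveI : Mono (j p).hom := mono_of_repWith_isOpenImmersion _ (hj p)
    refine ⟨V, f ≫ (j p).hom, hVc,
      (RepWith @Etale).comp_mem _ _ hfe (repWith_mono isOpenImmersion_le_etale (hj p)), ?_, ?_⟩
    · apply Set.Subset.antisymm
      · rintro _ ⟨v, rfl⟩
        exact ⟨Points.map f v, (Points.map_comp _ _ _).symm⟩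
      · rintro _ ⟨y, rfl⟩
        obtain ⟨v, rfl⟩ := surjective_map_of_repWith hfs y
        exact ⟨v, Points.map_comp _ _ _⟩
    · intro K _ str μ1 μ2 h12 hmem
      refine inj_of_isIso f (i p).hom (hi p).1 hiso K str μ1 μ2 ?_ ?_
      · rw [← cancel_mono (j p).hom, Category.assoc, Category.assoc]
        exact h12
      · rw [(hi p).2.1]
        rintro ⟨y, hy⟩
        apply hmem
        refine ⟨y, ?_⟩
        have e : (k p).hom ≫ (j p).hom = (j (p + 1)).hom := congrArg (fun φ => φ.hom) (hkj p)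
        rw [← e, Points.map_comp, hy, Points.map_mk_fieldPtOfHom, Category.assoc]

open Groth.Agent.Lib.Helper15.IndPr3 in
theorem main [QuasiSeparatedSpace ↥S] {X U : AlgSp.Space S}
    (hqc : AlgSp.IsQuasiCompactSp X.obj) (hqs : AlgSp.IsQuasiSeparatedSp X.obj)
    (hN : AlgSp.IsLocNoethSp X.obj)
    (j : U ⟶ X) (hj : AlgSp.RepWith @IsOpenImmersion j.hom)
    (hne : Set.range (AlgSp.Points.map j.hom) ≠ Set.univ) :
    ∃ (V : Over S) (_ : IsAffine V.left) (W : AlgSp.Space S) (jW : W ⟶ X) (jU : U ⟶ W)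
      (φ : (AlgSp.ofScheme S).obj V ⟶ W)
      (P : AlgSp.Space S) (p : P ⟶ U) (q : P ⟶ (AlgSp.ofScheme S).obj V),
      AlgSp.RepWith @Etale (φ ≫ jW).hom ∧ AlgSp.RepWith @IsOpenImmersion jW.hom ∧ jU ≫ jW = j ∧
        Set.range (AlgSp.Points.map jW.hom) =
          Set.range (AlgSp.Points.map j.hom) ∪ Set.range (AlgSp.Points.map (φ ≫ jW).hom) ∧
        Set.range (AlgSp.Points.map jW.hom) ≠ Set.range (AlgSp.Points.map j.hom) ∧
        AlgSp.IsElemDistSq jU.hom φ.hom ∧ IsPullback p.hom q.hom jU.hom φ.hom ∧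
        AlgSp.IsDominantMor p.hom := by
  classical
  obtain ⟨n, A, hA1, hAe, hAsub, hA⟩ := exists_strata X hqc hqs
  -- the largest stratum not contained in `U`
  have hn : 1 ≤ n := by
    by_contra hcon
    have : n = 0 := by omega
    subst this
    rw [hA1] at hAe
    exact hne (Set.eq_univ_of_forall fun x => by
      have : x ∈ (Set.univ : Set (Points X.obj)) := trivial
      rw [hAe] at this
      exact this.elim)
  let Pp : ℕ → Prop := fun p => ¬ A p ⊆ Set.range (Points.map j.hom)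
  have hP1 : Pp 1 := by
    intro h
    rw [hA1] at h
    exact hne (Set.eq_univ_of_univ_subset h)
  have hpP : Pp (Nat.findGreatest Pp n) := Nat.findGreatest_spec hn hP1
  have hp1 : 1 ≤ Nat.findGreatest Pp n := Nat.le_findGreatest hn hP1
  have hpn : Nat.findGreatest Pp n ≤ n := Nat.findGreatest_le n
  have hpsucc : A (Nat.findGreatest Pp n + 1) ⊆ Set.range (Points.map j.hom) := by
    by_cases h : Nat.findGreatest Pp n + 1 ≤ n
    · by_contra hcon
      exact Nat.findGreatest_is_greatest (Nat.lt_succ_self _) h hcon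
    · have : Nat.findGreatest Pp n + 1 = n + 1 := by omega
      rw [this, hAe]
      exact Set.empty_subset _
  obtain ⟨Vp, gp, hVpc, hgpe, hgpr, hgpinj⟩ := hA _ hp1
  -- an affine open of `V_p` not mapping into `U`
  obtain ⟨x, hxA, hxU⟩ := Set.not_subset.1 hpP
  rw [← hgpr, range_map_eq_range_ofPt] at hxA
  obtain ⟨v, rfl⟩ := hxA
  obtain ⟨_, ⟨O, hO, rfl⟩, hvO, -⟩ :=
    Vp.left.isBasis_affineOpens.exists_subset_of_mem_open (Set.mem_univ v) isOpen_univ
  have hV₁aff : IsAffine (opS Vp O).left := hO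
  have hg₁e : RepWith @Etale (chartRestrict gp O) := chartRestrict_etale gp hgpe O
  have hg₁inj : Inj (chartRestrict gp O) (Set.range (Points.map j.hom)) :=
    (hgpinj.restrict O).mono hpsucc
  have hg₁v : Points.ofPt (chartRestrict gp O) ⟨v, hvO⟩ ∉ Set.range (Points.map j.hom) := by
    rw [ofPt_chartRestrict]
    exact hxU
  -- an affine chart of `U`
  haveI : TopologicalSpace.NoetherianSpace (Points X.obj) := Groth.Agent.S10203.result X hqc hN
  have hUc : IsQuasiCompactSp U.obj :=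
    isQuasiCompactSp_of_isCompact_range X.property j.hom hj
      (TopologicalSpace.NoetherianSpace.isCompact _)
  obtain ⟨V₂, a₂, ha₂e, ha₂s, hV₂aff⟩ := exists_affine_chart_of_isQuasiCompactSp hUc
  have hg₂e : RepWith @Etale (a₂ ≫ j.hom) :=
    (RepWith @Etale).comp_mem _ _ ha₂e (repWith_mono isOpenImmersion_le_etale hj)
  have hg₂r : Set.range (Points.map (a₂ ≫ j.hom)) = Set.range (Points.map j.hom) := by
    apply Set.Subset.antisymm
    · rintro _ ⟨v, rfl⟩
      exact ⟨Points.map a₂ v, (Points.map_comp _ _ _).symm⟩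
    · rintro _ ⟨y, rfl⟩
      obtain ⟨v, rfl⟩ := surjective_map_of_repWith ha₂s y
      exact ⟨v, Points.map_comp _ _ _⟩
  -- the coproduct chart
  haveI := hV₁aff
  haveI : IsAffine V₂.left := hV₂aff
  obtain ⟨g, hgι₁, hgι₂, hge⟩ := exists_coprod_chart (chartRestrict gp O) (a₂ ≫ j.hom)
    X.property hg₁e hg₂e
  have hgr := range_coprod_chart g hgι₁ hgι₂
  have hginj : Inj g (Set.range (Points.map j.hom)) :=
    inj_coprod_chart g hgι₁ hgι₂ _ hg₁inj (by rw [hg₂r])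
  have hUo : IsOpen (Set.range (Points.map j.hom)) :=
    (isOpenMap_map_of_etale (repWith_mono isOpenImmersion_le_etale hj)).isOpen_range
  have hgo : IsOpen (Set.range (Points.map g)) := (isOpenMap_map_of_etale hge).isOpen_range
  have hΩ' : IsOpen (Set.range (Points.map j.hom) ∪ Set.range (Points.map g)) := hUo.union hgo
  have hjW := repWith_oι X _ hΩ'
  haveI : Mono (oι X _ hΩ').hom := mono_of_repWith_isOpenImmersion _ hjW
  have hjWinj : Function.Injective (Points.map (oι X _ hΩ').hom) :=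
    Points.map_injective_of_mono _
  obtain ⟨jU, hjU⟩ := exists_factor_of_range_subset (oι X _ hΩ').hom hjW j.hom (by
    rw [range_oι]; exact Set.subset_union_left)
  obtain ⟨f, hf⟩ := exists_factor_of_range_subset (oι X _ hΩ').hom hjW g (by
    rw [range_oι]; exact Set.subset_union_right)
  have heds : IsElemDistSq jU f :=
    isElemDistSq_of_inj (oS X _ hΩ').property j.hom (oι X _ hΩ').hom hj hjW jU hjU g hge f hf
      (by rw [range_oι]) hginj
  have hPalg : IsAlgSpace (pullback jU f) :=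
    isAlgSpace_of_isPullback' (oS X _ hΩ').property U.property (IsAlgSpace.yon_obj _)
      (IsPullback.of_hasPullback jU f)
  refine ⟨cV (opS Vp O) V₂, inferInstance, oS X _ hΩ', oι X _ hΩ', ObjectProperty.homMk jU,
    ObjectProperty.homMk f, ⟨pullback jU f, hPalg⟩, ObjectProperty.homMk (pullback.fst jU f),
    ObjectProperty.homMk (pullback.snd jU f), ?_, hjW, ObjectProperty.hom_ext _ hjU, ?_, ?_,
    heds, IsPullback.of_hasPullback jU f, ?_⟩
  · change RepWith @Etale (f ≫ (oι X _ hΩ').hom)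
    rw [hf]
    exact hge
  · change _ = _ ∪ Set.range (Points.map (f ≫ (oι X _ hΩ').hom))
    rw [hf, range_oι]
  · rw [range_oι]
    intro hcon
    apply hg₁v
    rw [← hcon]
    right
    rw [hgr]
    left
    rw [range_map_eq_range_ofPt]
    exact ⟨_, rfl⟩
  · -- dominant: in fact surjective
    have hsurj : Function.Surjective (Points.map (pullback.fst jU f)) := by
      intro u
      have hu : Points.map j.hom u ∈ Set.range (Points.map g) := by
        rw [hgr]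
        right
        rw [hg₂r]
        exact ⟨u, rfl⟩
      obtain ⟨w, hw⟩ := hu
      have e : Points.map jU u = Points.map f w := by
        apply hjWinj
        rw [← Points.map_comp, ← Points.map_comp, hjU, hf, hw]
      obtain ⟨z, hz, -⟩ := Points.exists_of_isPullback (IsPullback.of_hasPullback jU f) u w e
      exact ⟨z, hz⟩
    exact hsurj.denseRange

end Groth.Agent.Lib.Helper15.IndPr6
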