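import Groth.Agent.Lib.Helper15.EtOverGlue
import Groth.Agent.Lib.Helper23.PropBInt

set_option autoImplicit false
set_option backward.isDefEq.respectTransparency false
universe u
open CategoryTheory CategoryTheory.Limits AlgebraicGeometry Opposite
open AlgSp

namespace Groth.Agent.Lib.Helper15.IntPushSp

open Groth.Agent.Lib.Helper15.EtOverGlue

variable {S : Scheme.{u}} {X Y : Sp S} {f : X ⟶ Y} (hf : Representable f)

/-- a morphism of the small etale site from a factorization on underlying schemes -/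
noncomputable def homOfFac {Q A P : EtOver X} (α : A ⟶ P) (g : Q ⟶ P)
    (k : Q.obj.left.left ⟶ A.obj.left.left) (hk : k ≫ α.hom.left.left = g.hom.left.left) :
    Q ⟶ A :=
  have hw : k ≫ A.obj.left.hom = Q.obj.left.hom := by
    rw [← Over.w α.hom.left, ← Category.assoc, hk]
    exact Over.w g.hom.left
  have hk' : (Over.homMk k hw : Q.obj.left ⟶ A.obj.left) ≫ α.hom.left = g.hom.left := by
    ext : 1
    exact hk
  EtOver.homMk (Over.homMk k hw) (by
    rw [← EtOver.w α, ← Category.assoc, ← Functor.map_comp, hk']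
    exact EtOver.w g)

theorem homOfFac_comp {Q A P : EtOver X} (α : A ⟶ P) (g : Q ⟶ P)
    (k : Q.obj.left.left ⟶ A.obj.left.left) (hk : k ≫ α.hom.left.left = g.hom.left.left) :
    homOfFac α g k hk ≫ α = g := by
  apply EtOver.hom_ext
  ext : 1
  exact hk

theorem locSurj (hI : ∀ E : EtOver Y, IsIntegralHom (hf.snd E.obj.hom).left)
    {F G : EtSh X (Type (u + 1))} (φ : F ⟶ G) (hφ : Sheaf.IsLocallySurjective φ) :
    Sheaf.IsLocallySurjective ((pushEt hf (Type (u + 1))).map φ) := by
  refine ⟨fun {V} t => ?_⟩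
  have hcovT := Presheaf.imageSieve_mem (etTop X) φ.hom (U := op ((EtOver.bc hf).obj V)) t
  rw [Groth.Agent.Lib.Helper3.mem_etTop_iff_pointwise] at hcovT
  choose A α hα hx using hcovT
  choose sA hsA using hα
  rw [Groth.Agent.Lib.Helper3.mem_etTop_iff_pointwise]
  intro y
  haveI := hI V
  haveI : ∀ x, Etale (α x).hom.left.left := fun x => EtOver.etale_left (α x)
  obtain ⟨V', v', hv', hy, μ, W, hdisj, hcov, hW⟩ :=
    Groth.Agent.Lib.Helper23.PropBInt.propB_loc (hf.snd V.obj.hom).left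
      (fun x => (A x).obj.left.left) (fun x => (α x).hom.left.left) (fun x => inferInstance)
      (fun z => ⟨z, hx z⟩) y
  haveI := hv'
  let E' : EtOver Y := sub V v'
  let b : E' ⟶ V := subι V v'
  refine ⟨E', b, ?_, hy⟩
  choose i h hh using hW
  have sq : IsPullback (EtOver.bcMap hf b).hom.left.left (hf.snd E'.obj.hom).left
      (hf.snd V.obj.hom).left v' := EtOver.isPullback_bcMap_left hf b
  let θ := sq.isoPullback
  have hθ1 : θ.hom ≫ pullback.fst (hf.snd V.obj.hom).left v' =
      (EtOver.bcMap hf b).hom.left.left := sq.isoPullback_hom_fst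
  let P' : EtOver X := (EtOver.bc hf).obj E'
  let W' : μ → P'.obj.left.left.Opens := fun a => θ.hom ⁻¹ᵁ W a
  have hdisj' : ∀ a b, a ≠ b → Disjoint (W' a) (W' b) := by
    intro a b hab
    have h0 := hdisj a b hab
    rw [← TopologicalSpace.Opens.coe_disjoint] at h0 ⊢
    exact h0.preimage _
  have hcov' : (⨆ a, W' a) = ⊤ := by
    ext z
    simp only [TopologicalSpace.Opens.coe_iSup, Set.mem_iUnion, SetLike.mem_coe,
      TopologicalSpace.Opens.coe_top, Set.mem_univ, iff_true]
    have hz : θ.hom z ∈ ((⨆ a, W a : (pullback (hf.snd V.obj.hom).left v').Opens) : Set _) := by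
      rw [hcov]; trivial
    rw [TopologicalSpace.Opens.coe_iSup] at hz
    obtain ⟨a, ha⟩ := Set.mem_iUnion.1 hz
    exact ⟨a, ha⟩
  let h' : ∀ a, (W' a).toScheme ⟶ (A (i a)).obj.left.left := fun a => (θ.hom ∣_ W a) ≫ h a
  have hh' : ∀ a, h' a ≫ (α (i a)).hom.left.left =
      (W' a).ι ≫ (EtOver.bcMap hf b).hom.left.left := by
    intro a
    calc h' a ≫ (α (i a)).hom.left.left
        = (θ.hom ∣_ W a) ≫ (h a ≫ (α (i a)).hom.left.left) := Category.assoc _ _ _
      _ = (θ.hom ∣_ W a) ≫ ((W a).ι ≫ pullback.fst (hf.snd V.obj.hom).left v') := by rw [hh a]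
      _ = ((θ.hom ∣_ W a) ≫ (W a).ι) ≫ pullback.fst (hf.snd V.obj.hom).left v' :=
          (Category.assoc _ _ _).symm
      _ = ((W' a).ι ≫ θ.hom) ≫ pullback.fst (hf.snd V.obj.hom).left v' := by
          rw [morphismRestrict_ι]
      _ = (W' a).ι ≫ (EtOver.bcMap hf b).hom.left.left := by rw [Category.assoc, hθ1]
  let k : ∀ a, sub P' (W' a).ι ⟶ A (i a) := fun a =>
    homOfFac (α (i a)) (subι P' (W' a).ι ≫ (EtOver.bc hf).map b) (h' a) (hh' a)
  have hk : ∀ a, k a ≫ α (i a) = subι P' (W' a).ι ≫ (EtOver.bc hf).map b :=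
    fun a => homOfFac_comp _ _ _ _
  obtain ⟨s', hs', -⟩ := existsUnique_glue F P' W' hdisj' hcov'
    (fun a => F.obj.map (k a).op (sA (i a)))
  refine ⟨s', ?_⟩
  obtain ⟨r, hr1, hr2⟩ := existsUnique_glue G P' W' hdisj' hcov'
    (fun a => G.obj.map (subι P' (W' a).ι ≫ (EtOver.bc hf).map b).op t)
  have e1 : φ.hom.app (op P') s' = r := hr2 _ (fun a => by
    have hn := NatTrans.naturality_apply φ.hom (subι P' (W' a).ι).op s'
    rw [← hn, hs' a]
    have hn2 := NatTrans.naturality_apply φ.hom (k a).op (sA (i a))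
    rw [hn2, hsA (i a), ← hk a]
    simp only [op_comp, Functor.map_comp]
    rfl)
  have e2 : G.obj.map ((EtOver.bc hf).map b).op t = r := hr2 _ (fun a => by
    simp only [op_comp, Functor.map_comp]
    rfl)
  exact e1.trans e2.symm

end Groth.Agent.Lib.Helper15.IntPushSp
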