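import Groth.Agent.Lib.Helper15.IntPushSp
import Groth.Agent.Lib.Helper3.AlgSpRepLocal2

set_option autoImplicit false
set_option backward.isDefEq.respectTransparency false
universe u
open CategoryTheory CategoryTheory.Limits AlgebraicGeometry Opposite
open AlgSp

namespace Groth.Agent.Lib.Helper15.IntPushSp

section Derived

variable {C D : Type*} [Category C] [Abelian C] [HasInjectiveResolutions C] [Category D] [Abelian D]

theorem isZero_rightDerived_of_preservesHomology (F : C ⥤ D) [F.Additive] [F.PreservesHomology]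
    (n : ℕ) (X : C) : IsZero ((F.rightDerived (n + 1)).obj X) := by
  let I : InjectiveResolution X := injectiveResolution X
  refine IsZero.of_iso ?_ (I.isoRightDerivedObj F (n + 1))
  erw [← HomologicalComplex.exactAt_iff_isZero_homology]
  have h := I.cocomplex_exactAt_succ n
  exact ShortComplex.Exact.map h F

end Derived

variable {S : Scheme.{u}} {X Y : Sp S} {f : X ⟶ Y} (hf : Representable f)

theorem epi_push (hI : ∀ E : EtOver Y, IsIntegralHom (hf.snd E.obj.hom).left)
    {F G : AbEt X} (a : F ⟶ G) [Epi a] :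
    Epi ((pushEt hf AddCommGrpCat.{u + 1}).map a) := by
  have h1 : Sheaf.IsLocallySurjective a :=
    (Sheaf.isLocallySurjective_iff_epi' AddCommGrpCat.{u+1} a).2 inferInstance
  let a' : (sheafCompose (etTop X) (forget AddCommGrpCat.{u+1})).obj F ⟶
      (sheafCompose (etTop X) (forget AddCommGrpCat.{u+1})).obj G :=
    (sheafCompose (etTop X) (forget AddCommGrpCat.{u+1})).map a
  have h2 : Sheaf.IsLocallySurjective a' :=
    (Presheaf.isLocallySurjective_iff_whisker_forget _ a.hom).1 h1
  have h3 := locSurj hf hI a' h2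
  have h4 : Sheaf.IsLocallySurjective ((pushEt hf AddCommGrpCat.{u + 1}).map a) :=
    (Presheaf.isLocallySurjective_iff_whisker_forget _
      ((pushEt hf AddCommGrpCat.{u + 1}).map a).hom).2 h3
  exact (Sheaf.isLocallySurjective_iff_epi' AddCommGrpCat.{u+1} _).1 h4

theorem preservesFiniteLimits_push : PreservesFiniteLimits (pushEt hf AddCommGrpCat.{u + 1}) := by
  haveI : (pushEt hf AddCommGrpCat.{u + 1}).IsRightAdjoint :=
    (pullPushAdjEt hf AddCommGrpCat.{u + 1}).isRightAdjoint
  infer_instance

theorem preservesHomology_push (hI : ∀ E : EtOver Y, IsIntegralHom (hf.snd E.obj.hom).left) :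
    (pushEt hf AddCommGrpCat.{u + 1}).PreservesHomology := by
  refine ((Functor.exact_tfae (pushEt hf AddCommGrpCat.{u + 1})).out 0 2).1 ?_
  intro T hT
  have h0 : PreservesFiniteLimits (pushEt hf AddCommGrpCat.{u + 1}) := preservesFiniteLimits_push hf
  have h1 := (Functor.preservesFiniteLimits_iff_forall_exact_map_and_mono
    (pushEt hf AddCommGrpCat.{u + 1})).1 h0 T hT
  haveI := hT.epi_g
  haveI : Mono (T.map (pushEt hf AddCommGrpCat.{u + 1})).f := h1.2
  haveI : Epi (T.map (pushEt hf AddCommGrpCat.{u + 1})).g := epi_push hf hI T.g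
  exact ⟨h1.1⟩

theorem main {X Y : Space S} (f : X ⟶ Y) (hf : AlgSp.Representable f.hom)
    (hint : AlgSp.IsIntegralMor f.hom) :
    PreservesFiniteColimits (AlgSp.pushEt hf AddCommGrpCat.{u + 1}) ∧
      ∀ (p : ℕ), 0 < p → ∀ F : AlgSp.AbEt X.obj, IsZero ((AlgSp.RpushEt hf p).obj F) := by
  have hR := (Groth.Agent.Lib.Helper3.isIntegralMor_iff_repWith f.hom).1 hint
  have hI : ∀ E : EtOver Y.obj, IsIntegralHom (hf.snd E.obj.hom).left := fun E =>
    hR.property E.obj.hom (hf.fst E.obj.hom) (hf.snd E.obj.hom) (hf.isPullback E.obj.hom)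
  haveI := preservesHomology_push hf hI
  refine ⟨Functor.preservesFiniteColimits_of_preservesHomology _, fun p hp F => ?_⟩
  obtain ⟨n, rfl⟩ := Nat.exists_eq_succ_of_ne_zero hp.ne'
  exact isZero_rightDerived_of_preservesHomology _ n F

end Groth.Agent.Lib.Helper15.IntPushSp
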