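import Groth.Agent.Lib.Helper15.BaseChangeSp
import Groth.Agent.Lib.Helper3.QuotRelMain
import Groth.Agent.S9872

set_option autoImplicit false
set_option backward.isDefEq.respectTransparency.types false
universe u
open CategoryTheory CategoryTheory.Limits AlgebraicGeometry Opposite MorphismProperty

namespace Groth.Agent.Lib.Helper15.JShriek

open AlgSp Groth.Agent.Lib.Helper15.UnivQuot Groth.Agent.Lib.Helper3
  Groth.Agent.Lib.Helper15.BaseChangeSp

variable {S S' : Scheme.{u}} (g : S ⟶ S')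

/-- `j_!` -/
noncomputable abbrev jShriek : Sp S ⥤ Sp S' :=
  (Over.map g).sheafPullback (Type (u + 1)) (J S) (J S')

/-- `j_! ⊣ j⁻¹` -/
noncomputable abbrev adj : jShriek g ⊣ jInv g :=
  (Over.map g).sheafAdjunctionContinuous (Type (u + 1)) (J S) (J S')

variable {g}

theorem tr_naturality_right {T : Over S} {F' G' : Sp S'} (m : F' ⟶ G')
    (a : (yon S).obj T ⟶ (jInv g).obj F') :
    tr g G' (a ≫ (jInv g).map m) = tr g F' a ≫ m := by
  have h1 : (J S).uliftYonedaEquiv.{u+1} (a ≫ (jInv g).map m) =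
      ((jInv g).map m).hom.app (op T) ((J S).uliftYonedaEquiv.{u+1} a) :=
    (J S).uliftYonedaEquiv_comp.{u+1} a ((jInv g).map m)
  let x : F'.obj.obj (op ((Over.map g).obj T)) := (J S).uliftYonedaEquiv.{u+1} a
  have h3 := (J S').uliftYonedaEquiv_symm_naturality_right.{u+1} ((Over.map g).obj T) m x
  have h4 : tr g G' (a ≫ (jInv g).map m) =
      ((J S').uliftYonedaEquiv.{u+1}).symm (m.hom.app (op ((Over.map g).obj T)) x) :=
    congrArg ((J S').uliftYonedaEquiv.{u+1}).symm h1
  exact h4.trans h3.symm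

variable (g)

/-- `h_{jX} ⟶ j_! h_X` -/
noncomputable def α (X : Over S) : (yon S').obj ((Over.map g).obj X) ⟶ (jShriek g).obj ((yon S).obj X) :=
  tr g _ ((adj g).unit.app ((yon S).obj X))

/-- `j_! h_X ⟶ h_{jX}` -/
noncomputable def β (X : Over S) : (jShriek g).obj ((yon S).obj X) ⟶ (yon S').obj ((Over.map g).obj X) :=
  ((adj g).homEquiv _ _).symm ((tr g _).symm (𝟙 _))

theorem α_β (X : Over S) : α g X ≫ β g X = 𝟙 _ := by
  unfold α
  rw [← tr_naturality_right]
  have : (adj g).unit.app ((yon S).obj X) ≫ (jInv g).map (β g X) =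
      (adj g).homEquiv _ _ (β g X) := ((adj g).homEquiv_unit _ _ _).symm
  rw [this]
  unfold β
  rw [Equiv.apply_symm_apply, Equiv.apply_symm_apply]

theorem β_α (X : Over S) : β g X ≫ α g X = 𝟙 _ := by
  apply ((adj g).homEquiv _ _).injective
  rw [Adjunction.homEquiv_naturality_right]
  unfold β
  rw [Equiv.apply_symm_apply]
  apply (tr g _).injective
  rw [tr_naturality_right, Equiv.apply_symm_apply, Category.id_comp]
  unfold α
  congr 1

/-- `j_! h_X ≅ h_{jX}` -/
noncomputable def θ (X : Over S) : (jShriek g).obj ((yon S).obj X) ≅ (yon S').obj ((Over.map g).obj X) where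
  hom := β g X
  inv := α g X
  hom_inv_id := β_α g X
  inv_hom_id := α_β g X

theorem θ_naturality {X Y : Over S} (f : X ⟶ Y) :
    (jShriek g).map ((yon S).map f) ≫ (θ g Y).hom = (θ g X).hom ≫ (yon S').map ((Over.map g).map f) := by
  change (jShriek g).map ((yon S).map f) ≫ β g Y = β g X ≫ (yon S').map ((Over.map g).map f)
  apply ((adj g).homEquiv _ _).injective
  rw [Adjunction.homEquiv_naturality_left, Adjunction.homEquiv_naturality_right]
  unfold β
  rw [Equiv.apply_symm_apply, Equiv.apply_symm_apply]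
  apply (tr g _).injective
  rw [tr_naturality, tr_naturality_right, Equiv.apply_symm_apply, Equiv.apply_symm_apply,
    Category.comp_id, Category.id_comp]


section hat
variable {g}

/-- an `S'`-morphism to `jX` as an `S`-morphism. -/
def hat {T' : Over S'} {X : Over S} (m : T' ⟶ (Over.map g).obj X) (ψ : T' ⟶ Over.mk g)
    (h : m ≫ σ g X = ψ) : overOf ψ ⟶ X :=
  Over.homMk m.left (by rw [← h]; rfl)

@[simp] theorem hat_left {T' : Over S'} {X : Over S} (m : T' ⟶ (Over.map g).obj X)
    (ψ : T' ⟶ Over.mk g) (h : m ≫ σ g X = ψ) : (hat m ψ h).left = m.left := rfl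

theorem map_hat {T' : Over S'} {X : Over S} (m : T' ⟶ (Over.map g).obj X) (ψ : T' ⟶ Over.mk g)
    (h : m ≫ σ g X = ψ) : (Over.map g).map (hat m ψ h) = (overOfIso ψ).hom ≫ m := by
  ext
  simp
  exact (Category.id_comp _).symm

/-- the inverse construction. -/
def unhat {T' : Over S'} {X : Over S} (ψ : T' ⟶ Over.mk g) (r : overOf ψ ⟶ X) :
    T' ⟶ (Over.map g).obj X := (overOfIso ψ).inv ≫ (Over.map g).map r

theorem unhat_hat {T' : Over S'} {X : Over S} (m : T' ⟶ (Over.map g).obj X) (ψ : T' ⟶ Over.mk g)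
    (h : m ≫ σ g X = ψ) : unhat ψ (hat m ψ h) = m := by
  unfold unhat
  rw [map_hat, Iso.inv_hom_id_assoc]

theorem unhat_comp {T' : Over S'} {X Y : Over S} (ψ : T' ⟶ Over.mk g) (r : overOf ψ ⟶ X)
    (f : X ⟶ Y) : unhat ψ (r ≫ f) = unhat ψ r ≫ (Over.map g).map f := by
  unfold unhat
  rw [Functor.map_comp, Category.assoc]

theorem hat_comp {T' : Over S'} {X Y : Over S} (m : T' ⟶ (Over.map g).obj X) (ψ : T' ⟶ Over.mk g)
    (h : m ≫ σ g X = ψ) (f : X ⟶ Y) :
    hat m ψ h ≫ f = hat (m ≫ (Over.map g).map f) ψ (by rw [Category.assoc, map_σ, h]) := by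
  ext
  rfl

theorem hat_injective {T' : Over S'} {X : Over S} {m m' : T' ⟶ (Over.map g).obj X}
    (ψ : T' ⟶ Over.mk g) (h : m ≫ σ g X = ψ) (h' : m' ≫ σ g X = ψ)
    (e : hat m ψ h = hat m' ψ h') : m = m' := by
  ext
  exact congrArg (fun k => k.left) e

end hat

/-- an étale equivalence relation over `S` is one over `S'`. -/
theorem isEtaleEqvRel_map {R U : Over S} (s t : R ⟶ U) (h : IsEtaleEqvRel s t) :
    IsEtaleEqvRel ((Over.map g).map s) ((Over.map g).map t) := by
  refine ⟨⟨?_, ?_⟩, h.etale_left, h.etale_right⟩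
  · intro T' r r' h1 h2
    have hψ : r' ≫ σ g R = r ≫ σ g R := by
      rw [← map_σ g t, ← Category.assoc, ← h1, Category.assoc]
    refine hat_injective (r ≫ σ g R) rfl hψ ?_
    apply h.injective
    · rw [hat_comp, hat_comp]
      congr 1
    · rw [hat_comp, hat_comp]
      congr 1
  · intro T'
    refine ⟨?_, ?_, ?_⟩
    · intro a
      obtain ⟨r, hr1, hr2⟩ := (h.equivalence (overOf (a ≫ σ g U))).refl (hat a _ rfl)
      refine ⟨unhat _ r, ?_, ?_⟩
      · rw [← unhat_comp, hr1, unhat_hat]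
      · rw [← unhat_comp, hr2, unhat_hat]
    · rintro a b ⟨r, rfl, rfl⟩
      obtain ⟨r₂, h1, h2⟩ := (h.equivalence (overOf (r ≫ σ g R))).symm
        ⟨hat r _ rfl, rfl, rfl⟩
      refine ⟨unhat _ r₂, ?_, ?_⟩
      · rw [← unhat_comp, h1, unhat_comp, unhat_hat]
      · rw [← unhat_comp, h2, unhat_comp, unhat_hat]
    · rintro a b c ⟨r₁, rfl, rfl⟩ ⟨r₂, h3, rfl⟩
      have hψ : r₂ ≫ σ g R = r₁ ≫ σ g R :=
        calc r₂ ≫ σ g R = r₂ ≫ (Over.map g).map t ≫ σ g U := by rw [map_σ]
          _ = (r₁ ≫ (Over.map g).map s) ≫ σ g U := by rw [← Category.assoc, h3]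
          _ = r₁ ≫ σ g R := by rw [Category.assoc, map_σ]
      have e : hat r₂ (r₁ ≫ σ g R) hψ ≫ t = hat r₁ (r₁ ≫ σ g R) rfl ≫ s := by
        rw [hat_comp, hat_comp]
        congr 1
      obtain ⟨r₃, h1, h2⟩ := (h.equivalence (overOf (r₁ ≫ σ g R))).trans
        ⟨hat r₁ _ rfl, rfl, rfl⟩ ⟨hat r₂ _ hψ, e, rfl⟩
      refine ⟨unhat _ r₃, ?_, ?_⟩
      · rw [← unhat_comp, h1, unhat_comp, unhat_hat]
      · rw [← unhat_comp, h2, unhat_comp, unhat_hat]


open Groth.Agent.Lib.Helper3.QuotRel Groth.Agent.Lib.Helper3.QAffDesc in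
/-- A sheaf which is a (weak) coequalizer of an étale equivalence relation through an epimorphic
chart is an algebraic space. -/
theorem isAlgSpace_of_coequalizer {S : Scheme.{u}} {R U : Over S} (s t : R ⟶ U)
    (h : IsEtaleEqvRel s t) {F : Sp S} (π : (yon S).obj U ⟶ F)
    (hcoeq : (yon S).map s ≫ π = (yon S).map t ≫ π)
    (hdesc : ∃ φ' : F ⟶ G s t, π ≫ φ' = toG s t) [Epi π] : IsAlgSpace F := by
  have hE : IsEqvRel s t := h.toIsEqvRel
  have kp : IsPullback ((yon S).map t) ((yon S).map s) π π :=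
    isPullback_of_isEqvRel hE _ hcoeq hdesc
  have hπ : Sheaf.IsLocallySurjective π :=
    (Sheaf.isLocallySurjective_iff_epi _).2 inferInstance
  have hse : Etale s.left := h.etale_left
  have hlft : LocallyOfFiniteType (prod.lift t s).left := by
    have h1 : (prod.lift t s).left ≫ (prod.snd : U ⨯ U ⟶ U).left = s.left := by
      rw [← Over.comp_left, prod.lift_snd]
    have h2 : LocallyOfFiniteType ((prod.lift t s).left ≫ (prod.snd : U ⨯ U ⟶ U).left) := by
      rw [h1]; infer_instance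
    exact locallyOfFiniteType_of_comp (prod.lift t s).left (prod.snd : U ⨯ U ⟶ U).left
  have hdiag : Representable (Limits.diag F) :=
    representable_diag_of_kernelPair π hπ t s kp hlft
  have hrep : Representable π := Functor.relativelyRepresentable.of_diag hdiag π
  have hEt : RepWith @Etale π := repWith_of_kernelPair @Etale π hπ hrep t s kp hse
  have hss : Surjective s.left := by
    obtain ⟨r, -, hr⟩ := (hE.equivalence U).refl (𝟙 U)
    refine ⟨fun u => ⟨r.left u, ?_⟩⟩
    rw [← Scheme.Hom.comp_apply, ← Over.comp_left, hr]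
    rfl
  have hSurj : RepWith @Surjective π := repWith_of_kernelPair @Surjective π hπ hrep t s kp hss
  exact ⟨hdiag, U, π, hEt, hSurj⟩

/-- `j_!` of an algebraic space over `S` is an algebraic space over `S'`. -/
theorem isAlgSpace_jShriek {F : Sp S} (hF : IsAlgSpace F) : IsAlgSpace ((jShriek g).obj F) := by
  obtain ⟨U, p, hpe, hps⟩ := hF.atlas
  obtain ⟨R, s, fst, sq⟩ := (Functor.relativelyRepresentable.of_diag hF.diag p) p
  obtain ⟨t, rfl⟩ := (yon S).map_surjective fst
  obtain ⟨hE, ⟨hcol⟩⟩ := Groth.Agent.S9872.result S F hF p hpe hps s t sq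
  haveI : PreservesColimitsOfSize.{0, 0} (jShriek g) := (adj g).leftAdjoint_preservesColimits
  have hcol' := (isColimitMapCoconeCoforkEquiv (jShriek g) sq.w)
    (isColimitOfPreserves (jShriek g) hcol)
  let π' : (yon S').obj ((Over.map g).obj U) ⟶ (jShriek g).obj F :=
    (θ g U).inv ≫ (jShriek g).map p
  have hnat_inv : ∀ (f : R ⟶ U), (yon S').map ((Over.map g).map f) ≫ (θ g U).inv =
      (θ g R).inv ≫ (jShriek g).map ((yon S).map f) := fun f => by
    rw [Iso.comp_inv_eq, Category.assoc, θ_naturality, Iso.inv_hom_id_assoc]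
  have hcoeq : (yon S').map ((Over.map g).map s) ≫ π' = (yon S').map ((Over.map g).map t) ≫ π' := by
    change _ ≫ (θ g U).inv ≫ _ = _ ≫ (θ g U).inv ≫ _
    rw [← Category.assoc, ← Category.assoc, hnat_inv, hnat_inv, Category.assoc, Category.assoc,
      ← Functor.map_comp, ← Functor.map_comp, sq.w]
  have hdesc : ∀ {G' : Sp S'} (φ : (yon S').obj ((Over.map g).obj U) ⟶ G'),
      (yon S').map ((Over.map g).map s) ≫ φ = (yon S').map ((Over.map g).map t) ≫ φ →
      ∃ φ' : (jShriek g).obj F ⟶ G', π' ≫ φ' = φ := by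
    intro G' φ hφ
    have hc : (jShriek g).map ((yon S).map t) ≫ (θ g U).hom ≫ φ =
        (jShriek g).map ((yon S).map s) ≫ (θ g U).hom ≫ φ := by
      rw [← Category.assoc, ← Category.assoc, θ_naturality, θ_naturality, Category.assoc,
        Category.assoc, hφ]
    refine ⟨Cofork.IsColimit.desc hcol' ((θ g U).hom ≫ φ) hc, ?_⟩
    change ((θ g U).inv ≫ (jShriek g).map p) ≫ _ = φ
    rw [Category.assoc]
    have := Cofork.IsColimit.π_desc' hcol' ((θ g U).hom ≫ φ) hc
    change (jShriek g).map p ≫ _ = _ at this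
    rw [this, Iso.inv_hom_id_assoc]
  haveI : Epi ((jShriek g).map p) := by
    have := Cofork.IsColimit.epi hcol'
    exact this
  haveI : Epi π' := epi_comp _ _
  exact isAlgSpace_of_coequalizer _ _ (isEtaleEqvRel_map g s t hE) π' hcoeq
    (hdesc _ (Groth.Agent.Lib.Helper3.QuotRel.toG_coeq _ _))

end Groth.Agent.Lib.Helper15.JShriek
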