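import Groth.Agent.Lib.Helper15.JShriek
import Groth.Agent.Lib.Helper3.SpCoprod
import Groth.Agent.S9883

set_option autoImplicit false
set_option backward.isDefEq.respectTransparency.types false
universe u
open CategoryTheory CategoryTheory.Limits AlgebraicGeometry Opposite MorphismProperty

namespace Groth.Agent.Lib.Helper15.JShriek

open AlgSp Groth.Agent.Lib.Helper15.UnivQuot Groth.Agent.Lib.Helper3
  Groth.Agent.Lib.Helper15.BaseChangeSp

open Groth.Agent.Lib.Helper3.QuotRel Groth.Agent.Lib.Helper3.QAffDesc in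
/-- chart facts for a (weak) coequalizer of an étale equivalence relation. -/
theorem chart_of_coequalizer {S : Scheme.{u}} {R U : Over S} (s t : R ⟶ U)
    (h : IsEtaleEqvRel s t) {F : Sp S} (π : (yon S).obj U ⟶ F)
    (hcoeq : (yon S).map s ≫ π = (yon S).map t ≫ π)
    (hdesc : ∃ φ' : F ⟶ G s t, π ≫ φ' = toG s t) [Epi π] :
    IsPullback ((yon S).map t) ((yon S).map s) π π ∧ RepWith @Etale π ∧ RepWith @Surjective π := by
  have hE : IsEqvRel s t := h.toIsEqvRel
  have kp : IsPullback ((yon S).map t) ((yon S).map s) π π :=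
    isPullback_of_isEqvRel hE _ hcoeq hdesc
  have hπ : Sheaf.IsLocallySurjective π :=
    (Sheaf.isLocallySurjective_iff_epi _).2 inferInstance
  have hse : Etale s.left := h.etale_left
  have hlft : LocallyOfFiniteType (prod.lift t s).left := by
    have h1 : (prod.lift t s).left ≫ (prod.snd : U ⨯ U ⟶ U).left = s.left := by
      rw [← Over.comp_left, prod.lift_snd]
    have h2 : LocallyOfFiniteType ((prod.lift t s).left ≫ (prod.snd : U ⨯ U ⟶ U).left) := by
      rw [h1]; infer_instance
    exact locallyOfFiniteType_of_comp (prod.lift t s).left (prod.snd : U ⨯ U ⟶ U).left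
  have hdiag : Representable (Limits.diag F) :=
    representable_diag_of_kernelPair π hπ t s kp hlft
  have hrep : Representable π := Functor.relativelyRepresentable.of_diag hdiag π
  have hEt : RepWith @Etale π := repWith_of_kernelPair @Etale π hπ hrep t s kp hse
  have hss : Surjective s.left := by
    obtain ⟨r, -, hr⟩ := (hE.equivalence U).refl (𝟙 U)
    refine ⟨fun u => ⟨r.left u, ?_⟩⟩
    rw [← Scheme.Hom.comp_apply, ← Over.comp_left, hr]
    rfl
  have hSurj : RepWith @Surjective π := repWith_of_kernelPair @Surjective π hπ hrep t s kp hss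
  exact ⟨kp, hEt, hSurj⟩

variable {S S' : Scheme.{u}} (g : S ⟶ S')

theorem θ_inv_naturality {X Y : Over S} (f : X ⟶ Y) :
    (yon S').map ((Over.map g).map f) ≫ (θ g Y).inv =
      (θ g X).inv ≫ (jShriek g).map ((yon S).map f) := by
  rw [Iso.comp_inv_eq, Category.assoc, θ_naturality, Iso.inv_hom_id_assoc]

/-- the chart of `j_! F` induced by a chart of `F`. -/
noncomputable def chartMap {F : Sp S} {U : Over S} (p : (yon S).obj U ⟶ F) :
    (yon S').obj ((Over.map g).obj U) ⟶ (jShriek g).obj F :=
  (θ g U).inv ≫ (jShriek g).map p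

theorem chartMap_naturality {F : Sp S} {U V : Over S} (p : (yon S).obj U ⟶ F) (f : V ⟶ U) :
    (yon S').map ((Over.map g).map f) ≫ chartMap g p = chartMap g ((yon S).map f ≫ p) := by
  unfold chartMap
  rw [← Category.assoc, θ_inv_naturality, Category.assoc, ← Functor.map_comp]

theorem chart_jShriek {F : Sp S} (hF : IsAlgSpace F) {U R : Over S} (p : (yon S).obj U ⟶ F)
    (hpe : RepWith @Etale p) (hps : RepWith @Surjective p) (s t : R ⟶ U)
    (sq : IsPullback ((yon S).map t) ((yon S).map s) p p) :
    IsPullback ((yon S').map ((Over.map g).map t)) ((yon S').map ((Over.map g).map s))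
      (chartMap g p) (chartMap g p) ∧
      RepWith @Etale (chartMap g p) ∧ RepWith @Surjective (chartMap g p) := by
  obtain ⟨hE, ⟨hcol⟩⟩ := Groth.Agent.S9872.result S F hF p hpe hps s t sq
  haveI : PreservesColimitsOfSize.{0, 0} (jShriek g) := (adj g).leftAdjoint_preservesColimits
  have hcol' := (isColimitMapCoconeCoforkEquiv (jShriek g) sq.w)
    (isColimitOfPreserves (jShriek g) hcol)
  have hcoeq : (yon S').map ((Over.map g).map s) ≫ chartMap g p =
      (yon S').map ((Over.map g).map t) ≫ chartMap g p := by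
    rw [chartMap_naturality, chartMap_naturality, sq.w]
  have hdesc : ∀ {G' : Sp S'} (φ : (yon S').obj ((Over.map g).obj U) ⟶ G'),
      (yon S').map ((Over.map g).map s) ≫ φ = (yon S').map ((Over.map g).map t) ≫ φ →
      ∃ φ' : (jShriek g).obj F ⟶ G', chartMap g p ≫ φ' = φ := by
    intro G' φ hφ
    have hc : (jShriek g).map ((yon S).map t) ≫ (θ g U).hom ≫ φ =
        (jShriek g).map ((yon S).map s) ≫ (θ g U).hom ≫ φ := by
      rw [← Category.assoc, ← Category.assoc, θ_naturality, θ_naturality, Category.assoc,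
        Category.assoc, hφ]
    refine ⟨Cofork.IsColimit.desc hcol' ((θ g U).hom ≫ φ) hc, ?_⟩
    change ((θ g U).inv ≫ (jShriek g).map p) ≫ _ = φ
    rw [Category.assoc]
    have := Cofork.IsColimit.π_desc' hcol' ((θ g U).hom ≫ φ) hc
    change (jShriek g).map p ≫ _ = _ at this
    rw [this, Iso.inv_hom_id_assoc]
  haveI : Epi ((jShriek g).map p) := by
    have := Cofork.IsColimit.epi hcol'
    exact this
  haveI : Epi (chartMap g p) := epi_comp _ _
  exact chart_of_coequalizer _ _ (isEtaleEqvRel_map g s t hE) (chartMap g p) hcoeq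
    (hdesc _ (Groth.Agent.Lib.Helper3.QuotRel.toG_coeq _ _))


theorem epi_yon_map_of_etale_surjective {V W : Over S} (a : V ⟶ W) (he : Etale a.left)
    (hs : Surjective a.left) : Epi ((yon S).map a) := by
  have h1 : Sheaf.IsLocallySurjective ((yon S).map a) :=
    Groth.Agent.S9883.isLocallySurjective_of_etale_surjective _
      ((repWith_yon_map_iff @Etale a).2 he) ((repWith_yon_map_iff @Surjective a).2 hs)
  exact (Sheaf.isLocallySurjective_iff_epi _).1 h1

/-- `j_!` is faithful on sections of an algebraic space. -/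
theorem chartMap_injective {F : Sp S} (hF : IsAlgSpace F) {Z : Over S}
    (x y : (yon S).obj Z ⟶ F) (h : chartMap g x = chartMap g y) : x = y := by
  obtain ⟨U, p, hpe, hps⟩ := hF.atlas
  obtain ⟨R, s, fst, sq⟩ := (Functor.relativelyRepresentable.of_diag hF.diag p) p
  obtain ⟨t, rfl⟩ := (yon S).map_surjective fst
  obtain ⟨kp, -, -⟩ := chart_jShriek g hF p hpe hps s t sq
  -- lift `x` and `y` to the chart étale locally
  obtain ⟨Z₁, a₁, fst₁, sq₁⟩ := hpe.rep x
  obtain ⟨x₁, rfl⟩ := (yon S).map_surjective fst₁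
  have ha₁e : Etale a₁.left := hpe.property x _ _ sq₁
  have ha₁s : Surjective a₁.left := hps.property x _ _ sq₁
  obtain ⟨Z₂, a₂, fst₂, sq₂⟩ := hpe.rep ((yon S).map a₁ ≫ y)
  obtain ⟨y₂, rfl⟩ := (yon S).map_surjective fst₂
  have ha₂e : Etale a₂.left := hpe.property _ _ _ sq₂
  have ha₂s : Surjective a₂.left := hps.property _ _ _ sq₂
  have hx₂ : (yon S).map (a₂ ≫ x₁) ≫ p = (yon S).map (a₂ ≫ a₁) ≫ x := by
    rw [Functor.map_comp, Functor.map_comp, Category.assoc, Category.assoc, sq₁.w]
  have hy₂ : (yon S).map y₂ ≫ p = (yon S).map (a₂ ≫ a₁) ≫ y := by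
    rw [Functor.map_comp, Category.assoc, sq₂.w]
  have hπ : (yon S').map ((Over.map g).map (a₂ ≫ x₁)) ≫ chartMap g p =
      (yon S').map ((Over.map g).map y₂) ≫ chartMap g p := by
    rw [chartMap_naturality, chartMap_naturality, hx₂, hy₂, ← chartMap_naturality,
      ← chartMap_naturality, h]
  obtain ⟨r', hr'⟩ := (yon S').map_surjective (kp.lift _ _ hπ)
  have hr1 : r' ≫ (Over.map g).map t = (Over.map g).map (a₂ ≫ x₁) := by
    apply (yon S').map_injective
    rw [Functor.map_comp, hr']
    exact kp.lift_fst _ _ hπ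
  have hr2 : r' ≫ (Over.map g).map s = (Over.map g).map y₂ := by
    apply (yon S').map_injective
    rw [Functor.map_comp, hr']
    exact kp.lift_snd _ _ hπ
  have hr1l : r'.left ≫ t.left = (a₂ ≫ x₁).left := congrArg (fun m => m.left) hr1
  have hr2l : r'.left ≫ s.left = y₂.left := congrArg (fun m => m.left) hr2
  have hrw : r'.left ≫ R.hom = Z₂.hom := by
    rw [← CategoryTheory.Over.w t, ← Category.assoc, hr1l, CategoryTheory.Over.w]
  let rh : Z₂ ⟶ R := Over.homMk r'.left hrw
  have e1 : rh ≫ t = a₂ ≫ x₁ := by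
    ext
    exact hr1l
  have e2 : rh ≫ s = y₂ := by
    ext
    exact hr2l
  have e3 : (yon S).map (a₂ ≫ a₁) ≫ x = (yon S).map (a₂ ≫ a₁) ≫ y := by
    rw [← hx₂, ← hy₂, ← e1, ← e2, Functor.map_comp, Functor.map_comp, Category.assoc,
      Category.assoc, sq.w]
  haveI : Epi ((yon S).map (a₂ ≫ a₁)) := by
    apply epi_yon_map_of_etale_surjective
    · rw [Over.comp_left]
      infer_instance
    · rw [Over.comp_left]
      infer_instance
  exact (cancel_epi _).1 e3

/-- `j (S/S) ≅ S/S'` -/
def e₀ : (Over.map g).obj (Over.mk (𝟙 S)) ≅ Over.mk g :=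
  CategoryTheory.Over.isoMk (Iso.refl _) (by
    change 𝟙 _ ≫ g = 𝟙 S ≫ g
    rfl)

/-- the structure map `j_! F ⟶ h_S`. -/
noncomputable def cMap (F : Sp S) : (jShriek g).obj F ⟶ (yon S').obj (Over.mk g) :=
  (jShriek g).map (SpCoprod.isTerminalYonBase.from F) ≫ (θ g (Over.mk (𝟙 S))).hom ≫ (yon S').map (e₀ g).hom

theorem chartMap_cMap {F : Sp S} {T : Over S} (f : (yon S).obj T ⟶ F) :
    chartMap g f ≫ cMap g F = (yon S').map (σ g T) := by
  unfold chartMap cMap
  have h1 : f ≫ SpCoprod.isTerminalYonBase.from F =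
      (yon S).map (Over.homMk T.hom (by simp) : T ⟶ Over.mk (𝟙 S)) :=
    SpCoprod.isTerminalYonBase.hom_ext _ _
  rw [Category.assoc, ← Category.assoc ((jShriek g).map f), ← Functor.map_comp, h1,
    ← Category.assoc ((jShriek g).map _), θ_naturality, Category.assoc, Iso.inv_hom_id_assoc,
    ← Functor.map_comp]
  congr 1


/-- `j_!` preserves fibre products of scheme points over an algebraic space. -/
theorem isPullback_chartMap {F : Sp S} (hF : IsAlgSpace F) {T U W : Over S}
    (f : (yon S).obj T ⟶ F) (p : (yon S).obj U ⟶ F) (a : W ⟶ T) (b : W ⟶ U)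
    (sq : IsPullback ((yon S).map a) ((yon S).map b) f p) :
    IsPullback ((yon S').map ((Over.map g).map a)) ((yon S').map ((Over.map g).map b))
      (chartMap g f) (chartMap g p) := by
  have w : (yon S').map ((Over.map g).map a) ≫ chartMap g f =
      (yon S').map ((Over.map g).map b) ≫ chartMap g p := by
    rw [chartMap_naturality, chartMap_naturality, sq.w]
  refine isPullback_of_points _ _ _ _ w ?_ ?_
  · intro Z' x y h1 h2
    obtain ⟨x₀, rfl⟩ := (yon S').map_surjective x
    obtain ⟨y₀, rfl⟩ := (yon S').map_surjective y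
    rw [← Functor.map_comp, ← Functor.map_comp] at h1 h2
    have h1' := (yon S').map_injective h1
    have h2' := (yon S').map_injective h2
    have hψ : y₀ ≫ σ g W = x₀ ≫ σ g W := by
      rw [← map_σ g a, ← Category.assoc, ← h1', Category.assoc]
    refine congrArg _ (hat_injective (x₀ ≫ σ g W) rfl hψ ?_)
    apply (yon S).map_injective
    apply sq.hom_ext
    · rw [← Functor.map_comp, ← Functor.map_comp, hat_comp, hat_comp]
      congr 2
    · rw [← Functor.map_comp, ← Functor.map_comp, hat_comp, hat_comp]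
      congr 2
  · intro Z' x₂ x₃ hx
    obtain ⟨t', rfl⟩ := (yon S').map_surjective x₂
    obtain ⟨u', rfl⟩ := (yon S').map_surjective x₃
    have hc := congrArg (fun m => m ≫ cMap g F) hx
    simp only [Category.assoc, chartMap_cMap, ← Functor.map_comp] at hc
    have hψ : u' ≫ σ g U = t' ≫ σ g T := ((yon S').map_injective hc).symm
    have key : (yon S).map (hat t' (t' ≫ σ g T) rfl) ≫ f =
        (yon S).map (hat u' (t' ≫ σ g T) hψ) ≫ p := by
      apply chartMap_injective g hF
      rw [← chartMap_naturality, ← chartMap_naturality, map_hat, map_hat, Functor.map_comp,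
        Functor.map_comp, Category.assoc, Category.assoc, hx]
    obtain ⟨v, hv⟩ := (yon S).map_surjective (sq.lift _ _ key)
    have hv1 : v ≫ a = hat t' (t' ≫ σ g T) rfl := by
      apply (yon S).map_injective
      rw [Functor.map_comp, hv]
      exact sq.lift_fst _ _ key
    have hv2 : v ≫ b = hat u' (t' ≫ σ g T) hψ := by
      apply (yon S).map_injective
      rw [Functor.map_comp, hv]
      exact sq.lift_snd _ _ key
    refine ⟨(yon S').map (unhat _ v), ?_, ?_⟩
    · rw [← Functor.map_comp, ← unhat_comp, hv1, unhat_hat]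
    · rw [← Functor.map_comp, ← unhat_comp, hv2, unhat_hat]

end Groth.Agent.Lib.Helper15.JShriek
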