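import Groth.Agent.Lib.Helper15.JShriek2

set_option autoImplicit false
set_option backward.isDefEq.respectTransparency.types false
universe u
open CategoryTheory CategoryTheory.Limits AlgebraicGeometry Opposite MorphismProperty

namespace Groth.Agent.Lib.Helper15.JShriek

open AlgSp Groth.Agent.Lib.Helper15.UnivQuot Groth.Agent.Lib.Helper3
  Groth.Agent.Lib.Helper15.BaseChangeSp

section points
variable {S : Scheme.{u}}

theorem hom_ext_points {F G : Sp S} (m n : F ⟶ G)
    (h : ∀ (Z : Over S) (x : (yon S).obj Z ⟶ F), x ≫ m = x ≫ n) : m = n := by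
  apply Sheaf.hom_ext
  ext V s
  induction V using Opposite.rec with
  | op Z =>
    have := h Z ((J S).uliftYonedaEquiv.{u+1}.symm s)
    have h2 := congrArg (J S).uliftYonedaEquiv.{u+1} this
    rw [(J S).uliftYonedaEquiv_comp, (J S).uliftYonedaEquiv_comp, Equiv.apply_symm_apply] at h2
    exact h2

theorem mono_of_points {F G : Sp S} (m : F ⟶ G)
    (h : ∀ (Z : Over S) (x y : (yon S).obj Z ⟶ F), x ≫ m = y ≫ m → x = y) : Mono m := by
  refine ⟨fun {W} a b hab => ?_⟩
  apply hom_ext_points
  intro Z x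
  apply h
  rw [Category.assoc, Category.assoc, hab]

end points

variable {S S' : Scheme.{u}} (g : S ⟶ S')

theorem tr_unit {G : Sp S} {Z : Over S} (x : (yon S).obj Z ⟶ G) :
    tr g _ (x ≫ (adj g).unit.app G) = chartMap g x := by
  have h1 : x ≫ (adj g).unit.app G =
      (adj g).unit.app ((yon S).obj Z) ≫ (jInv g).map ((jShriek g).map x) :=
    ((adj g).unit.naturality x)
  rw [h1, tr_naturality_right]
  rfl

theorem θ_inv_homEquiv_symm {G' : Sp S'} {U : Over S} (z : (yon S).obj U ⟶ (jInv g).obj G') :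
    (θ g U).inv ≫ ((adj g).homEquiv _ _).symm z = tr g _ z := by
  change tr g _ ((adj g).unit.app ((yon S).obj U)) ≫ _ = _
  rw [← tr_naturality_right]
  congr 1
  have := (adj g).homEquiv_unit _ _ (((adj g).homEquiv _ _).symm z)
  rw [Equiv.apply_symm_apply] at this
  exact this.symm

/-- the canonical section `1 ⟶ j⁻¹ h_S`. -/
noncomputable def δ : (yon S).obj (Over.mk (𝟙 S)) ⟶ (jInv g).obj ((yon S').obj (Over.mk g)) :=
  (tr g _).symm ((yon S').map (e₀ g).hom)

theorem unit_cMap (F : Sp S) :
    (adj g).unit.app F ≫ (jInv g).map (cMap g F) = SpCoprod.isTerminalYonBase.from F ≫ δ g := by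
  apply hom_ext_points
  intro Z x
  apply (tr g _).injective
  rw [← Category.assoc, tr_naturality_right, tr_unit, chartMap_cMap]
  have h1 : x ≫ SpCoprod.isTerminalYonBase.from F =
      (yon S).map (Over.homMk Z.hom (by simp) : Z ⟶ Over.mk (𝟙 S)) :=
    SpCoprod.isTerminalYonBase.hom_ext _ _
  rw [← Category.assoc, h1, tr_naturality]
  unfold δ
  rw [Equiv.apply_symm_apply, ← Functor.map_comp]
  congr 1


/-- sections of `j_! G` over `jZ` lying over the structure map come from sections of `G`. -/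
theorem exists_of_cMap {G : Sp S} (hG : IsAlgSpace G) {Z : Over S}
    (y : (yon S').obj ((Over.map g).obj Z) ⟶ (jShriek g).obj G)
    (hy : y ≫ cMap g G = (yon S').map (σ g Z)) :
    ∃ x : (yon S).obj Z ⟶ G, chartMap g x = y := by
  obtain ⟨U, p, hpe, hps⟩ := hG.atlas
  obtain ⟨R, s, fst, sqR⟩ := (Functor.relativelyRepresentable.of_diag hG.diag p) p
  obtain ⟨t, rfl⟩ := (yon S).map_surjective fst
  obtain ⟨-, hqe', hqs'⟩ := chart_jShriek g hG p hpe hps s t sqR
  obtain ⟨Z₁', a', fst', sq₁⟩ := hqe'.rep y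
  obtain ⟨u', rfl⟩ := (yon S').map_surjective fst'
  have ha'e : Etale a'.left := hqe'.property y _ _ sq₁
  have ha's : Surjective a'.left := hqs'.property y _ _ sq₁
  have hc := congrArg (fun m => m ≫ cMap g G) sq₁.w
  simp only [Category.assoc, chartMap_cMap, hy, ← Functor.map_comp] at hc
  have hψ : u' ≫ σ g U = a' ≫ σ g Z := (yon S').map_injective hc
  let ah : overOf (a' ≫ σ g Z) ⟶ Z := hat a' _ rfl
  let uh : overOf (a' ≫ σ g Z) ⟶ U := hat u' _ hψ
  have hahe : Etale ah.left := ha'e
  have hahs : Surjective ah.left := ha's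
  obtain ⟨x₁, hx₁def⟩ : ∃ x₁ : (yon S).obj (overOf (a' ≫ σ g Z)) ⟶ G,
      x₁ = (yon S).map uh ≫ p := ⟨_, rfl⟩
  have hx₁ : chartMap g x₁ = (yon S').map ((Over.map g).map ah) ≫ y := by
    rw [hx₁def, ← chartMap_naturality, map_hat, map_hat, Functor.map_comp, Functor.map_comp,
      Category.assoc, Category.assoc, sq₁.w]
  -- descent along `ah`
  have sqP : IsPullback ((yon S).map (pullback.fst ah ah)) ((yon S).map (pullback.snd ah ah))
      ((yon S).map ah) ((yon S).map ah) := (IsPullback.of_hasPullback ah ah).map (yon S)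
  obtain ⟨-, ⟨hcol⟩⟩ := Groth.Agent.S9872.result S ((yon S).obj Z) (IsAlgSpace.yon_obj Z)
    ((yon S).map ah) ((repWith_yon_map_iff @Etale ah).2 hahe)
    ((repWith_yon_map_iff @Surjective ah).2 hahs) _ _ sqP
  have hco : (yon S).map (pullback.fst ah ah) ≫ x₁ = (yon S).map (pullback.snd ah ah) ≫ x₁ := by
    apply chartMap_injective g hG
    rw [← chartMap_naturality, ← chartMap_naturality, hx₁, ← Category.assoc, ← Category.assoc,
      ← Functor.map_comp, ← Functor.map_comp, ← Functor.map_comp, ← Functor.map_comp,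
      pullback.condition]
  let x : (yon S).obj Z ⟶ G := Cofork.IsColimit.desc hcol x₁ hco
  have hx : (yon S).map ah ≫ x = x₁ := Cofork.IsColimit.π_desc' hcol x₁ hco
  refine ⟨x, ?_⟩
  haveI : Epi ((yon S').map ((Over.map g).map ah)) :=
    epi_yon_map_of_etale_surjective _ hahe hahs
  rw [← cancel_epi ((yon S').map ((Over.map g).map ah)), chartMap_naturality, hx, hx₁]

/-- `G` is the fibre of `j⁻¹ j_! G ⟶ j⁻¹ h_S` over the canonical section. -/
theorem isPullback_unit {G : Sp S} (hG : IsAlgSpace G) :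
    IsPullback ((adj g).unit.app G) (SpCoprod.isTerminalYonBase.from G)
      ((jInv g).map (cMap g G)) (δ g) := by
  refine isPullback_of_points _ _ _ _ (unit_cMap g G) ?_ ?_
  · intro Z x y h1 _
    apply chartMap_injective g hG
    rw [← tr_unit, ← tr_unit, h1]
  · intro Z x₂ x₃ h
    have h2 : tr g _ x₂ ≫ cMap g G = (yon S').map (σ g Z) := by
      rw [← tr_naturality_right, h]
      have h1 : x₃ = (yon S).map (Over.homMk Z.hom (by simp) : Z ⟶ Over.mk (𝟙 S)) := by
        obtain ⟨x₀, rfl⟩ := (yon S).map_surjective x₃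
        congr 1
        ext
        have := Over.w x₀
        simpa using this
      rw [h1, tr_naturality]
      unfold δ
      rw [Equiv.apply_symm_apply, ← Functor.map_comp]
      congr 1
    obtain ⟨x, hx⟩ := exists_of_cMap g hG (tr g _ x₂) h2
    refine ⟨x, ?_, SpCoprod.isTerminalYonBase.hom_ext _ _⟩
    apply (tr g _).injective
    rw [tr_unit, hx]


theorem cMap_naturality {F G : Sp S} (m : F ⟶ G) : (jShriek g).map m ≫ cMap g G = cMap g F := by
  unfold cMap
  rw [← Category.assoc, ← Functor.map_comp]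
  congr 2
  exact SpCoprod.isTerminalYonBase.hom_ext _ _

/-- the base object `S` over `S'` as an algebraic space. -/
noncomputable abbrev X₀ : Space S' := (ofScheme S').obj (Over.mk g)

/-- `F ↦ (j_! F ⟶ h_S)` -/
noncomputable def Φ : Space S ⥤ Over (X₀ g) where
  obj F := Over.mk (Y := ⟨(jShriek g).obj F.obj, isAlgSpace_jShriek g F.property⟩)
    (ObjectProperty.homMk (cMap g F.obj))
  map {F G} m := Over.homMk (ObjectProperty.homMk ((jShriek g).map m.hom)) (by
    apply ObjectProperty.hom_ext
    exact cMap_naturality g m.hom)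
  map_id F := by
    apply Over.OverMorphism.ext
    apply ObjectProperty.hom_ext
    exact (jShriek g).map_id _
  map_comp m n := by
    apply Over.OverMorphism.ext
    apply ObjectProperty.hom_ext
    exact (jShriek g).map_comp _ _

theorem Φ_map_left_hom {F G : Space S} (m : F ⟶ G) :
    ((Φ g).map m).left.hom = (jShriek g).map m.hom := rfl

instance : (Φ g).Faithful where
  map_injective {F G} m n h := by
    apply ObjectProperty.hom_ext
    have h1 : (jShriek g).map m.hom = (jShriek g).map n.hom :=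
      congrArg (fun k => k.left.hom) h
    have hmono : Mono ((adj g).unit.app G.obj) := by
      have sq := isPullback_unit g G.property
      haveI : Mono (δ g) := ⟨fun a b _ => SpCoprod.isTerminalYonBase.hom_ext _ _⟩
      exact sq.mono_fst_of_mono
    rw [← cancel_mono ((adj g).unit.app G.obj)]
    have e1 := (adj g).unit.naturality m.hom
    have e2 := (adj g).unit.naturality n.hom
    simp only [Functor.id_map, Functor.comp_map] at e1 e2
    rw [e1, e2, h1]

instance : (Φ g).Full where
  map_surjective {F G} k := by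
    let k₀ : (jShriek g).obj F.obj ⟶ (jShriek g).obj G.obj := k.left.hom
    have hk : k₀ ≫ cMap g G.obj = cMap g F.obj :=
      congrArg (fun m => m.hom) (Over.w k)
    let kb : F.obj ⟶ (jInv g).obj ((jShriek g).obj G.obj) := (adj g).homEquiv _ _ k₀
    have hkb0 : kb = (adj g).unit.app F.obj ≫ (jInv g).map k₀ := (adj g).homEquiv_unit _ _ _
    have hkb : kb ≫ (jInv g).map (cMap g G.obj) = SpCoprod.isTerminalYonBase.from F.obj ≫ δ g := by
      rw [← unit_cMap, ← hk, hkb0, Functor.map_comp, Category.assoc]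
    let m : F.obj ⟶ G.obj := (isPullback_unit g G.property).lift kb _ hkb
    have hm : m ≫ (adj g).unit.app G.obj = kb := (isPullback_unit g G.property).lift_fst _ _ hkb
    refine ⟨ObjectProperty.homMk m, ?_⟩
    apply Over.OverMorphism.ext
    apply ObjectProperty.hom_ext
    change (jShriek g).map m = k₀
    apply ((adj g).homEquiv _ _).injective
    rw [Adjunction.homEquiv_unit]
    have e1 := (adj g).unit.naturality m
    simp only [Functor.id_map, Functor.comp_map] at e1
    rw [← e1, hm]


theorem tr_from_δ (Z : Over S) :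
    tr g _ (SpCoprod.isTerminalYonBase.from ((yon S).obj Z) ≫ δ g) = (yon S').map (σ g Z) := by
  have h1 : SpCoprod.isTerminalYonBase.from ((yon S).obj Z) =
      (yon S).map (Over.homMk Z.hom (by simp) : Z ⟶ Over.mk (𝟙 S)) :=
    SpCoprod.isTerminalYonBase.hom_ext _ _
  rw [h1, tr_naturality]
  unfold δ
  rw [Equiv.apply_symm_apply, ← Functor.map_comp]
  congr 1

theorem chartMap_homEquiv_symm {F : Sp S} {G' : Sp S'} {Z : Over S} (x : (yon S).obj Z ⟶ F)
    (w : F ⟶ (jInv g).obj G') :
    chartMap g x ≫ ((adj g).homEquiv _ _).symm w = tr g _ (x ≫ w) := by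
  unfold chartMap
  rw [Category.assoc, ← Adjunction.homEquiv_naturality_left_symm, θ_inv_homEquiv_symm]

section essSurj
variable (A : Over (X₀ g))

/-- the structure map of `A` with explicit type. -/
noncomputable def cA : A.left.obj ⟶ (yon S').obj (Over.mk g) := A.hom.hom

/-- the fibre of `j⁻¹ F' ⟶ j⁻¹ h_S` over the canonical section. -/
noncomputable abbrev fib : Sp S := pullback ((jInv g).map (cA g A)) (δ g)

theorem isAlgSpace_fib : IsAlgSpace (fib g A) := by
  refine isAlgSpace_of_isPullback' (H := (jInv g).obj ((yon S').obj (Over.mk g)))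
    ?_ ?_ (IsAlgSpace.yon_obj _) (IsPullback.of_hasPullback ((jInv g).map (cA g A)) (δ g))
  · exact isAlgSpace_jInv_of_prod (isAlgSpace_prod (IsAlgSpace.yon_obj _) (IsAlgSpace.yon_obj _))
  · exact isAlgSpace_jInv_of_prod (isAlgSpace_prod (IsAlgSpace.yon_obj _) A.left.property)

/-- the comparison `j_! (fib) ⟶ F'`. -/
noncomputable def εMap : (jShriek g).obj (fib g A) ⟶ A.left.obj :=
  ((adj g).homEquiv _ _).symm (pullback.fst ((jInv g).map (cA g A)) (δ g))

theorem εMap_comp : εMap g A ≫ cA g A = cMap g (fib g A) := by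
  apply ((adj g).homEquiv _ _).injective
  rw [Adjunction.homEquiv_naturality_right]
  unfold εMap
  rw [Equiv.apply_symm_apply, Adjunction.homEquiv_unit, unit_cMap, pullback.condition]
  congr 1
  exact SpCoprod.isTerminalYonBase.hom_ext _ _

theorem chartMap_εMap {Z : Over S} (x : (yon S).obj Z ⟶ fib g A) :
    chartMap g x ≫ εMap g A = tr g _ (x ≫ pullback.fst ((jInv g).map (cA g A)) (δ g)) :=
  chartMap_homEquiv_symm g x _

instance : Mono (εMap g A) := by
  apply mono_of_points
  intro T' y₁ y₂ h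
  let ψ : T' ⟶ Over.mk g := (yon S').preimage (y₁ ≫ cMap g (fib g A))
  have hψ1 : (yon S').map ψ = y₁ ≫ cMap g (fib g A) := Functor.map_preimage _ _
  have hψ2 : (yon S').map ψ = y₂ ≫ cMap g (fib g A) := by
    rw [hψ1, ← εMap_comp, ← Category.assoc, ← Category.assoc, h]
  have hy1 : ((yon S').map (overOfIso ψ).hom ≫ y₁) ≫ cMap g (fib g A) =
      (yon S').map (σ g (overOf ψ)) := by
    rw [Category.assoc, ← hψ1, ← Functor.map_comp, overOfIso_hom_σ]
  have hy2 : ((yon S').map (overOfIso ψ).hom ≫ y₂) ≫ cMap g (fib g A) =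
      (yon S').map (σ g (overOf ψ)) := by
    rw [Category.assoc, ← hψ2, ← Functor.map_comp, overOfIso_hom_σ]
  obtain ⟨x₁, hx₁⟩ := exists_of_cMap g (isAlgSpace_fib g A) _ hy1
  obtain ⟨x₂, hx₂⟩ := exists_of_cMap g (isAlgSpace_fib g A) _ hy2
  have e1 : x₁ ≫ pullback.fst ((jInv g).map (cA g A)) (δ g) =
      x₂ ≫ pullback.fst ((jInv g).map (cA g A)) (δ g) := by
    apply (tr g _).injective
    rw [← chartMap_εMap, ← chartMap_εMap, hx₁, hx₂, Category.assoc, Category.assoc, h]
  have e2 : x₁ = x₂ := by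
    apply pullback.hom_ext e1
    exact SpCoprod.isTerminalYonBase.hom_ext _ _
  have e3 : (yon S').map (overOfIso ψ).hom ≫ y₁ = (yon S').map (overOfIso ψ).hom ≫ y₂ := by
    rw [← hx₁, ← hx₂, e2]
  haveI : IsIso ((yon S').map (overOfIso ψ).hom) := inferInstance
  exact (cancel_epi _).1 e3

instance : Epi (εMap g A) := by
  obtain ⟨U', p', hpe, hps⟩ := A.left.property.atlas
  haveI : Epi p' := (Sheaf.isLocallySurjective_iff_epi _).1
    (Groth.Agent.S9883.isLocallySurjective_of_etale_surjective p' hpe hps)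
  let φ : U' ⟶ Over.mk g := (yon S').preimage (p' ≫ cA g A)
  have hφ : (yon S').map φ = p' ≫ cA g A := Functor.map_preimage _ _
  let z : (yon S).obj (overOf φ) ⟶ (jInv g).obj A.left.obj :=
    (tr g _).symm ((yon S').map (overOfIso φ).hom ≫ p')
  have hz : z ≫ (jInv g).map (cA g A) =
      SpCoprod.isTerminalYonBase.from ((yon S).obj (overOf φ)) ≫ δ g := by
    apply (tr g _).injective
    rw [tr_naturality_right, tr_from_δ, Equiv.apply_symm_apply, Category.assoc, ← hφ,
      ← Functor.map_comp, overOfIso_hom_σ]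
  let pF : (yon S).obj (overOf φ) ⟶ fib g A := pullback.lift z _ hz
  have hpF : chartMap g pF ≫ εMap g A = (yon S').map (overOfIso φ).hom ≫ p' := by
    rw [chartMap_εMap, pullback.lift_fst, Equiv.apply_symm_apply]
  have hfac : ((yon S').map (overOfIso φ).inv ≫ chartMap g pF) ≫ εMap g A = p' := by
    rw [Category.assoc, hpF, ← Category.assoc, ← Functor.map_comp, Iso.inv_hom_id,
      CategoryTheory.Functor.map_id, Category.id_comp]
  exact epi_of_epi_fac hfac

theorem isIso_εMap : IsIso (εMap g A) := isIso_of_mono_of_epi _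

end essSurj

instance : (Φ g).EssSurj where
  mem_essImage A := by
    haveI : IsIso (εMap g A) := isIso_εMap g A
    let e : (jShriek g).obj (fib g A) ≅ A.left.obj := asIso (εMap g A)
    refine ⟨⟨fib g A, isAlgSpace_fib g A⟩,
      ⟨CategoryTheory.Over.isoMk (ObjectProperty.isoMk _ e) ?_⟩⟩
    apply ObjectProperty.hom_ext
    exact εMap_comp g A

instance : (Φ g).IsEquivalence where

theorem exists_equivalence :
    ∃ E : AlgSp.Space S ≌ Over ((AlgSp.ofScheme S').obj (Over.mk g)),
      Nonempty (E.functor ⋙ Over.forget _ ⋙ ObjectProperty.ι (AlgSp.IsAlgSpace (S := S')) ≅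
        ObjectProperty.ι (AlgSp.IsAlgSpace (S := S)) ⋙
          ((Over.map g).sheafPullback (Type (u + 1)) (AlgSp.J S) (AlgSp.J S'))) :=
  ⟨(Φ g).asEquivalence, ⟨NatIso.ofComponents (fun F => Iso.refl _) (by
    intro F G m
    change (jShriek g).map m.hom ≫ 𝟙 _ = 𝟙 _ ≫ (jShriek g).map m.hom
    rw [Category.comp_id, Category.id_comp])⟩⟩

end Groth.Agent.Lib.Helper15.JShriek
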