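import Groth.Agent.Lib.Helper15.FieldQuotApp
import Groth.Agent.Lib.Helper3.QuotRelMain

set_option autoImplicit false
set_option backward.isDefEq.respectTransparency.types false
universe u
open CategoryTheory CategoryTheory.Limits AlgebraicGeometry AlgSp

namespace Groth.Agent.Lib.Helper15.KernelPairEt

open Groth.Agent.Lib.Helper3

variable {S : Scheme.{u}}

/-- a kernel pair represented by schemes is an equivalence relation. -/
theorem isEqvRel_of_kernelPair {F : Sp S} {R U : Over S} (s t : R ⟶ U) (p : (yon S).obj U ⟶ F)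
    (sq : IsPullback ((yon S).map t) ((yon S).map s) p p) : IsEqvRel s t := by
  have hrel : ∀ (T : Over S) (a b : T ⟶ U),
      (∃ r : T ⟶ R, r ≫ t = a ∧ r ≫ s = b) ↔ (yon S).map a ≫ p = (yon S).map b ≫ p := by
    intro T a b
    constructor
    · rintro ⟨r, rfl, rfl⟩
      rw [Functor.map_comp, Functor.map_comp, Category.assoc, Category.assoc, sq.w]
    · intro h
      obtain ⟨r, hr⟩ := (yon S).map_surjective (sq.lift _ _ h)
      refine ⟨r, ?_, ?_⟩
      · apply (yon S).map_injective
        rw [Functor.map_comp, hr, sq.lift_fst]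
      · apply (yon S).map_injective
        rw [Functor.map_comp, hr, sq.lift_snd]
  refine ⟨fun T r r' h1 h2 => ?_, fun T => ⟨fun a => ?_, fun {a b} h => ?_, fun {a b c} h1 h2 => ?_⟩⟩
  · apply (yon S).map_injective
    apply sq.hom_ext
    · rw [← Functor.map_comp, ← Functor.map_comp, h1]
    · rw [← Functor.map_comp, ← Functor.map_comp, h2]
  · exact (hrel T a a).2 rfl
  · exact (hrel T b a).2 ((hrel T a b).1 h).symm
  · exact (hrel T a c).2 (((hrel T a b).1 h1).trans ((hrel T b c).1 h2))

/-- closed immersion followed by etale, over a field, is etale. -/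
theorem etale_of_closedImmersion_comp_etale {κ : Type u} [Field κ] {R E : Scheme.{u}}
    (ρ : R ⟶ E) (e : E ⟶ Spec (CommRingCat.of κ)) [IsClosedImmersion ρ] [Etale e] :
    Etale (ρ ≫ e) := by
  haveI : Flat (ρ ≫ e) := inferInstance
  haveI : FormallyUnramified ρ := inferInstance
  haveI : FormallyUnramified e := inferInstance
  haveI : FormallyUnramified (ρ ≫ e) :=
    MorphismProperty.comp_mem _ ρ e ‹FormallyUnramified ρ› ‹FormallyUnramified e›
  haveI : LocallyOfFiniteType (ρ ≫ e) := inferInstance
  haveI : LocallyOfFinitePresentation (ρ ≫ e) := inferInstance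
  exact Etale.of_formallyUnramified_of_flat (ρ ≫ e)

end Groth.Agent.Lib.Helper15.KernelPairEt

namespace Groth.Agent.Lib.Helper15.KernelPairEt

open Groth.Agent.Lib.Helper3

variable {S : Scheme.{u}}

/-- the kernel pair of `Spec κ ⟶ U ⟶ X` (closed immersion followed by an etale chart) has etale
projections. -/
theorem etale_snd_of_kernelPair {X : Sp S} {U : Over S} (φ : (yon S).obj U ⟶ X)
    (hφ : RepWith @Etale φ) {κ : Type u} [Field κ] (str : Spec (CommRingCat.of κ) ⟶ S)
    (i : Over.mk str ⟶ U) [IsClosedImmersion i.left] {R : Over S} (s t : R ⟶ Over.mk str)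
    (sq : IsPullback ((yon S).map s) ((yon S).map t) ((yon S).map i ≫ φ) ((yon S).map i ≫ φ)) :
    Etale t.left := by
  -- `E = U ×_X Spec κ`
  obtain ⟨E, eU', e, sqE⟩ : ∃ (E : Over S) (eU' : (yon S).obj E ⟶ (yon S).obj U)
      (e : E ⟶ Over.mk str), IsPullback eU' ((yon S).map e) φ ((yon S).map i ≫ φ) :=
    ⟨_, _, _, hφ.rep.isPullback _⟩
  obtain ⟨eU, rfl⟩ := (yon S).map_surjective eU'
  haveI he : Etale e.left := hφ.property _ _ _ sqE
  have hw : ((yon S).map (s ≫ i)) ≫ φ = (yon S).map t ≫ (yon S).map i ≫ φ := by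
    rw [Functor.map_comp, Category.assoc, sq.w]
  obtain ⟨ρ, hρ⟩ := (yon S).map_surjective (sqE.lift _ _ hw)
  have hρ1 : ρ ≫ eU = s ≫ i := by
    apply (yon S).map_injective
    rw [Functor.map_comp, hρ, sqE.lift_fst]
  have hρ2 : ρ ≫ e = t := by
    apply (yon S).map_injective
    rw [Functor.map_comp, hρ, sqE.lift_snd]
  -- the left square is a pullback
  have sqL : IsPullback ((yon S).map ρ) ((yon S).map s) ((yon S).map eU) ((yon S).map i) := by
    have hright : IsPullback ((yon S).map e) ((yon S).map eU) ((yon S).map i ≫ φ) φ := sqE.flip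
    have houter : IsPullback ((yon S).map ρ ≫ (yon S).map e) ((yon S).map s)
        ((yon S).map i ≫ φ) ((yon S).map i ≫ φ) := by
      rw [← Functor.map_comp, hρ2]
      exact sq.flip
    refine IsPullback.of_right houter ?_ hright
    rw [← Functor.map_comp, ← Functor.map_comp, hρ1]
  have sqL' : IsPullback ρ s eU i := IsPullback.of_map_of_faithful (yon S) sqL
  have sqL'' : IsPullback ρ.left s.left eU.left i.left := sqL'.map (Over.forget S)
  haveI : IsClosedImmersion ρ.left := MorphismProperty.of_isPullback sqL''.flip ‹_›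
  have : t.left = ρ.left ≫ e.left := by rw [← hρ2]; rfl
  rw [this]
  exact etale_of_closedImmersion_comp_etale ρ.left e.left

end Groth.Agent.Lib.Helper15.KernelPairEt
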