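import Groth.Agent.Lib.Helper15.LocPNearSp
import Groth.Agent.Lib.Helper15.AlgSpFlatAt
import Groth.Agent.Lib.Helper5.KLocG
import Groth.Agent.Lib.Helper3.AlgSpLocP3
import Groth.Agent.Lib.Helper3.AlgSpFibre

set_option autoImplicit false
universe u
open CategoryTheory CategoryTheory.Limits AlgebraicGeometry Opposite MorphismProperty

namespace Groth.Agent.Lib.Helper15.KoszulBC

open Groth.Agent.Lib.Helper3 Groth.Agent.Lib.Helper15 Groth.Agent.Lib.Helper15.LciSp AlgSp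
open Groth.Agent.Lib.Helper15.LocPNearSp
set_option backward.isDefEq.respectTransparency.types false

variable {S : Scheme.{u}}

/-- a compatible system of charts for `X ⟶ Y ⟶ Z` and its base change along `Z' ⟶ Z` -/
theorem exists_chart_system {X Y Z X' Y' Z' : Sp S} (hX : IsAlgSpace X) (hY : IsAlgSpace Y)
    (hZ : IsAlgSpace Z) (hZ' : IsAlgSpace Z') (f : X ⟶ Y) (q : Y ⟶ Z) (g : Z' ⟶ Z)
    (gY : Y' ⟶ Y) (q' : Y' ⟶ Z') (sqY : IsPullback gY q' q g)
    (gX : X' ⟶ X) (f' : X' ⟶ Y') (sqX : IsPullback gX f' f gY) :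
    ∃ (A B C C'' : Over S) (a₀ : (yon S).obj A ⟶ X) (b₀ : (yon S).obj B ⟶ Y)
      (c₀ : (yon S).obj C ⟶ Z) (fA : A ⟶ B) (qB : B ⟶ C) (kC : C'' ⟶ C)
      (a'' : (yon S).obj (pullback fA (pullback.fst qB kC)) ⟶ X')
      (b'' : (yon S).obj (pullback qB kC) ⟶ Y'),
      RepWith @Etale a₀ ∧ RepWith @Etale b₀ ∧ RepWith @Etale c₀ ∧ RepWith @Etale a'' ∧
      RepWith @Surjective a'' ∧ RepWith @Etale b'' ∧
      a₀ ≫ f = (yon S).map fA ≫ b₀ ∧ b₀ ≫ q = (yon S).map qB ≫ c₀ ∧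
      a'' ≫ f' = (yon S).map (pullback.snd fA (pullback.fst qB kC)) ≫ b'' ∧
      a'' ≫ gX = (yon S).map (pullback.fst fA (pullback.fst qB kC)) ≫ a₀ := by
  obtain ⟨C, c₀, hc₀e, hc₀s⟩ := hZ.atlas
  obtain ⟨B, uB, qB, -, -, hb₀e, hb₀s, -, hwB⟩ := exists_chart_over hY hZ q c₀ hc₀e
  replace hb₀s := hb₀s hc₀s
  generalize uB ≫ pullback.fst q c₀ = b₀ at hb₀e hb₀s hwB
  obtain ⟨A, uA, fA, -, -, ha₀e, ha₀s, -, hwA⟩ := exists_chart_over hX hY f b₀ hb₀e
  replace ha₀s := ha₀s hb₀s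
  generalize uA ≫ pullback.fst f b₀ = a₀ at ha₀e ha₀s hwA
  have sqZ := IsPullback.of_hasPullback g c₀
  have hPZ : IsAlgSpace (pullback g c₀) :=
    isAlgSpace_of_isPullback' hZ hZ' (IsAlgSpace.yon_obj C) sqZ
  obtain ⟨C'', c'', hc''e, hc''s⟩ := hPZ.atlas
  obtain ⟨kC, hkC⟩ := (yon S).map_surjective (c'' ≫ pullback.snd g c₀)
  obtain ⟨uB'', huBe, huBs, huB2, huB3⟩ :=
    AlgSpFlatAt.chart_step q g gY q' sqY b₀ c₀ qB hwB c'' hc''e kC hkC
  replace huBs := huBs hc''s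
  obtain ⟨uA'', huAe, huAs, huA2, huA3⟩ :=
    AlgSpFlatAt.chart_step f gY gX f' sqX a₀ b₀ fA hwA uB'' huBe (pullback.fst qB kC) huB2.symm
  replace huAs := huAs huBs
  have sqPX := IsPullback.of_hasPullback gX a₀
  have sqPY := IsPullback.of_hasPullback gY b₀
  refine ⟨A, B, C, C'', a₀, b₀, c₀, fA, qB, kC, uA'' ≫ pullback.fst gX a₀,
    uB'' ≫ pullback.fst gY b₀, ha₀e, hb₀e, hc₀e,
    MorphismProperty.comp_mem _ _ _ huAe (MorphismProperty.of_isPullback sqPX.flip ha₀e),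
    MorphismProperty.comp_mem _ _ _ huAs (MorphismProperty.of_isPullback sqPX.flip ha₀s),
    MorphismProperty.comp_mem _ _ _ huBe (MorphismProperty.of_isPullback sqPY.flip hb₀e),
    hwA, hwB, huA3, ?_⟩
  rw [Category.assoc, sqPX.w, ← Category.assoc, huA2]

open Groth.Agent.Lib.Helper5.KLoc Groth.Agent.Lib.Helper5.Lci in
/-- the Koszul locus commutes with base change -/
theorem locPNear_lci_baseChange_iff {X Y Z X' Y' Z' : Sp S} (hX : IsAlgSpace X) (hY : IsAlgSpace Y)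
    (hZ : IsAlgSpace Z) (hZ' : IsAlgSpace Z') (f : X ⟶ Y) (q : Y ⟶ Z)
    (hp1 : LocP @Flat (f ≫ q)) (hp2 : LocP @LocallyOfFinitePresentation (f ≫ q))
    (hq1 : LocP @Flat q) (hq2 : LocP @LocallyOfFinitePresentation q) (g : Z' ⟶ Z)
    (gY : Y' ⟶ Y) (q' : Y' ⟶ Z') (sqY : IsPullback gY q' q g)
    (gX : X' ⟶ X) (f' : X' ⟶ Y') (sqX : IsPullback gX f' f gY) (x' : Points X') :
    LocPNear AlgSp.lci f' x' ↔ LocPNear AlgSp.lci f (Points.map gX x') := by
  obtain ⟨A, B, C, C'', a₀, b₀, c₀, fA, qB, kC, a'', b'', ha₀e, hb₀e, hc₀e, ha''e, ha''s, hb''e,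
    hwA, hwB, hw'', hgX⟩ := exists_chart_system hX hY hZ hZ' f q g gY q' sqY gX f' sqX
  obtain ⟨a, ha⟩ := exists_ofPt_eq a'' ha''s x'
  rw [← ha, Points.map_ofPt, hgX, Points.ofPt_yon_map_comp,
    locPNear_iff_chart isEtLocalW_lci f' a'' ha''e b'' hb''e _ hw'' a,
    locPNear_iff_chart isEtLocalW_lci f a₀ ha₀e b₀ hb₀e fA hwA]
  have hwAC : a₀ ≫ f ≫ q = (yon S).map (fA ≫ qB) ≫ c₀ := by
    rw [← Category.assoc, hwA, Category.assoc, hwB, Functor.map_comp, Category.assoc]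
  haveI : Flat (fA.left ≫ qB.left) := by
    have := hp1 a₀ c₀ (fA ≫ qB) ha₀e hc₀e hwAC
    rwa [Over.comp_left] at this
  haveI : LocallyOfFinitePresentation (fA.left ≫ qB.left) := by
    have := hp2 a₀ c₀ (fA ≫ qB) ha₀e hc₀e hwAC
    rwa [Over.comp_left] at this
  haveI : Flat qB.left := hq1 b₀ c₀ qB hb₀e hc₀e hwB
  haveI : LocallyOfFinitePresentation qB.left := hq2 b₀ c₀ qB hb₀e hc₀e hwB
  have sY : IsPullback (pullback.fst qB kC).left (pullback.snd qB kC).left qB.left kC.left :=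
    (IsPullback.of_hasPullback qB kC).map (Over.forget S)
  have sX0 : IsPullback (pullback.fst fA (pullback.fst qB kC)).left
      (pullback.snd fA (pullback.fst qB kC)).left fA.left (pullback.fst qB kC).left :=
    (IsPullback.of_hasPullback fA (pullback.fst qB kC)).map (Over.forget S)
  have key := kNear_baseChange_iff fA.left qB.left kC.left (pullback.fst qB kC).left
    (pullback.snd qB kC).left sY (pullback.fst fA (pullback.fst qB kC)).left
    (pullback.snd fA (pullback.fst qB kC)).left (sX0.paste_vert sY) sX0.w a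
  simp only [KNear, ← lci_iff] at key
  exact key

end Groth.Agent.Lib.Helper15.KoszulBC
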