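import Mathlib
import Groth.Agent.Lib.Helper3.FpqcFamily
import Groth.Agent.Lib.Helper3.FiniteAffineRefine
import Groth.Agent.Lib.Helper5.LciT
import Groth.Agent.S8658
import Groth.Agent.S8662

set_option autoImplicit false
universe u
open CategoryTheory CategoryTheory.Limits AlgebraicGeometry Opposite MorphismProperty

namespace Groth.Agent.Lib.Helper15.LciSp

open Groth.Agent.Lib.Helper3 Groth.Agent.Lib.Helper5.Lci

/-- Descent along a finite jointly surjective family of flat morphisms from affine schemes to an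
affine scheme (no base change stability needed). -/
theorem of_stdFpqc_family' {P : MorphismProperty Scheme.{u}}
    [P.DescendsAlong (@Surjective ⊓ @Flat ⊓ @QuasiCompact)] [IsZariskiLocalAtTarget P]
    {U Z : Scheme.{u}} [IsAffine Z] (h : U ⟶ Z) {m : ℕ} (W : Fin m → Scheme.{u})
    (c : ∀ j, W j ⟶ Z) [∀ j, IsAffine (W j)] (hc : ∀ j, Flat (c j))
    (hs : ∀ z : Z, ∃ j, z ∈ Set.range (c j))
    (hP : ∀ j, ∃ (T : Scheme.{u}) (a : T ⟶ W j) (b : T ⟶ U), IsPullback a b (c j) h ∧ P a) :
    P h := by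
  let π : (∐ W) ⟶ Z := Sigma.desc c
  have hπf : Flat π := IsZariskiLocalAtSource.sigmaDesc (P := @Flat) hc
  have hπs : Surjective π := by
    refine ⟨fun z => ?_⟩
    obtain ⟨j, w, rfl⟩ := hs z
    refine ⟨(Sigma.ι W j) w, ?_⟩
    rw [← Scheme.Hom.comp_apply, Sigma.ι_desc]
  have hπq : QuasiCompact π := inferInstance
  refine of_isPullback_of_descendsAlong (P := P) (Q := @Surjective ⊓ @Flat ⊓ @QuasiCompact)
    (IsPullback.of_hasPullback π h) ⟨⟨hπs, hπf⟩, hπq⟩ ?_
  rw [IsZariskiLocalAtTarget.iff_of_openCover (P := P) (sigmaOpenCover W)]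
  intro j
  change P (pullback.snd (pullback.fst π h) (Sigma.ι W j))
  obtain ⟨T, a, b, sq, ha⟩ := hP j
  have sq1 := (IsPullback.of_hasPullback (pullback.fst π h) (Sigma.ι W j)).flip
  have sq2 := sq1.paste_vert (IsPullback.of_hasPullback π h)
  have hj : Sigma.ι W j ≫ π = c j := Sigma.ι_desc _ _
  rw [hj] at sq2
  exact prop_fst_of_isPullback sq sq2 ha

/-- Descent along standard fpqc coverings of the affine opens of the target. -/
theorem of_stdFpqc_family_affineOpens' {P : MorphismProperty Scheme.{u}}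
    [P.DescendsAlong (@Surjective ⊓ @Flat ⊓ @QuasiCompact)] [IsZariskiLocalAtTarget P]
    {U V : Scheme.{u}} (h : U ⟶ V)
    (H : ∀ (Z : Scheme.{u}) (_ : IsAffine Z) (ι : Z ⟶ V) (_ : IsOpenImmersion ι),
      ∃ (m : ℕ) (W : Fin m → Scheme.{u}) (c : ∀ j, W j ⟶ Z), (∀ j, IsAffine (W j)) ∧
        (∀ j, Flat (c j)) ∧ (∀ z : Z, ∃ j, z ∈ Set.range (c j)) ∧
        ∀ j, ∃ (T : Scheme.{u}) (a : T ⟶ W j) (b : T ⟶ U), IsPullback a b (c j ≫ ι) h ∧ P a) :
    P h := by
  rw [IsZariskiLocalAtTarget.iff_of_openCover (P := P) V.affineCover]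
  intro k
  change P (pullback.snd h (V.affineCover.f k))
  obtain ⟨m, W, c, hW, hcf, hcs, hT⟩ := H (V.affineCover.X k) inferInstance (V.affineCover.f k)
    inferInstance
  refine of_stdFpqc_family' (pullback.snd h (V.affineCover.f k)) W c hcf hcs fun j => ?_
  obtain ⟨T, a, b, sq, ha⟩ := hT j
  have hw : b ≫ h = (a ≫ c j) ≫ V.affineCover.f k := by
    rw [← sq.w, Category.assoc]
  refine ⟨T, a, pullback.lift b (a ≫ c j) hw, ?_, ha⟩
  refine (IsPullback.of_right ?_ (pullback.lift_snd _ _ _) (IsPullback.of_hasPullback h _)).flip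
  rw [pullback.lift_fst]
  exact sq.flip

/-- (FD) Descent along a jointly surjective family of flat universally open morphisms. -/
theorem of_flat_open_family {P : MorphismProperty Scheme.{u}}
    [P.DescendsAlong (@Surjective ⊓ @Flat ⊓ @QuasiCompact)] [IsZariskiLocalAtTarget P]
    {U V : Scheme.{u}} (h : U ⟶ V) {K : Type*} (W : K → Scheme.{u}) (c : ∀ k, W k ⟶ V)
    (hcf : ∀ k, Flat (c k)) (hco : ∀ k, UniversallyOpen (c k))
    (hs : ∀ v : V, ∃ k, v ∈ Set.range (c k))
    (hP : ∀ k, P (pullback.snd h (c k))) : P h := by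
  refine of_stdFpqc_family_affineOpens' h ?_
  intro Z hZ ι hι
  -- the family over `Z`
  have ho : ∀ k, IsOpenMap (pullback.snd (c k) ι) := fun k => by
    have := hco k
    exact (pullback.snd (c k) ι).isOpenMap
  have hsZ : ∀ z : Z, ∃ k, z ∈ Set.range (pullback.snd (c k) ι) := by
    intro z
    obtain ⟨k, w, hw⟩ := hs (ι z)
    obtain ⟨t, -, ht⟩ := Scheme.Pullback.exists_preimage_pullback w z hw
    exact ⟨k, t, ht⟩
  obtain ⟨m, kk, O, hOa, hOs⟩ := exists_finite_affine_refinement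
    (fun k => pullback (c k) ι) (fun k => pullback.snd (c k) ι) ho hsZ
  refine ⟨m, fun j => (O j : Scheme.{u}), fun j => (O j).ι ≫ pullback.snd (c (kk j)) ι,
    fun j => hOa j, fun j => inferInstance, ?_, ?_⟩
  · intro z
    obtain ⟨j, t, ht, htz⟩ := hOs z
    exact ⟨j, ⟨t, ht⟩, htz⟩
  · intro j
    -- the open immersion `O j ⟶ W (kk j)`
    let o : (O j : Scheme.{u}) ⟶ W (kk j) := (O j).ι ≫ pullback.fst (c (kk j)) ι
    have ho : IsOpenImmersion o := inferInstance
    have hoc : o ≫ c (kk j) = ((O j).ι ≫ pullback.snd (c (kk j)) ι) ≫ ι := by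
      simp only [o, Category.assoc, pullback.condition]
    rw [← hoc]
    have sq1 := IsPullback.of_hasPullback (pullback.snd h (c (kk j))) o
    have sq2 := IsPullback.of_hasPullback h (c (kk j))
    have big := (sq1.paste_horiz sq2).flip
    refine ⟨_, _, _, big, ?_⟩
    exact IsZariskiLocalAtTarget.of_isPullback (P := P) sq1 (hP (kk j))

end Groth.Agent.Lib.Helper15.LciSp
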