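import Groth.Agent.Lib.Helper15.LciSp1
import Groth.Agent.Lib.Helper15.EtaleLiftAlg
import Groth.Agent.Lib.Helper3.AlgSpLocP

set_option autoImplicit false
universe u
open CategoryTheory CategoryTheory.Limits AlgebraicGeometry Opposite MorphismProperty

namespace Groth.Agent.Lib.Helper15.LciSp

open Groth.Agent.Lib.Helper3 Groth.Agent.Lib.Helper5.Lci TensorProduct

theorem lciMor_of_isPullback_flat {X Y X' Y' : Scheme.{u}} {f : X ⟶ Y} {g : Y' ⟶ Y}
    {fst : X' ⟶ X} {f' : X' ⟶ Y'} (sq : IsPullback fst f' f g) [Flat g] (hf : LciMor f) :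
    LciMor f' :=
  lciMor_of_isKoszulAt _
    (Groth.Agent.S8658.result f g f' fst sq (fun x => isKoszulAt_of_lciMor f hf x))

instance lciMor_descendsAlong :
    LciMor.{u}.DescendsAlong (@Surjective ⊓ @Flat ⊓ @QuasiCompact) where
  of_isPullback {A X Y Z fst snd f g} sq hf hfst := by
    obtain ⟨⟨hs, hfl⟩, hq⟩ := hf
    exact lciMor_of_isKoszulAt _
      (Groth.Agent.S8662.result g f fst snd sq.flip (fun x => isKoszulAt_of_lciMor _ hfst x))

theorem lciMor_of_isEmpty {X Y : Scheme.{u}} (f : X ⟶ Y) [IsEmpty X] : LciMor f := by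
  refine IsZariskiLocalAtSource.of_iSup_eq_top (P := LciMor) (fun i : PEmpty.{1} => i.elim) ?_
    (fun i => i.elim)
  rw [eq_top_iff]
  intro x _
  exact (IsEmpty.false x).elim

/-- Base descent along an etale surjective morphism. -/
theorem lciMor_of_isPullback_etale_surjective {X Y X' Y' : Scheme.{u}} {f : X ⟶ Y} {g : Y' ⟶ Y}
    {fst : X' ⟶ X} {f' : X' ⟶ Y'} (sq : IsPullback fst f' f g) [Etale g] [Surjective g]
    (hf' : LciMor f') : LciMor f := by
  refine of_flat_open_family (P := LciMor) f (fun _ : Unit => Y') (fun _ => g)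
    (fun _ => inferInstance) (fun _ => inferInstance) (fun y => ⟨(), Surjective.surj (f := g) y⟩)
    fun _ => ?_
  have h1 : pullback.snd f g = (sq.isoPullback).inv ≫ f' := by
    rw [Iso.eq_inv_comp, IsPullback.isoPullback_hom_snd]
  rw [h1]
  exact (LciMor.cancel_left_of_respectsIso _ _).2 hf'

/-- (Lemma E) lifting an etale chart of a closed subscheme of affine space. -/
theorem exists_lift_piece {R S P C : CommRingCat.{u}} (c : R ⟶ P) (hc : Smooth (Spec.map c))
    (γ : P ⟶ S) (hγ : Function.Surjective γ.hom) (ψ : S ⟶ C) (hψ : ψ.hom.Etale)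
    (hl : LciMor (Spec.map (c ≫ γ ≫ ψ))) :
    ∃ (C' : CommRingCat.{u}) (α : P ⟶ C') (β : C' ⟶ C), α.hom.Etale ∧
      IsPushout γ α ψ β ∧ LciMor (Spec.map β) := by
  letI : Algebra P S := γ.hom.toAlgebra
  letI : Algebra S C := ψ.hom.toAlgebra
  letI : Algebra P C := (γ ≫ ψ).hom.toAlgebra
  haveI : IsScalarTower P S C := IsScalarTower.of_algebraMap_eq' rfl
  haveI : Algebra.Etale S C := hψ
  obtain ⟨C', _, _, hC', ⟨e⟩⟩ := EtaleLiftAlg.exists_etale_lift (B' := P) (B := S) (C := C) hγ
  let α : P ⟶ CommRingCat.of C' := CommRingCat.ofHom (algebraMap P C')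
  let β : CommRingCat.of C' ⟶ C := CommRingCat.ofHom
    ((e : S ⊗[P] C' →+* C).comp Algebra.TensorProduct.includeRight.toRingHom)
  have hα : α.hom.Etale := RingHom.etale_algebraMap.2 hC'
  have po0 := CommRingCat.isPushout_tensorProduct P S C'
  have po : IsPushout γ α ψ β := by
    refine po0.of_iso (Iso.refl _) (Iso.refl _) (Iso.refl _) e.toRingEquiv.toCommRingCatIso
      ?_ ?_ ?_ ?_
    · simp; rfl
    · simp; rfl
    · ext s
      simp
      exact e.commutes s
    · ext x
      simp [β]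
  refine ⟨CommRingCat.of C', α, β, hα, po, ?_⟩
  have hsm : Smooth (Spec.map α ≫ Spec.map c) := by
    have : Etale (Spec.map α) := (HasRingHomProperty.Spec_iff (P := @Etale)).2 hα
    infer_instance
  refine lciMor_of_comp_smooth (Spec.map β) (Spec.map α ≫ Spec.map c) ?_
  rw [← Spec.map_comp, ← Spec.map_comp, Category.assoc, ← po.w]
  exact hl

end Groth.Agent.Lib.Helper15.LciSp
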