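import Groth.Agent.Lib.Helper15.LciSp2

set_option autoImplicit false
universe u
open CategoryTheory CategoryTheory.Limits AlgebraicGeometry Opposite MorphismProperty

namespace Groth.Agent.Lib.Helper15.LciSp

open Groth.Agent.Lib.Helper3 Groth.Agent.Lib.Helper5.Lci TensorProduct

theorem isEmpty_pullback_away {P S : CommRingCat.{u}} (γ : P ⟶ S) (f : P) (hf : γ.hom f = 0) :
    IsEmpty ↥(pullback (Spec.map γ)
      (Spec.map (CommRingCat.ofHom (algebraMap P (Localization.Away f))))) := by
  refine ⟨fun t => ?_⟩
  have h1 := congrArg (fun φ => φ t)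
    (congrArg (fun φ : _ ⟶ Spec P => (φ : _ → _)) (pullback.condition
      (f := Spec.map γ) (g := Spec.map (CommRingCat.ofHom (algebraMap P (Localization.Away f))))))
  simp only [Scheme.Hom.comp_apply] at h1
  set s := pullback.fst (Spec.map γ)
    (Spec.map (CommRingCat.ofHom (algebraMap P (Localization.Away f)))) t
  set q := pullback.snd (Spec.map γ)
    (Spec.map (CommRingCat.ofHom (algebraMap P (Localization.Away f)))) t
  have h2 : f ∈ (Spec.map γ s).asIdeal := by
    change γ.hom f ∈ s.asIdeal
    rw [hf]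
    exact zero_mem _
  rw [h1] at h2
  have h3 : algebraMap P (Localization.Away f) f ∈ q.asIdeal := h2
  exact q.isPrime.ne_top (Ideal.eq_top_of_isUnit_mem _ h3 (IsLocalization.Away.algebraMap_isUnit f))

/-- affine case of etale descent on the source -/
theorem lciMor_SpecMap_of_precomp {R S : CommRingCat.{u}} (φ : R ⟶ S) {U' : Scheme.{u}}
    (π : U' ⟶ Spec S) [Etale π] [Surjective π] (h : LciMor (π ≫ Spec.map φ)) :
    LciMor (Spec.map φ) := by
  have hlft : LocallyOfFiniteType (Spec.map φ) :=
    isEtLocal_locallyOfFiniteType.of_comp π (Spec.map φ) inferInstance inferInstance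
      (lciMor_le_locallyOfFiniteType _ h)
  have hft : φ.hom.FiniteType := (HasRingHomProperty.Spec_iff (P := @LocallyOfFiniteType)).1 hlft
  obtain ⟨n, γ0, hγC, hγs⟩ := exists_isPres_of_finiteType hft
  let P : CommRingCat.{u} := .of (MvPolynomial (Fin n) R)
  let c : R ⟶ P := CommRingCat.ofHom MvPolynomial.C
  let γ : P ⟶ S := CommRingCat.ofHom γ0
  have hφ : c ≫ γ = φ := by
    ext r
    exact congrArg (fun g => g r) hγC
  have hc : Smooth (Spec.map c) := smooth_Spec_map_C R n
  obtain ⟨m, -, O, hOa, hOs⟩ := exists_finite_affine_refinement (Z := Spec S)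
    (fun _ : Unit => U') (fun _ => π) (fun _ => π.isOpenMap)
    (fun z => ⟨(), Surjective.surj (f := π) z⟩)
  have piece : ∀ j : Fin m, ∃ (C C' : CommRingCat.{u}) (ι : Spec C ⟶ U') (ψ : S ⟶ C)
      (α : P ⟶ C') (β : C' ⟶ C), Set.range ι = (O j : Set U') ∧ Spec.map ψ = ι ≫ π ∧
        α.hom.Etale ∧ IsPushout γ α ψ β ∧ LciMor (Spec.map β) := by
    intro j
    obtain ⟨ψ, hψ⟩ := Spec.map_surjective ((hOa j).fromSpec ≫ π)
    have hψe : ψ.hom.Etale := by
      have : Etale (Spec.map ψ) := by rw [hψ]; infer_instance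
      exact (HasRingHomProperty.Spec_iff (P := @Etale)).1 this
    have hl : LciMor (Spec.map (c ≫ γ ≫ ψ)) := by
      rw [← Category.assoc, hφ, Spec.map_comp, hψ, Category.assoc]
      exact LciMor.comp_mem _ _ (lciMor_of_smooth (hOa j).fromSpec) h
    obtain ⟨C', α, β, hα, po, hβ⟩ := exists_lift_piece c hc γ hγs ψ hψe hl
    exact ⟨_, C', (hOa j).fromSpec, ψ, α, β, (hOa j).range_fromSpec, hψ, hα, po, hβ⟩
  choose C C' ι ψ α β hι hψ hα hpo hβ using piece
  have hi : LciMor (Spec.map γ) := by
    let W : Fin m ⊕ ↥(RingHom.ker γ.hom) → Scheme.{u} :=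
      Sum.elim (fun j => Spec (C' j)) (fun f => Spec (.of (Localization.Away f.1)))
    let cc : ∀ k, W k ⟶ Spec P := fun k => match k with
      | Sum.inl j => Spec.map (α j)
      | Sum.inr f => Spec.map (CommRingCat.ofHom (algebraMap P (Localization.Away f.1)))
    have hEt : ∀ j, Etale (Spec.map (α j)) := fun j =>
      (HasRingHomProperty.Spec_iff (P := @Etale)).2 (hα j)
    refine of_flat_open_family (P := LciMor) (Spec.map γ) W cc ?_ ?_ ?_ ?_
    · rintro (j | f)
      · have := hEt j
        exact inferInstanceAs (Flat (Spec.map (α j)))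
      · exact inferInstanceAs (Flat (Spec.map (CommRingCat.ofHom
          (algebraMap P (Localization.Away f.1)))))
    · rintro (j | f)
      · have := hEt j
        exact inferInstanceAs (UniversallyOpen (Spec.map (α j)))
      · exact inferInstanceAs (UniversallyOpen (Spec.map (CommRingCat.ofHom
          (algebraMap P (Localization.Away f.1)))))
    · intro p
      by_cases hp : RingHom.ker γ.hom ≤ p.asIdeal
      · have hp' : (p : PrimeSpectrum P) ∈ Set.range (PrimeSpectrum.comap γ.hom) := by
          have h0 := _root_.range_comap_of_surjective S γ.hom hγs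
          rw [h0]
          exact hp
        obtain ⟨s, hs⟩ := hp'
        obtain ⟨j, u', hu', hπ⟩ := hOs s
        have hu'' : u' ∈ Set.range (ι j) := by rw [hι j]; exact hu'
        obtain ⟨w, hw⟩ := hu''
        refine ⟨Sum.inl j, Spec.map (β j) w, ?_⟩
        change (Spec.map (β j) ≫ Spec.map (α j)) w = p
        rw [← Spec.map_comp, ← (hpo j).w, Spec.map_comp, hψ j, Category.assoc,
          Scheme.Hom.comp_apply, Scheme.Hom.comp_apply, hw, hπ]
        exact hs
      · obtain ⟨f, hfk, hfp⟩ := Set.not_subset.1 hp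
        refine ⟨Sum.inr ⟨f, hfk⟩, ?_⟩
        change p ∈ Set.range (PrimeSpectrum.comap (algebraMap P (Localization.Away f)))
        rw [PrimeSpectrum.localization_away_comap_range _ f]
        exact hfp
    · rintro (j | f)
      · have sq := isPullback_SpecMap_of_isPushout γ (α j) (ψ j) (β j) (hpo j)
        have h1 : pullback.snd (Spec.map γ) (Spec.map (α j)) = (sq.isoPullback).inv ≫
            Spec.map (β j) := by
          rw [Iso.eq_inv_comp, IsPullback.isoPullback_hom_snd]
        change LciMor (pullback.snd (Spec.map γ) (Spec.map (α j)))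
        rw [h1]
        exact (LciMor.cancel_left_of_respectsIso _ _).2 (hβ j)
      · have := isEmpty_pullback_away γ f.1 f.2
        change LciMor (pullback.snd (Spec.map γ)
          (Spec.map (CommRingCat.ofHom (algebraMap P (Localization.Away f.1)))))
        exact lciMor_of_isEmpty _
  rw [← hφ, Spec.map_comp]
  exact LciMor.comp_mem _ _ hi (lciMor_of_smooth _)

end Groth.Agent.Lib.Helper15.LciSp
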