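import Groth.Agent.Lib.Helper15.LciSp3

set_option autoImplicit false
universe u
open CategoryTheory CategoryTheory.Limits AlgebraicGeometry Opposite MorphismProperty

namespace Groth.Agent.Lib.Helper15.LciSp

open Groth.Agent.Lib.Helper3 Groth.Agent.Lib.Helper5.Lci

theorem lciMor_of_precomp_affine {U' U V : Scheme.{u}} [IsAffine U] [IsAffine V] (π : U' ⟶ U)
    (g : U ⟶ V) [Etale π] [Surjective π] (h : LciMor (π ≫ g)) : LciMor g := by
  rw [LciMor.arrow_mk_iso_iff (arrowIsoSpecΓOfIsAffine g)]
  refine lciMor_SpecMap_of_precomp g.appTop (π ≫ U.isoSpec.hom) ?_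
  rw [Category.assoc, Scheme.isoSpec_hom_naturality, ← Category.assoc]
  exact (LciMor.cancel_right_of_respectsIso _ _).2 h

/-- (F8) Etale descent on the source for local complete intersection morphisms. -/
theorem lciMor_of_precomp_etale_surjective {U' U V : Scheme.{u}} (π : U' ⟶ U) (g : U ⟶ V)
    [Etale π] [Surjective π] (h : LciMor (π ≫ g)) : LciMor g := by
  rw [IsZariskiLocalAtTarget.iff_of_openCover (P := LciMor) V.affineCover]
  intro k
  change LciMor (pullback.snd g (V.affineCover.f k))
  rw [IsZariskiLocalAtSource.iff_of_openCover (P := LciMor)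
    (pullback g (V.affineCover.f k)).affineCover]
  intro l
  -- the affine pieces
  let A := (pullback g (V.affineCover.f k)).affineCover.X l
  let a : A ⟶ pullback g (V.affineCover.f k) := (pullback g (V.affineCover.f k)).affineCover.f l
  let a' : A ⟶ U := a ≫ pullback.fst g (V.affineCover.f k)
  have ha' : IsOpenImmersion a' := inferInstance
  -- base change of `π` to `A`
  have sq := IsPullback.of_hasPullback π a'
  have hπ' : Etale (pullback.snd π a') := inferInstance
  have hπs : Surjective (pullback.snd π a') := inferInstance
  change LciMor (a ≫ pullback.snd g (V.affineCover.f k))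
  haveI : IsAffine A := inferInstanceAs (IsAffine ((pullback g (V.affineCover.f k)).affineCover.X l))
  haveI : IsAffine (V.affineCover.X k) := inferInstance
  refine lciMor_of_precomp_affine (pullback.snd π a') _ ?_
  -- cancel the open immersion of the target
  refine lciMor_of_comp_smooth _ (V.affineCover.f k) ?_
  have e : (pullback.snd π a' ≫ a ≫ pullback.snd g (V.affineCover.f k)) ≫ V.affineCover.f k =
      pullback.fst π a' ≫ π ≫ g := by
    rw [Category.assoc, Category.assoc, ← pullback.condition, ← Category.assoc a,
      ← Category.assoc (pullback.snd π a'), ← sq.w, Category.assoc]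
  rw [e]
  exact LciMor.comp_mem _ _ (lciMor_of_smooth _) h

end Groth.Agent.Lib.Helper15.LciSp
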