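import Groth.Agent.Lib.Helper15.LciSp4
import Groth.Agent.Lib.Helper3.AlgSpLocP3
import Groth.Agent.Lib.Helper3.AlgSpSmLocal
import Groth.Agent.Lib.Helper3.SmoothEt6
import Groth.Prelude.Def_AlgSpMor6

set_option autoImplicit false
universe u
open CategoryTheory CategoryTheory.Limits AlgebraicGeometry Opposite MorphismProperty

namespace Groth.Agent.Lib.Helper15.LciSp

open Groth.Agent.Lib.Helper3 Groth.Agent.Lib.Helper5.Lci AlgSp

/-- A weak form of `IsEtLocal`, without stability under base change. -/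
structure IsEtLocalW (P : MorphismProperty Scheme.{u}) : Prop where
  comp_mem : ∀ {X Y Z : Scheme.{u}} (f : X ⟶ Y) (g : Y ⟶ Z), P f → P g → P (f ≫ g)
  etale_le : ∀ {X Y : Scheme.{u}} (f : X ⟶ Y), Etale f → P f
  of_postcomp_etale : ∀ {X Y Z : Scheme.{u}} (a : X ⟶ Y) (b : Y ⟶ Z), Etale b → P (a ≫ b) → P a
  of_comp : ∀ {U' U V : Scheme.{u}} (π : U' ⟶ U) (g : U ⟶ V), Etale π → Surjective π →
    P (π ≫ g) → P g

variable {S : Scheme.{u}}

/-- One chart diagram with surjective source chart suffices to check `LocP P`. -/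
theorem locP_of_chart_w {P : MorphismProperty Scheme.{u}} (hP : IsEtLocalW P) {X Y : Sp S}
    (f : X ⟶ Y) {U V : Over S} (a : (yon S).obj U ⟶ X) (hae : RepWith @Etale a)
    (has : RepWith @Surjective a) (b : (yon S).obj V ⟶ Y) (hbe : RepWith @Etale b) (h : U ⟶ V)
    (w : a ≫ f = (yon S).map h ≫ b) (hh : P h.left) : LocP P f := by
  intro U' V' a' b' h' ha' hb' w'
  have sqW := hae.rep.isPullback a'
  have hsWe : Etale (hae.rep.snd a').left := hae.property_snd a'
  have hsWs : Surjective (hae.rep.snd a').left := has.property a' _ _ sqW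
  obtain ⟨φ, hφ⟩ := (yon S).map_surjective (hae.rep.fst a')
  rw [← hφ] at sqW
  have hφe : Etale φ.left := ha'.property a _ _ sqW.flip
  have sqV := hbe.rep.isPullback b'
  have hsVe : Etale (hbe.rep.snd b').left := hbe.property_snd b'
  obtain ⟨ψ, hψ⟩ := (yon S).map_surjective (hbe.rep.fst b')
  rw [← hψ] at sqV
  have hψe : Etale ψ.left := hb'.property b _ _ sqV.flip
  have hcomm : (yon S).map (φ ≫ h) ≫ b = (yon S).map (hae.rep.snd a' ≫ h') ≫ b' := by
    rw [Functor.map_comp, Functor.map_comp, Category.assoc, ← w, ← Category.assoc, sqW.w,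
      Category.assoc, w', Category.assoc]
  obtain ⟨w₀, hw₀⟩ := (yon S).map_surjective (sqV.lift _ _ hcomm)
  have e1 : w₀ ≫ ψ = φ ≫ h := by
    apply (yon S).map_injective
    rw [Functor.map_comp, hw₀, sqV.lift_fst]
  have e2 : w₀ ≫ hbe.rep.snd b' = hae.rep.snd a' ≫ h' := by
    apply (yon S).map_injective
    rw [Functor.map_comp, hw₀, sqV.lift_snd]
  have h1 : P (φ.left ≫ h.left) := hP.comp_mem _ _ (hP.etale_le _ hφe) hh
  have h2 : P (w₀.left ≫ ψ.left) := by
    rw [← Over.comp_left, e1, Over.comp_left]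
    exact h1
  have h3 : P w₀.left := hP.of_postcomp_etale _ ψ.left hψe h2
  have h4 : P (w₀.left ≫ (hbe.rep.snd b').left) := hP.comp_mem _ _ h3 (hP.etale_le _ hsVe)
  rw [← Over.comp_left, e2, Over.comp_left] at h4
  exact hP.of_comp _ _ hsWe hsWs h4

theorem lci_iff {X Y : Scheme.{u}} (f : X ⟶ Y) : AlgSp.lci f ↔ LciMor f := algSp_lci_iff f

theorem isEtLocalW_lci : IsEtLocalW AlgSp.lci.{u} where
  comp_mem f g hf hg := by
    rw [lci_iff] at hf hg ⊢
    exact LciMor.comp_mem _ _ hf hg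
  etale_le f hf := by
    rw [lci_iff]
    exact lciMor_of_smooth f
  of_postcomp_etale a b hb h := by
    rw [lci_iff] at h ⊢
    exact lciMor_of_comp_smooth a b h
  of_comp π g hπ hs h := by
    rw [lci_iff] at h ⊢
    exact lciMor_of_precomp_etale_surjective π g h

end Groth.Agent.Lib.Helper15.LciSp
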