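import Groth.Agent.Lib.Helper15.LciSp5
import Groth.Agent.Lib.Helper3.AlgSpLocBase
import Groth.Agent.Lib.Helper3.AlgSpChartPts

set_option autoImplicit false
universe u
open CategoryTheory CategoryTheory.Limits AlgebraicGeometry Opposite MorphismProperty

namespace Groth.Agent.Lib.Helper15.LciSp

open Groth.Agent.Lib.Helper3 Groth.Agent.Lib.Helper5.Lci AlgSp

/-- (SCF) Descent of `LciMor` along a flat morphism to an affine scheme admitting a section
étale-locally on the base. -/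
theorem lciMor_of_flat_etale_section {T W E W' : Scheme.{u}} [IsAffine W] (k : T ⟶ W) (ρ : E ⟶ W)
    [Flat ρ] (π : W' ⟶ W) [Etale π] [Surjective π] (s : W' ⟶ E) (hs : s ≫ ρ = π)
    {A : Scheme.{u}} (a : A ⟶ T) (b : A ⟶ E) (sq : IsPullback a b k ρ) (hb : LciMor b) :
    LciMor k := by
  classical
  have hO : ∀ w' : W', ∃ O : E.Opens, IsAffineOpen O ∧ s w' ∈ O := fun w' => by
    obtain ⟨_, ⟨O, hO, rfl⟩, hy', -⟩ := E.isBasis_affineOpens.exists_subset_of_mem_open
      (Set.mem_univ (s w')) isOpen_univ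
    exact ⟨O, hO, hy'⟩
  choose O hOa hsO using hO
  have hπo : IsOpenMap π := π.isOpenMap
  obtain ⟨F, hF⟩ := isCompact_univ.elim_finite_subcover
    (fun w' : W' => π '' (s ⁻¹' (O w' : Set E)))
    (fun w' => hπo _ ((O w').isOpen.preimage s.continuous))
    (fun z _ => by
      obtain ⟨w', rfl⟩ := π.surjective z
      exact Set.mem_iUnion.2 ⟨w', w', hsO w', rfl⟩)
  let e := F.equivFin
  haveI : ∀ j : Fin F.card, IsAffine ((O (e.symm j).1 : E.Opens) : Scheme.{u}) :=
    fun j => hOa _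
  refine of_stdFpqc_family' (P := LciMor) k (fun j : Fin F.card => ((O (e.symm j).1 : E.Opens) : Scheme.{u}))
    (fun j => (O (e.symm j).1).ι ≫ ρ) (fun j => inferInstance) ?_ ?_
  · intro z
    obtain ⟨w', hw', w'', hw'', rfl⟩ := Set.mem_iUnion₂.1 (hF (Set.mem_univ z))
    refine ⟨e ⟨w', hw'⟩, ?_⟩
    beta_reduce
    rw [Equiv.symm_apply_apply]
    refine ⟨⟨s w'', hw''⟩, ?_⟩
    rw [Scheme.Hom.comp_apply, Scheme.Opens.ι_apply, ← Scheme.Hom.comp_apply, hs]
  · intro j
    refine ⟨pullback ((O (e.symm j).1).ι ≫ ρ) k, pullback.fst _ _, pullback.snd _ _,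
      IsPullback.of_hasPullback _ _, ?_⟩
    -- base change of `b` along the open immersion
    have hw : pullback.snd ((O (e.symm j).1).ι ≫ ρ) k ≫ k =
        (pullback.fst ((O (e.symm j).1).ι ≫ ρ) k ≫ (O (e.symm j).1).ι) ≫ ρ := by
      rw [Category.assoc, pullback.condition]
    have sq1 : IsPullback (sq.lift _ _ hw) (pullback.fst ((O (e.symm j).1).ι ≫ ρ) k) b
        (O (e.symm j).1).ι := by
      refine IsPullback.of_right ?_ (sq.lift_snd _ _ hw) sq
      rw [sq.lift_fst]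
      exact (IsPullback.of_hasPullback _ _).flip
    exact lciMor_of_isPullback_flat sq1 hb


variable {S : Scheme.{u}}

/-- Stability under flat base change. -/
def FlatBC (P : MorphismProperty Scheme.{u}) : Prop :=
  ∀ {X Y X' Y' : Scheme.{u}} {f : X ⟶ Y} {g : Y' ⟶ Y} {fst : X' ⟶ X} {f' : X' ⟶ Y'},
    IsPullback fst f' f g → Flat g → P f → P f'

theorem flatBC_lci : FlatBC AlgSp.lci.{u} := by
  intro X Y X' Y' f g fst f' sq hg hf
  rw [lci_iff] at hf ⊢
  haveI := hg
  exact lciMor_of_isPullback_flat sq hf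

section W

variable {P : MorphismProperty Scheme.{u}} (hP : IsEtLocalW P)
include hP

/-- `LocP P` can be checked after base change along a surjective etale chart of the target. -/
theorem locP_of_target_cover_w {X Y : Sp S} (hX : IsAlgSpace X) (hY : IsAlgSpace Y) (f : X ⟶ Y)
    {V : Over S} (p : (yon S).obj V ⟶ Y) (hpe : RepWith @Etale p) (hps : RepWith @Surjective p)
    {Q : Sp S} (fst : Q ⟶ X) (snd : Q ⟶ (yon S).obj V) (sq : IsPullback fst snd f p)
    (h : LocP P snd) : LocP P f := by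
  have hQ : IsAlgSpace Q := isAlgSpace_of_isPullback' hY hX (IsAlgSpace.yon_obj V) sq
  obtain ⟨U, u, hue, hus⟩ := hQ.atlas
  obtain ⟨k, hk⟩ := (yon S).map_surjective (u ≫ snd)
  have hfe : RepWith @Etale fst := MorphismProperty.of_isPullback sq.flip hpe
  have hfs : RepWith @Surjective fst := MorphismProperty.of_isPullback sq.flip hps
  have hk' : P k.left := h u (𝟙 _) k hue (repWith_id _ V) (by rw [hk, Category.comp_id])
  refine locP_of_chart_w hP f (u ≫ fst) (MorphismProperty.comp_mem _ _ _ hue hfe)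
    (MorphismProperty.comp_mem _ _ _ hus hfs) p hpe k ?_ hk'
  rw [hk, Category.assoc, Category.assoc, sq.w]

/-- Base change of `LocP P` along a flat morphism from a scheme factoring through an atlas. -/
theorem locP_of_isPullback_chart_w (hfb : FlatBC P) {X Y : Sp S} (hX : IsAlgSpace X)
    (hY : IsAlgSpace Y) (f : X ⟶ Y)
    (hf : LocP P f) {W V' : Over S} (c : (yon S).obj W ⟶ Y) (hce : RepWith @Etale c)
    (l : V' ⟶ W) (hl : Flat l.left) {Q : Sp S} (fstQ : Q ⟶ X) (q : Q ⟶ (yon S).obj V')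
    (sqQ : IsPullback fstQ q f ((yon S).map l ≫ c)) : LocP P q := by
  obtain ⟨U, u, h, hue, hus, hae, -, hh, hcomm⟩ := exists_chart_over hX hY f c hce
  have hPh : P h.left := hf _ _ h hae hce hcomm
  obtain ⟨t, hte, hts, ht2, -⟩ := exists_chart_base_change f c u h hue hus hh l fstQ q sqQ
  have sq3 : IsPullback (pullback.fst h l).left (pullback.snd h l).left h.left l.left :=
    (IsPullback.of_hasPullback h l).map (Over.forget S)
  have hPt : P (pullback.snd h l).left := hfb sq3 hl hPh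
  exact locP_of_chart_w hP q t hte hts (𝟙 _) (repWith_id _ V') (pullback.snd h l)
    (by rw [ht2, Category.comp_id]) hPt

/-- `LocP P` is stable under base change along flat morphisms of algebraic spaces. -/
theorem locP_of_isPullback_flat (hfb : FlatBC P) {X Y Y' X' : Sp S} (hX : IsAlgSpace X)
    (hY : IsAlgSpace Y) (hY' : IsAlgSpace Y') (hX' : IsAlgSpace X') (f : X ⟶ Y) (g : Y' ⟶ Y)
    (fst : X' ⟶ X) (f' : X' ⟶ Y') (sq : IsPullback fst f' f g) (hg : LocP @Flat g)
    (hf : LocP P f) : LocP P f' := by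
  obtain ⟨W, c, hce, hcs⟩ := hY.atlas
  obtain ⟨V', v, l, -, -, hbe, hbs, -, hl⟩ := exists_chart_over hY' hY g c hce
  have hlf : Flat l.left := hg _ _ l hbe hce hl
  have sqA := IsPullback.of_hasPullback f' (v ≫ pullback.fst g c)
  have sqB := sqA.paste_horiz sq
  rw [hl] at sqB
  have hq : LocP P (pullback.snd f' (v ≫ pullback.fst g c)) :=
    locP_of_isPullback_chart_w hP hfb hX hY f hf c hce l hlf _ _ sqB
  exact locP_of_target_cover_w hP hX' hY' f' _ hbe (hbs hcs) _ _ sqA hq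

end W

theorem etale_le_flat : (@Etale.{u}) ≤ @Flat := fun _ _ k hk => by
  have : Etale k := hk
  infer_instance

/-- Key step: the chart of `f` over a flat affine `d : W ⟶ V` lifting to `Y'`. -/
theorem lciMor_chart_of_lift {X Y Y' X' : Sp S} (hX : IsAlgSpace X) (hY : IsAlgSpace Y)
    (hY' : IsAlgSpace Y') (hX' : IsAlgSpace X') (f : X ⟶ Y) (g : Y' ⟶ Y) (qq : X' ⟶ X)
    (p : X' ⟶ Y') (sq : IsPullback qq p f g) (hg : LocP @Flat g) (hp : LocP AlgSp.lci p)
    {V U W : Over S} (b : (yon S).obj V ⟶ Y) (hbe : RepWith @Etale b)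
    (u : (yon S).obj U ⟶ pullback f b) (h : U ⟶ V) (hue : RepWith @Etale u)
    (hus : RepWith @Surjective u) (hh : (yon S).map h = u ≫ pullback.snd f b)
    (d : W ⟶ V) (hW : IsAffine W.left) (hd : Flat d.left) (l : (yon S).obj W ⟶ Y')
    (hl : l ≫ g = (yon S).map d ≫ b) :
    LciMor (pullback.snd h d).left := by
  have hwf : LocP @Flat ((yon S).map d ≫ b) :=
    locP_comp isEtLocal_flat (IsAlgSpace.yon_obj W) (IsAlgSpace.yon_obj V) hY _ _
      (locP_of_repWith isEtLocal_flat _ ((repWith_yon_map_iff _ d).2 hd))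
      (locP_of_repWith isEtLocal_flat _ (repWith_mono etale_le_flat hbe))
  have sqE := IsPullback.of_hasPullback ((yon S).map d ≫ b) g
  have hE : IsAlgSpace (pullback ((yon S).map d ≫ b) g) :=
    isAlgSpace_of_isPullback' hY (IsAlgSpace.yon_obj W) hY' sqE
  set pr₁ := pullback.fst ((yon S).map d ≫ b) g with hpr₁
  set pr₂ := pullback.snd ((yon S).map d ≫ b) g with hpr₂
  have hpr1 : LocP @Flat pr₁ :=
    locP_of_isPullback isEtLocal_flat hY' hY (IsAlgSpace.yon_obj W) hE g _ pr₂ pr₁ sqE.flip hg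
  have hpr2 : LocP @Flat pr₂ :=
    locP_of_isPullback isEtLocal_flat (IsAlgSpace.yon_obj W) hY hY' hE _ g pr₁ pr₂ sqE hwf
  let σ : (yon S).obj W ⟶ pullback ((yon S).map d ≫ b) g :=
    pullback.lift (𝟙 _) l (by rw [Category.id_comp, hl])
  have hσ1 : σ ≫ pr₁ = 𝟙 _ := pullback.lift_fst _ _ _
  obtain ⟨E', e, hee, hes⟩ := hE.atlas
  obtain ⟨W', pE, pW, sqT⟩ := exists_pullback_charts e hee.1 σ
  have hpWe : Etale pW.left := hee.2 σ ((yon S).map pE) pW sqT
  have hpWs : Surjective pW.left := hes.2 σ ((yon S).map pE) pW sqT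
  obtain ⟨ρ, hρ⟩ := (yon S).map_surjective (e ≫ pr₁)
  have hcomm : pE ≫ ρ = pW := by
    apply (yon S).map_injective
    rw [Functor.map_comp, hρ, ← Category.assoc, sqT.w, Category.assoc, hσ1, Category.comp_id]
  have hρf : Flat ρ.left := hpr1 e (𝟙 _) ρ hee (repWith_id _ W) (by rw [hρ, Category.comp_id])
  have sqQ := IsPullback.of_hasPullback f ((yon S).map (ρ ≫ d) ≫ b)
  have hQ : IsAlgSpace (pullback f ((yon S).map (ρ ≫ d) ≫ b)) :=
    isAlgSpace_of_isPullback' hY hX (IsAlgSpace.yon_obj E') sqQ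
  have hfac : (yon S).map (ρ ≫ d) ≫ b = (e ≫ pr₂) ≫ g := by
    have e1 : pr₁ ≫ (yon S).map d ≫ b = pr₂ ≫ g := pullback.condition
    rw [Functor.map_comp, hρ, Category.assoc, Category.assoc, Category.assoc, e1]
  have hw' : pullback.fst f ((yon S).map (ρ ≫ d) ≫ b) ≫ f =
      (pullback.snd f ((yon S).map (ρ ≫ d) ≫ b) ≫ e ≫ pr₂) ≫ g := by
    rw [Category.assoc, ← hfac, pullback.condition]
  have sqL : IsPullback (sq.lift _ _ hw') (pullback.snd f ((yon S).map (ρ ≫ d) ≫ b)) p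
      (e ≫ pr₂) := by
    refine IsPullback.of_right ?_ (sq.lift_snd _ _ hw') sq
    rw [sq.lift_fst, ← hfac]
    exact sqQ
  have hepr2 : LocP @Flat (e ≫ pr₂) :=
    locP_comp isEtLocal_flat (IsAlgSpace.yon_obj E') hE hY' _ _
      (locP_of_repWith isEtLocal_flat _ (repWith_mono etale_le_flat hee)) hpr2
  have hq : LocP AlgSp.lci (pullback.snd f ((yon S).map (ρ ≫ d) ≫ b)) :=
    locP_of_isPullback_flat isEtLocalW_lci flatBC_lci hX' hY' (IsAlgSpace.yon_obj E') hQ p
      (e ≫ pr₂) _ _ sqL hepr2 hp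
  obtain ⟨t, hte, -, ht2, -⟩ := exists_chart_base_change f b u h hue hus hh (ρ ≫ d) _ _ sqQ
  have hPt : AlgSp.lci (pullback.snd h (ρ ≫ d)).left :=
    hq t (𝟙 _) (pullback.snd h (ρ ≫ d)) hte (repWith_id _ E') (by rw [ht2, Category.comp_id])
  rw [lci_iff] at hPt
  -- the pasting square in `Over S`
  have hwA : pullback.fst h (ρ ≫ d) ≫ h = (pullback.snd h (ρ ≫ d) ≫ ρ) ≫ d := by
    rw [Category.assoc, pullback.condition]
  have sqA : IsPullback (pullback.lift _ _ hwA) (pullback.snd h (ρ ≫ d)) (pullback.snd h d) ρ := by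
    refine IsPullback.of_right ?_ (pullback.lift_snd _ _ hwA) (IsPullback.of_hasPullback h d)
    rw [pullback.lift_fst]
    exact IsPullback.of_hasPullback h (ρ ≫ d)
  have sqS := sqA.map (Over.forget S)
  haveI := hW
  haveI := hρf
  haveI := hpWe
  haveI := hpWs
  have hs : pE.left ≫ ρ.left = pW.left := by rw [← Over.comp_left, hcomm]
  exact lciMor_of_flat_etale_section (pullback.snd h d).left ρ.left pW.left pE.left hs _ _ sqS hPt

section Main

variable {ι : Type u} {X Y : Sp S} {Yi : ι → Sp S} {g : ∀ i, Yi i ⟶ Y} {f : X ⟶ Y}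
  {Xi : ι → Sp S} {p : ∀ i, Xi i ⟶ Yi i} {q : ∀ i, Xi i ⟶ X}

theorem locP_lci_of_stdRefinement (hX : IsAlgSpace X) (hY : IsAlgSpace Y)
    (hYi : ∀ i, IsAlgSpace (Yi i)) (hXi : ∀ i, IsAlgSpace (Xi i))
    (hfl : ∀ i, LocP @Flat (g i))
    (hcov : HasStdRefinement Yi g) (sq : ∀ i, IsPullback (q i) (p i) f (g i))
    (hp : ∀ i, LocP AlgSp.lci (p i)) : LocP AlgSp.lci f := by
  obtain ⟨V, b, hbe, hbs⟩ := hY.atlas
  obtain ⟨U, u, h, hue, hus, hae, has, hh, hcomm⟩ := exists_chart_over hX hY f b hbe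
  refine locP_of_chart_w isEtLocalW_lci f _ hae (has hbs) b hbe h hcomm ?_
  rw [lci_iff]
  refine of_stdFpqc_family_affineOpens' (P := LciMor) h.left ?_
  intro Z hZ ι₀ _
  let Zo : Over S := Over.mk (ι₀ ≫ V.hom)
  let ιo : Zo ⟶ V := Over.homMk ι₀ rfl
  obtain ⟨m, W, c, hWa, hcf, hcs, hl⟩ := hcov Zo hZ ((yon S).map ιo ≫ b)
  refine ⟨m, fun j => (W j).left, fun j => (c j).left, hWa, hcf, hcs, fun j => ?_⟩
  obtain ⟨i, l, hl⟩ := hl j
  have hl' : l ≫ g i = (yon S).map (c j ≫ ιo) ≫ b := by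
    rw [hl, Functor.map_comp, Category.assoc]
  have sq3 : IsPullback (pullback.fst h (c j ≫ ιo)).left (pullback.snd h (c j ≫ ιo)).left h.left
      (c j ≫ ιo).left := (IsPullback.of_hasPullback h (c j ≫ ιo)).map (Over.forget S)
  have hd : Flat (c j ≫ ιo).left := by
    haveI := hcf j
    rw [Over.comp_left]
    change Flat ((c j).left ≫ ι₀)
    infer_instance
  exact ⟨_, _, _, sq3.flip, lciMor_chart_of_lift hX hY (hYi i) (hXi i) f (g i) (q i) (p i) (sq i)
    (hfl i) (hp i) b hbe u h hue hus hh (c j ≫ ιo) (hWa j) hd l hl'⟩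

theorem isLocalOnBase_fpqc_lci : IsLocalOnBase (IsFpqcCover (S := S)) IsLCIMor := by
  intro ι Y Yi g hY hYi hcov X f hX Xi p q hXi sq
  constructor
  · intro hf i
    exact locP_of_isPullback_flat isEtLocalW_lci flatBC_lci hX hY (hYi i) (hXi i) f (g i) (q i)
      (p i) (sq i) (hcov.1 i) hf
  · intro hp
    exact locP_lci_of_stdRefinement hX hY hYi hXi hcov.1 hcov.2 sq hp

end Main

end Groth.Agent.Lib.Helper15.LciSp
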