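import Groth.Agent.Lib.Helper15.EtaleField

set_option autoImplicit false
set_option backward.isDefEq.respectTransparency.types false
universe u
open CategoryTheory CategoryTheory.Limits AlgebraicGeometry AlgSp

namespace Groth.Agent.Lib.Helper15.LiftDiscrete

open Groth.Agent.Lib.Helper3 Groth.Agent.Lib.Helper15.EtaleField

/-- a ring map to a reduced ring all of whose primes contract to `p` factors through `κ(p)`. -/
theorem exists_lift_residueField {A B : Type u} [CommRing A] [CommRing B] [IsReduced B]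
    (φ : A →+* B) (p : Ideal A) [p.IsPrime]
    (h : ∀ q : PrimeSpectrum B, q.asIdeal.comap φ = p) :
    ∃ ψ : p.ResidueField →+* B, ψ.comp (algebraMap A p.ResidueField) = φ := by
  have hf₁ : p ≤ RingHom.ker φ := by
    intro a ha
    rw [RingHom.mem_ker]
    apply IsReduced.eq_zero
    rw [nilpotent_iff_mem_prime]
    intro J hJ
    have := h ⟨J, hJ⟩
    have ha' : a ∈ (Ideal.comap φ J) := by rw [this]; exact ha
    exact ha'
  have hf₂ : p.primeCompl ≤ (IsUnit.submonoid B).comap φ := by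
    intro a ha
    change IsUnit (φ a)
    by_contra hnu
    obtain ⟨m, hm, ham⟩ := exists_max_ideal_of_mem_nonunits hnu
    have := h ⟨m, hm.isPrime⟩
    apply ha
    change a ∈ p
    rw [← this]
    exact ham
  refine ⟨Ideal.ResidueField.lift p φ hf₁ hf₂, ?_⟩
  ext a
  exact Ideal.ResidueField.lift_algebraMap p φ hf₁ hf₂ a

/-- a nonempty scheme with a monomorphism to the spectrum of a field is isomorphic to it. -/
theorem isIso_of_mono_to_field_of_nonempty {L : Type u} [Field L] {Y : Scheme.{u}}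
    (f : Y ⟶ Spec (CommRingCat.of L)) [Mono f] [hY : Nonempty ↥Y] : IsIso f := by
  haveI := isOpenImmersion_of_mono_to_field f
  haveI : Surjective f := ⟨fun y => by
    obtain ⟨z⟩ := hY
    exact ⟨z, Subsingleton.elim _ _⟩⟩
  exact (isIso_iff_isOpenImmersion_and_epi_base f).2 ⟨inferInstance, by
    rw [TopCat.epi_iff_surjective]; exact f.surjective⟩

/-- a field point lifts through a monomorphic field point with the same image. -/
theorem exists_lift_of_mono_field {U : Scheme.{u}} {L₁ L₂ : Type u} [Field L₁] [Field L₂]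
    (j₁ : Spec (CommRingCat.of L₁) ⟶ U) [Mono j₁] (j₂ : Spec (CommRingCat.of L₂) ⟶ U)
    (h : ∃ s₁ s₂, j₁ s₁ = j₂ s₂) :
    ∃ m : Spec (CommRingCat.of L₂) ⟶ Spec (CommRingCat.of L₁), m ≫ j₁ = j₂ := by
  haveI : Mono (pullback.fst j₂ j₁) := inferInstance
  haveI hne : Nonempty ↥(pullback j₂ j₁) := by
    obtain ⟨s₁, s₂, hs⟩ := h
    obtain ⟨z, -, -⟩ := Scheme.Pullback.exists_preimage_pullback s₂ s₁ hs.symm
    exact ⟨z⟩
  haveI : IsIso (pullback.fst j₂ j₁) := isIso_of_mono_to_field_of_nonempty _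
  refine ⟨inv (pullback.fst j₂ j₁) ≫ pullback.snd j₂ j₁, ?_⟩
  rw [Category.assoc, ← pullback.condition, IsIso.inv_hom_id_assoc]

end Groth.Agent.Lib.Helper15.LiftDiscrete

namespace Groth.Agent.Lib.Helper15.LiftDiscrete

open Groth.Agent.Lib.Helper3 Groth.Agent.Lib.Helper15.EtaleField

/-- local lifting: a reduced scheme mapping into the (locally discrete) image of a monomorphism
`E ⟶ U` with `E` etale over a field lifts to `E` near each point. -/
theorem exists_local_lift {U E V : Scheme.{u}} {κ : Type u} [Field κ] (eU : E ⟶ U) [Mono eU]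
    (eK : E ⟶ Spec (CommRingCat.of κ)) [Etale eK] [IsReduced V] (g : V ⟶ U) (v : ↥V)
    (O : U.Opens) (hvO : g v ∈ O) (hO : ∀ u ∈ O, u ∈ Set.range eU → u = g v)
    (hg : ∀ v', g v' ∈ Set.range eU) :
    ∃ (N : V.Opens) (l : (N : Scheme.{u}) ⟶ E), v ∈ N ∧ l ≫ eU = N.ι ≫ g := by
  obtain ⟨ε, hε⟩ := hg v
  obtain ⟨L, _, jL, hjL, ⟨s₁, hs₁⟩⟩ := exists_field_open_nhd eK ε
  haveI : Mono (jL ≫ eU) := mono_comp _ _
  -- affine neighbourhoods
  obtain ⟨_, ⟨U₀, hU₀, rfl⟩, huU₀, hU₀O⟩ :=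
    U.isBasis_affineOpens.exists_subset_of_mem_open hvO O.isOpen
  obtain ⟨_, ⟨N, hN, rfl⟩, hvN, hNU₀⟩ :=
    V.isBasis_affineOpens.exists_subset_of_mem_open
      (show v ∈ ((g ⁻¹ᵁ U₀ : V.Opens) : Set ↥V) from huU₀) (g ⁻¹ᵁ U₀).isOpen
  have e : N ≤ g ⁻¹ᵁ U₀ := hNU₀
  let p₀ : PrimeSpectrum Γ(U, U₀) := hU₀.primeIdealOf ⟨g v, huU₀⟩
  have hsq : Spec.map (g.appLE U₀ N e) ≫ hU₀.fromSpec = hN.fromSpec ≫ g :=
    hU₀.SpecMap_appLE_fromSpec g hN e
  have hinj : Function.Injective hU₀.fromSpec := hU₀.fromSpec.isOpenEmbedding.injective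
  have hpt : ∀ q : ↥(Spec Γ(V, N)), Spec.map (g.appLE U₀ N e) q = p₀ := by
    intro q
    apply hinj
    have h1 : hU₀.fromSpec (Spec.map (g.appLE U₀ N e) q) = g (hN.fromSpec q) := by
      have := congrArg (fun f => f q) hsq
      simpa using this
    rw [h1, hU₀.fromSpec_primeIdealOf]
    refine hO _ (hU₀O ?_) (hg _)
    rw [← h1]
    have : hU₀.fromSpec (Spec.map (g.appLE U₀ N e) q) ∈ Set.range hU₀.fromSpec := ⟨_, rfl⟩
    rw [hU₀.range_fromSpec] at this
    exact this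
  haveI : p₀.asIdeal.IsPrime := p₀.2
  obtain ⟨ψ, hψ⟩ := exists_lift_residueField (g.appLE U₀ N e).hom p₀.asIdeal (by
    intro q
    have := congrArg PrimeSpectrum.asIdeal (hpt q)
    exact this)
  let j₂ : Spec (CommRingCat.of p₀.asIdeal.ResidueField) ⟶ U :=
    Spec.map (CommRingCat.ofHom (algebraMap Γ(U, U₀) p₀.asIdeal.ResidueField)) ≫ hU₀.fromSpec
  have hψ' : Spec.map (CommRingCat.ofHom ψ) ≫
      Spec.map (CommRingCat.ofHom (algebraMap Γ(U, U₀) p₀.asIdeal.ResidueField)) =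
      Spec.map (g.appLE U₀ N e) := by
    rw [← Spec.map_comp, ← CommRingCat.ofHom_comp, hψ]
    rfl
  have hfac : Spec.map (CommRingCat.ofHom ψ) ≫ j₂ = hN.fromSpec ≫ g := by
    rw [← hsq, ← hψ', Category.assoc]
  obtain ⟨m, hm⟩ := exists_lift_of_mono_field (jL ≫ eU) j₂ (by
    let qv : ↥(Spec Γ(V, N)) := hN.primeIdealOf ⟨v, hvN⟩
    refine ⟨s₁, Spec.map (CommRingCat.ofHom ψ) qv, ?_⟩
    have h2 : j₂ (Spec.map (CommRingCat.ofHom ψ) qv) = g (hN.fromSpec qv) := by
      have := congrArg (fun f => f qv) hfac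
      simpa using this
    rw [h2, hN.fromSpec_primeIdealOf]
    change eU (jL s₁) = g v
    rw [hs₁, hε])
  refine ⟨N, hN.isoSpec.hom ≫ Spec.map (CommRingCat.ofHom ψ) ≫ m ≫ jL, hvN, ?_⟩
  rw [Category.assoc, Category.assoc, Category.assoc, hm, hfac]
  rw [IsAffineOpen.fromSpec, Category.assoc, Iso.hom_inv_id_assoc]

/-- **Lifting through a monomorphism with discrete image.** -/
theorem exists_lift_of_discrete_range {U E V : Scheme.{u}} {κ : Type u} [Field κ] (eU : E ⟶ U)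
    [Mono eU] (eK : E ⟶ Spec (CommRingCat.of κ)) [Etale eK] [IsReduced V] (g : V ⟶ U)
    (hdisc : ∀ u ∈ Set.range eU, ∃ O : U.Opens, u ∈ O ∧ ∀ u' ∈ O, u' ∈ Set.range eU → u' = u)
    (hg : ∀ v, g v ∈ Set.range eU) : ∃ l : V ⟶ E, l ≫ eU = g := by
  have key : ∀ v : ↥V, ∃ (N : V.Opens) (l : (N : Scheme.{u}) ⟶ E), v ∈ N ∧ l ≫ eU = N.ι ≫ g := by
    intro v
    obtain ⟨O, hvO, hO⟩ := hdisc (g v) (hg v)
    exact exists_local_lift eU eK g v O hvO hO hg
  choose N l hvN hl using key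
  have hcov : TopologicalSpace.IsOpenCover N := by
    rw [TopologicalSpace.IsOpenCover, eq_top_iff]
    intro v _
    exact TopologicalSpace.Opens.mem_iSup.2 ⟨v, hvN v⟩
  let 𝒰 : V.OpenCover := V.openCoverOfIsOpenCover N hcov
  let l' : ∀ x : 𝒰.I₀, 𝒰.X x ⟶ E := fun x => l x
  have hl' : ∀ x : 𝒰.I₀, l' x ≫ eU = 𝒰.f x ≫ g := fun x => hl x
  have hcompat : ∀ x y : 𝒰.I₀, pullback.fst (𝒰.f x) (𝒰.f y) ≫ l' x =
      pullback.snd _ _ ≫ l' y := by
    intro x y
    rw [← cancel_mono eU, Category.assoc, Category.assoc, hl' x, hl' y, ← Category.assoc,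
      pullback.condition, Category.assoc]
  refine ⟨𝒰.glueMorphisms l' hcompat, ?_⟩
  apply 𝒰.hom_ext
  intro x
  rw [Scheme.Cover.ι_glueMorphisms_assoc]
  exact hl' x

end Groth.Agent.Lib.Helper15.LiftDiscrete
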