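import Groth.Agent.Lib.Helper15.LimRep
import Groth.Agent.Lib.Helper3.AlgSpQC

set_option autoImplicit false
set_option backward.isDefEq.respectTransparency.types false
universe u
open CategoryTheory CategoryTheory.Limits AlgebraicGeometry
open AlgSp

/-! A cofiltered limit (affine transition maps) of quasi-compact quasi-separated algebraic spaces
which is an affine scheme has a stage which is an affine scheme. -/

namespace Groth.Agent.Lib.Helper15.LimAff

open Groth.Agent.Lib.Helper15 Groth.Agent.Lib.Helper3 Groth.Agent.S10056.W1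

variable {S : Scheme.{u}} {I : Type u} [SmallCategory I]

theorem main [QuasiSeparatedSpace S] [IsCofiltered I] (D : I ⥤ AlgSp.Sp S)
    (hD : ∀ i, AlgSp.IsAlgSpace (D.obj i))
    (hDa : ∀ (i j : I) (φ : i ⟶ j), AlgSp.IsAffineMor (D.map φ))
    (hqc : ∀ i, AlgSp.IsQuasiCompactSp (D.obj i)) (hqs : ∀ i, AlgSp.IsQuasiSeparatedSp (D.obj i))
    (c : Cone D) (hc : IsLimit c) (T : Over S) (hT : IsAffine T.left)
    (e : (yon S).obj T ≅ c.pt) :
    ∃ (i : I) (T' : Over S), IsAffine T'.left ∧ Nonempty ((yon S).obj T' ≅ D.obj i) := by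
  obtain ⟨i₁, W, ⟨iso⟩⟩ := LimRep.main D hD hDa hqc hqs c hc T e
  have hDa' : ∀ (i j : I) (φ : i ⟶ j), RepWith @IsAffineHom (D.map φ) :=
    fun i j φ => (isAffineMor_iff_repWith _).1 (hDa i j φ)
  obtain ⟨cE, hcE, hcEL, q, a, sq, haInf, hq, haff⟩ :=
    LimChart.exists_chart D hDa' i₁ iso.hom c hc
  have hpk : ∀ k : Over i₁, IsIso (pk D hDa' i₁ iso.hom k) := fun k =>
    (sqk D hDa' i₁ iso.hom k).isIso_fst_of_isIso
  haveI hqiso : IsIso q := sq.isIso_fst_of_isIso
  let ε : cE.pt ≅ T := (yon S).preimageIso (asIso q ≪≫ e.symm)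
  haveI : IsAffine T.left := hT
  haveI : IsAffine cE.pt.left :=
    @IsAffine.of_isIso _ _ ((Over.forget S).mapIso ε).hom _ hT
  haveI : ∀ {k k' : Over i₁} (ψ : k ⟶ k'),
      IsAffineHom ((E D hDa' i₁ iso.hom ⋙ Over.forget S).map ψ) :=
    fun ψ => isAffineHom_uk D hDa' i₁ iso.hom ψ
  haveI : ∀ k : Over i₁, CompactSpace ((E D hDa' i₁ iso.hom ⋙ Over.forget S).obj k) := by
    intro k
    obtain ⟨V, p, hpe, hps, hV⟩ := hqc k.left
    exact compactSpace_of_isQuasiCompactSp_yon (T := Uk D hDa' i₁ iso.hom k)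
      ⟨V, p ≫ (@asIso _ _ _ _ (pk D hDa' i₁ iso.hom k) (hpk k)).inv,
        MorphismProperty.RespectsIso.postcomp _ _ _ hpe,
        MorphismProperty.RespectsIso.postcomp _ _ _ hps, hV⟩
  haveI : ∀ k : Over i₁, QuasiSeparatedSpace ((E D hDa' i₁ iso.hom ⋙ Over.forget S).obj k) := by
    intro k
    exact LimRep.quasiSeparatedSpace_of_iso (hqs k.left)
      (@asIso _ _ _ _ (pk D hDa' i₁ iso.hom k) (hpk k))
  haveI : IsAffine ((Over.forget S).mapCone cE).pt := ‹IsAffine cE.pt.left›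
  obtain ⟨k, hk⟩ := Scheme.exists_isAffine_of_isLimit (E D hDa' i₁ iso.hom ⋙ Over.forget S)
    ((Over.forget S).mapCone cE) hcEL
  exact ⟨k.left, Uk D hDa' i₁ iso.hom k, hk, ⟨@asIso _ _ _ _ (pk D hDa' i₁ iso.hom k) (hpk k)⟩⟩

end Groth.Agent.Lib.Helper15.LimAff
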