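import Groth.Agent.Lib.Helper15.LimBC

set_option autoImplicit false
set_option backward.isDefEq.respectTransparency.types false
universe u
open CategoryTheory CategoryTheory.Limits AlgebraicGeometry
open AlgSp

/-! Eventually affine structure maps for limits of algebraic spaces. -/

namespace Groth.Agent.Lib.Helper15.LimAffMor

open Groth.Agent.Lib.Helper15 Groth.Agent.Lib.Helper3 Groth.Agent.Lib.Helper15.LimBC

variable {S : Scheme.{u}}

/-- A morphism of sheaves whose base change to an affine étale chart of the target is an affine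
scheme is affine. -/
theorem isAffineMor_of_chart {X Y : Sp S} (f : X ⟶ Y) {V : Over S} [IsAffine V.left]
    (v : (yon S).obj V ⟶ Y) (hve : RepWith @Etale v) (hvs : RepWith @Surjective v)
    {P : Sp S} (fst : P ⟶ X) (snd : P ⟶ (yon S).obj V) (sq : IsPullback fst snd f v)
    {T : Over S} [IsAffine T.left] (e : (yon S).obj T ≅ P) : IsAffineMor f := by
  obtain ⟨m, hm⟩ := (yon S).map_surjective (e.hom ≫ snd)
  have hsnd : IsAffineMor snd := by
    refine (isAffineMor_iff_repWith _).2 ?_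
    have e1 : snd = e.inv ≫ (yon S).map m := by rw [hm, Iso.inv_hom_id_assoc]
    rw [e1]
    refine MorphismProperty.RespectsIso.precomp _ _ _ ((repWith_yon_map_iff _ _).2 ?_)
    exact (inferInstance : IsAffineHom m.left)
  intro Z' hZ' z
  obtain ⟨W₀, V', W, j, fst₀, q', w, c', g', fstW, sq', hW₀, -⟩ :=
    AffDesc.exists_descent_square f V v hve hvs fst snd sq hsnd hZ' z
  exact ⟨W₀, j, fst₀, sq', hW₀⟩

variable [QuasiSeparatedSpace S] {I : Type u} [SmallCategory I] [IsCofiltered I]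

/-- **S10060** -/
theorem main (Y : AlgSp.Space S) (D : I ⥤ AlgSp.Sp S) (hD : ∀ i, AlgSp.IsAlgSpace (D.obj i))
    (t : D ⟶ (Functor.const I).obj Y.obj)
    (hDa : ∀ (i j : I) (φ : i ⟶ j), AlgSp.IsAffineMor (D.map φ))
    (c : Cone D) (hc : IsLimit c) (g : c.pt ⟶ Y.obj) (hg : ∀ i, c.π.app i ≫ t.app i = g)
    (hqc : ∀ i, AlgSp.IsQuasiCompactSp (D.obj i)) (hqs : ∀ i, AlgSp.IsQuasiSeparatedSp (D.obj i))
    (hYqc : AlgSp.IsQuasiCompactSp Y.obj) (hYqs : AlgSp.IsQuasiSeparatedSp Y.obj)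
    (hX : AlgSp.IsAffineMor g) :
    ∃ i₀ : I, ∀ (i : I) (_ : i ⟶ i₀), AlgSp.IsAffineMor (t.app i) := by
  obtain ⟨V, v, hve, hvs, hV⟩ := exists_affine_chart_of_isQuasiCompactSp hYqc
  haveI : IsAffine V.left := hV
  obtain ⟨t', ht'⟩ : ∃ t' : ∀ i, D.obj i ⟶ Y.obj, t' = fun i => t.app i := ⟨_, rfl⟩
  have t_w : ∀ {i j : I} (φ : i ⟶ j), D.map φ ≫ t' j = t' i := by
    intro i j φ
    have := t.naturality φ
    simp only [Functor.const_obj_obj, Functor.const_obj_map, Category.comp_id] at this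
    rw [ht']
    exact this
  have hg' : ∀ i, c.π.app i ≫ t' i = g := by
    intro i; rw [ht']; exact hg i
  have hVqc : IsQuasiCompactSp ((yon S).obj V) := isQuasiCompactSp_yon inferInstance
  have hVqs : IsQuasiSeparatedSp ((yon S).obj V) := LimRep.isQuasiSeparatedSp_yon V
  have hVa : IsAlgSpace ((yon S).obj V) := IsAlgSpace.yon_obj V
  -- the limit is affine
  obtain ⟨W, j, fstW, sqW, hW⟩ := hX hV v
  let e : (yon S).obj W ≅ (bcCone D t' t_w v c g hg').pt := sqW.isoPullback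
  obtain ⟨i₁, T', hT', ⟨e'⟩⟩ := LimAff.main (bcD D t' t_w v)
    (fun i => isAlgSpace_bc D t' v hD Y.property hVa i)
    (fun i j φ => isAffineMor_bcMap D t' t_w v hDa φ)
    (fun i => isQuasiCompactSp_bc D t' v hD hVa hVqc hYqs hqc i)
    (fun i => isQuasiSeparatedSp_bc D t' v hVqs hqs i)
    (bcCone D t' t_w v c g hg') (bcConeIsLimit D t' t_w v c g hg' hc) W hW e
  refine ⟨i₁, fun i φ => ?_⟩
  obtain ⟨e'', he''⟩ : ∃ e'' : (yon S).obj T' ⟶ pullback (t' i₁) v, e'' = e'.hom := ⟨_, rfl⟩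
  haveI : IsIso e'' := by rw [he'']; infer_instance
  obtain ⟨W'', j'', fst'', sq'', hW''⟩ := isAffineMor_bcMap D t' t_w v hDa φ hT' e''
  haveI : IsAffine W''.left := hW''
  haveI : IsIso fst'' := sq''.isIso_fst_of_isIso
  have := isAffineMor_of_chart (t' i) v hve hvs (pullback.fst (t' i) v) (pullback.snd (t' i) v)
    (IsPullback.of_hasPullback _ _) (asIso fst'')
  rw [ht'] at this
  exact this

end Groth.Agent.Lib.Helper15.LimAffMor
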