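import Groth.Agent.Lib.Helper15.LimAff
import Groth.Agent.Lib.Helper3.AlgSpQC7

set_option autoImplicit false
set_option backward.isDefEq.respectTransparency.types false
universe u
open CategoryTheory CategoryTheory.Limits AlgebraicGeometry
open AlgSp

/-! Base change of a cofiltered system of sheaves over a sheaf `Y` along `v : G ⟶ Y`. -/

namespace Groth.Agent.Lib.Helper15.LimBC

open Groth.Agent.Lib.Helper15 Groth.Agent.Lib.Helper3

variable {S : Scheme.{u}} {I : Type u} [SmallCategory I]
  (D : I ⥤ Sp S) {Y : Sp S} (t : ∀ i, D.obj i ⟶ Y)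
  (t_w : ∀ {i j : I} (φ : i ⟶ j), D.map φ ≫ t j = t i) {G : Sp S} (v : G ⟶ Y)

/-- transition maps of the base-changed diagram. -/
noncomputable def bcMap {i j : I} (φ : i ⟶ j) : pullback (t i) v ⟶ pullback (t j) v :=
  pullback.lift (pullback.fst (t i) v ≫ D.map φ) (pullback.snd (t i) v)
    (by rw [Category.assoc, t_w, pullback.condition])

theorem bcMap_fst {i j : I} (φ : i ⟶ j) :
    bcMap D t t_w v φ ≫ pullback.fst (t j) v = pullback.fst (t i) v ≫ D.map φ :=
  pullback.lift_fst _ _ _

theorem bcMap_snd {i j : I} (φ : i ⟶ j) :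
    bcMap D t t_w v φ ≫ pullback.snd (t j) v = pullback.snd (t i) v :=
  pullback.lift_snd _ _ _

/-- The base-changed diagram. -/
noncomputable def bcD : I ⥤ Sp S where
  obj i := pullback (t i) v
  map {i j} φ := bcMap D t t_w v φ
  map_id i := by
    apply pullback.hom_ext
    · rw [bcMap_fst, D.map_id, Category.comp_id, Category.id_comp]
    · rw [bcMap_snd, Category.id_comp]
  map_comp φ ψ := by
    apply pullback.hom_ext
    · rw [bcMap_fst, Category.assoc, bcMap_fst, ← Category.assoc,
        bcMap_fst, D.map_comp, Category.assoc]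
    · rw [bcMap_snd, Category.assoc, bcMap_snd, bcMap_snd]

/-- The square expressing the transition maps of the base-changed diagram as base changes. -/
theorem sq_bcMap {i j : I} (φ : i ⟶ j) :
    IsPullback (bcMap D t t_w v φ) (pullback.fst (t i) v) (pullback.fst (t j) v)
      (D.map φ) := by
  refine IsPullback.of_right ?_ (bcMap_fst D t t_w v φ) (IsPullback.of_hasPullback (t j) v).flip
  rw [bcMap_snd, t_w]
  exact (IsPullback.of_hasPullback (t i) v).flip

variable (c : Cone D) (g : c.pt ⟶ Y) (hg : ∀ i, c.π.app i ≫ t i = g)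

/-- the projections of the base-changed cone. -/
noncomputable def bcπ (i : I) : pullback g v ⟶ pullback (t i) v :=
  pullback.lift (pullback.fst g v ≫ c.π.app i) (pullback.snd g v)
    (by rw [Category.assoc, hg, pullback.condition])

theorem bcπ_fst (i : I) :
    bcπ D t v c g hg i ≫ pullback.fst (t i) v = pullback.fst g v ≫ c.π.app i :=
  pullback.lift_fst _ _ _

theorem bcπ_snd (i : I) :
    bcπ D t v c g hg i ≫ pullback.snd (t i) v = pullback.snd g v :=
  pullback.lift_snd _ _ _

theorem bcπ_w {i j : I} (φ : i ⟶ j) :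
    bcπ D t v c g hg i ≫ bcMap D t t_w v φ = bcπ D t v c g hg j := by
  apply pullback.hom_ext
  · rw [Category.assoc, bcMap_fst, ← Category.assoc, bcπ_fst, bcπ_fst, Category.assoc, c.w]
  · rw [Category.assoc, bcMap_snd, bcπ_snd, bcπ_snd]

/-- The base-changed cone. -/
noncomputable def bcCone : Cone (bcD D t t_w v) where
  pt := pullback g v
  π :=
    { app := fun i => bcπ D t v c g hg i
      naturality := fun i j φ => by
        simp only [Functor.const_obj_obj, Functor.const_obj_map, Category.id_comp]
        exact (bcπ_w D t t_w v c g hg φ).symm }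

theorem sq_bcπ (i : I) :
    IsPullback (bcπ D t v c g hg i) (pullback.fst g v) (pullback.fst (t i) v)
      (c.π.app i) := by
  refine IsPullback.of_right ?_ (bcπ_fst D t v c g hg i)
    (IsPullback.of_hasPullback (t i) v).flip
  rw [bcπ_snd, hg]
  exact (IsPullback.of_hasPullback g v).flip

variable [IsCofiltered I]

/-- The base change of a limit cone of a cofiltered diagram over `Y` is a limit cone. -/
noncomputable def bcConeIsLimit (hc : IsLimit c) : IsLimit (bcCone D t t_w v c g hg) := by
  obtain i₀ : I := Classical.choice (IsCofiltered.nonempty (C := I))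
  -- components of a cone
  let sπ : ∀ (s : Cone (bcD D t t_w v)) (i : I), s.pt ⟶ pullback (t i) v := fun s i => s.π.app i
  have sw : ∀ (s : Cone (bcD D t t_w v)) {i j : I} (φ : i ⟶ j),
      sπ s i ≫ bcMap D t t_w v φ = sπ s j := fun s i j φ => s.w φ
  have hsnd : ∀ (s : Cone (bcD D t t_w v)) (i j : I),
      sπ s i ≫ pullback.snd (t i) v = sπ s j ≫ pullback.snd (t j) v := by
    intro s i j
    rw [← sw s (IsCofiltered.minToLeft i j), ← sw s (IsCofiltered.minToRight i j), Category.assoc,
      Category.assoc, bcMap_snd, bcMap_snd]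
  let sD : ∀ s : Cone (bcD D t t_w v), Cone D := fun s =>
    { pt := s.pt
      π :=
        { app := fun i => sπ s i ≫ pullback.fst (t i) v
          naturality := fun i j φ => by
            simp only [Functor.const_obj_obj, Functor.const_obj_map, Category.id_comp,
              Category.assoc]
            rw [← bcMap_fst D t t_w v φ, ← Category.assoc, sw] } }
  have hfac : ∀ (s : Cone (bcD D t t_w v)) (i : I),
      hc.lift (sD s) ≫ c.π.app i = sπ s i ≫ pullback.fst (t i) v := fun s i => hc.fac (sD s) i
  have hw : ∀ s : Cone (bcD D t t_w v),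
      hc.lift (sD s) ≫ g = (sπ s i₀ ≫ pullback.snd (t i₀) v) ≫ v := by
    intro s
    rw [← hg i₀, ← Category.assoc, hfac, Category.assoc, Category.assoc, pullback.condition]
  refine
    { lift := fun s => pullback.lift (hc.lift (sD s)) (sπ s i₀ ≫ pullback.snd (t i₀) v) (hw s)
      fac := fun s j => ?_
      uniq := fun s m hm => ?_ }
  · change _ ≫ bcπ D t v c g hg j = sπ s j
    apply pullback.hom_ext
    · rw [Category.assoc, bcπ_fst, ← Category.assoc, pullback.lift_fst, hfac]
    · rw [Category.assoc, bcπ_snd, pullback.lift_snd, hsnd s i₀ j]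
  · obtain ⟨m', rfl⟩ : ∃ m' : s.pt ⟶ pullback g v, m' = m := ⟨m, rfl⟩
    have hm' : ∀ j, m' ≫ bcπ D t v c g hg j = sπ s j := hm
    change m' = _
    apply pullback.hom_ext
    · rw [pullback.lift_fst]
      refine hc.uniq (sD s) _ fun j => ?_
      change _ = sπ s j ≫ pullback.fst (t j) v
      rw [Category.assoc, ← bcπ_fst D t v c g hg j, ← Category.assoc, hm']
    · rw [pullback.lift_snd, ← hm' i₀, Category.assoc, bcπ_snd]

section Props

omit [IsCofiltered I]

/-- Every morphism from a quasi-separated sheaf is quasi-separated. -/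
theorem isQuasiSeparatedMor_of_isQuasiSeparatedSp {X Y : Sp S} (f : X ⟶ Y)
    (hX : IsQuasiSeparatedSp X) : IsQuasiSeparatedMor f := by
  have h2 : Limits.diag X =
      pullback.diagonal f ≫ prod.lift (pullback.fst f f) (pullback.snd f f) := by
    apply Limits.prod.hom_ext <;> simp
  haveI : Mono (prod.lift (pullback.fst f f) (pullback.snd f f)) := by
    refine ⟨fun a b h => ?_⟩
    apply pullback.hom_ext
    · have := congrArg (fun m => m ≫ prod.fst) h
      simp only [Category.assoc, prod.lift_fst] at this
      exact this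
    · have := congrArg (fun m => m ≫ prod.snd) h
      simp only [Category.assoc, prod.lift_snd] at this
      exact this
  have sq : IsPullback (𝟙 X) (pullback.diagonal f)
      (pullback.diagonal f ≫ prod.lift (pullback.fst f f) (pullback.snd f f))
      (prod.lift (pullback.fst f f) (pullback.snd f f)) := by
    refine IsPullback.mk' (Category.id_comp _) ?_ ?_
    · intro T φ φ' h1 _
      simpa using h1
    · intro T a b hab
      refine ⟨a, Category.comp_id _, ?_⟩
      rw [← cancel_mono (prod.lift (pullback.fst f f) (pullback.snd f f)), Category.assoc, hab]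
  have hX' : RepWith @QuasiCompact
      (pullback.diagonal f ≫ prod.lift (pullback.fst f f) (pullback.snd f f)) := by
    rw [← h2]; exact hX
  change RepWith @QuasiCompact (pullback.diagonal f)
  exact (repWith_isStableUnderBaseChange _).of_isPullback sq hX'

variable (hD : ∀ i, IsAlgSpace (D.obj i)) (hY : IsAlgSpace Y) (hG : IsAlgSpace G)

include hD hY hG in
theorem isAlgSpace_bc (i : I) : IsAlgSpace (pullback (t i) v) :=
  isAlgSpace_of_isPullback' hY (hD i) hG (IsPullback.of_hasPullback (t i) v)

theorem isAffineMor_bcMap (hDa : ∀ (i j : I) (φ : i ⟶ j), IsAffineMor (D.map φ)) {i j : I}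
    (φ : i ⟶ j) : IsAffineMor (bcMap D t t_w v φ) :=
  (isAffineMor_iff_repWith _).2 ((repWith_isStableUnderBaseChange _).of_isPullback
    (sq_bcMap D t t_w v φ).flip ((isAffineMor_iff_repWith _).1 (hDa i j φ)))

include hD hG in
theorem isQuasiCompactSp_bc [QuasiSeparatedSpace S] (hGqc : IsQuasiCompactSp G)
    (hYqs : IsQuasiSeparatedSp Y) (hqc : ∀ i, IsQuasiCompactSp (D.obj i)) (i : I) :
    IsQuasiCompactSp (pullback (t i) v) :=
  (isQuasiCompactMor_of_isQuasiCompactSp_of_isQuasiSeparatedSp hG v hGqc hYqs) (hD i) (hqc i)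
    (t i) (pullback.snd (t i) v) (pullback.fst (t i) v) (IsPullback.of_hasPullback (t i) v).flip

theorem isQuasiSeparatedSp_bc (hGqs : IsQuasiSeparatedSp G)
    (hqs : ∀ i, IsQuasiSeparatedSp (D.obj i)) (i : I) :
    IsQuasiSeparatedSp (pullback (t i) v) :=
  LimRep.isQuasiSeparatedSp_of_mor (pullback.fst (t i) v)
    (repWith_diagonal_of_isPullback @QuasiCompact (IsPullback.of_hasPullback (t i) v).flip
      (isQuasiSeparatedMor_of_isQuasiSeparatedSp v hGqs)) (hqs i)

end Props

end Groth.Agent.Lib.Helper15.LimBC
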