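import Groth.Agent.Lib.Helper15.LimAffMor

set_option autoImplicit false
set_option backward.isDefEq.respectTransparency.types false
universe u
open CategoryTheory CategoryTheory.Limits AlgebraicGeometry
open AlgSp

/-! Descent of affineness of a base-changed morphism through a limit of algebraic spaces. -/

namespace Groth.Agent.Lib.Helper15.LimDescAff

open Groth.Agent.Lib.Helper15 Groth.Agent.Lib.Helper3 Groth.Agent.Lib.Helper15.LimBC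

section Paste

universe v₁ u₁
variable {C : Type u₁} [Category.{v₁} C]
  {X₀ Y₀ B₀ B V₀ Y X Vc : C} (f₀ : X₀ ⟶ Y₀) (b₀ : Y₀ ⟶ B₀) (π : B ⟶ B₀) (v₀ : V₀ ⟶ Y₀)
  (pY : Y ⟶ Y₀) (qY : Y ⟶ B) (hY : IsPullback pY qY b₀ π)
  (f : X ⟶ Y) (pX : X ⟶ X₀) (hX : IsPullback pX f f₀ pY)
  (a : Vc ⟶ B) (β : Vc ⟶ V₀) (sqV : IsPullback a β π (v₀ ≫ b₀))

/-- the induced chart of `Y`. -/
noncomputable def yv : Vc ⟶ Y :=
  hY.lift (β ≫ v₀) a (by rw [Category.assoc, sqV.w])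

theorem yv_pY : yv b₀ π v₀ pY qY hY a β sqV ≫ pY = β ≫ v₀ := hY.lift_fst _ _ _

theorem yv_qY : yv b₀ π v₀ pY qY hY a β sqV ≫ qY = a := hY.lift_snd _ _ _

theorem sq_yv : IsPullback (yv b₀ π v₀ pY qY hY a β sqV) β pY v₀ := by
  refine IsPullback.of_right ?_ (yv_pY b₀ π v₀ pY qY hY a β sqV) hY.flip
  rw [yv_qY]
  exact sqV

include hX in
theorem sq_paste [HasPullbacks C] {P : C} (p₁ : P ⟶ X) (p₂ : P ⟶ Vc)
    (sqP : IsPullback p₁ p₂ f (yv b₀ π v₀ pY qY hY a β sqV))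
    (w : (p₁ ≫ pX) ≫ f₀ = (p₂ ≫ β) ≫ v₀) :
    IsPullback (p₁ ≫ f ≫ qY) (pullback.lift (p₁ ≫ pX) (p₂ ≫ β) w) π
      (pullback.fst f₀ v₀ ≫ f₀ ≫ b₀) := by
  -- `P` over `V₀` and `Y₀`
  have s1 : IsPullback (p₂ ≫ β) p₁ v₀ (f ≫ pY) :=
    sqP.flip.paste_horiz (sq_yv b₀ π v₀ pY qY hY a β sqV).flip
  have s2 : IsPullback (pullback.lift (p₁ ≫ pX) (p₂ ≫ β) w) p₁ (pullback.fst f₀ v₀) pX := by
    refine IsPullback.of_right ?_ (pullback.lift_fst _ _ _) (IsPullback.of_hasPullback f₀ v₀).flip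
    rw [pullback.lift_snd, hX.w]
    exact s1
  have s3 : IsPullback pX (f ≫ qY) (f₀ ≫ b₀) π := hX.paste_vert hY
  exact (s2.paste_vert s3).flip

end Paste

section Main

variable {S : Scheme.{u}} [QuasiSeparatedSpace S] {I : Type u} [SmallCategory I] [IsCofiltered I]

/-- **S10017** -/
theorem main (D : I ⥤ AlgSp.Sp S) (hD : ∀ i, AlgSp.IsAlgSpace (D.obj i))
    (hDa : ∀ (i j : I) (φ : i ⟶ j), AlgSp.IsAffineMor (D.map φ))
    (c : Cone D) (hc : IsLimit c) (i₀ : I)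
    (hBqc : AlgSp.IsQuasiCompactSp (D.obj i₀)) (hBqs : AlgSp.IsQuasiSeparatedSp (D.obj i₀))
    (X₀ Y₀ : AlgSp.Space S) (f₀ : X₀.obj ⟶ Y₀.obj) (b₀ : Y₀.obj ⟶ D.obj i₀)
    (hXqc : AlgSp.IsQuasiCompactSp X₀.obj) (hXqs : AlgSp.IsQuasiSeparatedSp X₀.obj)
    (hYqc : AlgSp.IsQuasiCompactSp Y₀.obj) (hYqs : AlgSp.IsQuasiSeparatedSp Y₀.obj)
    (X Y : AlgSp.Sp S) (f : X ⟶ Y) (pY : Y ⟶ Y₀.obj) (qY : Y ⟶ c.pt)
    (hY : IsPullback pY qY b₀ (c.π.app i₀)) (pX : X ⟶ X₀.obj) (hX : IsPullback pX f f₀ pY)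
    (hf : AlgSp.IsAffineMor f) :
    ∃ (i : I) (φ : i ⟶ i₀), ∀ (Xi Yi : AlgSp.Sp S) (fi : Xi ⟶ Yi) (pYi : Yi ⟶ Y₀.obj)
      (qYi : Yi ⟶ D.obj i) (_ : IsPullback pYi qYi b₀ (D.map φ)) (pXi : Xi ⟶ X₀.obj)
      (_ : IsPullback pXi fi f₀ pYi), AlgSp.IsAffineMor fi := by
  obtain ⟨V₀, v₀, hve, hvs, hV₀⟩ := exists_affine_chart_of_isQuasiCompactSp hYqc
  haveI : IsAffine V₀.left := hV₀
  have hVqc : IsQuasiCompactSp ((yon S).obj V₀) := isQuasiCompactSp_yon inferInstance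
  have hVqs : IsQuasiSeparatedSp ((yon S).obj V₀) := LimRep.isQuasiSeparatedSp_yon V₀
  have hVa : IsAlgSpace ((yon S).obj V₀) := IsAlgSpace.yon_obj V₀
  have hW₀a : IsAlgSpace (pullback f₀ v₀) :=
    isAlgSpace_of_isPullback' Y₀.property X₀.property hVa (IsPullback.of_hasPullback f₀ v₀)
  have hW₀qc : IsQuasiCompactSp (pullback f₀ v₀) :=
    (isQuasiCompactMor_of_isQuasiCompactSp_of_isQuasiSeparatedSp hVa v₀ hVqc hYqs) X₀.property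
      hXqc f₀ (pullback.snd f₀ v₀) (pullback.fst f₀ v₀) (IsPullback.of_hasPullback f₀ v₀).flip
  have hW₀qs : IsQuasiSeparatedSp (pullback f₀ v₀) :=
    LimRep.isQuasiSeparatedSp_of_mor (pullback.fst f₀ v₀)
      (repWith_diagonal_of_isPullback @QuasiCompact (IsPullback.of_hasPullback f₀ v₀).flip
        (isQuasiSeparatedMor_of_isQuasiSeparatedSp v₀ hVqs)) hXqs
  have hDa' : ∀ (i j : I) (φ : i ⟶ j), RepWith @IsAffineHom (D.map φ) :=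
    fun i j φ => (isAffineMor_iff_repWith _).1 (hDa i j φ)
  -- the system over `Over i₀`
  have t_w : ∀ {k k' : Over i₀} (ψ : k ⟶ k'),
      (Over.forget i₀ ⋙ D).map ψ ≫ (fun k : Over i₀ => D.map k.hom) k' =
        (fun k : Over i₀ => D.map k.hom) k := by
    intro k k' ψ
    change D.map ψ.left ≫ D.map k'.hom = D.map k.hom
    rw [← D.map_comp, Over.w]
  have hc₁ : IsLimit (c.whisker (Over.forget i₀)) :=
    (Functor.Initial.isLimitWhiskerEquiv (Over.forget i₀) c).symm hc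
  have hg₁ : ∀ k : Over i₀, (c.whisker (Over.forget i₀)).π.app k ≫
      (fun k : Over i₀ => D.map k.hom) k = c.π.app i₀ := fun k => c.w k.hom
  have hqc₁ : ∀ k : Over i₀, IsQuasiCompactSp (D.obj k.left) := fun k =>
    (isQuasiCompactMor_of_repWith_quasiCompact _ (repWith_mono (fun A B m hm => by
      have : IsAffineHom m := hm
      change QuasiCompact m
      infer_instance) (hDa' _ _ k.hom))) (hD i₀) hBqc (𝟙 _) (𝟙 _) (D.map k.hom)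
      (IsPullback.of_horiz_isIso ⟨by simp⟩)
  have hqs₁ : ∀ k : Over i₀, IsQuasiSeparatedSp (D.obj k.left) := fun k =>
    LimRep.isQuasiSeparatedSp_of_mor (D.map k.hom)
      (LimRep.isQuasiSeparatedMor_of_repWith_isAffineHom _ (hDa' _ _ k.hom)) hBqs
  -- the limit is affine
  obtain ⟨hcalg, hπaff⟩ := Groth.Agent.S10004.result S D hD hDa c hc
  obtain ⟨Vc, β, a, sqV, hVc⟩ := hπaff i₀ hV₀ (v₀ ≫ b₀)
  obtain ⟨T, j, fstT, sqT, hT⟩ :=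
    hf hVc (yv b₀ (c.π.app i₀) v₀ pY qY hY a ((yon S).map β) sqV)
  have wT : (fstT ≫ pX) ≫ f₀ = ((yon S).map j ≫ (yon S).map β) ≫ v₀ := by
    rw [Category.assoc, hX.w, ← Category.assoc, sqT.w, Category.assoc, yv_pY, Category.assoc]
  have sqlim := sq_paste f₀ b₀ (c.π.app i₀) v₀ pY qY hY f pX hX a ((yon S).map β) sqV fstT
    ((yon S).map j) sqT wT
  obtain ⟨k₁, T', hT', ⟨e'⟩⟩ := LimAff.main
    (bcD (Over.forget i₀ ⋙ D) (fun k : Over i₀ => D.map k.hom) t_w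
      (pullback.fst f₀ v₀ ≫ f₀ ≫ b₀))
    (fun k => isAlgSpace_bc (Over.forget i₀ ⋙ D) (fun k : Over i₀ => D.map k.hom)
      (pullback.fst f₀ v₀ ≫ f₀ ≫ b₀) (fun k => hD k.left) (hD i₀) hW₀a k)
    (fun k k' ψ => isAffineMor_bcMap (Over.forget i₀ ⋙ D) (fun k : Over i₀ => D.map k.hom) t_w
      (pullback.fst f₀ v₀ ≫ f₀ ≫ b₀) (fun k k' ψ => hDa _ _ ψ.left) ψ)
    (fun k => isQuasiCompactSp_bc (Over.forget i₀ ⋙ D) (fun k : Over i₀ => D.map k.hom)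
      (pullback.fst f₀ v₀ ≫ f₀ ≫ b₀) (fun k => hD k.left) hW₀a hW₀qc hBqs hqc₁ k)
    (fun k => isQuasiSeparatedSp_bc (Over.forget i₀ ⋙ D) (fun k : Over i₀ => D.map k.hom)
      (pullback.fst f₀ v₀ ≫ f₀ ≫ b₀) hW₀qs hqs₁ k)
    (bcCone (Over.forget i₀ ⋙ D) (fun k : Over i₀ => D.map k.hom) t_w
      (pullback.fst f₀ v₀ ≫ f₀ ≫ b₀) (c.whisker (Over.forget i₀)) (c.π.app i₀) hg₁)
    (bcConeIsLimit (Over.forget i₀ ⋙ D) (fun k : Over i₀ => D.map k.hom) t_w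
      (pullback.fst f₀ v₀ ≫ f₀ ≫ b₀) (c.whisker (Over.forget i₀)) (c.π.app i₀) hg₁ hc₁)
    T hT sqlim.isoPullback
  refine ⟨k₁.left, k₁.hom, fun Xi Yi fi pYi qYi hYi pXi hXi => ?_⟩
  obtain ⟨Vi, βi, ai, sqVi, hVi⟩ := hDa k₁.left i₀ k₁.hom hV₀ (v₀ ≫ b₀)
  haveI : IsAffine Vi.left := hVi
  haveI : IsAffine T'.left := hT'
  have sqyvi := sq_yv b₀ (D.map k₁.hom) v₀ pYi qYi hYi ai ((yon S).map βi) sqVi
  have hyve : RepWith @Etale (yv b₀ (D.map k₁.hom) v₀ pYi qYi hYi ai ((yon S).map βi) sqVi) :=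
    (repWith_isStableUnderBaseChange _).of_isPullback sqyvi.flip hve
  have hyvs : RepWith @Surjective
      (yv b₀ (D.map k₁.hom) v₀ pYi qYi hYi ai ((yon S).map βi) sqVi) :=
    (repWith_isStableUnderBaseChange _).of_isPullback sqyvi.flip hvs
  have sqP := IsPullback.of_hasPullback fi
    (yv b₀ (D.map k₁.hom) v₀ pYi qYi hYi ai ((yon S).map βi) sqVi)
  have wP : (pullback.fst fi (yv b₀ (D.map k₁.hom) v₀ pYi qYi hYi ai ((yon S).map βi) sqVi) ≫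
      pXi) ≫ f₀ = (pullback.snd fi (yv b₀ (D.map k₁.hom) v₀ pYi qYi hYi ai ((yon S).map βi) sqVi)
        ≫ (yon S).map βi) ≫ v₀ := by
    rw [Category.assoc, hXi.w, ← Category.assoc, sqP.w, Category.assoc, yv_pY, Category.assoc]
  have sqPi := sq_paste f₀ b₀ (D.map k₁.hom) v₀ pYi qYi hYi fi pXi hXi ai ((yon S).map βi) sqVi
    _ _ sqP wP
  have eP : pullback fi (yv b₀ (D.map k₁.hom) v₀ pYi qYi hYi ai ((yon S).map βi) sqVi) ≅
      pullback (D.map k₁.hom) (pullback.fst f₀ v₀ ≫ f₀ ≫ b₀) := sqPi.isoPullback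
  exact LimAffMor.isAffineMor_of_chart fi _ hyve hyvs _ _ sqP (e' ≪≫ eP.symm)

end Main

end Groth.Agent.Lib.Helper15.LimDescAff
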