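import Groth.Agent.Lib.Helper15.LimDescAff
import Groth.Agent.Lib.Helper3.SchImCartier0
import Groth.Agent.Lib.Helper3.FpqcDescRepWith
import Groth.Agent.S9187
import Groth.Agent.S9189

set_option autoImplicit false
set_option backward.isDefEq.respectTransparency.types false
universe u
open CategoryTheory CategoryTheory.Limits AlgebraicGeometry
open AlgSp

/-! Descent through limits of algebraic spaces of properties of affine morphisms (finite, closed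
immersion) under a finite type hypothesis. -/

namespace Groth.Agent.Lib.Helper15.LimDescFT

open Groth.Agent.Lib.Helper15 Groth.Agent.Lib.Helper3 Groth.Agent.Lib.Helper15.LimBC
  Groth.Agent.Lib.Helper15.LimDescend Groth.Agent.S10056.W1

variable {S : Scheme.{u}}

section SchemeLevel

/-- Simplified shape of the scheme-level descent statements under a finite type hypothesis. -/
def DescendsFT (P : MorphismProperty Scheme.{u}) : Prop :=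
  ∀ {J : Type u} [SmallCategory J] [IsCofiltered J] (Dj : J ⥤ Scheme.{u}) (cj : Cone Dj)
    (_ : IsLimit cj) [∀ (i j : J) (f : i ⟶ j), IsAffineHom (Dj.map f)] (j₀ : J)
    [IsAffine (Dj.obj j₀)] {X₀ : Scheme.{u}} [IsAffine X₀] (f₀ : X₀ ⟶ Dj.obj j₀)
    [LocallyOfFiniteType f₀] {X : Scheme.{u}} (f : X ⟶ cj.pt) (qX : X ⟶ X₀)
    (_ : IsPullback qX f f₀ (cj.π.app j₀)), P f →
    ∃ (j : J) (φ : j ⟶ j₀) (Xj : Scheme.{u}) (fj : Xj ⟶ Dj.obj j) (pX : Xj ⟶ X₀),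
      IsPullback pX fj f₀ (Dj.map φ) ∧ P fj

theorem descendsFT_isFinite : DescendsFT @IsFinite.{u} := by
  intro J _ _ Dj cj hcj _ j₀ _ X₀ _ f₀ _ X f qX hX hf
  have : IsFinite f := hf
  have hY : IsPullback (cj.π.app j₀) (𝟙 cj.pt) (𝟙 (Dj.obj j₀)) (cj.π.app j₀) :=
    haveI : IsIso (𝟙 cj.pt) := IsIso.id _
    haveI : IsIso (𝟙 (Dj.obj j₀)) := IsIso.id _
    IsPullback.of_vert_isIso ⟨by simp⟩
  exact simplify_concl @IsFinite Dj j₀ f₀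
    (Groth.Agent.S9187.result Dj cj hcj j₀ f₀ (𝟙 _) f (𝟙 _) (cj.π.app j₀) qX hY hX)

theorem descendsFT_isClosedImmersion : DescendsFT @IsClosedImmersion.{u} := by
  intro J _ _ Dj cj hcj _ j₀ _ X₀ _ f₀ _ X f qX hX hf
  have : IsClosedImmersion f := hf
  have hY : IsPullback (cj.π.app j₀) (𝟙 cj.pt) (𝟙 (Dj.obj j₀)) (cj.π.app j₀) :=
    haveI : IsIso (𝟙 cj.pt) := IsIso.id _
    haveI : IsIso (𝟙 (Dj.obj j₀)) := IsIso.id _
    IsPullback.of_vert_isIso ⟨by simp⟩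
  exact simplify_concl @IsClosedImmersion Dj j₀ f₀
    (Groth.Agent.S9189.result Dj cj hcj j₀ f₀ (𝟙 _) f (𝟙 _) (cj.π.app j₀) qX hY hX)

variable {I : Type u} [SmallCategory I] (D : I ⥤ AlgSp.Sp S)
  (hDa : ∀ (i j : I) (φ : i ⟶ j), AlgSp.RepWith @IsAffineHom (D.map φ)) (i₀ : I)
  {V₀ : Over S} (p₀ : (yon S).obj V₀ ⟶ D.obj i₀)

theorem exists_stage_ft [IsCofiltered I] {P : MorphismProperty Scheme.{u}} [P.RespectsIso]
    (hP : DescendsFT P) [IsAffine V₀.left] {U₀ : Over S} [IsAffine U₀.left] (h₀ : U₀ ⟶ V₀)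
    [LocallyOfFiniteType h₀.left] (cE : Cone (E D hDa i₀ p₀))
    (hcEL : IsLimit ((Over.forget S).mapCone cE)) (a : cE.pt ⟶ V₀)
    (ha : ∀ k : Over i₀, (cE.π.app k : cE.pt ⟶ Uk D hDa i₀ p₀ k) ≫ ak D hDa i₀ p₀ k = a)
    {UL : Over S} (fstL : UL ⟶ U₀) (sndL : UL ⟶ cE.pt) (hUL : IsPullback fstL sndL h₀ a)
    (hPL : P sndL.left) :
    ∃ k : Over i₀, ∀ {UK : Over S} (fstK : UK ⟶ U₀) (sndK : UK ⟶ Uk D hDa i₀ p₀ k),
      IsPullback fstK sndK h₀ (ak D hDa i₀ p₀ k) → P sndK.left := by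
  obtain ⟨k₀, -⟩ : ∃ k₀ : Over i₀, True := ⟨Over.mk (𝟙 i₀), trivial⟩
  let π : ∀ k : Over i₀, cE.pt ⟶ Uk D hDa i₀ p₀ k := fun k => cE.π.app k
  haveI : ∀ (k k' : Over i₀) (ψ : k ⟶ k'), IsAffineHom ((E D hDa i₀ p₀ ⋙ Over.forget S).map ψ) :=
    fun _ _ ψ => isAffineHom_uk D hDa i₀ p₀ ψ
  haveI : IsAffine ((E D hDa i₀ p₀ ⋙ Over.forget S).obj k₀) := by
    exact @isAffine_of_isAffineHom _ _ (ak D hDa i₀ p₀ k₀).left (isAffineHom_ak D hDa i₀ p₀ k₀) ‹_›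
  let f₀s : pullback h₀.left (ak D hDa i₀ p₀ k₀).left ⟶ (E D hDa i₀ p₀ ⋙ Over.forget S).obj k₀ :=
    pullback.snd _ _
  haveI : LocallyOfFiniteType f₀s := by
    change LocallyOfFiniteType (pullback.snd _ _); infer_instance
  haveI : IsAffine (pullback h₀.left (ak D hDa i₀ p₀ k₀).left) := by
    haveI : IsAffine (Uk D hDa i₀ p₀ k₀).left := ‹_›
    infer_instance
  have hULs : IsPullback fstL.left sndL.left h₀.left a.left := hUL.map (Over.forget S)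
  have hak₀ : (π k₀).left ≫ (ak D hDa i₀ p₀ k₀).left = a.left := by
    rw [← Over.comp_left]
    exact congrArg _ (ha k₀)
  let qX : UL.left ⟶ pullback h₀.left (ak D hDa i₀ p₀ k₀).left :=
    pullback.lift fstL.left (sndL.left ≫ (π k₀).left) (by
      rw [Category.assoc, hak₀, hULs.w])
  have hX : IsPullback qX sndL.left f₀s (((Over.forget S).mapCone cE).π.app k₀) := by
    refine IsPullback.of_right ?_ ?_
      (IsPullback.of_hasPullback h₀.left (ak D hDa i₀ p₀ k₀).left)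
    · rw [pullback.lift_fst]
      change IsPullback fstL.left sndL.left h₀.left
        ((π k₀).left ≫ (ak D hDa i₀ p₀ k₀).left)
      rw [hak₀]
      exact hULs
    · exact pullback.lift_snd _ _ _
  obtain ⟨k, φ, Xk, fk, pX, hXk, hPk⟩ :=
    hP (E D hDa i₀ p₀ ⋙ Over.forget S) _ hcEL k₀ f₀s sndL.left qX hX hPL
  refine ⟨k, fun {UK} fstK sndK hUK => ?_⟩
  have hUKs : IsPullback fstK.left sndK.left h₀.left (ak D hDa i₀ p₀ k).left :=
    hUK.map (Over.forget S)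
  have h1 := hXk.paste_horiz (IsPullback.of_hasPullback h₀.left (ak D hDa i₀ p₀ k₀).left)
  have h2 : (E D hDa i₀ p₀ ⋙ Over.forget S).map φ ≫ (ak D hDa i₀ p₀ k₀).left =
      (ak D hDa i₀ p₀ k).left := by
    change (uk D hDa i₀ p₀ φ).left ≫ _ = _
    rw [← Over.comp_left, uk_a]
  rw [h2] at h1
  have h3 : sndK.left = (hUKs.isoIsPullback _ _ h1).hom ≫ fk :=
    (IsPullback.isoIsPullback_hom_snd _ _ hUKs h1).symm
  rw [h3]
  exact (P.cancel_left_of_respectsIso _ _).2 hPk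

end SchemeLevel

section Rebase

universe v₁ u₁
variable {C : Type u₁} [Category.{v₁} C]
  {X₀ Y₀ B₀ B₁ X₁ Y₁ : C} {f₀ : X₀ ⟶ Y₀} {b₀ : Y₀ ⟶ B₀} {β : B₁ ⟶ B₀}
  {pY₁ : Y₁ ⟶ Y₀} {b₁ : Y₁ ⟶ B₁} (hY₁ : IsPullback pY₁ b₁ b₀ β)
  {pX₁ : X₁ ⟶ X₀} {f₁ : X₁ ⟶ Y₁} (hX₁ : IsPullback pX₁ f₁ f₀ pY₁)

include hY₁ hX₁ in
/-- base changes of `f₀` along `Z ⟶ B₁ ⟶ B₀` are base changes of `f₁` along `Z ⟶ B₁`. -/
theorem exists_rebase {Z Yz Xz : C} (z : Z ⟶ B₁) {β' : Z ⟶ B₀} (hβ' : β' = z ≫ β)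
    (pYz : Yz ⟶ Y₀) (qYz : Yz ⟶ Z)
    (hYz : IsPullback pYz qYz b₀ β') (fz : Xz ⟶ Yz) (pXz : Xz ⟶ X₀)
    (hXz : IsPullback pXz fz f₀ pYz) :
    ∃ (pYz' : Yz ⟶ Y₁) (pXz' : Xz ⟶ X₁), IsPullback pYz' qYz b₁ z ∧
      IsPullback pXz' fz f₁ pYz' := by
  subst hβ'
  have w1 : pYz ≫ b₀ = (qYz ≫ z) ≫ β := by rw [hYz.w, Category.assoc]
  have h1 : IsPullback (hY₁.lift pYz (qYz ≫ z) w1) qYz b₁ z := by
    refine IsPullback.of_right ?_ (hY₁.lift_snd _ _ _) hY₁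
    rw [hY₁.lift_fst]
    exact hYz
  have w2 : pXz ≫ f₀ = (fz ≫ hY₁.lift pYz (qYz ≫ z) w1) ≫ pY₁ := by
    rw [Category.assoc, hY₁.lift_fst, hXz.w]
  have h2 : IsPullback (hX₁.lift pXz (fz ≫ hY₁.lift pYz (qYz ≫ z) w1) w2) fz f₁
      (hY₁.lift pYz (qYz ≫ z) w1) := by
    refine IsPullback.of_right ?_ (hX₁.lift_snd _ _ _) hX₁
    rw [hX₁.lift_fst, hY₁.lift_fst]
    exact hXz
  exact ⟨_, _, h1, h2⟩

end Rebase

section Main

variable {I : Type u} [SmallCategory I] [IsCofiltered I]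

/-- Descent of `RepWith P` through the limit when `f₀` is already affine. -/
theorem main_affine (P : MorphismProperty Scheme.{u}) [P.IsStableUnderBaseChange]
    [IsZariskiLocalAtTarget P] [P.DescendsAlong (@Surjective ⊓ @Flat ⊓ @QuasiCompact)]
    (hle : P ≤ @IsAffineHom) (hPd : DescendsFT P)
    (D : I ⥤ AlgSp.Sp S) (hD : ∀ i, AlgSp.IsAlgSpace (D.obj i))
    (hDa : ∀ (i j : I) (φ : i ⟶ j), AlgSp.IsAffineMor (D.map φ))
    (c : Cone D) (hc : IsLimit c) (i₀ : I)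
    (X₀ Y₀ : AlgSp.Space S) (f₀ : X₀.obj ⟶ Y₀.obj) (b₀ : Y₀.obj ⟶ D.obj i₀)
    (hYqc : AlgSp.IsQuasiCompactSp Y₀.obj)
    (X Y : AlgSp.Sp S) (f : X ⟶ Y) (pY : Y ⟶ Y₀.obj) (qY : Y ⟶ c.pt)
    (hY : IsPullback pY qY b₀ (c.π.app i₀)) (pX : X ⟶ X₀.obj) (hX : IsPullback pX f f₀ pY)
    (hf₀a : IsAffineMor f₀) (hf₀ : LocP @LocallyOfFiniteType f₀) (hf : RepWith P f) :
    ∃ (i : I) (φ : i ⟶ i₀), ∀ (Xi Yi : AlgSp.Sp S) (fi : Xi ⟶ Yi) (pYi : Yi ⟶ Y₀.obj)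
      (qYi : Yi ⟶ D.obj i) (_ : IsPullback pYi qYi b₀ (D.map φ)) (pXi : Xi ⟶ X₀.obj)
      (_ : IsPullback pXi fi f₀ pYi), RepWith P fi := by
  have : P.RespectsIso := MorphismProperty.IsStableUnderBaseChange.respectsIso
  have hDa' : ∀ (i j : I) (φ : i ⟶ j), RepWith @IsAffineHom (D.map φ) :=
    fun i j φ => (isAffineMor_iff_repWith _).1 (hDa i j φ)
  obtain ⟨V₀, v₀, hve, hvs, hV₀⟩ := exists_affine_chart_of_isQuasiCompactSp hYqc
  haveI : IsAffine V₀.left := hV₀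
  obtain ⟨U₀, h₀, u₀, sqU, hU₀⟩ := hf₀a hV₀ v₀
  haveI : IsAffine U₀.left := hU₀
  have w₀ : u₀ ≫ f₀ = (yon S).map h₀ ≫ v₀ := sqU.w
  have hue : RepWith @Etale u₀ := (repWith_isStableUnderBaseChange _).of_isPullback sqU.flip hve
  haveI hh₀ : LocallyOfFiniteType h₀.left := hf₀ u₀ v₀ h₀ hue hve w₀
  haveI hiso : IsIso (pullback.lift u₀ ((yon S).map h₀) w₀) := by
    have : pullback.lift u₀ ((yon S).map h₀) w₀ = sqU.isoPullback.hom := by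
      apply pullback.hom_ext
      · rw [pullback.lift_fst, IsPullback.isoPullback_hom_fst]
      · rw [pullback.lift_snd, IsPullback.isoPullback_hom_snd]
    rw [this]; infer_instance
  obtain ⟨cE, hcE, hcEL, q, a, sq, haπ, hqπ, -⟩ := LimChart.exists_chart D hDa' i₀ (v₀ ≫ b₀) c hc
  have hUL := IsPullback.of_hasPullback h₀ a
  -- the property at the limit
  have hPL : P (pullback.snd h₀ a).left := by
    have sqMl := sqM f₀ b₀ u₀ v₀ h₀ w₀ (c.π.app i₀) pY qY hY f pX hX a q sq _ _ hUL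
    haveI : IsIso (mZ f₀ b₀ u₀ v₀ h₀ w₀ (c.π.app i₀) pY qY hY f pX hX a q sq _ _ hUL) :=
      sqMl.isIso_fst_of_isIso
    have h1 : RepWith P (pullback.snd f (bZ b₀ v₀ (c.π.app i₀) pY qY hY a q sq)) :=
      MorphismProperty.of_isPullback (IsPullback.of_hasPullback f _) hf
    have h2 : mZ f₀ b₀ u₀ v₀ h₀ w₀ (c.π.app i₀) pY qY hY f pX hX a q sq _ _ hUL ≫
        pullback.snd f (bZ b₀ v₀ (c.π.app i₀) pY qY hY a q sq) =
        (yon S).map (pullback.snd h₀ a) := pullback.lift_snd _ _ _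
    have h3 : RepWith P ((yon S).map (pullback.snd h₀ a)) := by
      rw [← h2]; exact MorphismProperty.RespectsIso.precomp _ _ _ h1
    exact (repWith_yon_map_iff P _).1 h3
  obtain ⟨k, hk⟩ := exists_stage_ft D hDa' i₀ (v₀ ≫ b₀) hPd h₀ cE hcEL a haπ _ _ hUL hPL
  refine ⟨k.left, k.hom, fun Xi Yi fi pYi qYi hYi pXi hXi => ?_⟩
  have hUK := IsPullback.of_hasPullback h₀ (ak D hDa' i₀ (v₀ ≫ b₀) k)
  have sqK := sqk D hDa' i₀ (v₀ ≫ b₀) k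
  have hPk : P (pullback.snd h₀ (ak D hDa' i₀ (v₀ ≫ b₀) k)).left := hk _ _ hUK
  have sqMk := sqM f₀ b₀ u₀ v₀ h₀ w₀ (D.map k.hom) pYi qYi hYi fi pXi hXi _ _ sqK _ _ hUK
  haveI : IsIso (mZ f₀ b₀ u₀ v₀ h₀ w₀ (D.map k.hom) pYi qYi hYi fi pXi hXi _ _ sqK _ _ hUK) :=
    sqMk.isIso_fst_of_isIso
  have hbe : RepWith @Etale (bZ b₀ v₀ (D.map k.hom) pYi qYi hYi _ _ sqK) :=
    (repWith_isStableUnderBaseChange _).of_isPullback
      (sqB b₀ v₀ (D.map k.hom) pYi qYi hYi _ _ sqK).flip hve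
  have hbs : RepWith @Surjective (bZ b₀ v₀ (D.map k.hom) pYi qYi hYi _ _ sqK) :=
    (repWith_isStableUnderBaseChange _).of_isPullback
      (sqB b₀ v₀ (D.map k.hom) pYi qYi hYi _ _ sqK).flip hvs
  have h2 : mZ f₀ b₀ u₀ v₀ h₀ w₀ (D.map k.hom) pYi qYi hYi fi pXi hXi _ _ sqK _ _ hUK ≫
      pullback.snd fi (bZ b₀ v₀ (D.map k.hom) pYi qYi hYi _ _ sqK) =
      (yon S).map (pullback.snd h₀ (ak D hDa' i₀ (v₀ ≫ b₀) k)) := pullback.lift_snd _ _ _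
  have h3 : RepWith P (pullback.snd fi (bZ b₀ v₀ (D.map k.hom) pYi qYi hYi _ _ sqK)) := by
    have e1 : pullback.snd fi (bZ b₀ v₀ (D.map k.hom) pYi qYi hYi _ _ sqK) =
        inv (mZ f₀ b₀ u₀ v₀ h₀ w₀ (D.map k.hom) pYi qYi hYi fi pXi hXi _ _ sqK _ _ hUK) ≫
          (yon S).map (pullback.snd h₀ (ak D hDa' i₀ (v₀ ≫ b₀) k)) := by
      rw [IsIso.eq_inv_comp, h2]
    rw [e1]
    exact MorphismProperty.RespectsIso.precomp _ _ _ ((repWith_yon_map_iff P _).2 hPk)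
  have hYia : IsAlgSpace Yi := isAlgSpace_of_isPullback' (hD i₀) Y₀.property (hD k.left) hYi
  have hXia : IsAlgSpace Xi := isAlgSpace_of_isPullback' Y₀.property X₀.property hYia hXi
  have hVka : IsAlgSpace ((yon S).obj (Uk D hDa' i₀ (v₀ ≫ b₀) k)) := IsAlgSpace.yon_obj _
  have hcov := SchIm.isFpqcCover_of_etale_surjective hYia _ hbe hbs
  exact (FpqcDesc.isLocalOnBase_fpqc_repWith P hle
    (fun _ : PUnit.{u+1} => (yon S).obj (Uk D hDa' i₀ (v₀ ≫ b₀) k))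
    (fun _ => bZ b₀ v₀ (D.map k.hom) pYi qYi hYi _ _ sqK) hYia (fun _ => hVka) hcov fi hXia
    (fun _ => pullback fi (bZ b₀ v₀ (D.map k.hom) pYi qYi hYi _ _ sqK))
    (fun _ => pullback.snd _ _) (fun _ => pullback.fst _ _)
    (fun _ => isAlgSpace_of_isPullback' hYia hXia hVka (IsPullback.of_hasPullback _ _))
    (fun _ => IsPullback.of_hasPullback _ _)).2 (fun _ => h3)

/-- Descent of `RepWith P` (for `P` a property of affine morphisms) through the limit under a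
finite type hypothesis. -/
theorem main [QuasiSeparatedSpace S] (P : MorphismProperty Scheme.{u}) [P.IsStableUnderBaseChange]
    [IsZariskiLocalAtTarget P] [P.DescendsAlong (@Surjective ⊓ @Flat ⊓ @QuasiCompact)]
    (hle : P ≤ @IsAffineHom) (hPd : DescendsFT P)
    (D : I ⥤ AlgSp.Sp S) (hD : ∀ i, AlgSp.IsAlgSpace (D.obj i))
    (hDa : ∀ (i j : I) (φ : i ⟶ j), AlgSp.IsAffineMor (D.map φ))
    (c : Cone D) (hc : IsLimit c) (i₀ : I)
    (hBqc : AlgSp.IsQuasiCompactSp (D.obj i₀)) (hBqs : AlgSp.IsQuasiSeparatedSp (D.obj i₀))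
    (X₀ Y₀ : AlgSp.Space S) (f₀ : X₀.obj ⟶ Y₀.obj) (b₀ : Y₀.obj ⟶ D.obj i₀)
    (hXqc : AlgSp.IsQuasiCompactSp X₀.obj) (hXqs : AlgSp.IsQuasiSeparatedSp X₀.obj)
    (hYqc : AlgSp.IsQuasiCompactSp Y₀.obj) (hYqs : AlgSp.IsQuasiSeparatedSp Y₀.obj)
    (X Y : AlgSp.Sp S) (f : X ⟶ Y) (pY : Y ⟶ Y₀.obj) (qY : Y ⟶ c.pt)
    (hY : IsPullback pY qY b₀ (c.π.app i₀)) (pX : X ⟶ X₀.obj) (hX : IsPullback pX f f₀ pY)
    (hf₀ : LocP @LocallyOfFiniteType f₀) (hf : RepWith P f) :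
    ∃ (i : I) (φ : i ⟶ i₀), ∀ (Xi Yi : AlgSp.Sp S) (fi : Xi ⟶ Yi) (pYi : Yi ⟶ Y₀.obj)
      (qYi : Yi ⟶ D.obj i) (_ : IsPullback pYi qYi b₀ (D.map φ)) (pXi : Xi ⟶ X₀.obj)
      (_ : IsPullback pXi fi f₀ pYi), RepWith P fi := by
  have hDa' : ∀ (i j : I) (φ : i ⟶ j), RepWith @IsAffineHom (D.map φ) :=
    fun i j φ => (isAffineMor_iff_repWith _).1 (hDa i j φ)
  have hfa : IsAffineMor f := (isAffineMor_iff_repWith _).2 (repWith_mono hle hf)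
  obtain ⟨i₁, φ₁, H₁⟩ := LimDescAff.main D hD hDa c hc i₀ hBqc hBqs X₀ Y₀ f₀ b₀ hXqc hXqs hYqc
    hYqs X Y f pY qY hY pX hX hfa
  have hY₁ := IsPullback.of_hasPullback b₀ (D.map φ₁)
  have hX₁ := IsPullback.of_hasPullback f₀ (pullback.fst b₀ (D.map φ₁))
  have hf₁a : IsAffineMor (pullback.snd f₀ (pullback.fst b₀ (D.map φ₁))) :=
    H₁ _ _ _ _ _ hY₁ _ hX₁
  have hY₁a : IsAlgSpace (pullback b₀ (D.map φ₁)) :=
    isAlgSpace_of_isPullback' (hD i₀) Y₀.property (hD i₁) hY₁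
  have hX₁a : IsAlgSpace (pullback f₀ (pullback.fst b₀ (D.map φ₁))) :=
    isAlgSpace_of_isPullback' Y₀.property X₀.property hY₁a hX₁
  have hpY₁ : RepWith @IsAffineHom (pullback.fst b₀ (D.map φ₁)) :=
    (repWith_isStableUnderBaseChange _).of_isPullback hY₁.flip (hDa' _ _ φ₁)
  have hY₁qc : IsQuasiCompactSp (pullback b₀ (D.map φ₁)) :=
    (isQuasiCompactMor_of_repWith_quasiCompact _ (repWith_mono (fun A B m hm => by
      have : IsAffineHom m := hm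
      change QuasiCompact m
      infer_instance) hpY₁)) Y₀.property hYqc (𝟙 _) (𝟙 _) (pullback.fst b₀ (D.map φ₁))
      (IsPullback.of_horiz_isIso ⟨by simp⟩)
  have hf₁ : LocP @LocallyOfFiniteType (pullback.snd f₀ (pullback.fst b₀ (D.map φ₁))) :=
    locP_of_isPullback isEtLocal_locallyOfFiniteType X₀.property Y₀.property hY₁a hX₁a f₀ _ _ _
      hX₁ hf₀
  obtain ⟨pY', pX', hY', hX'⟩ := exists_rebase hY₁ hX₁ (c.π.app i₁) (c.w φ₁).symm pY qY hY f pX hX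
  obtain ⟨i, φ', H⟩ := main_affine P hle hPd D hD hDa c hc i₁ ⟨_, hX₁a⟩ ⟨_, hY₁a⟩
    (pullback.snd f₀ (pullback.fst b₀ (D.map φ₁))) (pullback.snd b₀ (D.map φ₁)) hY₁qc X Y f pY' qY
    hY' pX' hX' hf₁a hf₁ hf
  refine ⟨i, φ' ≫ φ₁, fun Xi Yi fi pYi qYi hYi pXi hXi => ?_⟩
  obtain ⟨pYi', pXi', hYi', hXi'⟩ := exists_rebase hY₁ hX₁ (D.map φ') (D.map_comp φ' φ₁) pYi qYi
    hYi fi pXi hXi
  exact H Xi Yi fi pYi' qYi hYi' pXi' hXi'

end Main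

end Groth.Agent.Lib.Helper15.LimDescFT
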