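import Groth.Agent.Lib.Helper15.LimDescFT
import Groth.Agent.S9900

set_option autoImplicit false
set_option backward.isDefEq.respectTransparency.types false
universe u
open CategoryTheory CategoryTheory.Limits AlgebraicGeometry
open AlgSp

/-! Descent of separatedness through limits of algebraic spaces. -/

namespace Groth.Agent.Lib.Helper15.LimDescSep

open Groth.Agent.Lib.Helper15 Groth.Agent.Lib.Helper3 Groth.Agent.Lib.Helper15.LimBC

section Paste

universe v₁ u₁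
variable {C : Type u₁} [Category.{v₁} C] [HasPullbacks C]
  {X₀ Y₀ B₀ B X Y : C} {f₀ : X₀ ⟶ Y₀} {b₀ : Y₀ ⟶ B₀} {π : B ⟶ B₀}
  {pY : Y ⟶ Y₀} {qY : Y ⟶ B} (hY : IsPullback pY qY b₀ π)
  {f : X ⟶ Y} {pX : X ⟶ X₀} (hX : IsPullback pX f f₀ pY)

include hY hX in
/-- the diagonal of a base change is the base change of the diagonal. -/
theorem exists_diag_rebase :
    ∃ pY' : pullback f f ⟶ pullback f₀ f₀,
      IsPullback pY' (pullback.fst f f ≫ f ≫ qY) (pullback.fst f₀ f₀ ≫ f₀ ≫ b₀) π ∧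
      IsPullback pX (pullback.diagonal f) (pullback.diagonal f₀) pY' := by
  have w : (pullback.fst f f ≫ pX) ≫ f₀ = (pullback.snd f f ≫ pX) ≫ f₀ := by
    rw [Category.assoc, Category.assoc, hX.w, ← Category.assoc, ← Category.assoc,
      pullback.condition]
  obtain ⟨pY', h1, h2⟩ : ∃ pY' : pullback f f ⟶ pullback f₀ f₀,
      pY' ≫ pullback.fst f₀ f₀ = pullback.fst f f ≫ pX ∧
      pY' ≫ pullback.snd f₀ f₀ = pullback.snd f f ≫ pX :=
    ⟨pullback.lift _ _ w, pullback.lift_fst _ _ _, pullback.lift_snd _ _ _⟩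
  have sA : IsPullback (pullback.snd f f ≫ pX) (pullback.fst f f) f₀ (f ≫ pY) :=
    (IsPullback.of_hasPullback f f).flip.paste_horiz hX
  have sB : IsPullback pY' (pullback.fst f f) (pullback.fst f₀ f₀) pX := by
    refine IsPullback.of_right ?_ h1 (IsPullback.of_hasPullback f₀ f₀).flip
    rw [h2, hX.w]
    exact sA
  have s3 : IsPullback pX (f ≫ qY) (f₀ ≫ b₀) π := hX.paste_vert hY
  refine ⟨pY', sB.paste_vert s3, ?_⟩
  refine IsPullback.of_bot ?_ ?_ sB
  · rw [pullback.diagonal_fst, pullback.diagonal_fst]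
    exact IsPullback.of_vert_isIso ⟨by simp⟩
  · apply pullback.hom_ext
    · rw [Category.assoc, pullback.diagonal_fst, Category.assoc, h1, ← Category.assoc,
        pullback.diagonal_fst, Category.comp_id, Category.id_comp]
    · rw [Category.assoc, pullback.diagonal_snd, Category.assoc, h2, ← Category.assoc,
        pullback.diagonal_snd, Category.comp_id, Category.id_comp]

end Paste

section Main

variable {S : Scheme.{u}} [QuasiSeparatedSpace S] {I : Type u} [SmallCategory I] [IsCofiltered I]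

/-- **S10020** -/
theorem main (D : I ⥤ AlgSp.Sp S) (hD : ∀ i, AlgSp.IsAlgSpace (D.obj i))
    (hDa : ∀ (i j : I) (φ : i ⟶ j), AlgSp.IsAffineMor (D.map φ))
    (c : Cone D) (hc : IsLimit c) (i₀ : I)
    (hBqc : AlgSp.IsQuasiCompactSp (D.obj i₀)) (hBqs : AlgSp.IsQuasiSeparatedSp (D.obj i₀))
    (X₀ Y₀ : AlgSp.Space S) (f₀ : X₀.obj ⟶ Y₀.obj) (b₀ : Y₀.obj ⟶ D.obj i₀)
    (hXqc : AlgSp.IsQuasiCompactSp X₀.obj) (hXqs : AlgSp.IsQuasiSeparatedSp X₀.obj)
    (hYqs : AlgSp.IsQuasiSeparatedSp Y₀.obj)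
    (X Y : AlgSp.Sp S) (f : X ⟶ Y) (pY : Y ⟶ Y₀.obj) (qY : Y ⟶ c.pt)
    (hY : IsPullback pY qY b₀ (c.π.app i₀)) (pX : X ⟶ X₀.obj) (hX : IsPullback pX f f₀ pY)
    (hf : AlgSp.IsSeparatedMor f) :
    ∃ (i : I) (φ : i ⟶ i₀), ∀ (Xi Yi : AlgSp.Sp S) (fi : Xi ⟶ Yi) (pYi : Yi ⟶ Y₀.obj)
      (qYi : Yi ⟶ D.obj i) (_ : IsPullback pYi qYi b₀ (D.map φ)) (pXi : Xi ⟶ X₀.obj)
      (_ : IsPullback pXi fi f₀ pYi), AlgSp.IsSeparatedMor fi := by
  have hZa : IsAlgSpace (pullback f₀ f₀) :=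
    isAlgSpace_of_isPullback' Y₀.property X₀.property X₀.property (IsPullback.of_hasPullback f₀ f₀)
  have hZqc : IsQuasiCompactSp (pullback f₀ f₀) :=
    (isQuasiCompactMor_of_isQuasiCompactSp_of_isQuasiSeparatedSp X₀.property f₀ hXqc hYqs)
      X₀.property hXqc f₀ (pullback.snd f₀ f₀) (pullback.fst f₀ f₀)
      (IsPullback.of_hasPullback f₀ f₀).flip
  have hZqs : IsQuasiSeparatedSp (pullback f₀ f₀) :=
    LimRep.isQuasiSeparatedSp_of_mor (pullback.fst f₀ f₀)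
      (repWith_diagonal_of_isPullback @QuasiCompact (IsPullback.of_hasPullback f₀ f₀).flip
        (isQuasiSeparatedMor_of_isQuasiSeparatedSp f₀ hXqs)) hXqs
  have hΔ₀ : LocP @LocallyOfFiniteType (pullback.diagonal f₀) :=
    locP_of_repWith isEtLocal_locallyOfFiniteType _
      (repWith_mono inf_le_left (Groth.Agent.S9900.repWith_diagonal_lft_mono X₀.property f₀))
  obtain ⟨pY', hY', hX'⟩ := exists_diag_rebase hY hX
  obtain ⟨i, φ, H⟩ := LimDescFT.main @IsClosedImmersion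
    (fun A B k hk => by have : IsClosedImmersion k := hk; infer_instance)
    LimDescFT.descendsFT_isClosedImmersion D hD hDa c hc i₀ hBqc hBqs X₀ ⟨_, hZa⟩
    (pullback.diagonal f₀) (pullback.fst f₀ f₀ ≫ f₀ ≫ b₀) hXqc hXqs hZqc hZqs X (pullback f f)
    (pullback.diagonal f) pY' (pullback.fst f f ≫ f ≫ qY) hY' pX hX' hΔ₀ hf
  refine ⟨i, φ, fun Xi Yi fi pYi qYi hYi pXi hXi => ?_⟩
  obtain ⟨pYi', hYi', hXi'⟩ := exists_diag_rebase hYi hXi
  exact H Xi (pullback fi fi) (pullback.diagonal fi) pYi' _ hYi' pXi hXi'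

end Main

end Groth.Agent.Lib.Helper15.LimDescSep
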