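import Groth.Agent.Lib.Helper15.LimDescFT
import Groth.Agent.Lib.Helper9.LimClosed4

set_option autoImplicit false
set_option backward.isDefEq.respectTransparency.types false
universe u
open CategoryTheory CategoryTheory.Limits AlgebraicGeometry
open AlgSp

/-! Eventually finite / closed immersion structure maps for limits of algebraic spaces. -/

namespace Groth.Agent.Lib.Helper15.LimEvt

open Groth.Agent.Lib.Helper15 Groth.Agent.Lib.Helper3 Groth.Agent.Lib.Helper15.LimBC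
  Groth.Agent.S10056.W1

variable {S : Scheme.{u}} [QuasiSeparatedSpace S] {I : Type u} [SmallCategory I] [IsCofiltered I]

/-- Reduction of "eventually `P`" statements for the structure maps of a limit of algebraic spaces
over `Y` to the scheme-level statement over an affine base. -/
theorem main (P Q P' : MorphismProperty Scheme.{u}) [P.IsStableUnderBaseChange]
    [Q.IsStableUnderBaseChange] [P'.IsStableUnderBaseChange]
    [IsZariskiLocalAtTarget P] [P.DescendsAlong (@Surjective ⊓ @Flat ⊓ @QuasiCompact)]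
    (hle : P ≤ @IsAffineHom) (hQle : Q ≤ @IsAffineHom) (hP'le : P' ≤ @IsAffineHom)
    (hS : ∀ {J : Type u} [SmallCategory J] [IsCofiltered J] (V : Scheme.{u}) [IsAffine V]
      (F : J ⥤ Scheme.{u}) (τ : F ⟶ (Functor.const J).obj V) (cF : Cone F) (_ : IsLimit cF),
      (∀ (i j : J) (a : i ⟶ j), Q (F.map a)) → (∀ i, IsAffine (F.obj i)) →
      (∀ i, LocallyOfFiniteType (τ.app i)) → ∀ j₀ : J, P' (cF.π.app j₀ ≫ τ.app j₀) →
      ∃ j₁ : J, ∀ (j : J) (_ : j ⟶ j₁), P (τ.app j))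
    (Y : AlgSp.Space S) (D : I ⥤ AlgSp.Sp S) (hD : ∀ i, AlgSp.IsAlgSpace (D.obj i))
    (t : D ⟶ (Functor.const I).obj Y.obj)
    (hDQ : ∀ (i j : I) (φ : i ⟶ j), RepWith Q (D.map φ))
    (c : Cone D) (hc : IsLimit c) (g : c.pt ⟶ Y.obj) (hg : ∀ i, c.π.app i ≫ t.app i = g)
    (hqc : ∀ i, AlgSp.IsQuasiCompactSp (D.obj i)) (hqs : ∀ i, AlgSp.IsQuasiSeparatedSp (D.obj i))
    (hYqc : AlgSp.IsQuasiCompactSp Y.obj) (hYqs : AlgSp.IsQuasiSeparatedSp Y.obj)
    (hft : ∀ i, AlgSp.LocP @LocallyOfFiniteType (t.app i)) (hX : RepWith P' g) :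
    ∃ i₀ : I, ∀ (i : I) (_ : i ⟶ i₀), RepWith P (t.app i) := by
  have hDa' : ∀ (i j : I) (φ : i ⟶ j), RepWith @IsAffineHom (D.map φ) :=
    fun i j φ => repWith_mono hQle (hDQ i j φ)
  have hDa : ∀ (i j : I) (φ : i ⟶ j), IsAffineMor (D.map φ) :=
    fun i j φ => (isAffineMor_iff_repWith _).2 (hDa' i j φ)
  have hga : IsAffineMor g := (isAffineMor_iff_repWith _).2 (repWith_mono hP'le hX)
  obtain ⟨i₀, hi₀⟩ := LimAffMor.main Y D hD t hDa c hc g hg hqc hqs hYqc hYqs hga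
  obtain ⟨V, v, hve, hvs, hV⟩ := exists_affine_chart_of_isQuasiCompactSp hYqc
  haveI : IsAffine V.left := hV
  obtain ⟨t', ht'⟩ : ∃ t' : ∀ i, D.obj i ⟶ Y.obj, t' = fun i => t.app i := ⟨_, rfl⟩
  have t_w : ∀ {i j : I} (φ : i ⟶ j), D.map φ ≫ t' j = t' i := by
    intro i j φ
    have := t.naturality φ
    simp only [Functor.const_obj_obj, Functor.const_obj_map, Category.comp_id] at this
    rw [ht']
    exact this
  have hg' : ∀ i, c.π.app i ≫ t' i = g := by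
    intro i; rw [ht']; exact hg i
  have hft' : ∀ i, LocP @LocallyOfFiniteType (t' i) := by
    intro i; rw [ht']; exact hft i
  suffices H : ∃ i₁ : I, ∀ (i : I) (_ : i ⟶ i₁), RepWith P (t' i) by
    obtain ⟨i₁, hi₁⟩ := H
    refine ⟨i₁, fun i φ => ?_⟩
    have := hi₁ i φ
    rw [ht'] at this
    exact this
  have hi₀' : IsAffineMor (t' i₀) := by
    have := hi₀ i₀ (𝟙 _)
    rw [ht']
    exact this
  obtain ⟨W₀, m₀, p₀, sq₀, hW₀⟩ := hi₀' hV v
  haveI : IsAffine W₀.left := hW₀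
  have hp₀e : RepWith @Etale p₀ := (repWith_isStableUnderBaseChange _).of_isPullback sq₀.flip hve
  obtain ⟨cE, hcE, hcEL, q, a, sq, haInf, hq, -⟩ := LimChart.exists_chart D hDa' i₀ p₀ c hc
  -- the scheme-level system
  let F : Over i₀ ⥤ Scheme.{u} := E D hDa' i₀ p₀ ⋙ Over.forget S
  let τ : F ⟶ (Functor.const (Over i₀)).obj V.left :=
    { app := fun k => (ak D hDa' i₀ p₀ k ≫ m₀).left
      naturality := fun k k' ψ => by
        simp only [Functor.const_obj_obj, Functor.const_obj_map, Category.comp_id]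
        change (uk D hDa' i₀ p₀ ψ).left ≫ (ak D hDa' i₀ p₀ k' ≫ m₀).left = _
        rw [← Over.comp_left, ← Category.assoc, uk_a] }
  have hFQ : ∀ (k k' : Over i₀) (ψ : k ⟶ k'), Q (F.map ψ) := fun k k' ψ =>
    (hDQ _ _ ψ.left).property (pk D hDa' i₀ p₀ k') (pk D hDa' i₀ p₀ k) (uk D hDa' i₀ p₀ ψ)
      (LimRep.sq_uk D hDa' i₀ p₀ ψ).flip
  have hFa : ∀ k, IsAffine (F.obj k) := fun k => LimFactor.isAffine_Uk D hDa' i₀ p₀ k
  have hwk : ∀ k : Over i₀, pk D hDa' i₀ p₀ k ≫ t' k.left =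
      (yon S).map (ak D hDa' i₀ p₀ k ≫ m₀) ≫ v := by
    intro k
    rw [← t_w k.hom, ← Category.assoc, (sqk D hDa' i₀ p₀ k).w, Category.assoc, sq₀.w,
      Functor.map_comp, Category.assoc]
  have hFft : ∀ k, LocallyOfFiniteType (τ.app k) := fun k =>
    hft' k.left (pk D hDa' i₀ p₀ k) v (ak D hDa' i₀ p₀ k ≫ m₀)
      (LimFactor.repWith_pk D hDa' i₀ p₀ @Etale hp₀e k) hve (hwk k)
  let k₀ : Over i₀ := Over.mk (𝟙 i₀)
  have hlim : P' (((Over.forget S).mapCone cE).π.app k₀ ≫ τ.app k₀) := by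
    obtain ⟨πk, hπk⟩ : ∃ πk : cE.pt ⟶ Uk D hDa' i₀ p₀ k₀, πk = cE.π.app k₀ := ⟨_, rfl⟩
    have haInf' : πk ≫ ak D hDa' i₀ p₀ k₀ = a := by rw [hπk]; exact haInf k₀
    have e1 : ((Over.forget S).mapCone cE).π.app k₀ ≫ τ.app k₀ = (a ≫ m₀).left := by
      change (cE.π.app k₀ : cE.pt ⟶ Uk D hDa' i₀ p₀ k₀).left ≫
        (ak D hDa' i₀ p₀ k₀ ≫ m₀).left = _
      rw [← hπk, ← haInf']
      simp only [Over.comp_left, Category.assoc]
      rfl
    rw [e1]
    have sqg := sq.paste_vert sq₀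
    rw [hg' i₀, ← Functor.map_comp] at sqg
    exact hX.property v q (a ≫ m₀) sqg
  obtain ⟨k₁, hk₁⟩ := hS V.left F τ _ hcEL hFQ hFa hFft k₀ hlim
  refine ⟨k₁.left, fun i φ => ?_⟩
  have hPk : P (ak D hDa' i₀ p₀ (Over.mk (φ ≫ k₁.hom)) ≫ m₀).left :=
    hk₁ (Over.mk (φ ≫ k₁.hom)) (Over.homMk φ)
  have sqk' := (sqk D hDa' i₀ p₀ (Over.mk (φ ≫ k₁.hom))).paste_vert sq₀
  rw [← Functor.map_comp] at sqk'
  have e2 : D.map (φ ≫ k₁.hom) ≫ t' i₀ = t' i := t_w _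
  have sqk'' : IsPullback (pk D hDa' i₀ p₀ (Over.mk (φ ≫ k₁.hom)))
      ((yon S).map (ak D hDa' i₀ p₀ (Over.mk (φ ≫ k₁.hom)) ≫ m₀)) (t' i) v := by
    rw [← e2]; exact sqk'
  have hcov := SchIm.isFpqcCover_of_etale_surjective Y.property v hve hvs
  exact (FpqcDesc.isLocalOnBase_fpqc_repWith P hle
    (fun _ : PUnit.{u+1} => (yon S).obj V) (fun _ => v) Y.property
    (fun _ => IsAlgSpace.yon_obj V) hcov (t' i) (hD i)
    (fun _ => (yon S).obj (Uk D hDa' i₀ p₀ (Over.mk (φ ≫ k₁.hom))))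
    (fun _ => (yon S).map (ak D hDa' i₀ p₀ (Over.mk (φ ≫ k₁.hom)) ≫ m₀))
    (fun _ => pk D hDa' i₀ p₀ (Over.mk (φ ≫ k₁.hom)))
    (fun _ => IsAlgSpace.yon_obj _) (fun _ => sqk'')).2
    (fun _ => (repWith_yon_map_iff P _).2 hPk)

end Groth.Agent.Lib.Helper15.LimEvt
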