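import Groth.Agent.Lib.Helper15.LimChart
import Groth.Agent.Lib.Helper15.LimDescend
import Groth.Agent.Lib.Helper3.GQOpenQuot
import Groth.Agent.Lib.Helper3.SchImMain

set_option autoImplicit false
set_option backward.isDefEq.respectTransparency.types false
universe u
open CategoryTheory CategoryTheory.Limits AlgebraicGeometry
open AlgSp

/-! Morphisms from a cofiltered limit of quasi-compact quasi-separated algebraic spaces (affine
transition maps) to a scheme locally of finite presentation over the base factor through a stage. -/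

namespace Groth.Agent.Lib.Helper15.LimFactor

open Groth.Agent.Lib.Helper15 Groth.Agent.Lib.Helper3 Groth.Agent.S10056.W1

variable {S : Scheme.{u}} {I : Type u} [SmallCategory I] (D : I ⥤ AlgSp.Sp S)
  (hDa : ∀ (i j : I) (φ : i ⟶ j), AlgSp.RepWith @IsAffineHom (D.map φ)) (i₀ : I)
  {U₀ : Over S} (p₀ : (yon S).obj U₀ ⟶ D.obj i₀)

/-- the structure maps of the chart system. -/
noncomputable def tE : (E D hDa i₀ p₀ ⋙ Over.forget S) ⟶ (Functor.const (Over i₀)).obj S where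
  app k := (Uk D hDa i₀ p₀ k).hom
  naturality k k' ψ := by
    simp only [Functor.comp_obj, Functor.const_obj_obj, Functor.comp_map, Functor.const_obj_map,
      Category.comp_id]
    exact Over.w (uk D hDa i₀ p₀ ψ)

theorem isAffine_Uk [IsAffine U₀.left] (k : Over i₀) : IsAffine (Uk D hDa i₀ p₀ k).left := by
  haveI := isAffineHom_ak D hDa i₀ p₀ k
  exact isAffine_of_isAffineHom (ak D hDa i₀ p₀ k).left

theorem compactSpace_Uk [CompactSpace U₀.left] (k : Over i₀) :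
    CompactSpace (Uk D hDa i₀ p₀ k).left := by
  haveI := isAffineHom_ak D hDa i₀ p₀ k
  exact QuasiCompact.compactSpace_of_compactSpace (ak D hDa i₀ p₀ k).left

theorem repWith_pk (P : MorphismProperty Scheme.{u}) [P.IsStableUnderBaseChange]
    (hp₀ : RepWith P p₀) (k : Over i₀) : RepWith P (pk D hDa i₀ p₀ k) :=
  (repWith_isStableUnderBaseChange P).of_isPullback (sqk D hDa i₀ p₀ k).flip hp₀

variable [IsCofiltered I]

/-- two morphisms from a stage of the chart system to a scheme locally of finite type over the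
base which agree on the limit agree on a later stage. -/
theorem exists_eq_of_limit_eq [CompactSpace U₀.left] (cE : Cone (E D hDa i₀ p₀))
    (hcEL : IsLimit ((Over.forget S).mapCone cE)) {Z : Over S} [LocallyOfFiniteType Z.hom]
    (k : Over i₀) (α β : Uk D hDa i₀ p₀ k ⟶ Z)
    (h : (cE.π.app k : cE.pt ⟶ Uk D hDa i₀ p₀ k) ≫ α = cE.π.app k ≫ β) :
    ∃ (k' : Over i₀) (ψ : k' ⟶ k), uk D hDa i₀ p₀ ψ ≫ α = uk D hDa i₀ p₀ ψ ≫ β := by
  haveI : ∀ {k k' : Over i₀} (ψ : k ⟶ k'),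
      IsAffineHom ((E D hDa i₀ p₀ ⋙ Over.forget S).map ψ) :=
    fun ψ => isAffineHom_uk D hDa i₀ p₀ ψ
  haveI : ∀ k, CompactSpace ((E D hDa i₀ p₀ ⋙ Over.forget S).obj k) :=
    fun k => compactSpace_Uk D hDa i₀ p₀ k
  obtain ⟨k', ψ, hψ⟩ := Scheme.exists_hom_comp_eq_comp_of_locallyOfFiniteType
    (E D hDa i₀ p₀ ⋙ Over.forget S) (tE D hDa i₀ p₀) Z.hom _ hcEL (i := k) α.left β.left
    (Over.w α).symm (Over.w β).symm (congrArg (fun m => m.left) h)
  refine ⟨k', ψ, ?_⟩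
  ext
  exact hψ

/-- a morphism from the limit of the chart system to a scheme locally of finite presentation over
the base factors through a stage. -/
theorem exists_factor_chart [IsAffine U₀.left] (cE : Cone (E D hDa i₀ p₀))
    (hcEL : IsLimit ((Over.forget S).mapCone cE)) {Z : Over S}
    [LocallyOfFinitePresentation Z.hom] (γ : cE.pt ⟶ Z) :
    ∃ (k : Over i₀) (h : Uk D hDa i₀ p₀ k ⟶ Z),
      (cE.π.app k : cE.pt ⟶ Uk D hDa i₀ p₀ k) ≫ h = γ := by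
  haveI : ∀ {k k' : Over i₀} (ψ : k ⟶ k'),
      IsAffineHom ((E D hDa i₀ p₀ ⋙ Over.forget S).map ψ) :=
    fun ψ => isAffineHom_uk D hDa i₀ p₀ ψ
  haveI : ∀ k, IsAffine ((E D hDa i₀ p₀ ⋙ Over.forget S).obj k) :=
    fun k => isAffine_Uk D hDa i₀ p₀ k
  obtain ⟨k, h, h1, h2⟩ := Scheme.exists_π_app_comp_eq_of_locallyOfFinitePresentation
    (E D hDa i₀ p₀ ⋙ Over.forget S) (tE D hDa i₀ p₀) Z.hom _ hcEL γ.left (by
      ext k
      simp only [Functor.comp_obj, Functor.const_obj_obj, Functor.mapCone_pt, NatTrans.comp_app,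
        Functor.mapCone_π_app, Functor.const_map_app, tE]
      exact (Over.w (cE.π.app k)).trans (Over.w γ).symm)
  refine ⟨k, Over.homMk h h2, ?_⟩
  ext
  exact h1


/-- **Factorization**: a morphism from the limit of a cofiltered system of quasi-separated algebraic
spaces (affine transition maps) to a scheme locally of finite presentation over the base factors
through a stage; the chart of the base stage is given. -/
theorem exists_factor [QuasiSeparatedSpace S] (c : Cone D) (hc : IsLimit c)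
    (hqs : ∀ i, IsQuasiSeparatedSp (D.obj i)) [IsAffine U₀.left]
    (hp₀e : RepWith @Etale p₀) (hp₀s : RepWith @Surjective p₀)
    (cE : Cone (E D hDa i₀ p₀)) (hcEL : IsLimit ((Over.forget S).mapCone cE))
    (q : (yon S).obj cE.pt ⟶ c.pt) (a : cE.pt ⟶ U₀)
    (sq : IsPullback q ((yon S).map a) (c.π.app i₀) p₀)
    (haInf : ∀ k : Over i₀, (cE.π.app k : cE.pt ⟶ Uk D hDa i₀ p₀ k) ≫ ak D hDa i₀ p₀ k = a)
    (hq : ∀ k : Over i₀, q ≫ c.π.app k.left =
        (yon S).map (cE.π.app k : cE.pt ⟶ Uk D hDa i₀ p₀ k) ≫ pk D hDa i₀ p₀ k)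
    {Z : Over S} [LocallyOfFinitePresentation Z.hom] (g : c.pt ⟶ (yon S).obj Z) :
    ∃ (k : Over i₀) (gk : D.obj k.left ⟶ (yon S).obj Z) (h : Uk D hDa i₀ p₀ k ⟶ Z),
      c.π.app k.left ≫ gk = g ∧ pk D hDa i₀ p₀ k ≫ gk = (yon S).map h ∧
      (cE.π.app k : cE.pt ⟶ Uk D hDa i₀ p₀ k) ≫ h = (yon S).preimage (q ≫ g) := by
  -- Step 3: factor the chart map
  obtain ⟨γ, hγ⟩ : ∃ γ : cE.pt ⟶ Z, (yon S).map γ = q ≫ g := ⟨(yon S).preimage (q ≫ g), by simp⟩
  obtain ⟨k, h, hh⟩ := exists_factor_chart D hDa i₀ p₀ cE hcEL γ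
  -- Step 4: the relation at stage k
  have hpke : RepWith @Etale (pk D hDa i₀ p₀ k) := repWith_pk D hDa i₀ p₀ @Etale hp₀e k
  obtain ⟨R, r₁, r₂, sqR⟩ : ∃ (R : Over S) (r₁ r₂ : R ⟶ Uk D hDa i₀ p₀ k),
      IsPullback ((yon S).map r₁) ((yon S).map r₂) (pk D hDa i₀ p₀ k) (pk D hDa i₀ p₀ k) := by
    refine ⟨hpke.rep.pullback (pk D hDa i₀ p₀ k), (yon S).preimage (hpke.rep.fst _),
      hpke.rep.snd _, ?_⟩
    rw [Functor.map_preimage]
    exact hpke.rep.isPullback _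
  haveI : CompactSpace (Uk D hDa i₀ p₀ k).left := compactSpace_Uk D hDa i₀ p₀ k
  haveI : CompactSpace R.left :=
    LimDescend.compactSpace_of_isPullback (hqs k.left) _ _ r₁ r₂ sqR
  -- second chart
  let p₀' : (yon S).obj R ⟶ D.obj k.left := (yon S).map r₁ ≫ pk D hDa i₀ p₀ k
  obtain ⟨cE', hcE', hcEL', q', a', sq', haInf', hq', -⟩ :=
    LimChart.exists_chart D hDa k.left p₀' c hc
  let k₀' : Over k.left := Over.mk (𝟙 k.left)
  -- the two maps to cE.pt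
  have hw : ∀ r : R ⟶ Uk D hDa i₀ p₀ k,
      (yon S).map r ≫ pk D hDa i₀ p₀ k = (yon S).map r₁ ≫ pk D hDa i₀ p₀ k →
      q' ≫ c.π.app i₀ = (yon S).map (a' ≫ r ≫ ak D hDa i₀ p₀ k) ≫ p₀ := by
    intro r hr
    have e1 : q' ≫ c.π.app i₀ = (q' ≫ c.π.app k.left) ≫ D.map k.hom := by
      rw [Category.assoc, c.w]
    rw [e1, sq'.w]
    simp only [p₀', Functor.map_comp, Category.assoc]
    rw [← (sqk D hDa i₀ p₀ k).w, ← Category.assoc ((yon S).map r), hr]
    simp only [Category.assoc]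
  obtain ⟨πk, hπk⟩ : ∃ πk : cE.pt ⟶ Uk D hDa i₀ p₀ k, πk = cE.π.app k := ⟨_, rfl⟩
  have hqk : q ≫ c.π.app k.left = (yon S).map πk ≫ pk D hDa i₀ p₀ k := by rw [hπk]; exact hq k
  have haInfk : πk ≫ ak D hDa i₀ p₀ k = a := by rw [hπk]; exact haInf k
  have hhk : πk ≫ h = γ := by rw [hπk]; exact hh
  have key : ∀ r : R ⟶ Uk D hDa i₀ p₀ k,
      (yon S).map r ≫ pk D hDa i₀ p₀ k = (yon S).map r₁ ≫ pk D hDa i₀ p₀ k →
      (yon S).map (a' ≫ r ≫ h) = q' ≫ g := by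
    intro r hr
    let s : cE'.pt ⟶ cE.pt := (yon S).preimage (sq.lift q' _ (hw r hr))
    have hs1 : (yon S).map s ≫ q = q' := by
      simp only [s, Functor.map_preimage, IsPullback.lift_fst]
    have hs2 : s ≫ a = a' ≫ r ≫ ak D hDa i₀ p₀ k := by
      apply (yon S).map_injective
      simp only [s, Functor.map_comp, Functor.map_preimage, IsPullback.lift_snd]
    have hs3 : s ≫ πk = a' ≫ r := by
      apply hom_ext_Uk
      · rw [Functor.map_comp, Functor.map_comp, Category.assoc, Category.assoc, ← hqk,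
          ← Category.assoc, hs1, sq'.w, hr]
      · rw [Category.assoc, haInfk, hs2, Category.assoc]
    rw [← Category.assoc, ← hs3, Category.assoc, hhk, Functor.map_comp, hγ, ← Category.assoc, hs1]
  have hlim : a' ≫ r₁ ≫ h = a' ≫ r₂ ≫ h := by
    apply (yon S).map_injective
    rw [key r₁ rfl, key r₂ sqR.w.symm]
  -- equality at a later stage
  haveI : LocallyOfFiniteType Z.hom := inferInstance
  obtain ⟨πk', hπk'⟩ : ∃ πk' : cE'.pt ⟶ Uk D hDa k.left p₀' k₀', πk' = cE'.π.app k₀' := ⟨_, rfl⟩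
  have haInfk' : πk' ≫ ak D hDa k.left p₀' k₀' = a' := by rw [hπk']; exact haInf' k₀'
  have hlim' : πk' ≫ ak D hDa k.left p₀' k₀' ≫ r₁ ≫ h =
      πk' ≫ ak D hDa k.left p₀' k₀' ≫ r₂ ≫ h := by
    rw [← Category.assoc, ← Category.assoc πk', haInfk', hlim]
  obtain ⟨k'', ψ, hψ⟩ := exists_eq_of_limit_eq D hDa k.left p₀' cE' hcEL' k₀'
    (ak D hDa k.left p₀' k₀' ≫ r₁ ≫ h) (ak D hDa k.left p₀' k₀' ≫ r₂ ≫ h) (hπk' ▸ hlim')
  have hψ' : ak D hDa k.left p₀' k'' ≫ r₁ ≫ h = ak D hDa k.left p₀' k'' ≫ r₂ ≫ h := by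
    have e1 := uk_a D hDa k.left p₀' ψ
    calc ak D hDa k.left p₀' k'' ≫ r₁ ≫ h
        = (uk D hDa k.left p₀' ψ ≫ ak D hDa k.left p₀' k₀') ≫ r₁ ≫ h := by rw [e1]
      _ = uk D hDa k.left p₀' ψ ≫ ak D hDa k.left p₀' k₀' ≫ r₁ ≫ h := Category.assoc _ _ _
      _ = uk D hDa k.left p₀' ψ ≫ ak D hDa k.left p₀' k₀' ≫ r₂ ≫ h := hψ
      _ = (uk D hDa k.left p₀' ψ ≫ ak D hDa k.left p₀' k₀') ≫ r₂ ≫ h :=
        (Category.assoc _ _ _).symm
      _ = _ := by rw [e1]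
  -- Step 5: the new stage
  let k₂ : Over i₀ := Over.mk (k''.hom ≫ k.hom)
  let ψ₂ : k₂ ⟶ k := Over.homMk k''.hom
  let h₂ : Uk D hDa i₀ p₀ k₂ ⟶ Z := uk D hDa i₀ p₀ ψ₂ ≫ h
  have hpk₂e : RepWith @Etale (pk D hDa i₀ p₀ k₂) := repWith_pk D hDa i₀ p₀ @Etale hp₀e k₂
  have hpk₂s : RepWith @Surjective (pk D hDa i₀ p₀ k₂) :=
    repWith_pk D hDa i₀ p₀ @Surjective hp₀s k₂
  obtain ⟨R₂, x₁, x₂, sqR₂⟩ : ∃ (R₂ : Over S) (x₁ x₂ : R₂ ⟶ Uk D hDa i₀ p₀ k₂),
      IsPullback ((yon S).map x₁) ((yon S).map x₂) (pk D hDa i₀ p₀ k₂) (pk D hDa i₀ p₀ k₂) := by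
    refine ⟨hpk₂e.rep.pullback (pk D hDa i₀ p₀ k₂), (yon S).preimage (hpk₂e.rep.fst _),
      hpk₂e.rep.snd _, ?_⟩
    rw [Functor.map_preimage]
    exact hpk₂e.rep.isPullback _
  have hx : x₁ ≫ h₂ = x₂ ≫ h₂ := by
    have e1 : (yon S).map (x₁ ≫ uk D hDa i₀ p₀ ψ₂) ≫ pk D hDa i₀ p₀ k =
        (yon S).map (x₂ ≫ uk D hDa i₀ p₀ ψ₂) ≫ pk D hDa i₀ p₀ k := by
      rw [Functor.map_comp, Functor.map_comp, Category.assoc, Category.assoc, uk_p,
        ← Category.assoc, ← Category.assoc, sqR₂.w]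
    let r : R₂ ⟶ R := (yon S).preimage (sqR.lift _ _ e1)
    have hr1 : r ≫ r₁ = x₁ ≫ uk D hDa i₀ p₀ ψ₂ := by
      apply (yon S).map_injective
      simp only [r, Functor.map_comp, Functor.map_preimage, IsPullback.lift_fst]
    have hr2 : r ≫ r₂ = x₂ ≫ uk D hDa i₀ p₀ ψ₂ := by
      apply (yon S).map_injective
      simp only [r, Functor.map_comp, Functor.map_preimage, IsPullback.lift_snd]
    have e2 : ((yon S).map x₁ ≫ pk D hDa i₀ p₀ k₂) ≫ D.map k''.hom = (yon S).map r ≫ p₀' := by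
      simp only [p₀']
      rw [← Category.assoc, ← Functor.map_comp, hr1, Functor.map_comp, Category.assoc,
        Category.assoc, uk_p]
      rfl
    let ρ : R₂ ⟶ Uk D hDa k.left p₀' k'' :=
      (yon S).preimage ((sqk D hDa k.left p₀' k'').lift _ _ e2)
    have hρ : ρ ≫ ak D hDa k.left p₀' k'' = r := by
      apply (yon S).map_injective
      simp only [ρ, Functor.map_comp, Functor.map_preimage, IsPullback.lift_snd]
    calc x₁ ≫ h₂ = (x₁ ≫ uk D hDa i₀ p₀ ψ₂) ≫ h := by simp only [h₂, Category.assoc]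
      _ = ρ ≫ (ak D hDa k.left p₀' k'' ≫ r₁) ≫ h := by
        rw [← hr1, ← hρ]; simp only [Category.assoc]
      _ = ρ ≫ (ak D hDa k.left p₀' k'' ≫ r₂) ≫ h := by
        simp only [Category.assoc]
        rw [hψ']
      _ = (x₂ ≫ uk D hDa i₀ p₀ ψ₂) ≫ h := by
        rw [← hr2, ← hρ]; simp only [Category.assoc]
      _ = x₂ ≫ h₂ := by simp only [h₂, Category.assoc]
  obtain ⟨gk, hgk⟩ := GQ.exists_desc_of_kernelPair (pk D hDa i₀ p₀ k₂)
    (Groth.Agent.S9883.isLocallySurjective_of_etale_surjective _ hpk₂e hpk₂s)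
    ((yon S).map x₁) ((yon S).map x₂) sqR₂ ((yon S).map h₂) (by
      rw [← Functor.map_comp, ← Functor.map_comp, hx])
  have hπ : (cE.π.app k₂ : cE.pt ⟶ Uk D hDa i₀ p₀ k₂) ≫ h₂ = γ := by
    have e := cE.w ψ₂
    calc (cE.π.app k₂ : cE.pt ⟶ Uk D hDa i₀ p₀ k₂) ≫ h₂
        = ((cE.π.app k₂ : cE.pt ⟶ Uk D hDa i₀ p₀ k₂) ≫ uk D hDa i₀ p₀ ψ₂) ≫ h :=
          (Category.assoc _ _ _).symm
      _ = (cE.π.app k : cE.pt ⟶ Uk D hDa i₀ p₀ k) ≫ h := by rw [← e]; rfl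
      _ = γ := hh
  obtain ⟨πk₂, hπk₂⟩ : ∃ πk₂ : cE.pt ⟶ Uk D hDa i₀ p₀ k₂, πk₂ = cE.π.app k₂ := ⟨_, rfl⟩
  have hqk₂ : q ≫ c.π.app k₂.left = (yon S).map πk₂ ≫ pk D hDa i₀ p₀ k₂ := by
    rw [hπk₂]; exact hq k₂
  have hπ₂ : πk₂ ≫ h₂ = γ := by rw [hπk₂]; exact hπ
  refine ⟨k₂, gk, h₂, ?_, hgk, ?_⟩
  · haveI : Epi q := SchIm.epi_of_etale_surjective q
      ((repWith_isStableUnderBaseChange _).of_isPullback sq.flip hp₀e)
      ((repWith_isStableUnderBaseChange _).of_isPullback sq.flip hp₀s)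
    rw [← cancel_epi q, ← Category.assoc, hqk₂, Category.assoc, hgk, ← Functor.map_comp, hπ₂, hγ]
  · rw [hπ]
    apply (yon S).map_injective
    rw [hγ, Functor.map_preimage]

end Groth.Agent.Lib.Helper15.LimFactor
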