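import Groth.Agent.Lib.Helper9.LimClosed1

set_option autoImplicit false
set_option backward.isDefEq.respectTransparency.types false
universe u
open CategoryTheory CategoryTheory.Limits AlgebraicGeometry TopologicalSpace

/-! Immersions from a quasi-compact scheme into a cofiltered limit of schemes with affine transition
maps are immersions into a stage. -/

namespace Groth.Agent.Lib.Helper15.LimImm

variable {J : Type u} [SmallCategory J] [IsCofiltered J] (E : J ⥤ Scheme.{u})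
  (e : Cone E) (he : IsLimit e) [∀ {i j : J} (f : i ⟶ j), IsAffineHom (E.map f)]
  {V : Scheme.{u}} (t : E ⟶ (Functor.const J).obj V)

/-- a compact open containing the image of an immersion from a quasi-compact scheme, in which
the image is closed -/
theorem exists_compact_open {T Y : Scheme.{u}} (h : T ⟶ Y) [IsImmersion h] [CompactSpace T] :
    ∃ (U : Y.Opens) (h' : T ⟶ U), IsCompact (U : Set Y) ∧ IsClosedImmersion h' ∧ h' ≫ U.ι = h := by
  classical
  let O := h.coborderRange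
  have hrO : Set.range h ⊆ (O : Set Y) := by
    rw [← h.liftCoborder_ι, Scheme.Hom.comp_base, TopCat.coe_comp, Set.range_comp]
    rintro _ ⟨z, -, rfl⟩
    exact z.2
  have hrc : IsCompact (Set.range h) := isCompact_range h.continuous
  -- cover the range by affine opens inside `O`
  have hcov : ∀ x ∈ Set.range h, ∃ W : Y.Opens, IsAffineOpen W ∧ x ∈ W ∧ W ≤ O := by
    intro x hx
    obtain ⟨_, ⟨W, hW, rfl⟩, hxW, hWO⟩ :=
      Y.isBasis_affineOpens.exists_subset_of_mem_open (hrO hx) O.isOpen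
    exact ⟨W, hW, hxW, hWO⟩
  choose! W hW hxW hWO using hcov
  obtain ⟨F, hF⟩ := hrc.elim_finite_subcover_image (b := Set.range h)
    (c := fun x => (W x : Set Y)) (fun x _ => (W x).isOpen)
    (fun x hx => Set.mem_iUnion₂.2 ⟨x, hx, hxW x hx⟩)
  obtain ⟨hFr, hFfin, hFcov⟩ := hF
  let U : Y.Opens := ⨆ x : F, W x.1
  have hUO : U ≤ O := iSup_le fun x => hWO x.1 (hFr x.2)
  have hrU : Set.range h ⊆ (U : Set Y) := by
    intro x hx
    obtain ⟨y, hy, hxy⟩ := Set.mem_iUnion₂.1 (hFcov hx)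
    exact Opens.mem_iSup.2 ⟨⟨y, hy⟩, hxy⟩
  have hUc : IsCompact (U : Set Y) := by
    haveI : Finite F := hFfin
    have : (U : Set Y) = ⋃ x : F, (W x.1 : Set Y) := by
      simp [U]
    rw [this]
    exact isCompact_iUnion fun x => (hW x.1 (hFr x.2)).isCompact
  let h' : T ⟶ U := IsOpenImmersion.lift U.ι h (by simpa using hrU)
  have hh' : h' ≫ U.ι = h := IsOpenImmersion.lift_fac _ _ _
  refine ⟨U, h', hUc, ?_, hh'⟩
  -- `h' ≫ (U ⊆ O) = liftCoborder`
  let ιUO : (U : Scheme.{u}) ⟶ O := Y.homOfLE hUO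
  have e1 : h' ≫ ιUO = h.liftCoborder := by
    rw [← cancel_mono O.ι, Category.assoc, Y.homOfLE_ι, hh', h.liftCoborder_ι]
  haveI : IsClosedImmersion (h' ≫ ιUO) := by rw [e1]; infer_instance
  exact IsClosedImmersion.of_comp h' ιUO

include he in
/-- key case: the open is a preimage from a stage -/
theorem exists_isImmersion_aux (j₁ : J) (V₁ : (E.obj j₁).Opens)
    (hV₁ : IsCompact (V₁ : Set (E.obj j₁))) {T : Scheme.{u}}
    (h' : T ⟶ (e.π.app j₁ ⁻¹ᵁ V₁ : e.pt.Opens)) [IsClosedImmersion h'] (a : e.pt ⟶ V)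
    (ha : ∀ j, e.π.app j ≫ t.app j = a)
    [LocallyOfFiniteType (h' ≫ (e.π.app j₁ ⁻¹ᵁ V₁).ι ≫ a)] :
    ∃ (j : J) (_ : j ⟶ j₁), IsImmersion (h' ≫ (e.π.app j₁ ⁻¹ᵁ V₁).ι ≫ e.π.app j) := by
  let t' : opensDiagram E j₁ V₁ ⟶ (Functor.const (Over j₁)).obj V :=
    { app := fun k => (E.map k.hom ⁻¹ᵁ V₁).ι ≫ t.app k.left
      naturality := fun k k' f => by
        change (E.map f.left).resLE _ _ _ ≫ (E.map k'.hom ⁻¹ᵁ V₁).ι ≫ t.app k'.left =
          ((E.map k.hom ⁻¹ᵁ V₁).ι ≫ t.app k.left) ≫ 𝟙 _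
        rw [Scheme.Hom.resLE_comp_ι_assoc, Category.comp_id]
        have := t.naturality f.left
        simp only [Functor.const_obj_obj, Functor.const_obj_map, Category.comp_id] at this
        rw [this] }
  let k₁ : Over j₁ := Over.mk (𝟙 j₁)
  haveI : CompactSpace ((opensDiagram E j₁ V₁).obj k₁) := by
    have h1 : IsCompact ((E.map (𝟙 j₁) ⁻¹ᵁ V₁ : (E.obj j₁).Opens) : Set (E.obj j₁)) := by
      have : (E.map (𝟙 j₁) ⁻¹ᵁ V₁ : (E.obj j₁).Opens) = V₁ := by
        rw [E.map_id]; rfl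
      rw [this]; exact hV₁
    exact isCompact_iff_compactSpace.1 h1
  let hT : T ⟶ (opensCone E e j₁ V₁).pt := h'
  haveI : IsClosedImmersion hT := ‹IsClosedImmersion h'›
  have e1 : hT ≫ (opensCone E e j₁ V₁).π.app k₁ ≫ t'.app k₁ =
      h' ≫ (e.π.app j₁ ⁻¹ᵁ V₁).ι ≫ a := by
    change h' ≫ (e.π.app j₁).resLE _ _ _ ≫ (E.map (𝟙 j₁) ⁻¹ᵁ V₁).ι ≫ t.app j₁ = _
    rw [Scheme.Hom.resLE_comp_ι_assoc, ha j₁]
  haveI : LocallyOfFiniteType (hT ≫ (opensCone E e j₁ V₁).π.app k₁ ≫ t'.app k₁) := by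
    rw [e1]; infer_instance
  obtain ⟨k, -, hk⟩ := Groth.Agent.Lib.Helper9.LimClosed.exists_isClosedImmersion
    (opensDiagram E j₁ V₁) (opensCone E e j₁ V₁) (isLimitOpensCone E e he j₁ V₁) t' hT k₁
  refine ⟨k.left, k.hom, ?_⟩
  have e2 : h' ≫ (e.π.app j₁ ⁻¹ᵁ V₁).ι ≫ e.π.app k.left =
      (hT ≫ (opensCone E e j₁ V₁).π.app k) ≫ (E.map k.hom ⁻¹ᵁ V₁).ι := by
    change _ = (h' ≫ (e.π.app k.left).resLE _ _ _) ≫ _
    rw [Category.assoc, Scheme.Hom.resLE_comp_ι]
  rw [e2]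
  haveI : IsClosedImmersion (hT ≫ (opensCone E e j₁ V₁).π.app k) := hk
  have i1 : IsImmersion (hT ≫ (opensCone E e j₁ V₁).π.app k) := inferInstance
  have i2 : IsImmersion (E.map k.hom ⁻¹ᵁ V₁).ι := inferInstance
  exact MorphismProperty.comp_mem (W := @IsImmersion) _ _ i1 i2

include he in
/-- An immersion from a quasi-compact scheme, locally of finite type over a base, into a
cofiltered limit with affine transition maps is an immersion into some stage. -/
theorem exists_isImmersion {T : Scheme.{u}} (h : T ⟶ e.pt) [IsImmersion h] [CompactSpace T]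
    (a : e.pt ⟶ V) (ha : ∀ j, e.π.app j ≫ t.app j = a) [LocallyOfFiniteType (h ≫ a)] :
    ∃ j : J, IsImmersion (h ≫ e.π.app j) := by
  obtain ⟨U, h', hUc, hh'c, hh'⟩ := exists_compact_open h
  obtain ⟨j₁, V₁, hV₁, rfl⟩ := exists_preimage_eq E e he U hUc
  haveI : LocallyOfFiniteType (h' ≫ (e.π.app j₁ ⁻¹ᵁ V₁).ι ≫ a) := by
    rw [← Category.assoc, hh']; infer_instance
  obtain ⟨j, -, hj⟩ := exists_isImmersion_aux E e he t j₁ V₁ hV₁ h' a ha
  refine ⟨j, ?_⟩
  rw [← hh', Category.assoc]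
  exact hj

end Groth.Agent.Lib.Helper15.LimImm
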