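import Groth.Prelude.Def_AlgSpRep

set_option autoImplicit false
set_option backward.isDefEq.respectTransparency.types false
universe u
open CategoryTheory CategoryTheory.Limits AlgebraicGeometry
open AlgSp Opposite

namespace Groth.Agent.Lib.Helper15.RelLim

variable {S : Scheme.{u}} {I : Type u} [SmallCategory I] (D : I ⥤ Over S) (c : Cone D) (i : I)

/-- The system restricted to `Over i`, viewed over `T_i`. -/
def Di : Over i ⥤ Over (D.obj i).left where
  obj f := Over.mk (D.map f.hom).left
  map {f f'} φ := Over.homMk (D.map φ.left).left (by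
    simp only [Over.mk_hom]
    rw [← Over.comp_left, ← D.map_comp, Over.w])
  map_id f := by
    ext
    simp
  map_comp φ ψ := by
    ext
    simp

/-- The cone over the restricted system. -/
def ci : Cone (Di D i) where
  pt := Over.mk (c.π.app i).left
  π :=
    { app := fun f => Over.homMk (c.π.app f.left).left (by
        simp only [Functor.const_obj_obj, Over.mk_hom, Di]
        rw [← Over.comp_left, c.w])
      naturality := fun f f' φ => by
        ext
        simp only [Functor.const_obj_obj, Functor.const_obj_map, Category.id_comp, Di,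
          Over.comp_left, Over.homMk_left]
        rw [← Over.comp_left, c.w] }

variable [IsCofiltered I]

noncomputable def isLimit_ci (hc : IsLimit ((Over.forget S).mapCone c)) :
    IsLimit ((Over.forget (D.obj i).left).mapCone (ci D c i)) := by
  have hc' : IsLimit (((Over.forget S).mapCone c).whisker (Over.forget i)) :=
    (Functor.Initial.isLimitWhiskerEquiv (Over.forget i) _).symm hc
  exact hc'


omit [IsCofiltered I] in
/-- identification of `T_j` viewed over `S` through `T_i` with `T_j`. -/
def eD (f : Over i) : (Over.map (D.obj i).hom).obj ((Di D i).obj f) ≅ D.obj f.left :=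
  Over.isoMk (Iso.refl _) (by
    simp only [Di, Iso.refl_hom, Category.id_comp, Over.map_obj_hom, Over.mk_hom]
    exact (Over.w (D.map f.hom)).symm)

omit [IsCofiltered I] in
/-- identification of the vertex. -/
def ePt : (Over.map (D.obj i).hom).obj (ci D c i).pt ≅ c.pt :=
  Over.isoMk (Iso.refl _) (by
    simp only [ci, Iso.refl_hom, Category.id_comp, Over.map_obj_hom, Over.mk_hom]
    exact (Over.w (c.π.app i)).symm)

omit [IsCofiltered I] in
theorem overHom_eD (f : Over i) :
    overHom (D.obj i) ((Di D i).obj f) = (eD D i f).hom ≫ D.map f.hom := by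
  ext
  simp [eD, Di]

omit [IsCofiltered I] in
theorem overHom_ePt :
    overHom (D.obj i) (ci D c i).pt = (ePt D c i).hom ≫ c.π.app i := by
  ext
  simp [ePt, ci]

omit [IsCofiltered I] in
theorem map_π_eD (f : Over i) :
    (Over.map (D.obj i).hom).map ((ci D c i).π.app f) ≫ (eD D i f).hom =
      (ePt D c i).hom ≫ c.π.app f.left := by
  ext
  simp [ePt, ci, eD, Di]

omit [IsCofiltered I] in
theorem map_map_eD {f f' : Over i} (φ : f ⟶ f') :
    (Over.map (D.obj i).hom).map ((Di D i).map φ) ≫ (eD D i f').hom =
      (eD D i f).hom ≫ D.map φ.left := by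
  ext
  simp [eD, Di]


variable {F G : PSp S} (a : F ⟶ G)

omit [IsCofiltered I] in
theorem map_map_apply {X Y Z : Over S} (P : PSp S) (f : X ⟶ Y) (g : Y ⟶ Z) (x : P.obj (op Z)) :
    P.map f.op (P.map g.op x) = P.map (f ≫ g).op x := by
  rw [op_comp, Functor.map_comp_apply]

/-- Lemma A: a section of `F` over the limit lying over a section of `G` at stage `i` descends to
a later stage, compatibly. -/
theorem exists_lift (ha : IsRelLimitPreserving a) (hc : IsLimit ((Over.forget S).mapCone c))
    (hD : ∀ j, IsAffine (D.obj j).left) (hT : IsAffine c.pt.left)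
    (g : G.obj (op (D.obj i))) (x : F.obj (op c.pt))
    (hx : a.app _ x = G.map (c.π.app i).op g) :
    ∃ (j : I) (f : j ⟶ i) (xj : F.obj (op (D.obj j))),
      a.app _ xj = G.map (D.map f).op g ∧ F.map (c.π.app j).op xj = x := by
  obtain ⟨hcol⟩ := ha (D.obj i) g (Di D i) (ci D c i) (isLimit_ci D c i hc)
    (fun f => hD f.left) hT
  let xt : (fiberFun a (D.obj i) g).obj (op (ci D c i).pt) :=
    ⟨F.map (ePt D c i).hom.op x, by
      rw [NatTrans.naturality_apply, hx, map_map_apply, overHom_ePt]⟩
  obtain ⟨f, xf, hxf⟩ := Types.jointly_surjective_of_isColimit hcol xt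
  have h1 := congrArg Subtype.val hxf
  rw [Functor.mapCocone_ι_app, fiberFun_map_coe] at h1
  have h1' : F.map ((Over.map (D.obj i).hom).map ((ci D c i).π.app f.unop)).op xf.1 =
      F.map (ePt D c i).hom.op x := h1
  have hxf2 : a.app (op ((Over.map (D.obj i).hom).obj ((Di D i).obj f.unop))) xf.1 =
      G.map (overHom (D.obj i) ((Di D i).obj f.unop)).op g := xf.2
  refine ⟨f.unop.left, f.unop.hom, F.map (eD D i f.unop).inv.op xf.1, ?_, ?_⟩
  · rw [NatTrans.naturality_apply, hxf2, map_map_apply, overHom_eD, Iso.inv_hom_id_assoc]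
  · have e1 : c.π.app f.unop.left ≫ (eD D i f.unop).inv =
        (ePt D c i).inv ≫ (Over.map (D.obj i).hom).map ((ci D c i).π.app f.unop) := by
      rw [Iso.comp_inv_eq, Category.assoc, map_π_eD, Iso.inv_hom_id_assoc]
    rw [map_map_apply, e1, ← map_map_apply, h1', map_map_apply, Iso.inv_hom_id]
    simp

/-- Lemma B: two sections of `F` at stage `i` with the same image in `G` and the same restriction
to the limit agree at a later stage. -/
theorem exists_eq (ha : IsRelLimitPreserving a) (hc : IsLimit ((Over.forget S).mapCone c))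
    (hD : ∀ j, IsAffine (D.obj j).left) (hT : IsAffine c.pt.left)
    (x x' : F.obj (op (D.obj i))) (hxx : a.app _ x = a.app _ x')
    (hx : F.map (c.π.app i).op x = F.map (c.π.app i).op x') :
    ∃ (j : I) (f : j ⟶ i), F.map (D.map f).op x = F.map (D.map f).op x' := by
  obtain ⟨hcol⟩ := ha (D.obj i) (a.app _ x) (Di D i) (ci D c i) (isLimit_ci D c i hc)
    (fun f => hD f.left) hT
  let f₀ : Over i := Over.mk (𝟙 i)
  have he : overHom (D.obj i) ((Di D i).obj f₀) = (eD D i f₀).hom := by
    rw [overHom_eD]
    have : D.map f₀.hom = 𝟙 _ := D.map_id i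
    rw [this]
    exact Category.comp_id _
  let xt : (fiberFun a (D.obj i) (a.app _ x)).obj (op ((Di D i).obj f₀)) :=
    ⟨F.map (eD D i f₀).hom.op x, by rw [NatTrans.naturality_apply, he]; rfl⟩
  let xt' : (fiberFun a (D.obj i) (a.app _ x)).obj (op ((Di D i).obj f₀)) :=
    ⟨F.map (eD D i f₀).hom.op x', by rw [NatTrans.naturality_apply, he, hxx]; rfl⟩
  have hxt : xt.1 = F.map (eD D i f₀).hom.op x := rfl
  have hxt' : xt'.1 = F.map (eD D i f₀).hom.op x' := rfl
  have h1 : ((fiberFun a (D.obj i) (a.app _ x)).mapCocone (ci D c i).op).ι.app (op f₀) xt =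
      ((fiberFun a (D.obj i) (a.app _ x)).mapCocone (ci D c i).op).ι.app (op f₀) xt' := by
    apply Subtype.ext
    rw [Functor.mapCocone_ι_app, fiberFun_map_coe, fiberFun_map_coe, hxt, hxt']
    change F.map ((Over.map (D.obj i).hom).map ((ci D c i).π.app f₀)).op _ =
      F.map ((Over.map (D.obj i).hom).map ((ci D c i).π.app f₀)).op _
    rw [map_map_apply, map_map_apply, map_π_eD, ← map_map_apply, ← map_map_apply]
    exact congrArg _ hx
  obtain ⟨f', φ, hφ⟩ := (Types.FilteredColimit.isColimit_eq_iff' hcol _ _).1 h1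
  have h2 := congrArg Subtype.val hφ
  rw [Functor.comp_map, fiberFun_map_coe, fiberFun_map_coe, hxt, hxt'] at h2
  have h2' : F.map ((Over.map (D.obj i).hom).map ((Di D i).map φ.unop)).op
      (F.map (eD D i f₀).hom.op x) =
      F.map ((Over.map (D.obj i).hom).map ((Di D i).map φ.unop)).op
      (F.map (eD D i f₀).hom.op x') := h2
  rw [map_map_apply, map_map_apply, map_map_eD, ← map_map_apply, ← map_map_apply] at h2'
  refine ⟨f'.unop.left, φ.unop.left, ?_⟩
  have h3 := congrArg (F.map (eD D i f'.unop).inv.op) h2'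
  rw [map_map_apply, map_map_apply (f := (eD D i f'.unop).inv), Iso.inv_hom_id] at h3
  simpa using h3

end Groth.Agent.Lib.Helper15.RelLim
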