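import Groth.Prelude.Def_AlgSpRep
import Groth.Agent.Lib.Helper15.RelLim
import Mathlib.CategoryTheory.Limits.Constructions.Over.Connected
import Mathlib.CategoryTheory.Comma.Over.Pullback
import Groth.Agent.Lib.Helper3.SpCoprod
import Groth.Agent.Lib.Helper3.FiniteAffineRefine
import Mathlib.AlgebraicGeometry.Morphisms.UniversallyOpen

set_option autoImplicit false
set_option backward.isDefEq.respectTransparency.types false
universe u
open CategoryTheory CategoryTheory.Limits AlgebraicGeometry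
open AlgSp Opposite

namespace Groth.Agent.Lib.Helper15.LimLoc

open Groth.Agent.Lib.Helper15.RelLim

variable {S : Scheme.{u}} {ι : Type u} (U : ι → Over S)
  {I : Type u} [SmallCategory I] (D : I ⥤ Over S) (c : Cone D) (k₀ : I)

/-- a test object: an affine scheme over some `U j` with a map to `T_{k₀}` over `S`. -/
structure Test where
  j : ι
  W' : Over (U j).left
  aff : IsAffine W'.left
  w : (Over.map (U j).hom).obj W' ⟶ D.obj k₀

namespace Test
variable {U D k₀} (τ : Test U D k₀)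

/-- the test object viewed over `S`. -/
abbrev W : Over S := (Over.map (U τ.j).hom).obj τ.W'

/-- the base-changed system, over `U j`. -/
noncomputable abbrev G : Over k₀ ⥤ Over (U τ.j).left :=
  Di D k₀ ⋙ Over.pullback τ.w.left ⋙ Over.map τ.W'.hom

/-- the base-changed cone. -/
noncomputable abbrev cone : Cone τ.G :=
  (Over.map τ.W'.hom).mapCone ((Over.pullback τ.w.left).mapCone (ci D c k₀))

/-- the stage `k` of the base-changed system, over `S`. -/
noncomputable abbrev Wk (k : Over k₀) : Over S := (Over.map (U τ.j).hom).obj (τ.G.obj k)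

/-- the limit of the base-changed system, over `S`. -/
noncomputable abbrev Winf : Over S := (Over.map (U τ.j).hom).obj (τ.cone c).pt

/-- transition maps. -/
noncomputable abbrev trans {k k' : Over k₀} (φ : k ⟶ k') : τ.Wk k ⟶ τ.Wk k' :=
  (Over.map (U τ.j).hom).map (τ.G.map φ)

/-- projections from the limit. -/
noncomputable abbrev proj (k : Over k₀) : τ.Winf c ⟶ τ.Wk k :=
  (Over.map (U τ.j).hom).map ((τ.cone c).π.app k)

theorem w_hom : τ.w.left ≫ (D.obj k₀).hom = τ.W'.hom ≫ (U τ.j).hom := Over.w τ.w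

/-- projection to `T_k`. -/
noncomputable def fstK (k : Over k₀) : τ.Wk k ⟶ D.obj k.left :=
  Over.homMk (pullback.fst (D.map k.hom).left τ.w.left) (by
    change pullback.fst (D.map k.hom).left τ.w.left ≫ (D.obj k.left).hom =
      (pullback.snd (D.map k.hom).left τ.w.left ≫ τ.W'.hom) ≫ (U τ.j).hom
    rw [← Over.w (D.map k.hom), ← Category.assoc, pullback.condition, Category.assoc, τ.w_hom,
      Category.assoc])

/-- projection to `W`. -/
noncomputable def sndK (k : Over k₀) : τ.Wk k ⟶ τ.W :=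
  Over.homMk (pullback.snd (D.map k.hom).left τ.w.left) (by
    change pullback.snd (D.map k.hom).left τ.w.left ≫ τ.W'.hom ≫ (U τ.j).hom =
      (pullback.snd (D.map k.hom).left τ.w.left ≫ τ.W'.hom) ≫ (U τ.j).hom
    rw [Category.assoc])

theorem condK (k : Over k₀) : τ.fstK k ≫ D.map k.hom = τ.sndK k ≫ τ.w := by
  ext
  exact pullback.condition

/-- the universal property of stage `k`. -/
noncomputable def liftK (k : Over k₀) {Z : Over S} (a : Z ⟶ D.obj k.left) (b : Z ⟶ τ.W)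
    (h : a ≫ D.map k.hom = b ≫ τ.w) : Z ⟶ τ.Wk k :=
  Over.homMk (pullback.lift a.left b.left (congrArg (fun m => m.left) h)) (by
    change pullback.lift a.left b.left _ ≫
      (pullback.snd (D.map k.hom).left τ.w.left ≫ τ.W'.hom) ≫ (U τ.j).hom = Z.hom
    rw [← Category.assoc, ← Category.assoc, pullback.lift_snd, Category.assoc]
    exact Over.w b)

theorem liftK_fst (k : Over k₀) {Z : Over S} (a : Z ⟶ D.obj k.left) (b : Z ⟶ τ.W)
    (h : a ≫ D.map k.hom = b ≫ τ.w) : τ.liftK k a b h ≫ τ.fstK k = a := by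
  ext
  exact pullback.lift_fst _ _ _

theorem liftK_snd (k : Over k₀) {Z : Over S} (a : Z ⟶ D.obj k.left) (b : Z ⟶ τ.W)
    (h : a ≫ D.map k.hom = b ≫ τ.w) : τ.liftK k a b h ≫ τ.sndK k = b := by
  ext
  exact pullback.lift_snd _ _ _

theorem homK_ext (k : Over k₀) {Z : Over S} (x y : Z ⟶ τ.Wk k)
    (h1 : x ≫ τ.fstK k = y ≫ τ.fstK k) (h2 : x ≫ τ.sndK k = y ≫ τ.sndK k) : x = y := by
  ext
  apply pullback.hom_ext
  · exact congrArg (fun m => m.left) h1
  · exact congrArg (fun m => m.left) h2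

/-- projection of the limit to `T`. -/
noncomputable def fstInf : τ.Winf c ⟶ c.pt :=
  Over.homMk (pullback.fst (c.π.app k₀).left τ.w.left) (by
    change pullback.fst (c.π.app k₀).left τ.w.left ≫ c.pt.hom =
      (pullback.snd (c.π.app k₀).left τ.w.left ≫ τ.W'.hom) ≫ (U τ.j).hom
    have e : (c.π.app k₀).left ≫ (D.obj k₀).hom = c.pt.hom := Over.w (c.π.app k₀)
    rw [← e, ← Category.assoc, pullback.condition, Category.assoc, τ.w_hom,
      Category.assoc])

/-- projection of the limit to `W`. -/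
noncomputable def sndInf : τ.Winf c ⟶ τ.W :=
  Over.homMk (pullback.snd (c.π.app k₀).left τ.w.left) (by
    change pullback.snd (c.π.app k₀).left τ.w.left ≫ τ.W'.hom ≫ (U τ.j).hom =
      (pullback.snd (c.π.app k₀).left τ.w.left ≫ τ.W'.hom) ≫ (U τ.j).hom
    rw [Category.assoc])

theorem condInf : τ.fstInf c ≫ c.π.app k₀ = τ.sndInf c ≫ τ.w := by
  ext
  exact pullback.condition

/-- the universal property of the limit stage. -/
noncomputable def liftInf {Z : Over S} (a : Z ⟶ c.pt) (b : Z ⟶ τ.W)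
    (h : a ≫ c.π.app k₀ = b ≫ τ.w) : Z ⟶ τ.Winf c :=
  Over.homMk (pullback.lift a.left b.left (congrArg (fun m => m.left) h)) (by
    change pullback.lift a.left b.left _ ≫
      (pullback.snd (c.π.app k₀).left τ.w.left ≫ τ.W'.hom) ≫ (U τ.j).hom = Z.hom
    rw [← Category.assoc, ← Category.assoc, pullback.lift_snd, Category.assoc]
    exact Over.w b)

theorem liftInf_fst {Z : Over S} (a : Z ⟶ c.pt) (b : Z ⟶ τ.W)
    (h : a ≫ c.π.app k₀ = b ≫ τ.w) : τ.liftInf c a b h ≫ τ.fstInf c = a := by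
  ext
  exact pullback.lift_fst _ _ _

theorem liftInf_snd {Z : Over S} (a : Z ⟶ c.pt) (b : Z ⟶ τ.W)
    (h : a ≫ c.π.app k₀ = b ≫ τ.w) : τ.liftInf c a b h ≫ τ.sndInf c = b := by
  ext
  exact pullback.lift_snd _ _ _

theorem homInf_ext {Z : Over S} (x y : Z ⟶ τ.Winf c)
    (h1 : x ≫ τ.fstInf c = y ≫ τ.fstInf c) (h2 : x ≫ τ.sndInf c = y ≫ τ.sndInf c) : x = y := by
  ext
  apply pullback.hom_ext
  · exact congrArg (fun m => m.left) h1
  · exact congrArg (fun m => m.left) h2

theorem proj_fstK (k : Over k₀) : τ.proj c k ≫ τ.fstK k = τ.fstInf c ≫ c.π.app k.left := by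
  ext
  simp [fstK, fstInf, ci, Di]
  exact pullback.lift_fst _ _ _

theorem proj_sndK (k : Over k₀) : τ.proj c k ≫ τ.sndK k = τ.sndInf c := by
  ext
  simp [sndK, sndInf, ci, Di]
  exact pullback.lift_snd _ _ _

theorem trans_fstK {k k' : Over k₀} (φ : k ⟶ k') :
    τ.trans φ ≫ τ.fstK k' = τ.fstK k ≫ D.map φ.left := by
  ext
  simp [fstK, Di]
  exact pullback.lift_fst _ _ _

theorem trans_sndK {k k' : Over k₀} (φ : k ⟶ k') : τ.trans φ ≫ τ.sndK k' = τ.sndK k := by
  ext
  simp [sndK, Di]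
  exact pullback.lift_snd _ _ _

section L
variable [IsCofiltered I]

attribute [local instance] IsCofiltered.isConnected

/-- the base-changed cone is a limit cone of schemes. -/
noncomputable def isLimit_cone (hc : IsLimit ((Over.forget S).mapCone c)) :
    IsLimit ((Over.forget (U τ.j).left).mapCone (τ.cone c)) := by
  have h1 : IsLimit ((Over.forget _).mapCone (ci D c k₀)) := isLimit_ci D c k₀ hc
  have h2 : IsLimit (ci D c k₀) := isLimitOfReflects (Over.forget _) h1
  have : PreservesLimitsOfSize.{u, u} (Over.pullback τ.w.left) :=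
    (Over.mapPullbackAdj τ.w.left).rightAdjoint_preservesLimits
  have h3 : IsLimit ((Over.pullback τ.w.left).mapCone (ci D c k₀)) :=
    isLimitOfPreserves _ h2
  have h4 : IsLimit ((Over.forget _).mapCone ((Over.pullback τ.w.left).mapCone (ci D c k₀))) :=
    isLimitOfPreserves _ h3
  exact h4

variable {F : PSp S}

theorem exists_isColimit (hloc : IsLimitPreserving ((Over.map (U τ.j).hom).op ⋙ F))
    (hc : IsLimit ((Over.forget S).mapCone c)) (hD : ∀ i, IsAffine (D.obj i).left)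
    (hT : IsAffine c.pt.left) :
    Nonempty (IsColimit (((Over.map (U τ.j).hom).op ⋙ F).mapCocone (τ.cone c).op)) := by
  have : IsAffine ((Over.map (U τ.j).hom).obj τ.W').left := τ.aff
  refine hloc τ.G (τ.cone c) (τ.isLimit_cone c hc) (fun k => ?_) ?_
  · have := hD k₀
    have := hD k.left
    change IsAffine (pullback (D.map k.hom).left τ.w.left)
    infer_instance
  · have := hD k₀
    have : IsAffine (((Functor.const I).obj c.pt).obj k₀).left := hT
    change IsAffine (pullback (c.π.app k₀).left τ.w.left)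
    infer_instance

theorem surj (hloc : IsLimitPreserving ((Over.map (U τ.j).hom).op ⋙ F))
    (hc : IsLimit ((Over.forget S).mapCone c)) (hD : ∀ i, IsAffine (D.obj i).left)
    (hT : IsAffine c.pt.left) (ξ : F.obj (op (τ.Winf c))) :
    ∃ (k : Over k₀) (ξk : F.obj (op (τ.Wk k))), F.map (τ.proj c k).op ξk = ξ := by
  obtain ⟨ht⟩ := τ.exists_isColimit c hloc hc hD hT
  obtain ⟨j, y, hy⟩ := Types.jointly_surjective_of_isColimit ht ξ
  exact ⟨j.unop, y, hy⟩

theorem inj (hloc : IsLimitPreserving ((Over.map (U τ.j).hom).op ⋙ F))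
    (hc : IsLimit ((Over.forget S).mapCone c)) (hD : ∀ i, IsAffine (D.obj i).left)
    (hT : IsAffine c.pt.left) (k : Over k₀) (x y : F.obj (op (τ.Wk k)))
    (h : F.map (τ.proj c k).op x = F.map (τ.proj c k).op y) :
    ∃ (k' : Over k₀) (φ : k' ⟶ k), F.map (τ.trans φ).op x = F.map (τ.trans φ).op y := by
  obtain ⟨ht⟩ := τ.exists_isColimit c hloc hc hD hT
  obtain ⟨j, f, hf⟩ := (Types.FilteredColimit.isColimit_eq_iff' ht (i := op k) x y).1 h
  exact ⟨j.unop, f.unop, hf⟩

end L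

theorem trans_comp {k k' k'' : Over k₀} (ψ : k ⟶ k') (φ : k' ⟶ k'') :
    τ.trans (ψ ≫ φ) = τ.trans ψ ≫ τ.trans φ := by
  change (Over.map (U τ.j).hom).map (τ.G.map (ψ ≫ φ)) = _
  rw [Functor.map_comp, Functor.map_comp]

theorem proj_trans {k k' : Over k₀} (φ : k ⟶ k') : τ.proj c k ≫ τ.trans φ = τ.proj c k' := by
  change (Over.map (U τ.j).hom).map ((τ.cone c).π.app k) ≫
    (Over.map (U τ.j).hom).map (τ.G.map φ) = _
  rw [← Functor.map_comp, (τ.cone c).w φ]

/-- a morphism of test objects. -/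
structure Hom (τ τ' : Test U D k₀) where
  m : τ.W ⟶ τ'.W
  comm : m ≫ τ'.w = τ.w

namespace Hom
variable {τ} {τ' : Test U D k₀} (h : Hom τ τ')

noncomputable def mapK (k : Over k₀) : τ.Wk k ⟶ τ'.Wk k :=
  τ'.liftK k (τ.fstK k) (τ.sndK k ≫ h.m) (by rw [Category.assoc, h.comm, τ.condK])

noncomputable def mapInf : τ.Winf c ⟶ τ'.Winf c :=
  τ'.liftInf c (τ.fstInf c) (τ.sndInf c ≫ h.m) (by rw [Category.assoc, h.comm, τ.condInf])

theorem mapK_fstK (k : Over k₀) : h.mapK k ≫ τ'.fstK k = τ.fstK k := τ'.liftK_fst _ _ _ _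

theorem mapK_sndK (k : Over k₀) : h.mapK k ≫ τ'.sndK k = τ.sndK k ≫ h.m := τ'.liftK_snd _ _ _ _

theorem mapInf_fstInf : h.mapInf c ≫ τ'.fstInf c = τ.fstInf c := τ'.liftInf_fst _ _ _ _

theorem mapInf_sndInf : h.mapInf c ≫ τ'.sndInf c = τ.sndInf c ≫ h.m := τ'.liftInf_snd _ _ _ _

theorem proj_mapK (k : Over k₀) : τ.proj c k ≫ h.mapK k = h.mapInf c ≫ τ'.proj c k := by
  apply τ'.homK_ext
  · rw [Category.assoc, mapK_fstK, Category.assoc, τ'.proj_fstK, τ.proj_fstK, ← Category.assoc,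
      mapInf_fstInf]
  · rw [Category.assoc, mapK_sndK, ← Category.assoc, τ.proj_sndK, Category.assoc, τ'.proj_sndK,
      mapInf_sndInf]

theorem trans_mapK {k k' : Over k₀} (φ : k ⟶ k') :
    τ.trans φ ≫ h.mapK k' = h.mapK k ≫ τ'.trans φ := by
  apply τ'.homK_ext
  · rw [Category.assoc, mapK_fstK, Category.assoc, τ'.trans_fstK, τ.trans_fstK, ← Category.assoc,
      mapK_fstK]
  · rw [Category.assoc, mapK_sndK, ← Category.assoc, τ.trans_sndK, Category.assoc, τ'.trans_sndK,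
      mapK_sndK]

end Hom

end Test

section Sheaf
variable {F : PSp S} (hF : Presheaf.IsSheaf (J S) F) {T : Over S} {m : ℕ} (P : Fin m → Over S)
  (g : ∀ a, P a ⟶ T) (hcov : Sieve.generate (Presieve.ofArrows P g) ∈ J S T)

include hF hcov

theorem sheafFor : (Presieve.ofArrows P g).IsSheafFor F := by
  rw [Presieve.isSheafFor_iff_generate]
  exact (isSheaf_iff_isSheaf_of_type _ _).1 hF _ hcov

theorem sep_of_cover (x y : F.obj (op T)) (h : ∀ a, F.map (g a).op x = F.map (g a).op y) :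
    x = y := by
  have hs := sheafFor hF P g hcov
  refine hs.isSeparatedFor.ext ?_
  rintro Y f ⟨a⟩
  exact h a

theorem glue_of_cover (x : ∀ a, F.obj (op (P a)))
    (hx : ∀ (a b : Fin m) (Z : Over S) (za : Z ⟶ P a) (zb : Z ⟶ P b), za ≫ g a = zb ≫ g b →
      F.map za.op (x a) = F.map zb.op (x b)) : ∃ t, ∀ a, F.map (g a).op t = x a := by
  have hs := sheafFor hF P g hcov
  rw [Presieve.isSheafFor_arrows_iff] at hs
  obtain ⟨t, ht, -⟩ := hs x hx
  exact ⟨t, ht⟩

end Sheaf

section Common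

/-- finitely many eventually-true properties are simultaneously true at a common stage. -/
theorem exists_common {C : Type*} [Category C] [IsCofiltered C] (k : C) {α : Type*} [Fintype α]
    (P : α → ∀ ⦃k' : C⦄, (k' ⟶ k) → Prop)
    (hstab : ∀ (i : α) ⦃k' k'' : C⦄ (φ : k' ⟶ k) (ψ : k'' ⟶ k'), P i φ → P i (ψ ≫ φ))
    (hex : ∀ i, ∃ (k' : C) (φ : k' ⟶ k), P i φ) :
    ∃ (k' : C) (φ : k' ⟶ k), ∀ i, P i φ := by
  classical
  have key : ∀ s : Finset α, ∃ (k' : C) (φ : k' ⟶ k), ∀ i ∈ s, P i φ := by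
    intro s
    induction s using Finset.induction_on with
    | empty => exact ⟨k, 𝟙 k, fun i hi => absurd hi (Finset.notMem_empty i)⟩
    | insert i₀ s _ ih =>
      obtain ⟨k₁, φ₁, h₁⟩ := ih
      obtain ⟨k₂, φ₂, h₂⟩ := hex i₀
      let k₃ := IsCofiltered.min k₁ k₂
      let a : k₃ ⟶ k := IsCofiltered.minToLeft k₁ k₂ ≫ φ₁
      let b : k₃ ⟶ k := IsCofiltered.minToRight k₁ k₂ ≫ φ₂
      refine ⟨IsCofiltered.eq a b, IsCofiltered.eqHom a b ≫ a, fun i hi => ?_⟩
      rcases Finset.mem_insert.1 hi with rfl | hi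
      · rw [IsCofiltered.eq_condition]
        have := hstab i φ₂ (IsCofiltered.eqHom a b ≫ IsCofiltered.minToRight k₁ k₂) h₂
        rw [Category.assoc] at this
        exact this
      · have := hstab i φ₁ (IsCofiltered.eqHom a b ≫ IsCofiltered.minToLeft k₁ k₂) (h₁ i hi)
        rw [Category.assoc] at this
        exact this
  obtain ⟨k', φ, h⟩ := key Finset.univ
  exact ⟨k', φ, fun i => h i (Finset.mem_univ i)⟩

end Common

section Cover
variable {U D k₀} {m : ℕ} (τ : Fin m → Test U D k₀)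
  (hfl : ∀ a, Flat (τ a).w.left) (hfp : ∀ a, LocallyOfFinitePresentation (τ a).w.left)
  (hsurj : ∀ t : ↥(D.obj k₀).left, ∃ a, t ∈ Set.range (τ a).w.left)

include hfl hfp hsurj

theorem cover_K (k : Over k₀) :
    Sieve.generate (Presieve.ofArrows (fun a => (τ a).Wk k) (fun a => (τ a).fstK k)) ∈
      J S (D.obj k.left) := by
  refine Groth.Agent.Lib.Helper3.generate_ofArrows_mem_J_of_fppf _ _ (fun a => ?_) (fun a => ?_)
    (fun t => ?_)
  · have := hfl a
    change Flat (pullback.fst (D.map k.hom).left (τ a).w.left)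
    infer_instance
  · have := hfp a
    change LocallyOfFinitePresentation (pullback.fst (D.map k.hom).left (τ a).w.left)
    infer_instance
  · obtain ⟨a, y, hy⟩ := hsurj ((D.map k.hom).left t)
    obtain ⟨z, hz, -⟩ := Scheme.Pullback.exists_preimage_pullback
      (f := (D.map k.hom).left) (g := (τ a).w.left) t y hy.symm
    exact ⟨a, z, hz⟩

theorem cover_Inf :
    Sieve.generate (Presieve.ofArrows (fun a => (τ a).Winf c) (fun a => (τ a).fstInf c)) ∈
      J S c.pt := by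
  refine Groth.Agent.Lib.Helper3.generate_ofArrows_mem_J_of_fppf _ _ (fun a => ?_) (fun a => ?_)
    (fun t => ?_)
  · have := hfl a
    change Flat (pullback.fst (c.π.app k₀).left (τ a).w.left)
    infer_instance
  · have := hfp a
    change LocallyOfFinitePresentation (pullback.fst (c.π.app k₀).left (τ a).w.left)
    infer_instance
  · obtain ⟨a, y, hy⟩ := hsurj ((c.π.app k₀).left t)
    obtain ⟨z, hz, -⟩ := Scheme.Pullback.exists_preimage_pullback
      (f := (c.π.app k₀).left) (g := (τ a).w.left) t y hy.symm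
    exact ⟨a, z, hz⟩

end Cover

section Overlap
variable {U D k₀} (hk₀ : IsAffine (D.obj k₀).left) (τ₁ τ₂ : Test U D k₀)

/-- the overlap of two test objects over `T_{k₀}`. -/
noncomputable def overlap : Test U D k₀ where
  j := τ₁.j
  W' := Over.mk (pullback.fst τ₁.w.left τ₂.w.left ≫ τ₁.W'.hom)
  aff := by
    have : IsAffine ((Over.map (U τ₁.j).hom).obj τ₁.W').left := τ₁.aff
    have : IsAffine ((Over.map (U τ₂.j).hom).obj τ₂.W').left := τ₂.aff
    change IsAffine (pullback τ₁.w.left τ₂.w.left)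
    infer_instance
  w := Over.homMk (pullback.fst τ₁.w.left τ₂.w.left ≫ τ₁.w.left) (by
    change (pullback.fst τ₁.w.left τ₂.w.left ≫ τ₁.w.left) ≫ (D.obj k₀).hom =
      (pullback.fst τ₁.w.left τ₂.w.left ≫ τ₁.W'.hom) ≫ (U τ₁.j).hom
    rw [Category.assoc, τ₁.w_hom, Category.assoc])

/-- first projection of the overlap. -/
noncomputable def overlapFst : Test.Hom (overlap hk₀ τ₁ τ₂) τ₁ where
  m := Over.homMk (pullback.fst τ₁.w.left τ₂.w.left) (by
    change pullback.fst τ₁.w.left τ₂.w.left ≫ τ₁.W'.hom ≫ (U τ₁.j).hom =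
      (pullback.fst τ₁.w.left τ₂.w.left ≫ τ₁.W'.hom) ≫ (U τ₁.j).hom
    rw [Category.assoc])
  comm := by
    ext
    rfl

/-- second projection of the overlap. -/
noncomputable def overlapSnd : Test.Hom (overlap hk₀ τ₁ τ₂) τ₂ where
  m := Over.homMk (pullback.snd τ₁.w.left τ₂.w.left) (by
    change pullback.snd τ₁.w.left τ₂.w.left ≫ τ₂.W'.hom ≫ (U τ₂.j).hom =
      (pullback.fst τ₁.w.left τ₂.w.left ≫ τ₁.W'.hom) ≫ (U τ₁.j).hom
    rw [← τ₂.w_hom, ← Category.assoc, ← pullback.condition, Category.assoc, τ₁.w_hom,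
      Category.assoc])
  comm := by
    ext
    exact pullback.condition.symm

/-- two compatible points of the stages of `τ₁`, `τ₂` come from a point of the overlap stage. -/
theorem exists_zeta (k : Over k₀) {Z : Over S} (z₁ : Z ⟶ τ₁.Wk k) (z₂ : Z ⟶ τ₂.Wk k)
    (h : z₁ ≫ τ₁.fstK k = z₂ ≫ τ₂.fstK k) :
    ∃ ζ : Z ⟶ (overlap hk₀ τ₁ τ₂).Wk k, ζ ≫ (overlapFst hk₀ τ₁ τ₂).mapK k = z₁ ∧
      ζ ≫ (overlapSnd hk₀ τ₁ τ₂).mapK k = z₂ := by
  have hw : (z₁ ≫ τ₁.sndK k) ≫ τ₁.w = (z₂ ≫ τ₂.sndK k) ≫ τ₂.w := by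
    rw [Category.assoc, ← τ₁.condK, ← Category.assoc, h, Category.assoc, τ₂.condK, Category.assoc]
  let ω : Z ⟶ (overlap hk₀ τ₁ τ₂).W :=
    Over.homMk (pullback.lift (z₁ ≫ τ₁.sndK k).left (z₂ ≫ τ₂.sndK k).left
      (congrArg (fun m => m.left) hw)) (by
      change pullback.lift _ _ _ ≫ (pullback.fst τ₁.w.left τ₂.w.left ≫ τ₁.W'.hom) ≫ (U τ₁.j).hom =
        Z.hom
      rw [← Category.assoc, ← Category.assoc, pullback.lift_fst, Category.assoc]
      exact Over.w (z₁ ≫ τ₁.sndK k))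
  have hω1 : ω ≫ (overlapFst hk₀ τ₁ τ₂).m = z₁ ≫ τ₁.sndK k := by
    ext
    exact pullback.lift_fst _ _ _
  have hω2 : ω ≫ (overlapSnd hk₀ τ₁ τ₂).m = z₂ ≫ τ₂.sndK k := by
    ext
    exact pullback.lift_snd _ _ _
  have hcond : (z₁ ≫ τ₁.fstK k) ≫ D.map k.hom = ω ≫ (overlap hk₀ τ₁ τ₂).w := by
    rw [← (overlapFst hk₀ τ₁ τ₂).comm, ← Category.assoc, hω1, Category.assoc, τ₁.condK,
      Category.assoc]
  refine ⟨(overlap hk₀ τ₁ τ₂).liftK k (z₁ ≫ τ₁.fstK k) ω hcond, ?_, ?_⟩
  · apply τ₁.homK_ext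
    · rw [Category.assoc, Test.Hom.mapK_fstK, Test.liftK_fst]
    · rw [Category.assoc, Test.Hom.mapK_sndK, ← Category.assoc, Test.liftK_snd, hω1]
  · apply τ₂.homK_ext
    · rw [Category.assoc, Test.Hom.mapK_fstK, Test.liftK_fst, h]
    · rw [Category.assoc, Test.Hom.mapK_sndK, ← Category.assoc, Test.liftK_snd, hω2]

end Overlap

section Main
variable {U D k₀} [IsCofiltered I] {F : PSp S} (hF : Presheaf.IsSheaf (J S) F)
  (hloc : ∀ j, IsLimitPreserving ((Over.map (U j).hom).op ⋙ F))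
  (hc : IsLimit ((Over.forget S).mapCone c)) (hD : ∀ i, IsAffine (D.obj i).left)
  (hT : IsAffine c.pt.left)
  {m : ℕ} (τ : Fin m → Test U D k₀)
  (hfl : ∀ a, Flat (τ a).w.left) (hfp : ∀ a, LocallyOfFinitePresentation (τ a).w.left)
  (hsurj : ∀ t : ↥(D.obj k₀).left, ∃ a, t ∈ Set.range (τ a).w.left)

include hF hloc hc hD hT hfl hfp hsurj

theorem main_inj (x y : F.obj (op (D.obj k₀)))
    (h : F.map (c.π.app k₀).op x = F.map (c.π.app k₀).op y) :
    ∃ (i : I) (φ : i ⟶ k₀), F.map (D.map φ).op x = F.map (D.map φ).op y := by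
  let id₀ : Over k₀ := Over.mk (𝟙 k₀)
  have key : ∀ a, ∃ (k' : Over k₀) (φ : k' ⟶ id₀),
      F.map ((τ a).trans φ).op (F.map ((τ a).fstK id₀).op x) =
        F.map ((τ a).trans φ).op (F.map ((τ a).fstK id₀).op y) := by
    intro a
    refine (τ a).inj c (hloc _) hc hD hT id₀ _ _ ?_
    rw [map_map_apply, map_map_apply, (τ a).proj_fstK]
    have e : ∀ z : F.obj (op (D.obj k₀)), F.map ((τ a).fstInf c ≫ c.π.app id₀.left).op z =
        F.map ((τ a).fstInf c).op (F.map (c.π.app k₀).op z) := fun z =>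
      (map_map_apply F ((τ a).fstInf c) (c.π.app k₀) z).symm
    rw [e, e, h]
  obtain ⟨k', φ, hφ⟩ := exists_common id₀
    (fun a k' φ => F.map ((τ a).trans φ).op (F.map ((τ a).fstK id₀).op x) =
        F.map ((τ a).trans φ).op (F.map ((τ a).fstK id₀).op y))
    (fun a k' k'' φ ψ hP => by
      rw [(τ a).trans_comp, ← map_map_apply, ← map_map_apply, hP]) key
  refine ⟨k'.left, φ.left, ?_⟩
  refine sep_of_cover hF _ _ (cover_K τ hfl hfp hsurj k') _ _ fun a => ?_
  change F.map ((τ a).fstK k').op (F.map (D.map φ.left).op x) =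
    F.map ((τ a).fstK k').op (F.map (D.map φ.left).op y)
  rw [map_map_apply, map_map_apply, ← (τ a).trans_fstK φ, ← map_map_apply, ← map_map_apply]
  exact hφ a

theorem main_surj (ξ : F.obj (op c.pt)) :
    ∃ (i : I) (η : F.obj (op (D.obj i))), F.map (c.π.app i).op η = ξ := by
  have hk₀ := hD k₀
  let id₀ : Over k₀ := Over.mk (𝟙 k₀)
  -- common stage with lifts
  have h1 : ∀ a, ∃ (k : Over k₀) (_ : k ⟶ id₀), ∃ ξa : F.obj (op ((τ a).Wk k)),
      F.map ((τ a).proj c k).op ξa = F.map ((τ a).fstInf c).op ξ := by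
    intro a
    obtain ⟨k, ξk, hk⟩ := (τ a).surj c (hloc _) hc hD hT (F.map ((τ a).fstInf c).op ξ)
    exact ⟨k, Over.homMk k.hom (by simp [id₀]), ξk, hk⟩
  obtain ⟨k, -, hk⟩ := exists_common id₀
    (fun a k _ => ∃ ξa : F.obj (op ((τ a).Wk k)),
      F.map ((τ a).proj c k).op ξa = F.map ((τ a).fstInf c).op ξ)
    (fun a k' k'' φ ψ ⟨ξa, hξa⟩ => ⟨F.map ((τ a).trans ψ).op ξa, by
      rw [map_map_apply, (τ a).proj_trans, hξa]⟩) h1
  choose ξa hξa using hk
  -- overlaps
  have h2 : ∀ ab : Fin m × Fin m, ∃ (k' : Over k₀) (ψ : k' ⟶ k),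
      F.map ((overlap hk₀ (τ ab.1) (τ ab.2)).trans ψ).op
          (F.map ((overlapFst hk₀ (τ ab.1) (τ ab.2)).mapK k).op (ξa ab.1)) =
        F.map ((overlap hk₀ (τ ab.1) (τ ab.2)).trans ψ).op
          (F.map ((overlapSnd hk₀ (τ ab.1) (τ ab.2)).mapK k).op (ξa ab.2)) := by
    rintro ⟨a, b⟩
    refine (overlap hk₀ (τ a) (τ b)).inj c (hloc _) hc hD hT k _ _ ?_
    rw [map_map_apply, map_map_apply, Test.Hom.proj_mapK, Test.Hom.proj_mapK, ← map_map_apply,
      ← map_map_apply F ((overlapSnd hk₀ (τ a) (τ b)).mapInf c), hξa, hξa, map_map_apply,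
      map_map_apply, Test.Hom.mapInf_fstInf, Test.Hom.mapInf_fstInf]
  obtain ⟨k', ψ, hψ⟩ := exists_common k
    (fun (ab : Fin m × Fin m) k' ψ => F.map ((overlap hk₀ (τ ab.1) (τ ab.2)).trans ψ).op
          (F.map ((overlapFst hk₀ (τ ab.1) (τ ab.2)).mapK k).op (ξa ab.1)) =
        F.map ((overlap hk₀ (τ ab.1) (τ ab.2)).trans ψ).op
          (F.map ((overlapSnd hk₀ (τ ab.1) (τ ab.2)).mapK k).op (ξa ab.2)))
    (fun ab k' k'' φ ψ hP => by
      rw [(overlap hk₀ (τ ab.1) (τ ab.2)).trans_comp, ← map_map_apply, ← map_map_apply, hP]) h2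
  -- glue
  have hcompat : ∀ (a b : Fin m) (Z : Over S) (za : Z ⟶ (τ a).Wk k') (zb : Z ⟶ (τ b).Wk k'),
      za ≫ (τ a).fstK k' = zb ≫ (τ b).fstK k' →
      F.map za.op (F.map ((τ a).trans ψ).op (ξa a)) =
        F.map zb.op (F.map ((τ b).trans ψ).op (ξa b)) := by
    intro a b Z za zb hz
    obtain ⟨ζ, hζ1, hζ2⟩ := exists_zeta hk₀ (τ a) (τ b) k' za zb hz
    have e1 : F.map za.op (F.map ((τ a).trans ψ).op (ξa a)) =
        F.map ζ.op (F.map ((overlap hk₀ (τ a) (τ b)).trans ψ).op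
          (F.map ((overlapFst hk₀ (τ a) (τ b)).mapK k).op (ξa a))) := by
      rw [map_map_apply, map_map_apply, map_map_apply, Category.assoc, Test.Hom.trans_mapK,
        ← Category.assoc, hζ1]
    have e2 : F.map zb.op (F.map ((τ b).trans ψ).op (ξa b)) =
        F.map ζ.op (F.map ((overlap hk₀ (τ a) (τ b)).trans ψ).op
          (F.map ((overlapSnd hk₀ (τ a) (τ b)).mapK k).op (ξa b))) := by
      rw [map_map_apply, map_map_apply, map_map_apply, Category.assoc, Test.Hom.trans_mapK,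
        ← Category.assoc, hζ2]
    rw [e1, e2, hψ (a, b)]
  obtain ⟨η, hη⟩ := glue_of_cover hF _ _ (cover_K τ hfl hfp hsurj k')
    (fun a => F.map ((τ a).trans ψ).op (ξa a)) hcompat
  refine ⟨k'.left, η, ?_⟩
  refine sep_of_cover hF _ _ (cover_Inf c τ hfl hfp hsurj) _ _ fun a => ?_

  rw [map_map_apply, ← (τ a).proj_fstK, ← map_map_apply, hη a, map_map_apply, (τ a).proj_trans,
    hξa]

end Main

section Final
variable {U}
variable (hUfl : ∀ j, Flat (U j).hom) (hUfp : ∀ j, LocallyOfFinitePresentation (U j).hom)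
  (hUsurj : ∀ s : ↥S, ∃ (j : ι) (x : ↥(U j).left), (U j).hom.base x = s)

include hUfl hUfp hUsurj

theorem exists_cover_data (hk₀ : IsAffine (D.obj k₀).left) :
    ∃ (m : ℕ) (τ : Fin m → Test U D k₀), (∀ a, Flat (τ a).w.left) ∧
      (∀ a, LocallyOfFinitePresentation (τ a).w.left) ∧
      ∀ t : ↥(D.obj k₀).left, ∃ a, t ∈ Set.range (τ a).w.left := by
  have hfl' : ∀ j, Flat (pullback.snd (U j).hom (D.obj k₀).hom) := fun j => by
    have := hUfl j
    infer_instance
  have hfp' : ∀ j, LocallyOfFinitePresentation (pullback.snd (U j).hom (D.obj k₀).hom) :=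
    fun j => by
      have := hUfp j
      infer_instance
  have hopen : ∀ j, IsOpenMap (pullback.snd (U j).hom (D.obj k₀).hom) := fun j => by
    have := hfl' j
    have := hfp' j
    exact (pullback.snd (U j).hom (D.obj k₀).hom).isOpenMap
  have hs : ∀ t : ↥(D.obj k₀).left, ∃ j, t ∈ Set.range (pullback.snd (U j).hom (D.obj k₀).hom) := by
    intro t
    obtain ⟨j, x, hx⟩ := hUsurj ((D.obj k₀).hom t)
    obtain ⟨z, -, hz⟩ := Scheme.Pullback.exists_preimage_pullback
      (f := (U j).hom) (g := (D.obj k₀).hom) x t hx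
    exact ⟨j, z, hz⟩
  have : CompactSpace ↥(D.obj k₀).left := inferInstance
  obtain ⟨m, i, O, hO, hcov⟩ := Groth.Agent.Lib.Helper3.exists_finite_affine_refinement
    (Z := (D.obj k₀).left) (fun j => pullback (U j).hom (D.obj k₀).hom)
    (fun j => pullback.snd (U j).hom (D.obj k₀).hom) hopen hs
  let τ : Fin m → Test U D k₀ := fun a =>
    { j := i a
      W' := Over.mk ((O a).ι ≫ pullback.fst (U (i a)).hom (D.obj k₀).hom)
      aff := hO a
      w := Over.homMk ((O a).ι ≫ pullback.snd (U (i a)).hom (D.obj k₀).hom) (by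
        change ((O a).ι ≫ pullback.snd (U (i a)).hom (D.obj k₀).hom) ≫ (D.obj k₀).hom =
          ((O a).ι ≫ pullback.fst (U (i a)).hom (D.obj k₀).hom) ≫ (U (i a)).hom
        rw [Category.assoc, Category.assoc, pullback.condition]) }
  refine ⟨m, τ, fun a => ?_, fun a => ?_, fun t => ?_⟩
  · have := hfl' (i a)
    change Flat ((O a).ι ≫ pullback.snd (U (i a)).hom (D.obj k₀).hom)
    infer_instance
  · have := hfp' (i a)
    change LocallyOfFinitePresentation ((O a).ι ≫ pullback.snd (U (i a)).hom (D.obj k₀).hom)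
    infer_instance
  · obtain ⟨a, y, hy, rfl⟩ := hcov t
    exact ⟨a, ⟨y, hy⟩, rfl⟩

omit [SmallCategory I] in
theorem isLimitPreserving {F : PSp S} (hF : Presheaf.IsSheaf (J S) F)
    (hloc : ∀ j, IsLimitPreserving ((Over.map (U j).hom).op ⋙ F)) : IsLimitPreserving F := by
  intro I _ _ D c hc hD hT
  refine ⟨Types.FilteredColimit.isColimitOf' _ _ ?_ ?_⟩
  · intro ξ
    obtain ⟨k₀⟩ := IsCofiltered.nonempty (C := I)
    obtain ⟨m, τ, h1, h2, h3⟩ := exists_cover_data D k₀ hUfl hUfp hUsurj (hD k₀)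
    obtain ⟨i, η, hη⟩ := main_surj c hF hloc hc hD hT τ h1 h2 h3 ξ
    exact ⟨op i, η, hη.symm⟩
  · intro i x y h
    obtain ⟨m, τ, h1, h2, h3⟩ := exists_cover_data D i.unop hUfl hUfp hUsurj (hD _)
    obtain ⟨i', φ, hφ⟩ := main_inj c hF hloc hc hD hT τ h1 h2 h3 x y h
    exact ⟨op i', φ.op, hφ⟩

end Final

end Groth.Agent.Lib.Helper15.LimLoc
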