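import Groth.Agent.Lib.Helper15.LimBC
import Groth.Agent.Lib.Helper15.LimRep
import Groth.Agent.Lib.Helper3.AlgSpProper
import Groth.Agent.S10009
import Groth.Agent.S10019
import Groth.Agent.S10004
import Groth.Agent.S9900
import Groth.Agent.S9937

set_option autoImplicit false
set_option backward.isDefEq.respectTransparency.types false
universe u
open CategoryTheory CategoryTheory.Limits AlgebraicGeometry
open AlgSp

/-! Eventually separated structure maps for limits of algebraic spaces. -/

namespace Groth.Agent.Lib.Helper15.LimSep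

open Groth.Agent.Lib.Helper15 Groth.Agent.Lib.Helper3 Groth.Agent.Lib.Helper15.LimBC

variable {S : Scheme.{u}}

section Graph

variable {A X Y : Sp S} (a : A ⟶ X) (tX : X ⟶ Y) (tA : A ⟶ Y) (h : a ≫ tX = tA)

/-- The graph of `a` relative to `Y`. -/
noncomputable def gr : A ⟶ pullback tX tA :=
  pullback.lift a (𝟙 A) (by rw [h, Category.id_comp])

/-- `id × a`. -/
noncomputable def pY : pullback tX tA ⟶ pullback tX tX :=
  pullback.lift (pullback.fst tX tA) (pullback.snd tX tA ≫ a)
    (by rw [Category.assoc, h, pullback.condition])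

theorem gr_fst : gr a tX tA h ≫ pullback.fst tX tA = a := pullback.lift_fst _ _ _
theorem gr_snd : gr a tX tA h ≫ pullback.snd tX tA = 𝟙 A := pullback.lift_snd _ _ _
theorem pY_fst : pY a tX tA h ≫ pullback.fst tX tX = pullback.fst tX tA := pullback.lift_fst _ _ _
theorem pY_snd : pY a tX tA h ≫ pullback.snd tX tX = pullback.snd tX tA ≫ a :=
  pullback.lift_snd _ _ _

theorem sq_pY : IsPullback (pY a tX tA h) (pullback.snd tX tA) (pullback.snd tX tX) a := by
  refine IsPullback.of_right ?_ (pY_snd a tX tA h) (IsPullback.of_hasPullback tX tX)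
  rw [pY_fst, h]
  exact IsPullback.of_hasPullback tX tA

theorem gr_pY : gr a tX tA h ≫ pY a tX tA h = a ≫ pullback.diagonal tX := by
  apply pullback.hom_ext
  · rw [Category.assoc, pY_fst, gr_fst, Category.assoc, pullback.diagonal_fst, Category.comp_id]
  · rw [Category.assoc, pY_snd, ← Category.assoc, gr_snd, Category.id_comp, Category.assoc,
      pullback.diagonal_snd, Category.comp_id]

theorem sq_gr : IsPullback a (gr a tX tA h) (pullback.diagonal tX) (pY a tX tA h) := by
  refine (IsPullback.of_right ?_ (gr_pY a tX tA h) (sq_pY a tX tA h).flip).flip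
  rw [gr_snd, pullback.diagonal_snd]
  exact IsPullback.of_id_fst

/-- `a × id`. -/
noncomputable def pA : pullback tA tA ⟶ pullback tX tA :=
  pullback.lift (pullback.fst tA tA ≫ a) (pullback.snd tA tA)
    (by rw [Category.assoc, h, pullback.condition])

theorem pA_fst : pA a tX tA h ≫ pullback.fst tX tA = pullback.fst tA tA ≫ a :=
  pullback.lift_fst _ _ _
theorem pA_snd : pA a tX tA h ≫ pullback.snd tX tA = pullback.snd tA tA :=
  pullback.lift_snd _ _ _

theorem sq_pA : IsPullback (pA a tX tA h) (pullback.fst tA tA) (pullback.fst tX tA) a := by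
  refine IsPullback.of_right ?_ (pA_fst a tX tA h) (IsPullback.of_hasPullback tX tA).flip
  rw [pA_snd, h]
  exact (IsPullback.of_hasPullback tA tA).flip

theorem diagonal_pA : pullback.diagonal tA ≫ pA a tX tA h = gr a tX tA h := by
  apply pullback.hom_ext
  · rw [Category.assoc, pA_fst, ← Category.assoc, pullback.diagonal_fst, Category.id_comp, gr_fst]
  · rw [Category.assoc, pA_snd, pullback.diagonal_snd, gr_snd]

end Graph


/-- Cancellation: if `f ≫ k` is a closed immersion and `k` is separated, then `f` is a closed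
immersion. -/
theorem repWith_closed_of_comp {X Y Z : Sp S} (f : X ⟶ Y) (k : Y ⟶ Z) (hk : IsSeparatedMor k)
    (hfk : RepWith @IsClosedImmersion (f ≫ k)) : RepWith @IsClosedImmersion f := by
  haveI : (RepWith (S := S) @IsClosedImmersion).HasOfPostcompProperty
      (RepWith (S := S) @IsClosedImmersion).diagonal :=
    MorphismProperty.hasOfPostcompProperty_iff_le_diagonal.2 le_rfl
  exact MorphismProperty.of_postcomp (W := RepWith (S := S) @IsClosedImmersion)
    (W' := (RepWith (S := S) @IsClosedImmersion).diagonal) f k hk hfk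

theorem isSeparatedMor_of_isAffineMor {X Y : Sp S} (f : X ⟶ Y) (hf : IsAffineMor f) :
    IsSeparatedMor f := by
  have h : RepWith @IsAffineHom f := (isAffineMor_iff_repWith _).1 hf
  refine (Groth.Agent.S9905.isSeparatedMor_iff_repWith f h.rep).2 (repWith_mono ?_ h)
  intro A B g hg
  have : IsAffineHom g := hg
  change IsSeparated g
  infer_instance

theorem isQuasiCompactSp_of_isAffineMor {X Y : Sp S} (f : X ⟶ Y) (hf : IsAffineMor f)
    (hYa : IsAlgSpace Y) (hY : IsQuasiCompactSp Y) : IsQuasiCompactSp X := by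
  have h : RepWith @IsAffineHom f := (isAffineMor_iff_repWith _).1 hf
  have h2 : RepWith @QuasiCompact f := repWith_mono (by
    intro A B g hg
    have : IsAffineHom g := hg
    change QuasiCompact g
    infer_instance) h
  exact (isQuasiCompactMor_of_repWith_quasiCompact f h2) hYa hY (𝟙 Y) (𝟙 X) f
    IsPullback.of_id_fst

variable [QuasiSeparatedSpace S] {I : Type u} [SmallCategory I] [IsCofiltered I]

theorem main (Y : AlgSp.Space S) (D : I ⥤ AlgSp.Sp S) (hD : ∀ i, AlgSp.IsAlgSpace (D.obj i))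
    (t : D ⟶ (Functor.const I).obj Y.obj)
    (hDa : ∀ (i j : I) (φ : i ⟶ j), AlgSp.IsAffineMor (D.map φ))
    (c : Cone D) (hc : IsLimit c) (g : c.pt ⟶ Y.obj) (hg : ∀ i, c.π.app i ≫ t.app i = g)
    (hqc : ∀ i, AlgSp.IsQuasiCompactSp (D.obj i)) (hqs : ∀ i, AlgSp.IsQuasiSeparatedSp (D.obj i))
    (hYqs : AlgSp.IsQuasiSeparatedSp Y.obj) (hX : AlgSp.IsSeparatedMor g) :
    ∃ i₀ : I, ∀ (i : I) (_ : i ⟶ i₀), AlgSp.IsSeparatedMor (t.app i) := by
  obtain ⟨t', ht'⟩ : ∃ t' : ∀ i, D.obj i ⟶ Y.obj, t' = fun i => t.app i := ⟨_, rfl⟩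
  have t_w : ∀ {i j : I} (φ : i ⟶ j), D.map φ ≫ t' j = t' i := by
    intro i j φ
    have := t.naturality φ
    simp only [Functor.const_obj_obj, Functor.const_obj_map, Category.comp_id] at this
    rw [ht']
    exact this
  have hg' : ∀ i, c.π.app i ≫ t' i = g := by
    intro i; rw [ht']; exact hg i
  suffices H : ∃ i₁ : I, ∀ (i : I) (_ : i ⟶ i₁), IsSeparatedMor (t' i) by
    obtain ⟨i₁, hi₁⟩ := H
    refine ⟨i₁, fun i φ => ?_⟩
    have := hi₁ i φ
    rw [ht'] at this
    exact this
  obtain ⟨hcalg, hπaff⟩ := Groth.Agent.S10004.result S D hD hDa c hc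
  obtain ⟨i₁⟩ := IsCofiltered.nonempty (C := I)
  have hcqs : IsQuasiSeparatedSp c.pt := LimRep.isQuasiSeparatedSp_of_mor (c.π.app i₁)
    (LimRep.isQuasiSeparatedMor_of_repWith_isAffineHom _
      ((isAffineMor_iff_repWith _).1 (hπaff i₁))) (hqs i₁)
  have hcqc : IsQuasiCompactSp c.pt :=
    isQuasiCompactSp_of_isAffineMor (c.π.app i₁) (hπaff i₁) (hD i₁) (hqc i₁)
  -- Step 1: the graph of the projection is eventually a closed immersion
  let B : AlgSp.Space S := ⟨c.pt, hcalg⟩
  let t'' : bcD D t' t_w g ⟶ (Functor.const I).obj B.obj :=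
    { app := fun i => pullback.snd (t' i) g
      naturality := fun i j φ => by
        simp only [Functor.const_obj_obj, Functor.const_obj_map, Category.comp_id]
        exact bcMap_snd D t' t_w g φ }
  have hlft : LocP @LocallyOfFiniteType (𝟙 c.pt) :=
    locP_of_repWith isEtLocal_locallyOfFiniteType _
      (Groth.Agent.S9937.repWith_of_isIso @LocallyOfFiniteType (fun g _ => inferInstance) (𝟙 c.pt))
  have e1 : pullback.diagonal g ≫ (bcCone D t' t_w g c g hg').π.app i₁ ≫ t''.app i₁ = 𝟙 c.pt := by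
    change pullback.diagonal g ≫ bcπ D t' g c g hg' i₁ ≫ pullback.snd (t' i₁) g = _
    rw [bcπ_snd, pullback.diagonal_snd]
  have hl : LocP @LocallyOfFiniteType
      (pullback.diagonal g ≫ (bcCone D t' t_w g c g hg').π.app i₁ ≫ t''.app i₁) := by
    rw [e1]; exact hlft
  obtain ⟨j, hj⟩ := Groth.Agent.S10009.result S B (bcD D t' t_w g)
    (fun i => isAlgSpace_bc D t' g hD Y.property hcalg i) t''
    (fun i j φ => isAffineMor_bcMap D t' t_w g hDa φ)
    (bcCone D t' t_w g c g hg') (bcConeIsLimit D t' t_w g c g hg' hc)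
    (fun i => isQuasiCompactSp_bc D t' g hD hcalg hcqc hYqs hqc i)
    ⟨c.pt, hcalg⟩ (pullback.diagonal g) hX i₁ hl
  -- Step 2: descend the closed immersion along the system
  have hgr : RepWith @IsClosedImmersion (gr (c.π.app j) (t' j) g (hg' j)) := by
    have h1 : RepWith @IsClosedImmersion
        (pullback.diagonal g ≫ (bcCone D t' t_w g c g hg').π.app j) := hj j (𝟙 j)
    have e2 : pullback.diagonal g ≫ (bcCone D t' t_w g c g hg').π.app j =
        gr (c.π.app j) (t' j) g (hg' j) := by
      change pullback.diagonal g ≫ bcπ D t' g c g hg' j = _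
      apply pullback.hom_ext
      · rw [Category.assoc, bcπ_fst, ← Category.assoc, pullback.diagonal_fst, Category.id_comp,
          gr_fst]
      · rw [Category.assoc, bcπ_snd, pullback.diagonal_snd, gr_snd]
    rw [e2] at h1
    exact h1
  have hf₀ : LocP @LocallyOfFiniteType (pullback.diagonal (t' j)) :=
    locP_of_repWith isEtLocal_locallyOfFiniteType _
      (repWith_mono inf_le_left (Groth.Agent.S9900.repWith_diagonal_lft_mono (hD j) (t' j)))
  obtain ⟨i, φ, hi⟩ := Groth.Agent.S10019.result S D hD hDa c hc j (hqc j) (hqs j)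
    ⟨D.obj j, hD j⟩
    ⟨pullback (t' j) (t' j), isAlgSpace_bc D t' (t' j) hD Y.property (hD j) j⟩
    (pullback.diagonal (t' j)) (pullback.snd (t' j) (t' j))
    (hqc j) (hqs j)
    (isQuasiCompactSp_bc D t' (t' j) hD (hD j) (hqc j) hYqs hqc j)
    (isQuasiSeparatedSp_bc D t' (t' j) (hqs j) hqs j)
    c.pt (pullback (t' j) g) (gr (c.π.app j) (t' j) g (hg' j)) (pY (c.π.app j) (t' j) g (hg' j))
    (pullback.snd (t' j) g) (sq_pY (c.π.app j) (t' j) g (hg' j)) (c.π.app j)
    (sq_gr (c.π.app j) (t' j) g (hg' j)) hgr hf₀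
  have hgi : RepWith @IsClosedImmersion (gr (D.map φ) (t' j) (t' i) (t_w φ)) :=
    hi (D.obj i) (pullback (t' j) (t' i)) (gr (D.map φ) (t' j) (t' i) (t_w φ))
      (pY (D.map φ) (t' j) (t' i) (t_w φ)) (pullback.snd (t' j) (t' i))
      (sq_pY (D.map φ) (t' j) (t' i) (t_w φ)) (D.map φ) (sq_gr (D.map φ) (t' j) (t' i) (t_w φ))
  -- Step 3: cancellation
  have hpA : IsSeparatedMor (pA (D.map φ) (t' j) (t' i) (t_w φ)) :=
    isSeparatedMor_of_isAffineMor _ ((isAffineMor_iff_repWith _).2
      ((repWith_isStableUnderBaseChange _).of_isPullback (sq_pA (D.map φ) (t' j) (t' i) (t_w φ)).flip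
        ((isAffineMor_iff_repWith _).1 (hDa i j φ))))
  have hsep : IsSeparatedMor (t' i) := by
    change RepWith @IsClosedImmersion (pullback.diagonal (t' i))
    refine repWith_closed_of_comp _ (pA (D.map φ) (t' j) (t' i) (t_w φ)) hpA ?_
    rw [diagonal_pA]
    exact hgi
  refine ⟨i, fun i' ψ => ?_⟩
  rw [← t_w ψ]
  exact isSeparatedMor_comp (isSeparatedMor_of_isAffineMor _ (hDa i' i ψ)) hsep

end Groth.Agent.Lib.Helper15.LimSep
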