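import Groth.Agent.Lib.Helper15.LciSp6
import Groth.Agent.Lib.Helper3.AlgSpHasAtMor2
import Groth.Agent.Lib.Helper3.AlgSpLocSrc2
import Groth.Agent.Lib.Helper3.AlgSpQC
import Groth.Prelude.Def_AlgSpMor6

set_option autoImplicit false
universe u
open CategoryTheory CategoryTheory.Limits AlgebraicGeometry Opposite MorphismProperty

namespace Groth.Agent.Lib.Helper15.LocPNearSp

open Groth.Agent.Lib.Helper3 Groth.Agent.Lib.Helper15.LciSp AlgSp
set_option backward.isDefEq.respectTransparency.types false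

variable {S : Scheme.{u}}

/-- chart criterion for `LocPNear`, backward direction -/
theorem locPNear_of_chart {P : MorphismProperty Scheme.{u}} (hP : IsEtLocalW P) {X Y : Sp S}
    (f : X ⟶ Y) {U V : Over S} (a : (yon S).obj U ⟶ X) (hae : RepWith @Etale a)
    (b : (yon S).obj V ⟶ Y) (hbe : RepWith @Etale b) (h : U ⟶ V)
    (w : a ≫ f = (yon S).map h ≫ b) (u : ↥U.left) (W : U.left.Opens) (hu : u ∈ W)
    (hPW : P (W.ι ≫ h.left)) : LocPNear P f (Points.ofPt a u) := by
  let UW : Over S := Over.mk (W.ι ≫ U.hom)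
  let jW : UW ⟶ U := Over.homMk W.ι rfl
  have hjW : RepWith @Etale ((yon S).map jW) :=
    (repWith_yon_map_iff _ _).2 (inferInstanceAs (Etale W.ι))
  have hge : RepWith @Etale ((yon S).map jW ≫ a) := MorphismProperty.comp_mem _ _ _ hjW hae
  set Ω : Set (Points X) := Set.range (Points.ofPt ((yon S).map jW ≫ a)) with hΩdef
  have hΩ : IsOpen Ω := by
    rw [hΩdef, ← range_map_eq_range_ofPt]
    exact (isOpenMap_map_of_etale hge).isOpen_range
  have hj := repWith_isOpenImmersion_openSubι X Ω hΩ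
  obtain ⟨a', ha', ha'e, ha's, -⟩ := exists_factor_surjective_etale ((yon S).map jW ≫ a) hge
    (openSubι X Ω) hj (range_map_openSubι X Ω)
  refine ⟨openSub X Ω, openSubι X Ω, hj, ?_, ?_⟩
  · rw [range_map_openSubι]
    refine ⟨⟨u, hu⟩, ?_⟩
    rw [Points.ofPt_yon_map_comp]
    rfl
  · refine locP_of_chart_w hP _ a' ha'e ha's b hbe (jW ≫ h) ?_ hPW
    rw [← Category.assoc, ha', Category.assoc, w, Functor.map_comp, Category.assoc]

/-- chart criterion for `LocPNear`, forward direction -/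
theorem chart_of_locPNear {P : MorphismProperty Scheme.{u}} (hP : IsEtLocalW P) {X Y : Sp S}
    (f : X ⟶ Y) {U V : Over S} (a : (yon S).obj U ⟶ X) (hae : RepWith @Etale a)
    (b : (yon S).obj V ⟶ Y) (hbe : RepWith @Etale b) (h : U ⟶ V)
    (w : a ≫ f = (yon S).map h ≫ b) (u : ↥U.left) (H : LocPNear P f (Points.ofPt a u)) :
    ∃ W : U.left.Opens, u ∈ W ∧ P (W.ι ≫ h.left) := by
  obtain ⟨W₁, j, hj, ⟨x₁, hx₁⟩, hloc⟩ := H
  have sq := hj.rep.isPullback a
  haveI hι : IsOpenImmersion (hj.rep.snd a).left := hj.property_snd a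
  have hfe : RepWith @Etale (hj.rep.fst a) := MorphismProperty.of_isPullback sq.flip hae
  have hPι : P ((hj.rep.snd a).left ≫ h.left) := by
    have := hloc (hj.rep.fst a) b (hj.rep.snd a ≫ h) hfe hbe (by
      rw [← Category.assoc, sq.w, Category.assoc, w, Functor.map_comp, Category.assoc])
    rwa [Over.comp_left] at this
  refine ⟨(hj.rep.snd a).left.opensRange, ?_, ?_⟩
  · have hxy : Points.map j x₁ = Points.map a (Points.ofScheme U u) := by
      rw [hx₁, Points.ofPt_eq_map_ofScheme]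
    obtain ⟨z, -, hz2⟩ := Points.exists_of_isPullback sq x₁ _ hxy
    obtain ⟨r, rfl⟩ := (Points.schemeHomeo _).surjective z
    rw [Points.map_yon_map_apply] at hz2
    exact ⟨r, (Points.schemeHomeo U).injective hz2⟩
  · have e : (hj.rep.snd a).left.opensRange.ι ≫ h.left =
        (hj.rep.snd a).left.isoOpensRange.inv ≫ ((hj.rep.snd a).left ≫ h.left) := by
      rw [← Category.assoc]
      congr 1
      rw [Iso.eq_inv_comp]
      exact (hj.rep.snd a).left.isoOpensRange_hom_ι
    rw [e]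
    exact hP.comp_mem _ _ (hP.etale_le _ inferInstance) hPι

theorem locPNear_iff_chart {P : MorphismProperty Scheme.{u}} (hP : IsEtLocalW P) {X Y : Sp S}
    (f : X ⟶ Y) {U V : Over S} (a : (yon S).obj U ⟶ X) (hae : RepWith @Etale a)
    (b : (yon S).obj V ⟶ Y) (hbe : RepWith @Etale b) (h : U ⟶ V)
    (w : a ≫ f = (yon S).map h ≫ b) (u : ↥U.left) :
    LocPNear P f (Points.ofPt a u) ↔ ∃ W : U.left.Opens, u ∈ W ∧ P (W.ι ≫ h.left) :=
  ⟨chart_of_locPNear hP f a hae b hbe h w u,
    fun ⟨W, hu, hPW⟩ => locPNear_of_chart hP f a hae b hbe h w u W hu hPW⟩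

end Groth.Agent.Lib.Helper15.LocPNearSp
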