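import Groth.Agent.Lib.Helper15.AlgSpFppfSrc
import Mathlib.CategoryTheory.Sites.PrecoverageToGrothendieck
import Mathlib.CategoryTheory.Sites.LocallySurjective

/-!
# Helper15 — elimination of fppf-local surjectivity of a map of sheaves.
-/

set_option autoImplicit false
universe u
open CategoryTheory CategoryTheory.Limits AlgebraicGeometry Opposite
open AlgSp

namespace Groth.Agent.Lib.Helper15.LocSurj

open Groth.Agent.Lib.Helper3 Groth.Agent.Lib.Helper15
set_option backward.isDefEq.respectTransparency.types false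

variable {S : Scheme.{u}}

/-- Local lifts along a locally surjective map of sheaves, through flat lfp maps covering a scheme. -/
theorem exists_fppf_lifts {X Y : Sp S} (g : X ⟶ Y) (hg : Sheaf.IsLocallySurjective g)
    {V : Over S} (b : (yon S).obj V ⟶ Y) (v : V.left) :
    ∃ (T : Over S) (t : T ⟶ V) (x : (yon S).obj T ⟶ X), Flat t.left ∧
      LocallyOfFinitePresentation t.left ∧ v ∈ Set.range t.left ∧
      x ≫ g = (yon S).map t ≫ b := by
  have hmem := Presheaf.imageSieve_mem (J S) g.hom (U := op V) ((J S).uliftYonedaEquiv b)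
  have hmem' : Sieve.overEquiv V (Presheaf.imageSieve g.hom ((J S).uliftYonedaEquiv b)) ∈
      Scheme.fppfPrecoverage.toGrothendieck V.left := hmem
  haveI : Scheme.fppfPrecoverage.{u}.HasIsos :=
    ⟨fun f _ => f.singleton_mem_fppfPrecoverage⟩
  rw [Precoverage.mem_toGrothendieck_iff_of_isStableUnderComposition] at hmem'
  obtain ⟨R, hR, hle⟩ := hmem'
  have hR' : R ∈ Scheme.precoverage
      ((@Flat.{u} : MorphismProperty Scheme.{u}) ⊓ @LocallyOfFinitePresentation.{u}) V.left := hR
  obtain ⟨T₀, t₀, ht₀, v₀, hv₀⟩ := Scheme.JointlySurjective.exists_eq R hR' v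
  have hP := hR'.2 ht₀
  have himg := hle _ _ ht₀
  rw [Sieve.overEquiv_iff] at himg
  obtain ⟨x, hx⟩ := himg
  refine ⟨Over.mk (t₀ ≫ V.hom), Over.homMk t₀, (J S).uliftYonedaEquiv.symm x, hP.1, hP.2,
    ⟨v₀, hv₀⟩, ?_⟩
  rw [GrothendieckTopology.uliftYonedaEquiv_symm_naturality_right]
  have : b = (J S).uliftYonedaEquiv.symm ((J S).uliftYonedaEquiv b) := by simp
  conv_rhs => rw [this]
  rw [GrothendieckTopology.uliftYonedaEquiv_symm_naturality_left]
  congr 1

end Groth.Agent.Lib.Helper15.LocSurj
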