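import Groth.Agent.Lib.Helper15.FlatAtSch
import Groth.Agent.Lib.Helper3.EtSrcLocal5

/-!
# Helper15 — descent along a retraction (section trick), scheme level.
-/

set_option autoImplicit false
universe u
open CategoryTheory CategoryTheory.Limits AlgebraicGeometry

namespace Groth.Agent.Lib.Helper15.SecDesc

open Groth.Agent.Lib.Helper3 Groth.Agent.Lib.Helper15 FlatAtSch
set_option backward.isDefEq.respectTransparency.types false

/-- `P` descends along a retraction of the source. -/
def SecDesc (P : MorphismProperty Scheme.{u}) : Prop :=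
  ∀ {E T W : Scheme.{u}} (ρ : E ⟶ T) (τ : T ⟶ E) (m : T ⟶ W), τ ≫ ρ = 𝟙 T → P (ρ ≫ m) → P m

theorem secDesc_lft : SecDesc.{u} @LocallyOfFiniteType := by
  intro E T W ρ τ m h hP
  haveI : LocallyOfFiniteType (ρ ≫ m) := hP
  haveI : LocallyOfFiniteType (τ ≫ ρ) := by rw [h]; infer_instance
  haveI : LocallyOfFiniteType τ := locallyOfFiniteType_of_comp τ ρ
  have e : m = τ ≫ ρ ≫ m := by rw [← Category.assoc, h, Category.id_comp]
  rw [e]
  infer_instance

theorem secDesc_lfp : SecDesc.{u} @LocallyOfFinitePresentation := by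
  intro E T W ρ τ m h hP
  haveI : LocallyOfFinitePresentation (ρ ≫ m) := hP
  haveI : LocallyOfFiniteType ρ := locallyOfFiniteType_of_comp ρ m
  have h1 : LocallyOfFinitePresentation (τ ≫ ρ) := by rw [h]; infer_instance
  haveI : LocallyOfFinitePresentation τ := locallyOfFinitePresentation_of_comp τ ρ h1 inferInstance
  have e : m = τ ≫ ρ ≫ m := by rw [← Category.assoc, h, Category.id_comp]
  rw [e]
  infer_instance

theorem ringHom_flat_of_retract {A B C : Type u} [CommRing A] [CommRing B] [CommRing C]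
    (f : A →+* B) (i : B →+* C) (r : C →+* B) (h : r.comp i = RingHom.id B)
    (hC : (i.comp f).Flat) : f.Flat := by
  letI := f.toAlgebra
  letI := (i.comp f).toAlgebra
  haveI : Module.Flat A C := hC
  let il : B →ₗ[A] C :=
    { toFun := i
      map_add' := map_add i
      map_smul' := fun a b => by
        show i (f a * b) = i (f a) * i b
        rw [map_mul] }
  let rl : C →ₗ[A] B :=
    { toFun := r
      map_add' := map_add r
      map_smul' := fun a c => by
        show r (i (f a) * c) = f a * r c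
        rw [map_mul]
        congr 1
        exact congr($h (f a)) }
  show Module.Flat A B
  refine Module.Flat.of_retract il rl ?_
  ext b
  exact congr($h b)

theorem secDesc_flat : SecDesc.{u} @Flat := by
  intro E T W ρ τ m h hP
  haveI : Flat (ρ ≫ m) := hP
  refine Flat.of_stalkMap m fun t => ?_
  have ept : ρ (τ t) = t := by
    rw [← Scheme.Hom.comp_apply, h]
    rfl
  refine flatAt_congr_pt m ept ?_
  have h1 : FlatAt (ρ ≫ m) (τ t) := flatAt_of_flat _ _
  unfold FlatAt at h1 ⊢
  rw [Scheme.Hom.stalkMap_comp] at h1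
  -- the retraction on stalks
  have hiso : IsIso (ρ.stalkMap (τ t) ≫ τ.stalkMap t) := by
    have h2 : (τ ≫ ρ).stalkMap t = ρ.stalkMap (τ t) ≫ τ.stalkMap t :=
      Scheme.Hom.stalkMap_comp τ ρ t
    haveI h3 : IsOpenImmersion (τ ≫ ρ) := by rw [h]; infer_instance
    have h4 : IsIso ((τ ≫ ρ).stalkMap t) := inferInstance
    rw [h2] at h4
    exact h4
  refine ringHom_flat_of_retract (m.stalkMap (ρ (τ t))).hom (ρ.stalkMap (τ t)).hom
    ((τ.stalkMap t) ≫ @inv _ _ _ _ (ρ.stalkMap (τ t) ≫ τ.stalkMap t) hiso).hom ?_ h1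
  ext b
  show (ρ.stalkMap (τ t) ≫ τ.stalkMap t ≫ @inv _ _ _ _ (ρ.stalkMap (τ t) ≫ τ.stalkMap t) hiso).hom b = b
  rw [← Category.assoc, @IsIso.hom_inv_id _ _ _ _ _ hiso]
  rfl

end Groth.Agent.Lib.Helper15.SecDesc
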