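import Groth.Agent.Lib.Helper15.LocSurj
import Groth.Agent.Lib.Helper15.SecDesc
import Groth.Agent.Lib.Helper3.AlgSpLocP4

/-!
# Helper15 — descent of properties along locally surjective maps of algebraic spaces.
-/

set_option autoImplicit false
universe u
open CategoryTheory CategoryTheory.Limits AlgebraicGeometry Opposite
open AlgSp

namespace Groth.Agent.Lib.Helper15.LocSurj

open Groth.Agent.Lib.Helper3 Groth.Agent.Lib.Helper15 Groth.Agent.Lib.Helper15.AlgSpFppfSrc
open Groth.Agent.Lib.Helper15.SecDesc FlatAtSch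
set_option backward.isDefEq.respectTransparency.types false

variable {S : Scheme.{u}}

/-- stability under precomposition with flat lfp morphisms -/
def PreFppf (P : MorphismProperty Scheme.{u}) : Prop :=
  ∀ {A B C : Scheme.{u}} (f : A ⟶ B) (g : B ⟶ C), Flat f → LocallyOfFinitePresentation f →
    P g → P (f ≫ g)

theorem locP_comp_fppf {P : MorphismProperty Scheme.{u}} (hP : IsEtLocal P) (hpre : PreFppf P)
    {X Y Z : Sp S} (hX : IsAlgSpace X) (hY : IsAlgSpace Y) (hZ : IsAlgSpace Z)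
    (f : X ⟶ Y) (g : Y ⟶ Z) (hf1 : LocP @Flat f) (hf2 : LocP @LocallyOfFinitePresentation f)
    (hg : LocP P g) : LocP P (f ≫ g) := by
  obtain ⟨W, c, hce, hcs⟩ := hZ.atlas
  obtain ⟨V, v, l, -, -, hbe, hbs, -, hl⟩ := exists_chart_over hY hZ g c hce
  obtain ⟨U, u, h, -, -, hae, has, -, hh⟩ := exists_chart_over hX hY f _ hbe
  have h1 : Flat h.left := hf1 _ _ h hae hbe hh
  have h1' : LocallyOfFinitePresentation h.left := hf2 _ _ h hae hbe hh
  have h2 : P l.left := hg _ _ l hbe hce hl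
  refine locP_of_chart hP (f ≫ g) _ hae (has (hbs hcs)) c hce (h ≫ l) ?_ (hpre _ _ h1 h1' h2)
  rw [← Category.assoc, hh, Category.assoc, hl, Functor.map_comp, Category.assoc]

theorem famDesc_flat : FamDesc.{u} @Flat := by
  intro ι Y T Xi f q hfl hfp hs hc
  refine Flat.of_stalkMap q fun y => ?_
  obtain ⟨i, x, rfl⟩ := hs y
  haveI := hfl i
  haveI := hc i
  exact flatAt_of_comp_source (f i) q x (flatAt_of_flat _ _) (flatAt_of_flat _ _)

theorem preFppf_flat : PreFppf.{u} @Flat := fun f g hf _ hg => by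
  haveI := hf; haveI : Flat g := hg; infer_instance

theorem preFppf_lft : PreFppf.{u} @LocallyOfFiniteType := fun f g _ hf hg => by
  haveI := hf; haveI : LocallyOfFiniteType g := hg; infer_instance

theorem preFppf_lfp : PreFppf.{u} @LocallyOfFinitePresentation := fun f g _ hf hg => by
  haveI := hf; haveI : LocallyOfFinitePresentation g := hg; infer_instance

/-- one member of the covering family -/
theorem exists_member {P : MorphismProperty Scheme.{u}} (hP : IsEtLocal P) (hpre : PreFppf P)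
    (hsec : SecDesc P) {X Y Z : Sp S} (hX : IsAlgSpace X) (hY : IsAlgSpace Y) (hZ : IsAlgSpace Z)
    (g : X ⟶ Y) (h : Y ⟶ Z) (hg : Sheaf.IsLocallySurjective g) (hc : LocP P (g ≫ h))
    {V W : Over S} (b : (yon S).obj V ⟶ Y) (c : (yon S).obj W ⟶ Z) (l : V ⟶ W)
    (hb : RepWith @Etale b) (hc' : RepWith @Etale c) (w : b ≫ h = (yon S).map l ≫ c)
    (v : V.left) :
    ∃ (T' : Over S) (r : T' ⟶ V), Flat r.left ∧ LocallyOfFinitePresentation r.left ∧
      v ∈ Set.range r.left ∧ P (r.left ≫ l.left) := by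
  obtain ⟨T, t, x, hfl, hfp, hv, hx⟩ := exists_fppf_lifts g hg b v
  -- the pullback `E = X ×_Y T`
  have sqE := IsPullback.of_hasPullback g ((yon S).map t ≫ b)
  have hE : IsAlgSpace (pullback g ((yon S).map t ≫ b)) :=
    isAlgSpace_of_isPullback' hY hX (IsAlgSpace.yon_obj T) sqE
  set pr₁ := pullback.fst g ((yon S).map t ≫ b) with hpr₁
  set pr₂ := pullback.snd g ((yon S).map t ≫ b) with hpr₂
  let σ : (yon S).obj T ⟶ pullback g ((yon S).map t ≫ b) :=
    pullback.lift x (𝟙 _) (by rw [hx, Category.id_comp])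
  have hσ2 : σ ≫ pr₂ = 𝟙 _ := pullback.lift_snd _ _ _
  -- `pr₁` is flat and lfp
  have htb1 : LocP @Flat ((yon S).map t ≫ b) :=
    locP_comp isEtLocal_flat (IsAlgSpace.yon_obj T) (IsAlgSpace.yon_obj V) hY _ _
      (locP_of_repWith isEtLocal_flat _ ((repWith_yon_map_iff _ t).2 hfl))
      (locP_of_repWith isEtLocal_flat _
        (repWith_mono (fun _ _ k hk => by have : Etale k := hk; infer_instance) hb))
  have htb2 : LocP @LocallyOfFinitePresentation ((yon S).map t ≫ b) :=
    locP_comp isEtLocal_locallyOfFinitePresentation (IsAlgSpace.yon_obj T) (IsAlgSpace.yon_obj V)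
      hY _ _
      (locP_of_repWith isEtLocal_locallyOfFinitePresentation _ ((repWith_yon_map_iff _ t).2 hfp))
      (locP_of_repWith isEtLocal_locallyOfFinitePresentation _
        (repWith_mono (fun _ _ k hk => by have : Etale k := hk; infer_instance) hb))
  have hpr1a : LocP @Flat pr₁ :=
    locP_of_isPullback isEtLocal_flat (IsAlgSpace.yon_obj T) hY hX hE _ g pr₂ pr₁ sqE.flip htb1
  have hpr1b : LocP @LocallyOfFinitePresentation pr₁ :=
    locP_of_isPullback isEtLocal_locallyOfFinitePresentation (IsAlgSpace.yon_obj T) hY hX hE _ g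
      pr₂ pr₁ sqE.flip htb2
  have hEP : LocP P (pr₁ ≫ g ≫ h) := locP_comp_fppf hP hpre hE hX hZ pr₁ (g ≫ h) hpr1a hpr1b hc
  -- an atlas of `E` and the induced chart of the section
  obtain ⟨E', e, hee, hes⟩ := hE.atlas
  obtain ⟨T', pE, pT, sqT⟩ := exists_pullback_charts e hee.1 σ
  have hpTe : Etale pT.left := hee.2 σ ((yon S).map pE) pT sqT
  have hpTs : Surjective pT.left := hes.2 σ ((yon S).map pE) pT sqT
  obtain ⟨ρ', hρ'⟩ := (yon S).map_surjective (e ≫ pr₂)
  have hcomm : pE ≫ ρ' = pT := by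
    apply (yon S).map_injective
    rw [Functor.map_comp, hρ', ← Category.assoc, sqT.w, Category.assoc, hσ2, Category.comp_id]
  -- `E'' = E' ×_T T'`
  let ρ := pullback.snd ρ' pT
  let τ : T' ⟶ pullback ρ' pT := pullback.lift pE (𝟙 T') (by rw [hcomm, Category.id_comp])
  have hτ : τ ≫ ρ = 𝟙 T' := pullback.lift_snd _ _ _
  have sq3 : IsPullback (pullback.fst ρ' pT).left (pullback.snd ρ' pT).left ρ'.left pT.left :=
    (IsPullback.of_hasPullback ρ' pT).map (Over.forget S)
  have hfe : Etale (pullback.fst ρ' pT).left :=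
    MorphismProperty.of_isPullback (P := @Etale) sq3.flip hpTe
  have ha'' : RepWith @Etale ((yon S).map (pullback.fst ρ' pT) ≫ e) :=
    MorphismProperty.comp_mem _ _ _ ((repWith_yon_map_iff _ _).2 hfe) hee
  have hk : P (ρ ≫ pT ≫ t ≫ l).left := by
    refine hEP ((yon S).map (pullback.fst ρ' pT) ≫ e) c (ρ ≫ pT ≫ t ≫ l) ha'' hc' ?_
    have e1 : pr₁ ≫ g = pr₂ ≫ (yon S).map t ≫ b := pullback.condition
    have e2 : pullback.fst ρ' pT ≫ ρ' = ρ ≫ pT := pullback.condition
    rw [Category.assoc, ← Category.assoc pr₁, e1]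
    simp only [Category.assoc]
    rw [w, ← Category.assoc e, ← hρ', ← Functor.map_comp_assoc, e2]
    simp only [Functor.map_comp, Category.assoc]
  refine ⟨T', pT ≫ t, ?_, ?_, ?_, ?_⟩
  · rw [Over.comp_left]; infer_instance
  · rw [Over.comp_left]; infer_instance
  · obtain ⟨t₀, rfl⟩ := hv
    obtain ⟨t₁, rfl⟩ := pT.left.surjective t₀
    exact ⟨t₁, by rw [Over.comp_left]; rfl⟩
  · have hk' : P (ρ.left ≫ ((pT ≫ t).left ≫ l.left)) := by
      simpa only [Over.comp_left, Category.assoc] using hk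
    exact hsec ρ.left τ.left _ (by rw [← Over.comp_left, hτ]; rfl) hk'

theorem locP_of_comp_locSurj {P : MorphismProperty Scheme.{u}} (hP : IsEtLocal P)
    (hpre : PreFppf P) (hfam : FamDesc P)
    (hsec : SecDesc P) {X Y Z : Sp S} (hX : IsAlgSpace X) (hY : IsAlgSpace Y) (hZ : IsAlgSpace Z)
    (g : X ⟶ Y) (h : Y ⟶ Z) (hg : Sheaf.IsLocallySurjective g) (hc : LocP P (g ≫ h)) :
    LocP P h := by
  intro V W b c l hb hc' w
  choose T' r h1 h2 h3 h4 using
    exists_member hP hpre hsec hX hY hZ g h hg hc b c l hb hc' w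
  exact hfam (fun v => (T' v).left) (fun v => (r v).left) l.left h1 h2 (fun v => ⟨v, h3 v⟩) h4

end Groth.Agent.Lib.Helper15.LocSurj
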