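import Groth.Prelude.Def_GSzMilK
import Mathlib.Tactic
import Mathlib.GroupTheory.Perm.Fin

/-!
# Helper lemmas on Milnor K-groups (helper15)

* abstract "Steinberg pairings" `B : Fˣ → Fˣ → M` and their standard consequences
  (`B a (-a) = 0`, anticommutativity, `B a a = B a (-1)`);
* multilinearity of `MilK.symbol` in each slot, sign under permutations;
* extensionality of additive maps out of `MilK.K F n` on symbols;
* for a discrete valuation ring: decomposition of units of the fraction field, vanishing of tame symbols on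
  unit symbols, extensionality on standard symbols.
-/

set_option autoImplicit false
universe u v w

namespace H15MilK

open MilK

section Pairing

variable {F : Type u} [Field F] {M : Type w} [AddCommGroup M]

/-- A bimultiplicative pairing on units killing Steinberg pairs. -/
structure IsSteinbergPairing (B : Fˣ → Fˣ → M) : Prop where
  mul_left : ∀ a a' b, B (a * a') b = B a b + B a' b
  mul_right : ∀ a b b', B a (b * b') = B a b + B a b'
  steinberg : ∀ a b : Fˣ, (a : F) + (b : F) = 1 → B a b = 0

namespace IsSteinbergPairing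

variable {B : Fˣ → Fˣ → M} (hB : IsSteinbergPairing B)
include hB

theorem one_left (b : Fˣ) : B 1 b = 0 := by
  have h := hB.mul_left 1 1 b
  rw [mul_one] at h
  exact left_eq_add.mp h

theorem one_right (a : Fˣ) : B a 1 = 0 := by
  have h := hB.mul_right a 1 1
  rw [mul_one] at h
  exact left_eq_add.mp h

theorem inv_left (a b : Fˣ) : B a⁻¹ b = -B a b := by
  have h := hB.mul_left a a⁻¹ b
  rw [mul_inv_cancel, hB.one_left] at h
  exact eq_neg_of_add_eq_zero_right h.symm

theorem inv_right (a b : Fˣ) : B a b⁻¹ = -B a b := by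
  have h := hB.mul_right a b b⁻¹
  rw [mul_inv_cancel, hB.one_right] at h
  exact eq_neg_of_add_eq_zero_right h.symm

theorem zpow_left (a b : Fˣ) (k : ℤ) : B (a ^ k) b = k • B a b := by
  let f : Additive Fˣ →+ M := AddMonoidHom.mk' (fun a => B a.toMul b)
    (fun x y => hB.mul_left x.toMul y.toMul b)
  have := map_zsmul f k (Additive.ofMul a)
  simpa [f] using this

theorem zpow_right (a b : Fˣ) (k : ℤ) : B a (b ^ k) = k • B a b := by
  let f : Additive Fˣ →+ M := AddMonoidHom.mk' (fun b => B a b.toMul)
    (fun x y => hB.mul_right a x.toMul y.toMul)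
  have := map_zsmul f k (Additive.ofMul b)
  simpa [f] using this

theorem neg_self (a : Fˣ) : B a (-a) = 0 := by
  by_cases h : a = 1
  · subst h; exact hB.one_left _
  · have ha1 : (a : F) ≠ 1 := fun h' => h (Units.ext h')
    have h1 : (1 : F) - a ≠ 0 := sub_ne_zero.mpr (Ne.symm ha1)
    have h2 : (1 : F) - ((a⁻¹ : Fˣ) : F) ≠ 0 := by
      rw [Units.val_inv_eq_inv_val]
      intro h'
      have : (a : F)⁻¹ = 1 := (sub_eq_zero.mp h').symm
      exact ha1 (inv_eq_one.mp this)
    set v : Fˣ := Units.mk0 _ h1 with hv
    set w : Fˣ := Units.mk0 _ h2 with hw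
    have hav : B a v = 0 := hB.steinberg a v (by simp [v])
    have haw' : B a⁻¹ w = 0 := hB.steinberg a⁻¹ w (by simp [w])
    have haw : B a w = 0 := by
      have := hB.inv_left a w
      rw [haw'] at this
      exact neg_eq_zero.mp this.symm
    have key : -a = v * w⁻¹ := by
      apply Units.ext
      simp only [Units.val_neg, Units.val_mul, Units.val_inv_eq_inv_val, v, w, Units.val_mk0]
      have ha0 : (a : F) ≠ 0 := a.ne_zero
      have h3 : (1 : F) - (a : F)⁻¹ ≠ 0 := by
        rw [← Units.val_inv_eq_inv_val]; exact h2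
      field_simp
      ring
    rw [key, hB.mul_right, hB.inv_right, hav, haw, neg_zero, add_zero]

theorem anticomm (a b : Fˣ) : B a b + B b a = 0 := by
  have h := hB.neg_self (a * b)
  rw [hB.mul_left] at h
  have e1 : -(a * b) = -a * b := (neg_mul a b).symm
  have e2 : -(a * b) = -b * a := by rw [neg_mul, mul_comm]
  have h1 : B a (-(a * b)) = B a b := by
    rw [e1, hB.mul_right, hB.neg_self, zero_add]
  have h2 : B b (-(a * b)) = B b a := by
    rw [e2, hB.mul_right, hB.neg_self, zero_add]
  rw [h1, h2] at h
  exact h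

theorem swap (a b : Fˣ) : B b a = -B a b :=
  eq_neg_of_add_eq_zero_right (hB.anticomm a b)

theorem self_eq (a : Fˣ) : B a a = B a (-1) := by
  have e : -a * -1 = a := by rw [neg_mul_neg, mul_one]
  have h := hB.mul_right a (-a) (-1)
  rw [e, hB.neg_self, zero_add] at h
  exact h

theorem self_eq' (a : Fˣ) : B a a = B (-1) a := by
  have h1 : B a (-1) = -B (-1) a := hB.swap (-1) a
  have h2 : B (-1)⁻¹ a = -B (-1) a := hB.inv_left (-1) a
  have h3 : ((-1 : Fˣ))⁻¹ = -1 := by simp
  rw [h3] at h2
  rw [hB.self_eq, h1, ← h2]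

end IsSteinbergPairing

end Pairing

section Symbol

variable {F : Type u} [Field F]

theorem ofMul_update {n : ℕ} (x : Fin n → Fˣ) (i : Fin n) (c : Fˣ) :
    (fun j => Additive.ofMul (Function.update x i c j)) =
      Function.update (fun j => Additive.ofMul (x j)) i (Additive.ofMul c) := by
  funext j
  by_cases h : j = i
  · subst h; simp
  · simp [Function.update_of_ne h]

theorem symbol_update_mul {n : ℕ} (x : Fin n → Fˣ) (i : Fin n) (a b : Fˣ) :
    (symbol (Function.update x i (a * b)) : K F n) =
      symbol (Function.update x i a) + symbol (Function.update x i b) := by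
  unfold symbol
  rw [ofMul_update, ofMul_update, ofMul_update, ofMul_mul, MultilinearMap.map_update_add, map_add]

/-- The two-slot pairing attached to a tuple and two positions `i < j`. -/
def pair {n : ℕ} (x : Fin n → Fˣ) (i j : Fin n) (a b : Fˣ) : K F n :=
  symbol (Function.update (Function.update x i a) j b)

theorem pair_isSteinbergPairing {n : ℕ} (x : Fin n → Fˣ) {i j : Fin n} (hij : i < j) :
    IsSteinbergPairing (pair x i j) where
  mul_left a a' b := by
    have hne : i ≠ j := ne_of_lt hij
    unfold pair
    have e1 : ∀ c, Function.update (Function.update x i c) j b =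
        Function.update (Function.update x j b) i c := fun c => Function.update_comm hne c b x
    rw [e1, e1, e1, symbol_update_mul]
  mul_right a b b' := symbol_update_mul _ _ _ _
  steinberg a b h := by
    have hne : i ≠ j := ne_of_lt hij
    apply symbol_eq_zero_of_isSteinberg
    refine ⟨i, j, hij, ?_⟩
    rw [Function.update_of_ne hne, Function.update_self, Function.update_self]
    exact h

theorem pair_self {n : ℕ} (x : Fin n → Fˣ) (i j : Fin n) : pair x i j (x i) (x j) = symbol x := by
  unfold pair
  rw [Function.update_eq_self, Function.update_eq_self]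

theorem comp_swap_eq_update {n : ℕ} (x : Fin n → Fˣ) {i j : Fin n} (hij : i ≠ j) :
    x ∘ Equiv.swap i j = Function.update (Function.update x i (x j)) j (x i) := by
  funext k
  simp only [Function.comp_apply]
  by_cases hk : k = j
  · subst hk
    rw [Equiv.swap_apply_right, Function.update_self]
  · rw [Function.update_of_ne hk]
    by_cases hk' : k = i
    · subst hk'
      rw [Equiv.swap_apply_left, Function.update_self]
    · rw [Equiv.swap_apply_of_ne_of_ne hk' hk, Function.update_of_ne hk']

theorem symbol_comp_swap {n : ℕ} (x : Fin n → Fˣ) {i j : Fin n} (hij : i ≠ j) :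
    (symbol (x ∘ Equiv.swap i j) : K F n) = -symbol x := by
  rcases lt_or_gt_of_ne hij with h | h
  · rw [comp_swap_eq_update x hij]
    have := (pair_isSteinbergPairing x h).swap (x i) (x j)
    rw [pair_self] at this
    exact this
  · rw [Equiv.swap_comm, comp_swap_eq_update x hij.symm]
    have := (pair_isSteinbergPairing x h).swap (x j) (x i)
    rw [pair_self] at this
    exact this

theorem symbol_comp_perm {n : ℕ} (σ : Equiv.Perm (Fin n)) :
    ∀ x : Fin n → Fˣ, (symbol (x ∘ σ) : K F n) = ((Equiv.Perm.sign σ : ℤˣ) : ℤ) • symbol x := by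
  induction σ using Equiv.Perm.swap_induction_on with
  | one => intro x; simp
  | swap_mul f i j hij ih =>
    intro x
    have : x ∘ ⇑(Equiv.swap i j * f) = (x ∘ Equiv.swap i j) ∘ f := rfl
    rw [this, ih, symbol_comp_swap x hij, Equiv.Perm.sign_mul, Equiv.Perm.sign_swap hij]
    simp

/-- Additive maps out of `K F n` agreeing on symbols are equal. -/
theorem hom_ext_symbol {n : ℕ} {M : Type w} [AddCommGroup M] {f g : K F n →+ M}
    (h : ∀ x : Fin n → Fˣ, f (symbol x) = g (symbol x)) : f = g := by
  ext y
  obtain ⟨t, rfl⟩ := mk_surjective F n y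
  induction t using PiTensorProduct.induction_on with
  | smul_tprod r x =>
    rw [map_zsmul, map_zsmul, map_zsmul, mk_tprod, h]
  | add a b ha hb =>
    rw [map_add, map_add, map_add, ha, hb]

theorem symbol_update_one {n : ℕ} (x : Fin n → Fˣ) (i : Fin n) :
    (symbol (Function.update x i 1) : K F n) = 0 := by
  have h := symbol_update_mul x i 1 1
  rw [mul_one] at h
  exact left_eq_add.mp h

theorem symbol_update_zpow {n : ℕ} (x : Fin n → Fˣ) (i : Fin n) (a : Fˣ) (k : ℤ) :
    (symbol (Function.update x i (a ^ k)) : K F n) = k • symbol (Function.update x i a) := by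
  let f : Additive Fˣ →+ K F n := AddMonoidHom.mk' (fun a => symbol (Function.update x i a.toMul))
    (fun a b => symbol_update_mul x i a.toMul b.toMul)
  have := map_zsmul f k (Additive.ofMul a)
  simpa [f] using this

end Symbol

section K2

variable {F : Type u} [Field F]

theorem vec2_eq_update (a b : Fˣ) :
    (![a, b] : Fin 2 → Fˣ) = Function.update (Function.update ![1, 1] 0 a) 1 b := by
  funext k
  fin_cases k <;> simp

theorem k2_isSteinbergPairing : IsSteinbergPairing (fun a b : Fˣ => (symbol ![a, b] : K F 2)) := by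
  have h := pair_isSteinbergPairing (F := F) (![1, 1] : Fin 2 → Fˣ) (i := 0) (j := 1) (by decide)
  have e : (fun a b : Fˣ => (symbol ![a, b] : K F 2)) = pair ![1, 1] 0 1 := by
    funext a b
    unfold pair
    rw [vec2_eq_update]
  rw [e]
  exact h

theorem k1_mul (a b : Fˣ) : (symbol ![a * b] : K F 1) = symbol ![a] + symbol ![b] := by
  have h := symbol_update_mul (F := F) (![1] : Fin 1 → Fˣ) 0 a b
  have e : ∀ c : Fˣ, Function.update (![1] : Fin 1 → Fˣ) 0 c = ![c] := by
    intro c; funext k; fin_cases k; simp
  rw [e, e, e] at h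
  exact h

theorem k1_zpow (a : Fˣ) (k : ℤ) : (symbol ![a ^ k] : K F 1) = k • symbol ![a] := by
  have h := symbol_update_zpow (F := F) (![1] : Fin 1 → Fˣ) 0 a k
  have e : ∀ c : Fˣ, Function.update (![1] : Fin 1 → Fˣ) 0 c = ![c] := by
    intro c; funext k; fin_cases k; simp
  rw [e, e] at h
  exact h

end K2

section DVR

set_option linter.unusedSectionVars false

variable (A : Type u) [CommRing A] [IsDomain A] [IsDiscreteValuationRing A]
  (L : Type v) [Field L] [Algebra A L] [IsFractionRing A L]

theorem unitFrac_mul (a b : A) (ha : a ≠ 0) (hb : b ≠ 0) :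
    unitFrac A L (a * b) (mul_ne_zero ha hb) = unitFrac A L a ha * unitFrac A L b hb := by
  apply Units.ext
  simp [map_mul]

theorem unitFrac_unit (u : Aˣ) : unitFrac A L (u : A) u.ne_zero = unitToFrac A L u := by
  apply Units.ext
  rfl

theorem unitFrac_neg (a : A) (ha : a ≠ 0) :
    unitFrac A L (-a) (neg_ne_zero.mpr ha) = -unitFrac A L a ha := by
  apply Units.ext
  simp

theorem unitToFrac_neg_one : unitToFrac A L (-1) = -1 := by
  apply Units.ext
  simp [unitToFrac]

theorem exists_zpow_mul_unit (ϖ : A) (hϖ : Irreducible ϖ) (f : Lˣ) :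
    ∃ (k : ℤ) (u : Aˣ), f = unitFrac A L ϖ hϖ.ne_zero ^ k * unitToFrac A L u := by
  obtain ⟨a, b, hb, hab⟩ := IsFractionRing.div_surjective A (f : L)
  have hb0 : b ≠ 0 := nonZeroDivisors.ne_zero hb
  have ha0 : a ≠ 0 := by
    rintro rfl
    rw [map_zero, zero_div] at hab
    exact f.ne_zero hab.symm
  obtain ⟨m, u, hu⟩ := IsDiscreteValuationRing.eq_unit_mul_pow_irreducible ha0 hϖ
  obtain ⟨m', u', hu'⟩ := IsDiscreteValuationRing.eq_unit_mul_pow_irreducible hb0 hϖ
  refine ⟨(m : ℤ) - m', u * u'⁻¹, ?_⟩
  apply Units.ext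
  have hπ : algebraMap A L ϖ ≠ 0 := (unitFrac A L ϖ hϖ.ne_zero).ne_zero
  have hu'0 : algebraMap A L (u' : A) ≠ 0 := (unitToFrac A L u').ne_zero
  rw [← hab, hu, hu']
  simp only [map_mul, map_pow, Units.val_mul, Units.val_zpow_eq_zpow_val, coe_unitFrac, unitToFrac,
    Units.coe_map, MonoidHom.coe_coe]
  rw [zpow_sub₀ hπ, zpow_natCast, zpow_natCast]
  have h1 : algebraMap A L ((u'⁻¹ : Aˣ) : A) = (algebraMap A L (u' : A))⁻¹ := by
    apply eq_inv_of_mul_eq_one_left
    rw [← map_mul, Units.inv_mul, map_one]
  rw [h1]
  field_simp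

end DVR

section Tame

set_option linter.unusedSectionVars false

variable {A : Type u} [CommRing A] [IsDomain A] [IsDiscreteValuationRing A]
  {L : Type v} [Field L] [Algebra A L] [IsFractionRing A L]

theorem symbol_cons_mul {n : ℕ} (a b : Lˣ) (t : Fin n → Lˣ) :
    (symbol (Fin.cons (a * b) t : Fin (n + 1) → Lˣ) : K L (n + 1)) =
      symbol (Fin.cons a t : Fin (n + 1) → Lˣ) + symbol (Fin.cons b t : Fin (n + 1) → Lˣ) := by
  have e2 : ∀ c : Lˣ, (Fin.cons c t : Fin (n + 1) → Lˣ) =
      Function.update (Fin.cons 1 t : Fin (n + 1) → Lˣ) 0 c := fun c => (Fin.update_cons_zero _ _ _).symm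
  rw [e2 (a * b), e2 a, e2 b, symbol_update_mul]

theorem symbol_cons_zpow {n : ℕ} (a : Lˣ) (k : ℤ) (t : Fin n → Lˣ) :
    (symbol (Fin.cons (a ^ k) t : Fin (n + 1) → Lˣ) : K L (n + 1)) =
      k • symbol (Fin.cons a t : Fin (n + 1) → Lˣ) := by
  have e2 : ∀ c : Lˣ, (Fin.cons c t : Fin (n + 1) → Lˣ) =
      Function.update (Fin.cons 1 t : Fin (n + 1) → Lˣ) 0 c := fun c => (Fin.update_cons_zero _ _ _).symm
  rw [e2 (a ^ k), e2 a, symbol_update_zpow]

/-- A tame symbol vanishes on symbols of units. -/
theorem tame_cons_unit {n : ℕ} (d : K L (n + 1) →+ K (IsLocalRing.ResidueField A) n)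
    (hd : IsTameSymbol A L n d) (u0 : Aˣ) (u : Fin n → Aˣ) :
    d (symbol (Fin.cons (unitToFrac A L u0) fun i => unitToFrac A L (u i))) = 0 := by
  obtain ⟨ϖ, hϖ⟩ := IsDiscreteValuationRing.exists_irreducible A
  have hϖ' : Irreducible (ϖ * u0) := (irreducible_mul_units u0).mpr hϖ
  have h1 := hd ϖ hϖ u
  have h2 := hd (ϖ * u0) hϖ' u
  have e : unitFrac A L (ϖ * u0) hϖ'.ne_zero =
      unitFrac A L ϖ hϖ.ne_zero * unitToFrac A L u0 := by
    rw [← unitFrac_unit, ← unitFrac_mul]
  rw [e, symbol_cons_mul, map_add, h1] at h2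
  exact add_eq_left.mp h2

theorem tame_units {n : ℕ} (d : K L (n + 1) →+ K (IsLocalRing.ResidueField A) n)
    (hd : IsTameSymbol A L n d) (u : Fin (n + 1) → Aˣ) :
    d (symbol fun i => unitToFrac A L (u i)) = 0 := by
  have hx : (fun i => unitToFrac A L (u i)) =
      (Fin.cons (unitToFrac A L (u 0)) fun i : Fin n => unitToFrac A L (u i.succ) : Fin (n + 1) → Lˣ) := by
    funext i
    cases i using Fin.cases <;> simp
  rw [hx]
  exact tame_cons_unit d hd (u 0) fun i => u i.succ

theorem tame_insertNth {n : ℕ} (d : K L (n + 1) →+ K (IsLocalRing.ResidueField A) n)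
    (hd : IsTameSymbol A L n d) (ϖ : A) (hϖ : Irreducible ϖ) (p : Fin (n + 1)) (u : Fin n → Aˣ) :
    d (symbol (Fin.insertNth p (unitFrac A L ϖ hϖ.ne_zero) fun i => unitToFrac A L (u i) :
        Fin (n + 1) → Lˣ)) =
      ((-1 : ℤ) ^ (p : ℕ)) • symbol fun i => unitResidue A (u i) := by
  rw [← Fin.cons_comp_cycleRange, symbol_comp_perm, Fin.sign_cycleRange, map_zsmul, hd ϖ hϖ u]
  simp

theorem symbol_eq_update_neg_one_of_eq {n : ℕ} (y : Fin n → Lˣ) {i j : Fin n} (hij : i ≠ j)
    (h : y i = y j) : (symbol y : K L n) = symbol (Function.update y j (-1)) := by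
  rcases lt_or_gt_of_ne hij with hlt | hlt
  · have hB := pair_isSteinbergPairing y hlt
    have h1 := hB.self_eq (y i)
    have h2 : pair y i j (y i) (y i) = symbol y := by
      have := pair_self y i j
      rwa [← h] at this
    rw [h2] at h1
    rw [h1]
    unfold pair
    rw [Function.update_eq_self]
  · have hB := pair_isSteinbergPairing y hlt
    have h1 := hB.self_eq' (y j)
    have h2 : pair y j i (y j) (y j) = symbol y := by
      have := pair_self y j i
      rwa [h] at this
    rw [h2] at h1
    rw [h1]
    unfold pair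
    have h3 : y j = (Function.update y j (-1)) i := by
      rw [Function.update_of_ne hij, h]
    rw [h3, Function.update_eq_self]

end Tame

section DVRExt

set_option linter.unusedSectionVars false

variable {A : Type u} [CommRing A] [IsDomain A] [IsDiscreteValuationRing A]
  {L : Type v} [Field L] [Algebra A L] [IsFractionRing A L]

/-- an additive map killing the standard symbols (uniformizer first, then units; all units) is zero on every
symbol. -/
theorem hom_zero_of_dvr {n : ℕ} {M : Type w} [AddCommGroup M] (h : K L (n + 1) →+ M)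
    (ϖ : A) (hϖ : Irreducible ϖ)
    (h1 : ∀ u : Fin n → Aˣ,
      h (symbol (Fin.cons (unitFrac A L ϖ hϖ.ne_zero) fun i => unitToFrac A L (u i))) = 0)
    (h2 : ∀ u : Fin (n + 1) → Aˣ, h (symbol fun i => unitToFrac A L (u i)) = 0)
    (x : Fin (n + 1) → Lˣ) : h (symbol x) = 0 := by
  classical
  set π : Lˣ := unitFrac A L ϖ hϖ.ne_zero with hπ
  -- splitting one slot
  have split : ∀ (x : Fin (n + 1) → Lˣ) (j : Fin (n + 1)), ∃ (k : ℤ) (u : Aˣ),
      h (symbol x) = k • h (symbol (Function.update x j π)) +
        h (symbol (Function.update x j (unitToFrac A L u))) := by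
    intro x j
    obtain ⟨k, u, hk⟩ := exists_zpow_mul_unit A L ϖ hϖ (x j)
    refine ⟨k, u, ?_⟩
    have : x = Function.update x j (π ^ k * unitToFrac A L u) := by
      rw [← hk, Function.update_eq_self]
    conv_lhs => rw [this]
    rw [symbol_update_mul, symbol_update_zpow, map_add, map_zsmul]
  -- one uniformizer at position j0, units outside S
  have D : ∀ (j0 : Fin (n + 1)) (S : Finset (Fin (n + 1))), j0 ∉ S → ∀ x : Fin (n + 1) → Lˣ,
      x j0 = π → (∀ i, i ∉ S → i ≠ j0 → ∃ u : Aˣ, x i = unitToFrac A L u) → h (symbol x) = 0 := by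
    intro j0 S
    induction S using Finset.induction_on with
    | empty =>
      intro _ x hx0 hxu
      have hxu' : ∀ i, i ≠ j0 → ∃ u : Aˣ, x i = unitToFrac A L u :=
        fun i hi => hxu i (Finset.notMem_empty i) hi
      choose! u hu using hxu'
      have hx : x = (Fin.cons π fun i => unitToFrac A L (u (j0.succAbove i)) : Fin (n + 1) → Lˣ) ∘
          j0.cycleRange := by
        rw [Fin.cons_comp_cycleRange, ← hx0]
        conv_lhs => rw [← Fin.insertNth_self_removeNth j0 x]
        congr 1
        funext i
        exact hu _ (Fin.succAbove_ne j0 i)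
      rw [hx, symbol_comp_perm, map_zsmul, h1, smul_zero]
    | insert j S hjS ih =>
      intro hj0 x hx0 hxu
      have hj0S : j0 ∉ S := fun hh => hj0 (Finset.mem_insert_of_mem hh)
      have hj : j ≠ j0 := fun hh => hj0 (hh ▸ Finset.mem_insert_self j S)
      have hunit : ∀ v : Aˣ, h (symbol (Function.update x j (unitToFrac A L v))) = 0 := by
        intro v
        apply ih hj0S
        · rw [Function.update_of_ne hj.symm, hx0]
        · intro i hiS hij0
          by_cases hij : i = j
          · subst hij
            exact ⟨v, by rw [Function.update_self]⟩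
          · rw [Function.update_of_ne hij]
            exact hxu i (fun hh => (Finset.mem_insert.mp hh).elim hij hiS) hij0
      obtain ⟨k, v, hkv⟩ := split x j
      rw [hkv, hunit v, add_zero]
      have hself : (symbol (Function.update x j π) : K L (n + 1)) =
          symbol (Function.update x j (unitToFrac A L (-1))) := by
        have h3 := symbol_eq_update_neg_one_of_eq (Function.update x j π) hj.symm
          (by rw [Function.update_of_ne hj.symm, Function.update_self, hx0])
        rw [h3, Function.update_idem, unitToFrac_neg_one]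
      rw [hself, hunit (-1), smul_zero]
  have C : ∀ (S : Finset (Fin (n + 1))) (x : Fin (n + 1) → Lˣ),
      (∀ i, i ∉ S → ∃ u : Aˣ, x i = unitToFrac A L u) → h (symbol x) = 0 := by
    intro S
    induction S using Finset.induction_on with
    | empty =>
      intro x hxu
      have hxu' : ∀ i, ∃ u : Aˣ, x i = unitToFrac A L u := fun i => hxu i (Finset.notMem_empty i)
      choose u hu using hxu'
      have : x = fun i => unitToFrac A L (u i) := funext hu
      rw [this]
      exact h2 u
    | insert j S hjS ih =>
      intro x hxu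
      obtain ⟨k, v, hkv⟩ := split x j
      rw [hkv]
      have e1 : h (symbol (Function.update x j (unitToFrac A L v))) = 0 := by
        apply ih
        intro i hiS
        by_cases hij : i = j
        · subst hij
          exact ⟨v, by rw [Function.update_self]⟩
        · rw [Function.update_of_ne hij]
          exact hxu i (fun hh => (Finset.mem_insert.mp hh).elim hij hiS)
      have e2 : h (symbol (Function.update x j π)) = 0 := by
        apply D j S hjS
        · rw [Function.update_self]
        · intro i hiS hij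
          rw [Function.update_of_ne hij]
          exact hxu i (fun hh => (Finset.mem_insert.mp hh).elim hij hiS)
      rw [e1, e2, smul_zero, add_zero]
  exact C Finset.univ x (fun i hi => absurd (Finset.mem_univ i) hi)

/-- Additive maps out of `K L (n+1)` agreeing on the standard symbols are equal. -/
theorem hom_ext_dvr {n : ℕ} {M : Type w} [AddCommGroup M] {f g : K L (n + 1) →+ M}
    (ϖ : A) (hϖ : Irreducible ϖ)
    (h1 : ∀ u : Fin n → Aˣ,
      f (symbol (Fin.cons (unitFrac A L ϖ hϖ.ne_zero) fun i => unitToFrac A L (u i))) =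
        g (symbol (Fin.cons (unitFrac A L ϖ hϖ.ne_zero) fun i => unitToFrac A L (u i))))
    (h2 : ∀ u : Fin (n + 1) → Aˣ, f (symbol fun i => unitToFrac A L (u i)) =
      g (symbol fun i => unitToFrac A L (u i))) : f = g := by
  apply hom_ext_symbol
  intro x
  have := hom_zero_of_dvr (f - g) ϖ hϖ
    (fun u => by rw [AddMonoidHom.sub_apply, h1, sub_self])
    (fun u => by rw [AddMonoidHom.sub_apply, h2, sub_self]) x
  rw [AddMonoidHom.sub_apply] at this
  exact sub_eq_zero.mp this

end DVRExt

section Misc

theorem irreducible_neg' {R : Type u} [CommRing R] {ϖ : R} (h : Irreducible ϖ) : Irreducible (-ϖ) := by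
  have := (irreducible_mul_units (-1 : Rˣ)).mpr h
  simpa using this

theorem append_one_comp_cast {α : Type u} {n : ℕ} (a : α) (t : Fin n → α) :
    (Fin.append ![a] t) ∘ Fin.cast (Nat.add_comm 1 n).symm = (Fin.cons a t : Fin (n + 1) → α) := by
  rw [Fin.append_left_eq_cons]
  funext i
  simp

variable {F : Type u} [Field F]

/-- `{a} · {t}` regarded in degree `n + 1` is the symbol `{a, t}`. -/
theorem cast_mul_symbol_one {n : ℕ} (a : Fˣ) (t : Fin n → Fˣ) :
    MilK.cast F (Nat.add_comm 1 n) (MilK.mul F 1 n (MilK.symbol ![a]) (MilK.symbol t)) =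
      MilK.symbol (Fin.cons a t : Fin (n + 1) → Fˣ) := by
  rw [MilK.mul_symbol_symbol, MilK.cast_symbol, append_one_comp_cast]

end Misc

end H15MilK
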