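import Mathlib
import Groth.Agent.Lib.Helper15.Deform
import Groth.Agent.Lib.Helper15.ThickMore

/-!
# Helper15 — MonoThick: monomorphisms lift across finite order thickenings

* `isEpi_of_isPushout` : ring epimorphisms lift along a surjection with nilpotent kernel.
* `mono_of_injective_of_forall_mono` : a morphism injective on points which is a monomorphism on an open
  cover of the source is a monomorphism.
-/

universe u

open CategoryTheory CategoryTheory.Limits AlgebraicGeometry TensorProduct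

namespace Groth.Agent.Lib.Helper15.MonoThick

section alg

variable {A' B' : Type u} [CommRing A'] [CommRing B'] [Algebra A' B']

/-- the element `1 ⊗ b - b ⊗ 1`. -/
noncomputable def δ (b : B') : B' ⊗[A'] B' := 1 ⊗ₜ[A'] b - b ⊗ₜ[A'] 1

/-- the projection onto the kernel of multiplication. -/
noncomputable def P : (B' ⊗[A'] B') →ₗ[A'] (B' ⊗[A'] B') :=
  LinearMap.id - (Algebra.TensorProduct.includeLeft (R := A') (S := A') (A := B') (B := B')).toLinearMap ∘ₗ
    (Algebra.TensorProduct.lmul' A' (S := B')).toLinearMap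

theorem P_tmul (b c : B') : P (A' := A') (b ⊗ₜ[A'] c) = (b ⊗ₜ[A'] 1) * δ c := by
  simp only [P, δ, LinearMap.sub_apply, LinearMap.id_coe, id_eq, LinearMap.coe_comp,
    Function.comp_apply, AlgHom.toLinearMap_apply, Algebra.TensorProduct.lmul'_apply_tmul,
    Algebra.TensorProduct.includeLeft_apply, mul_sub, Algebra.TensorProduct.tmul_mul_tmul, mul_one,
    one_mul]

theorem P_δ (b : B') : P (A' := A') (δ b) = δ b := by
  simp only [P, δ, LinearMap.sub_apply, LinearMap.id_coe, id_eq, LinearMap.coe_comp,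
    Function.comp_apply, AlgHom.toLinearMap_apply, map_sub, Algebra.TensorProduct.lmul'_apply_tmul,
    one_mul, mul_one]
  abel

/-- Key algebra lemma: if all `δ b` lie in `I • ⊤` with `I` nilpotent then `A' → B'` is epi. -/
theorem isEpi_of_δ_mem (I : Ideal A') (hI : IsNilpotent I)
    (h : ∀ b : B', δ (A' := A') b ∈ I • (⊤ : Submodule A' (B' ⊗[A'] B'))) :
    Algebra.IsEpi A' B' := by
  let J : Submodule A' (B' ⊗[A'] B') := LinearMap.range (P (A' := A') (B' := B'))
  have hδJ : ∀ b : B', δ (A' := A') b ∈ I • J := by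
    intro b
    have h1 : P (δ b) ∈ Submodule.map (P (A' := A') (B' := B')) (I • ⊤) :=
      Submodule.mem_map_of_mem (h b)
    rw [Submodule.map_smul'', Submodule.map_top, P_δ] at h1
    exact h1
  have hmul : ∀ (t y : B' ⊗[A'] B'), y ∈ J → t * y ∈ J := by
    intro t y hy
    -- `J` is the kernel of multiplication
    have hJ : ∀ z : B' ⊗[A'] B', z ∈ J ↔ Algebra.TensorProduct.lmul' A' (S := B') z = 0 := by
      intro z
      constructor
      · rintro ⟨w, rfl⟩
        simp [P]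
      · intro hz
        refine ⟨z, ?_⟩
        simp [P, hz]
    rw [hJ] at hy ⊢
    rw [map_mul, hy, mul_zero]
  have hmul' : ∀ (t y : B' ⊗[A'] B'), y ∈ I • J → t * y ∈ I • J := by
    intro t y hy
    refine Submodule.smul_induction_on hy ?_ ?_
    · intro r hr n hn
      rw [mul_smul_comm]
      exact Submodule.smul_mem_smul hr (hmul t n hn)
    · intro x y ihx ihy
      rw [mul_add]; exact Submodule.add_mem _ ihx ihy
  have hJle : J ≤ I • J := by
    rintro _ ⟨x, rfl⟩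
    induction x using TensorProduct.induction_on with
    | zero => rw [map_zero]; exact Submodule.zero_mem _
    | tmul b c => rw [P_tmul]; exact hmul' _ _ (hδJ c)
    | add x y hx hy => rw [map_add]; exact Submodule.add_mem _ hx hy
  have hJbot : J ≤ ⊥ := Deform.le_of_le_sup_smul I hI ⊥ J (by rw [bot_sup_eq]; exact hJle)
  rw [Algebra.isEpi_iff_forall_one_tmul_eq]
  intro b
  have h1 : δ (A' := A') b ∈ J := ⟨δ b, P_δ b⟩
  have h2 : δ (A' := A') b = 0 := (Submodule.mem_bot A').mp (hJbot h1)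
  exact sub_eq_zero.mp h2

end alg

section cat

variable {A' B' A B : CommRingCat.{u}} {φ : A' ⟶ B'} {ψ : A' ⟶ A} {ψ' : B' ⟶ B} {φ₀ : A ⟶ B}

/-- **Ring epimorphisms lift along surjections with nilpotent kernel.** -/
theorem epi_of_isPushout (h : IsPushout φ ψ ψ' φ₀) (hψ : Function.Surjective ψ.hom)
    (hnil : IsNilpotent (RingHom.ker ψ.hom)) [Epi φ₀] : Epi φ := by
  algebraize [φ.hom]
  let I : Ideal A' := RingHom.ker ψ.hom
  let IT : Ideal (B' ⊗[A'] B') := I.map (algebraMap A' (B' ⊗[A'] B'))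
  let R : CommRingCat.{u} := CommRingCat.of ((B' ⊗[A'] B') ⧸ IT)
  let g : B' ⟶ R := CommRingCat.ofHom
    ((Ideal.Quotient.mk IT).comp Algebra.TensorProduct.includeLeftRingHom)
  let k : B' ⟶ R := CommRingCat.ofHom ((Ideal.Quotient.mk IT).comp
    (Algebra.TensorProduct.includeRight (R := A') (A := B') (B := B')).toRingHom)
  have hker : RingHom.ker ψ.hom ≤
      RingHom.ker ((Ideal.Quotient.mk IT).comp (algebraMap A' (B' ⊗[A'] B'))) := by
    intro x hx
    rw [RingHom.mem_ker, RingHom.comp_apply, Ideal.Quotient.eq_zero_iff_mem]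
    exact Ideal.mem_map_of_mem _ hx
  let a : A ⟶ R := CommRingCat.ofHom (RingHom.liftOfSurjective ψ.hom hψ ⟨_, hker⟩)
  have ha : ∀ x : A', a.hom (ψ.hom x) = Ideal.Quotient.mk IT (algebraMap A' (B' ⊗[A'] B') x) :=
    fun x => RingHom.liftOfRightInverse_comp_apply ψ.hom (Function.surjInv hψ)
      (Function.rightInverse_surjInv hψ) ⟨_, hker⟩ x
  have wg : φ ≫ g = ψ ≫ a := by
    ext x
    show Ideal.Quotient.mk IT (algebraMap A' B' x ⊗ₜ[A'] 1) = a.hom (ψ.hom x)
    rw [ha]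
    rfl
  have wk : φ ≫ k = ψ ≫ a := by
    ext x
    show Ideal.Quotient.mk IT (1 ⊗ₜ[A'] algebraMap A' B' x) = a.hom (ψ.hom x)
    rw [ha]
    congr 1
    rw [Algebra.TensorProduct.algebraMap_apply, Algebra.algebraMap_eq_smul_one,
      TensorProduct.smul_tmul]
  have hdesc : h.desc g a wg = h.desc k a wk := by
    rw [← cancel_epi φ₀, h.inr_desc, h.inr_desc]
  have hgk : g = k := by
    rw [← h.inl_desc g a wg, ← h.inl_desc k a wk, hdesc]
  have hδ : ∀ b : B', δ (A' := A') b ∈ I • (⊤ : Submodule A' (B' ⊗[A'] B')) := by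
    intro b
    rw [Ideal.smul_top_eq_map]
    show δ b ∈ IT
    have h1 := congrArg (fun m => m.hom b) hgk
    have h2 : Ideal.Quotient.mk IT (b ⊗ₜ[A'] 1) = Ideal.Quotient.mk IT (1 ⊗ₜ[A'] b) := h1
    rw [δ, ← Ideal.Quotient.eq_zero_iff_mem, map_sub, h2, sub_self]
  have hepi : Algebra.IsEpi A' B' := isEpi_of_δ_mem I hnil hδ
  have := (CommRingCat.epi_iff_epi (R := A') (S := B')).mpr hepi
  exact this

end cat

section scheme

set_option backward.isDefEq.respectTransparency.types false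

/-- A morphism injective on points which is a monomorphism on an open cover of the source is a
monomorphism. -/
theorem mono_of_injective_of_forall_mono {X Y : Scheme.{u}} (f : X ⟶ Y)
    (hinj : Function.Injective f)
    (h : ∀ x : X, ∃ U : X.Opens, x ∈ U ∧ Mono (U.ι ≫ f)) : Mono f := by
  constructor
  intro T a b hab
  have hpt : ∀ t : T, a t = b t := fun t => hinj (by
    rw [← Scheme.Hom.comp_apply, hab, Scheme.Hom.comp_apply])
  apply Scheme.hom_ext_of_forall
  intro t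
  obtain ⟨U, hU, hmono⟩ := h (a t)
  refine ⟨a ⁻¹ᵁ U, hU, ?_⟩
  have ha : Set.range ((a ⁻¹ᵁ U).ι ≫ a) ⊆ Set.range U.ι := by
    rintro _ ⟨w, rfl⟩
    rw [Scheme.Opens.range_ι]
    exact w.2
  have hb : Set.range ((a ⁻¹ᵁ U).ι ≫ b) ⊆ Set.range U.ι := by
    rintro _ ⟨w, rfl⟩
    rw [Scheme.Opens.range_ι, Scheme.Hom.comp_apply, ← hpt]
    exact w.2
  have h1 : IsOpenImmersion.lift U.ι ((a ⁻¹ᵁ U).ι ≫ a) ha =
      IsOpenImmersion.lift U.ι ((a ⁻¹ᵁ U).ι ≫ b) hb := by
    rw [← cancel_mono (U.ι ≫ f), ← Category.assoc, ← Category.assoc, IsOpenImmersion.lift_fac,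
      IsOpenImmersion.lift_fac, Category.assoc, Category.assoc, hab]
  rw [← IsOpenImmersion.lift_fac U.ι ((a ⁻¹ᵁ U).ι ≫ a) ha, h1, IsOpenImmersion.lift_fac]

theorem mono_of_mono {X X' S S' : Scheme.{u}} (iX : X ⟶ X') (iS : S ⟶ S') (f : X ⟶ S)
    (f' : X' ⟶ S') (hS : MoreMor.IsFiniteOrderThickening iS) (hc : IsPullback iX f f' iS)
    [Mono f] : Mono f' := by
  obtain ⟨h1, h2⟩ := Thick.isNilpotent_ker_app_of_isFiniteOrderThickening iS hS
  haveI := h1
  have hSsurj : Surjective iS := hS.1.2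
  haveI : IsClosedImmersion iX :=
    MorphismProperty.of_isPullback (P := @IsClosedImmersion) hc.flip inferInstance
  have hXsurj : Surjective iX := MorphismProperty.of_isPullback (P := @Surjective) hc.flip hSsurj
  have hinj : Function.Injective f' := by
    intro x1 x2 h12
    obtain ⟨y1, rfl⟩ := hXsurj.surj x1
    obtain ⟨y2, rfl⟩ := hXsurj.surj x2
    have h3 : iS (f y1) = iS (f y2) := by
      rw [← Scheme.Hom.comp_apply, ← Scheme.Hom.comp_apply, ← hc.w, Scheme.Hom.comp_apply,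
        Scheme.Hom.comp_apply, h12]
    have h4 : f y1 = f y2 := iS.isClosedEmbedding.injective h3
    rw [f.injective h4]
  apply mono_of_injective_of_forall_mono f' hinj
  intro x'
  obtain ⟨V, hV, hxV, -⟩ := TopologicalSpace.Opens.isBasis_iff_nbhd.mp S'.isBasis_affineOpens
    (TopologicalSpace.Opens.mem_top (f' x'))
  obtain ⟨U, hU, hxU, eU⟩ := TopologicalSpace.Opens.isBasis_iff_nbhd.mp X'.isBasis_affineOpens
    (show x' ∈ f' ⁻¹ᵁ V from hxV)
  refine ⟨U, hxU, ?_⟩
  have hV₀ : IsAffineOpen (iS ⁻¹ᵁ V) := hV.preimage iS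
  have hU₀ : IsAffineOpen (iX ⁻¹ᵁ U) := hU.preimage iX
  have hUV₀ : iX ⁻¹ᵁ U = iX ⁻¹ᵁ U ⊓ f ⁻¹ᵁ (iS ⁻¹ᵁ V) := by
    refine (inf_eq_left.mpr ?_).symm
    intro y hy
    show iS (f y) ∈ V
    have : iS (f y) = f' (iX y) := by
      rw [← Scheme.Hom.comp_apply, ← Scheme.Hom.comp_apply, hc.w]
    rw [this]
    exact eU hy
  have hpo := (isIso_pushoutSection_iff hc (US := V) (UT := iS ⁻¹ᵁ V) (UX := U)
    le_rfl eU (UY := iX ⁻¹ᵁ U) hUV₀).mp
    (isIso_pushoutSection_of_isAffineOpen hc (US := V) (UT := iS ⁻¹ᵁ V) (UX := U)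
    le_rfl eU (UY := iX ⁻¹ᵁ U) hUV₀ hV hV₀ hU)
  have hψS : Function.Surjective (iS.appLE V (iS ⁻¹ᵁ V) le_rfl).hom := by
    rw [Scheme.Hom.appLE_eq_app]
    exact iS.app_surjective V hV
  have hnilS : IsNilpotent (RingHom.ker (iS.appLE V (iS ⁻¹ᵁ V) le_rfl).hom) := by
    rw [Scheme.Hom.appLE_eq_app]
    exact h2 ⟨V, hV⟩
  -- the base change is a ring epimorphism
  have he₀ : iX ⁻¹ᵁ U ≤ f ⁻¹ᵁ (iS ⁻¹ᵁ V) := hUV₀ ▸ inf_le_right
  haveI : Epi (f.appLE (iS ⁻¹ᵁ V) (iX ⁻¹ᵁ U) he₀) := by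
    have hm : Mono (Spec.map (f.appLE (iS ⁻¹ᵁ V) (iX ⁻¹ᵁ U) he₀) ≫ hV₀.fromSpec) := by
      rw [IsAffineOpen.SpecMap_appLE_fromSpec f hV₀ hU₀ he₀]
      infer_instance
    haveI : Mono (Spec.map (f.appLE (iS ⁻¹ᵁ V) (iX ⁻¹ᵁ U) he₀)) := CategoryTheory.mono_of_mono _ hV₀.fromSpec
    have h : Mono (Scheme.Spec.map (f.appLE (iS ⁻¹ᵁ V) (iX ⁻¹ᵁ U) he₀).op) := ‹_›
    haveI : Mono (f.appLE (iS ⁻¹ᵁ V) (iX ⁻¹ᵁ U) he₀).op := Scheme.Spec.mono_of_mono_map h
    exact unop_epi_of_mono (f.appLE (iS ⁻¹ᵁ V) (iX ⁻¹ᵁ U) he₀).op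
  haveI : Epi (f'.appLE V U eU) := epi_of_isPushout hpo hψS hnilS
  haveI : Mono (Spec.map (f'.appLE V U eU)) := by
    haveI : Mono (f'.appLE V U eU).op := inferInstance
    show Mono (Scheme.Spec.map (f'.appLE V U eU).op)
    infer_instance
  have hm' : Mono (hU.fromSpec ≫ f') := by
    rw [← IsAffineOpen.SpecMap_appLE_fromSpec f' hV hU eU]
    infer_instance
  rw [← hU.isoSpec_hom_fromSpec, Category.assoc]
  infer_instance

end scheme

end Groth.Agent.Lib.Helper15.MonoThick
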