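import Mathlib.AlgebraicGeometry.Morphisms.FlatDescent
import Mathlib.AlgebraicGeometry.Noetherian
import Mathlib.RingTheory.Finiteness.Descent

namespace Groth.Agent.Lib.Helper15

open CategoryTheory CategoryTheory.Limits AlgebraicGeometry

universe u

/-- Noetherianity descends along faithfully flat ring maps. -/
theorem isNoetherianRing_of_faithfullyFlat {R S : Type u} [CommRing R] [CommRing S]
    (φ : R →+* S) (hφ : φ.FaithfullyFlat) [IsNoetherianRing S] : IsNoetherianRing R := by
  algebraize [φ]
  refine ⟨fun I => ?_⟩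
  have h : (Ideal.map (algebraMap R S) I).FG := IsNoetherian.noetherian _
  exact Ideal.FG.of_FG_map_of_faithfullyFlat h

/-- Affine target case of descent of local Noetherianity along fppf covers. -/
theorem isNoetherianRing_of_fppf_cover_of_isAffine {X' X : Scheme.{u}} (g : X' ⟶ X) [Flat g]
    [Surjective g] [LocallyOfFinitePresentation g] [IsLocallyNoetherian X'] [IsAffine X] :
    IsNoetherianRing Γ(X, ⊤) := by
  obtain ⟨V : X'.Opens, hV, e⟩ := g.isOpenMap.exists_opens_image_eq_of_prespectralSpace
    g.continuous (by simp [g.surjective.range_eq]) isOpen_univ isCompact_univ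
  obtain ⟨s, hs, hVs⟩ := isCompact_iff_finite_and_eq_biUnion_affineOpens.mp hV
  have : Finite s := hs.to_subtype
  let W : Scheme.{u} := ∐ fun i : s => ((i.1 : X'.Opens) : Scheme.{u})
  let π : W ⟶ X := Sigma.desc fun i : s => (i.1 : X'.Opens).ι ≫ g
  have hflat : Flat π := inferInstance
  have hsurj : Surjective π := by
    refine ⟨fun x => ?_⟩
    obtain ⟨x', hx'V, rfl⟩ := e.ge (Set.mem_univ x)
    have hx'V' : x' ∈ (⨆ i ∈ s, (i : X'.Opens) : X'.Opens) := hVs ▸ hx'V
    simp only [TopologicalSpace.Opens.mem_iSup] at hx'V'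
    obtain ⟨i, hi, hx'i⟩ := hx'V'
    refine ⟨Sigma.ι (fun i : s => ((i.1 : X'.Opens) : Scheme.{u})) ⟨i, hi⟩ ⟨x', hx'i⟩, ?_⟩
    rw [← Scheme.Hom.comp_apply, Sigma.ι_desc, Scheme.Hom.comp_apply]
    rfl
  have hW : IsLocallyNoetherian W := by
    rw [isLocallyNoetherian_iff_openCover
      (sigmaOpenCover fun i : s => ((i.1 : X'.Opens) : Scheme.{u}))]
    intro i
    change IsLocallyNoetherian ((i.1 : X'.Opens) : Scheme.{u})
    infer_instance
  have hWaff : IsAffine W := inferInstance
  have hff : π.appTop.hom.FaithfullyFlat :=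
    (Flat.flat_and_surjective_iff_faithfullyFlat_of_isAffine π).mp ⟨hflat, hsurj⟩
  have hN : IsNoetherianRing Γ(W, ⊤) :=
    IsLocallyNoetherian.component_noetherian ⟨⊤, isAffineOpen_top W⟩
  exact isNoetherianRing_of_faithfullyFlat _ hff

/-- Local Noetherianity descends along fppf covers. -/
theorem isLocallyNoetherian_of_fppf_cover {X' X : Scheme.{u}} (g : X' ⟶ X) [Flat g]
    [Surjective g] [LocallyOfFinitePresentation g] [IsLocallyNoetherian X'] :
    IsLocallyNoetherian X := by
  refine ⟨fun U => ?_⟩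
  have : IsAffine (U.1 : Scheme.{u}) := U.2
  have : Surjective (g ∣_ U.1) := MorphismProperty.of_isPullback (P := @Surjective)
    (isPullback_morphismRestrict g U.1).flip inferInstance
  have : LocallyOfFinitePresentation (g ∣_ U.1) := inferInstance
  have h := isNoetherianRing_of_fppf_cover_of_isAffine (g ∣_ U.1)
  exact isNoetherianRing_of_ringEquiv _ (U.1.topIso).commRingCatIsoToRingEquiv

end Groth.Agent.Lib.Helper15
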