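import Mathlib

namespace Groth.Agent.Lib.Helper15.OmegaAlg
open TensorProduct

universe u

section core
variable {R A B C N : Type u} [CommRing R] [CommRing A] [Algebra R A] [CommRing B] [CommRing C]
  [Algebra C B] [AddCommGroup N] [Module C N]
  (θ : A ≃+* B) (ψ : A ⊗[R] A ≃+* C)
  (hcompat : ∀ x, algebraMap C B (ψ x) = θ (Algebra.TensorProduct.lmul' R x))
  (ι : N →ₗ[C] C) (hinj : Function.Injective ι)
  (hrange : ∀ c, (∃ n, ι n = c) ↔ algebraMap C B c = 0)

include hcompat hrange in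
theorem mem_ideal (n : N) : ψ.symm (ι n) ∈ KaehlerDifferential.ideal R A := by
  rw [RingHom.mem_ker]
  apply θ.injective
  have h := hcompat (ψ.symm (ι n))
  rw [ψ.apply_symm_apply] at h
  change θ (Algebra.TensorProduct.lmul' R (ψ.symm (ι n))) = θ 0
  rw [← h, map_zero]
  exact (hrange _).1 ⟨n, rfl⟩

omit [CommRing B] [CommRing C] [AddCommGroup N] in
theorem fromIdeal_eq_zero (y : KaehlerDifferential.ideal R A) :
    KaehlerDifferential.fromIdeal R A y = 0 ↔ (y : A ⊗[R] A) ∈ KaehlerDifferential.ideal R A ^ 2 :=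
  Ideal.toCotangent_eq_zero _ y

/-- the map `N → Ω`. -/
noncomputable def D : N →+ Ω[A⁄R] :=
  AddMonoidHom.mk' (fun n => KaehlerDifferential.fromIdeal R A
      ⟨ψ.symm (ι n), mem_ideal θ ψ hcompat ι hrange n⟩) (by
    intro a b
    rw [← map_add]
    congr 1
    ext
    simp)

theorem D_apply (n : N) : D θ ψ hcompat ι hrange n = KaehlerDifferential.fromIdeal R A
      ⟨ψ.symm (ι n), mem_ideal θ ψ hcompat ι hrange n⟩ := rfl

theorem D_smul (c : C) (n : N) :
    D θ ψ hcompat ι hrange (c • n) = ψ.symm c • D θ ψ hcompat ι hrange n := by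
  rw [D_apply, D_apply, ← map_smul]
  congr 1
  ext
  simp

omit [CommRing B] [CommRing C] [AddCommGroup N] in
theorem key (x : A ⊗[R] A) (ω : Ω[A⁄R]) :
    x • ω = (Algebra.TensorProduct.lmul' R x) • ω := by
  obtain ⟨y, rfl⟩ := KaehlerDifferential.fromIdeal_surjective R A ω
  rw [← algebraMap_smul (A ⊗[R] A) (Algebra.TensorProduct.lmul' R x), ← sub_eq_zero, ← sub_smul,
    ← map_smul, fromIdeal_eq_zero, pow_two]
  refine Ideal.mul_mem_mul ?_ y.2
  rw [RingHom.mem_ker, map_sub, sub_eq_zero]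
  simp [Algebra.TensorProduct.algebraMap_apply]

include hcompat in
theorem symm_algebraMap (c : C) :
    θ.symm (algebraMap C B c) = Algebra.TensorProduct.lmul' R (ψ.symm c) := by
  have h := hcompat (ψ.symm c)
  rw [ψ.apply_symm_apply] at h
  rw [h, θ.symm_apply_apply]

include hcompat in
theorem algebraMap_surjective : Function.Surjective (algebraMap C B) := by
  intro b
  refine ⟨ψ (θ.symm b ⊗ₜ[R] 1), ?_⟩
  rw [hcompat]
  simp

/-- the bilinear pairing. -/
noncomputable def pairing : B →+ N →+ Ω[A⁄R] :=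
  AddMonoidHom.mk' (fun b => AddMonoidHom.mk' (fun n => θ.symm b • D θ ψ hcompat ι hrange n)
    (by intro n m; simp [smul_add]))
    (by intro b b'; ext n; simp [add_smul])

theorem pairing_apply (b : B) (n : N) :
    pairing θ ψ hcompat ι hrange b n = θ.symm b • D θ ψ hcompat ι hrange n := rfl

theorem pairing_balanced (c : C) (b : B) (n : N) :
    pairing θ ψ hcompat ι hrange (c • b) n = pairing θ ψ hcompat ι hrange b (c • n) := by
  rw [pairing_apply, pairing_apply, D_smul, key, Algebra.smul_def, map_mul,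
    symm_algebraMap θ ψ hcompat, mul_comm, mul_smul]

/-- the comparison map. -/
noncomputable def F : B ⊗[C] N →+ Ω[A⁄R] :=
  TensorProduct.liftAddHom (pairing θ ψ hcompat ι hrange) (pairing_balanced θ ψ hcompat ι hrange)

theorem F_tmul (b : B) (n : N) :
    F θ ψ hcompat ι hrange (b ⊗ₜ[C] n) = θ.symm b • D θ ψ hcompat ι hrange n := rfl

theorem F_surjective : Function.Surjective (F θ ψ hcompat ι hrange) := by
  intro ω
  obtain ⟨⟨y, hy⟩, rfl⟩ := KaehlerDifferential.fromIdeal_surjective R A ω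
  have h0 : algebraMap C B (ψ y) = 0 := by
    rw [hcompat]
    have : Algebra.TensorProduct.lmul' R y = 0 := hy
    rw [this, map_zero]
  obtain ⟨n, hn⟩ := (hrange _).2 h0
  refine ⟨(1 : B) ⊗ₜ[C] n, ?_⟩
  rw [F_tmul, map_one, one_smul, D_apply]
  congr 1
  ext
  simp [hn]

include hcompat in
theorem exists_one_tmul (x : B ⊗[C] N) : ∃ n : N, x = (1 : B) ⊗ₜ[C] n := by
  induction x with
  | zero => exact ⟨0, by simp⟩
  | tmul b n =>
    obtain ⟨c, rfl⟩ := algebraMap_surjective θ ψ hcompat b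
    refine ⟨c • n, ?_⟩
    rw [TensorProduct.tmul_smul, TensorProduct.smul_tmul', Algebra.smul_def, mul_one]
  | add x y hx hy =>
    obtain ⟨n, rfl⟩ := hx
    obtain ⟨m, rfl⟩ := hy
    exact ⟨n + m, by rw [TensorProduct.tmul_add]⟩

include hinj in
theorem F_injective : Function.Injective (F θ ψ hcompat ι hrange) := by
  rw [injective_iff_map_eq_zero]
  intro x hx
  obtain ⟨n, rfl⟩ := exists_one_tmul θ ψ hcompat x
  rw [F_tmul, map_one, one_smul, D_apply, fromIdeal_eq_zero, pow_two] at hx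
  have claim : ∀ y ∈ KaehlerDifferential.ideal R A * KaehlerDifferential.ideal R A,
      ∃ m : N, ι m = ψ y ∧ (1 : B) ⊗ₜ[C] m = 0 := by
    intro y hy
    refine Submodule.mul_induction_on hy ?_ ?_
    · intro y₁ hy₁ y₂ hy₂
      have h2 : algebraMap C B (ψ y₂) = 0 := by
        rw [hcompat]
        have : Algebra.TensorProduct.lmul' R y₂ = 0 := hy₂
        rw [this, map_zero]
      have h1 : algebraMap C B (ψ y₁) = 0 := by
        rw [hcompat]
        have : Algebra.TensorProduct.lmul' R y₁ = 0 := hy₁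
        rw [this, map_zero]
      obtain ⟨m, hm⟩ := (hrange _).2 h2
      refine ⟨ψ y₁ • m, ?_, ?_⟩
      · rw [map_smul, hm, smul_eq_mul, map_mul]
      · rw [TensorProduct.tmul_smul, TensorProduct.smul_tmul', Algebra.smul_def, h1, zero_mul,
          TensorProduct.zero_tmul]
    · rintro y₁ y₂ ⟨m₁, h₁, h₁'⟩ ⟨m₂, h₂, h₂'⟩
      exact ⟨m₁ + m₂, by rw [map_add, h₁, h₂, map_add], by rw [TensorProduct.tmul_add, h₁', h₂', add_zero]⟩
  obtain ⟨m, hm, hm0⟩ := claim _ hx
  rw [ψ.apply_symm_apply] at hm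
  rw [← hinj hm]
  exact hm0

include hinj hcompat hrange in
theorem exists_equiv : ∃ Φ : B ⊗[C] N ≃+ Ω[A⁄R],
    ∀ (b : B) (x : B ⊗[C] N), Φ (b • x) = θ.symm b • Φ x := by
  refine ⟨AddEquiv.ofBijective (F θ ψ hcompat ι hrange)
    ⟨F_injective θ ψ hcompat ι hinj hrange, F_surjective θ ψ hcompat ι hrange⟩, ?_⟩
  intro b x
  change F θ ψ hcompat ι hrange (b • x) = θ.symm b • F θ ψ hcompat ι hrange x
  induction x with
  | zero => simp
  | tmul b' n =>
    rw [TensorProduct.smul_tmul', F_tmul, F_tmul, smul_eq_mul, map_mul, mul_smul]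
  | add x y hx hy => rw [smul_add, map_add, hx, hy, map_add, smul_add]

end core

end Groth.Agent.Lib.Helper15.OmegaAlg
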