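import Groth.Agent.Lib.Helper15.OnePointSp
import Groth.Agent.Lib.Helper3.FieldFlat

set_option autoImplicit false
set_option backward.isDefEq.respectTransparency.types false
universe u
open CategoryTheory CategoryTheory.Limits AlgebraicGeometry AlgSp

namespace Groth.Agent.Lib.Helper15.OnePointSp

open Groth.Agent.Lib.Helper3 Groth.Agent.Lib.lead.QFCodim

variable {S : Scheme.{u}}

/-- **no specializations in an etale chart of a one-point sheaf.** -/
theorem eq_of_specializes_chart {Z : Sp S} [Subsingleton (Points Z)] {U : Over S}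
    (a : (yon S).obj U ⟶ Z) (ha : RepWith @Etale a) {z z' : ↥U.left} (hzz' : z' ⤳ z) : z' = z := by
  obtain ⟨R, s, t, sq⟩ := exists_pullback_charts a ha.1 a
  haveI hs : Etale s.left := ha.2 a ((yon S).map t) s sq.flip
  haveI ht : Etale t.left := ha.2 a ((yon S).map s) t sq
  haveI : LocallyQuasiFinite s.left := Groth.Agent.S9945.W1.locallyQuasiFinite_of_etale s.left
  obtain ⟨η, hη, hdim⟩ := exists_specializes_dim_zero U.left z'
  obtain ⟨r, hr1, hr2⟩ := exists_of_ofPt_eq_of_isPullback sq η z (Subsingleton.elim _ _)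
  have hηz : η ⤳ t.left r := by rw [hr2]; exact hη.trans hzz'
  obtain ⟨r', hr'r, hr'⟩ := (Flat.generalizingMap t.left) hηz
  have h1 : s.left r' ⤳ η := by
    rw [← hr1]; exact hr'r.map s.left.continuous
  have h2 : s.left r' = η := eq_of_specializes_of_dim_zero U.left hdim h1
  have hrr : r' = r :=
    eq_of_specializes_of_isDiscrete (s.left.isDiscrete_preimage_singleton η) h2 hr1 hr'r
  have hηz' : η = z := by rw [← hr', hrr, hr2]
  subst hηz'
  exact (hzz'.antisymm hη).eq

/-- the stalks of an etale chart of a reduced one-point sheaf are fields. -/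
theorem isField_stalk_chart {Z : Sp S} (hr : EtaleLocally (fun U => IsReduced U) Z)
    [Subsingleton (Points Z)] {U : Over S} (a : (yon S).obj U ⟶ Z) (ha : RepWith @Etale a)
    (w : ↥U.left) : IsField ↥(U.left.presheaf.stalk w) := by
  haveI : IsReduced U.left := isReduced_chart hr a ha
  haveI : Subsingleton (PrimeSpectrum ↥(U.left.presheaf.stalk w)) := by
    refine ⟨fun P Q => ?_⟩
    have hinj : Function.Injective (U.left.fromSpecStalk w) :=
      (inferInstance : IsPreimmersion (U.left.fromSpecStalk w)).isEmbedding.injective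
    apply hinj
    have hP : U.left.fromSpecStalk w P ⤳ w := by
      have : U.left.fromSpecStalk w P ∈ Set.range (U.left.fromSpecStalk w) := ⟨P, rfl⟩
      rw [Scheme.range_fromSpecStalk] at this; exact this
    have hQ : U.left.fromSpecStalk w Q ⤳ w := by
      have : U.left.fromSpecStalk w Q ∈ Set.range (U.left.fromSpecStalk w) := ⟨Q, rfl⟩
      rw [Scheme.range_fromSpecStalk] at this; exact this
    exact (eq_of_specializes_chart a ha hP).trans (eq_of_specializes_chart a ha hQ).symm
  exact isField_of_isReduced_of_subsingleton_primeSpectrum _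

/-- every morphism to a scheme all of whose local rings are fields is flat. -/
theorem flat_of_isField_stalks {V U : Scheme.{u}} (h : V ⟶ U)
    (hU : ∀ u : ↥U, IsField ↥(U.presheaf.stalk u)) : Flat h := by
  rw [Flat.iff_flat_stalkMap]
  intro x
  letI := (hU (h x)).toField
  algebraize [(h.stalkMap x).hom]
  change Module.Flat ↥(U.presheaf.stalk (h x)) ↥(V.presheaf.stalk x)
  infer_instance

end Groth.Agent.Lib.Helper15.OnePointSp

namespace Groth.Agent.Lib.Helper15.OnePointSp

open Groth.Agent.Lib.Helper3 Groth.Agent.Lib.lead.QFCodim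

variable {S : Scheme.{u}}

/-- a nonempty scheme all of whose local rings are fields receives a flat morphism locally of
finite type from the spectrum of a field. -/
theorem exists_field_flat_lft (U : Scheme.{u}) [Nonempty ↥U]
    (hU : ∀ u : ↥U, IsField ↥(U.presheaf.stalk u)) :
    ∃ (k : Type u) (_ : Field k) (c : Spec (CommRingCat.of k) ⟶ U),
      Flat c ∧ LocallyOfFiniteType c := by
  obtain ⟨u₀⟩ := (inferInstance : Nonempty ↥U)
  obtain ⟨W₀, hW₀, huW⟩ : ∃ W₀ : U.Opens, IsAffineOpen W₀ ∧ u₀ ∈ W₀ := by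
    obtain ⟨_, ⟨W, hW, rfl⟩, huW, -⟩ := (U.isBasis_affineOpens).exists_subset_of_mem_open
      (Set.mem_univ u₀) isOpen_univ
    exact ⟨W, hW, huW⟩
  have hne : Nonempty ↥W₀ := ⟨⟨u₀, huW⟩⟩
  haveI : Nontrivial Γ(U, W₀) := inferInstance
  obtain ⟨m, hm⟩ := Ideal.exists_maximal Γ(U, W₀)
  letI : Field (Γ(U, W₀) ⧸ m) := Ideal.Quotient.field m
  let c : Spec (CommRingCat.of (Γ(U, W₀) ⧸ m)) ⟶ U :=
    Spec.map (CommRingCat.ofHom (Ideal.Quotient.mk m)) ≫ hW₀.fromSpec
  refine ⟨Γ(U, W₀) ⧸ m, inferInstance, c, flat_of_isField_stalks c hU, ?_⟩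
  haveI : LocallyOfFiniteType (Spec.map (CommRingCat.ofHom (Ideal.Quotient.mk m))) := by
    rw [HasRingHomProperty.Spec_iff (P := @LocallyOfFiniteType)]
    exact RingHom.FiniteType.of_surjective _ Ideal.Quotient.mk_surjective
  infer_instance

/-- a sheaf with a flat surjective field point: every field point is flat and surjective. -/
theorem flat_surjective_of_exists {Z : Sp S} (hZ : IsAlgSpace Z)
    (k : Type u) [Field k] (str : Spec (CommRingCat.of k) ⟶ S)
    (p : (yon S).obj (Over.mk str) ⟶ Z) (hpf : LocP @Flat p) (hps : IsSurjectiveMor p)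
    (k' : Type u) [Field k'] (str' : Spec (CommRingCat.of k') ⟶ S)
    (q : (yon S).obj (Over.mk str') ⟶ Z) : LocP @Flat q ∧ IsSurjectiveMor q := by
  obtain ⟨hr, hne, hsub⟩ := reduced_singleton_of_flat_surjective_fieldPt hZ k str p hpf hps
  refine ⟨?_, ?_⟩
  · intro V U a' b h _ hb _
    exact flat_of_isField_stalks h.left (isField_stalk_chart hr b hb)
  · intro y
    exact ⟨Points.ofScheme _ (IsLocalRing.closedPoint k'), Subsingleton.elim _ _⟩

/-- a sheaf with a flat surjective field point has one which is moreover locally of finite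
type. -/
theorem exists_lft_flat_surjective {Z : Sp S} (hZ : IsAlgSpace Z)
    (k : Type u) [Field k] (str : Spec (CommRingCat.of k) ⟶ S)
    (p : (yon S).obj (Over.mk str) ⟶ Z) (hpf : LocP @Flat p) (hps : IsSurjectiveMor p) :
    ∃ (k' : Type u) (_ : Field k') (str' : Spec (CommRingCat.of k') ⟶ S)
      (q : (yon S).obj (Over.mk str') ⟶ Z),
      LocP @LocallyOfFiniteType q ∧ LocP @Flat q ∧ IsSurjectiveMor q := by
  obtain ⟨hr, hne, hsub⟩ := reduced_singleton_of_flat_surjective_fieldPt hZ k str p hpf hps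
  obtain ⟨U, a, hae, has⟩ := hZ.atlas
  obtain ⟨x⟩ := hne
  obtain ⟨u₀, -⟩ := exists_ofPt_eq a has x
  haveI : Nonempty ↥U.left := ⟨u₀⟩
  obtain ⟨k', hk', c, hcf, hct⟩ := exists_field_flat_lft U.left (isField_stalk_chart hr a hae)
  let str' : Spec (CommRingCat.of k') ⟶ S := c ≫ U.hom
  let cO : Over.mk str' ⟶ U := Over.homMk c rfl
  have hq := flat_surjective_of_exists hZ k str p hpf hps k' str' ((yon S).map cO ≫ a)
  refine ⟨k', hk', str', (yon S).map cO ≫ a, ?_, hq.1, hq.2⟩
  refine locP_comp isEtLocal_locallyOfFiniteType (IsAlgSpace.yon_obj _) (IsAlgSpace.yon_obj _) hZ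
    _ _ ?_ ?_
  · exact locP_of_repWith isEtLocal_locallyOfFiniteType _ ((repWith_yon_map_iff _ _).2 hct)
  · exact locP_of_repWith isEtLocal_locallyOfFiniteType _
      (repWith_mono (fun _ _ g (hg : Etale g) => (inferInstance : LocallyOfFiniteType g)) hae)

end Groth.Agent.Lib.Helper15.OnePointSp
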