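import Groth.Agent.Lib.Helper3.AlgSpChartPts
import Groth.Agent.Lib.Helper3.AlgSpRepLocal
import Groth.Agent.Lib.Helper3.AlgSpQC3

set_option autoImplicit false
set_option backward.isDefEq.respectTransparency.types false
universe u
open CategoryTheory CategoryTheory.Limits AlgebraicGeometry
open AlgSp

/-! Checking a property of a representable morphism of sheaves on an etale chart of the target that
need not be surjective, provided its pullback covers the source. -/

namespace Groth.Agent.Lib.Helper15.PartialChart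

open Groth.Agent.Lib.Helper3

/-- scheme level: `P s` follows from `P` of the base change of `s` along an etale map `p` whose
image contains the image of `s`. -/
theorem prop_of_partial_cover (P : MorphismProperty Scheme.{u})
    [P.DescendsAlong (@Surjective ⊓ @Flat ⊓ @LocallyOfFinitePresentation)]
    (hPo : ∀ {A B C : Scheme.{u}} (f : A ⟶ B) (j : B ⟶ C), P f → IsOpenImmersion j → P (f ≫ j))
    {A T H Q' : Scheme.{u}} (s : A ⟶ T) (p : H ⟶ T) [Etale p] (pr₁ : Q' ⟶ A) (pr₂ : Q' ⟶ H)
    (sq : IsPullback pr₁ pr₂ s p) (hsurj : ∀ x : A, s x ∈ Set.range p) (h : P pr₂) : P s := by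
  let O : T.Opens := ⟨Set.range p, p.isOpenMap.isOpen_range⟩
  have hsO : Set.range s ⊆ Set.range O.ι := by
    rintro _ ⟨x, rfl⟩
    rw [Scheme.Opens.range_ι]
    exact hsurj x
  have hpO : Set.range p ⊆ Set.range O.ι := by
    rw [Scheme.Opens.range_ι]
    exact subset_rfl
  let s' : A ⟶ O := IsOpenImmersion.lift O.ι s hsO
  let p' : H ⟶ O := IsOpenImmersion.lift O.ι p hpO
  have hs' : s' ≫ O.ι = s := IsOpenImmersion.lift_fac _ _ _
  have hp' : p' ≫ O.ι = p := IsOpenImmersion.lift_fac _ _ _
  have sq'' : IsPullback pr₂ pr₁ p' s' := by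
    refine ⟨⟨by rw [← cancel_mono O.ι, Category.assoc, Category.assoc, hs', hp', sq.w]⟩,
      ⟨PullbackCone.IsLimit.mk _ (fun c => sq.lift c.snd c.fst (by
        rw [← hs', ← hp', ← Category.assoc, ← c.condition, Category.assoc]))
        (fun c => sq.lift_snd _ _ _) (fun c => sq.lift_fst _ _ _)
        (fun c m h1 h2 => sq.hom_ext (by rw [h2, sq.lift_fst]) (by rw [h1, sq.lift_snd]))⟩⟩
  haveI : Etale (p' ≫ O.ι) := by rw [hp']; infer_instance
  haveI : Etale p' := MorphismProperty.of_postcomp (W := @Etale) (W' := @Etale) p' O.ι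
    inferInstance inferInstance
  have hp's : Surjective p' := by
    refine ⟨fun z => ?_⟩
    obtain ⟨x, hx⟩ : (O.ι z) ∈ Set.range p := z.2
    refine ⟨x, ?_⟩
    apply O.ι.isEmbedding.injective
    rw [← Scheme.Hom.comp_apply, hp', hx]
  have hQ : (@Surjective ⊓ @Flat ⊓ @LocallyOfFinitePresentation : MorphismProperty Scheme.{u}) p' :=
    ⟨⟨hp's, inferInstance⟩, inferInstance⟩
  have hPs' : P s' := MorphismProperty.of_isPullback_of_descendsAlong sq'' hQ h
  rw [← hs']
  exact hPo s' O.ι hPs' inferInstance

variable {S : Scheme.{u}}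

/-- A representable morphism `a : F ⟶ G` has `P` if its base change along an etale chart
`b : h_V ⟶ G` is a scheme morphism with `P` and the chart of `F` so obtained is surjective. -/
theorem repWith_of_partial_chart (P : MorphismProperty Scheme.{u}) [P.IsStableUnderBaseChange]
    [P.DescendsAlong (@Surjective ⊓ @Flat ⊓ @LocallyOfFinitePresentation)]
    (hPo : ∀ {A B C : Scheme.{u}} (f : A ⟶ B) (j : B ⟶ C), P f → IsOpenImmersion j → P (f ≫ j))
    {F G : Sp S} (a : F ⟶ G) (ha : Representable a) {V Q : Over S} (b : (yon S).obj V ⟶ G)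
    (hb : RepWith @Etale b) (b' : (yon S).obj Q ⟶ F) (a' : Q ⟶ V)
    (sq : IsPullback b' ((yon S).map a') a b) (hb's : IsSurjectiveMor b') (h : P a'.left) :
    RepWith P a := by
  have : P.RespectsIso := MorphismProperty.IsStableUnderBaseChange.respectsIso
  refine ⟨ha, ?_⟩
  intro T U' g fst snd sq'
  change P snd.left
  -- the chart over `T`
  have sqH := hb.rep.isPullback g
  have hp₁ : Etale (hb.rep.snd g).left := hb.property_snd g
  -- `Q_T`
  have sqQ := IsPullback.of_hasPullback snd (hb.rep.snd g)
  have sqQy := sqQ.map (yon S)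
  have sqQs := sqQ.map (Over.forget S)
  -- `pr₂` is a base change of `a'`
  have big : IsPullback ((yon S).map (pullback.fst snd (hb.rep.snd g)) ≫ fst)
      ((yon S).map (pullback.snd snd (hb.rep.snd g))) a
      ((yon S).map (hb.rep.snd g) ≫ g) := sqQy.paste_horiz sq'
  rw [← sqH.w] at big
  have wl : ((yon S).map (pullback.fst snd (hb.rep.snd g)) ≫ fst) ≫ a =
      ((yon S).map (pullback.snd snd (hb.rep.snd g)) ≫ hb.rep.fst g) ≫ b := by
    rw [Category.assoc, Category.assoc]; exact big.w
  obtain ⟨l, hl⟩ := (yon S).map_surjective (sq.lift _ _ wl)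
  have sqL : IsPullback ((yon S).map l) ((yon S).map (pullback.snd snd (hb.rep.snd g)))
      ((yon S).map a') (hb.rep.fst g) := by
    refine IsPullback.of_right ?_ ?_ sq
    · rw [hl, sq.lift_fst]; exact big
    · rw [hl, sq.lift_snd]
  have hRa' : RepWith P ((yon S).map a') := (repWith_yon_map_iff _ _).2 h
  have hpr₂ : P (pullback.snd snd (hb.rep.snd g)).left := hRa'.property _ _ _ sqL
  -- surjectivity
  have hsurj : ∀ x : U'.left, snd.left x ∈ Set.range (hb.rep.snd g).left := by
    intro x
    let ξ : Points ((yon S).obj U') := Points.schemeHomeo U' x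
    obtain ⟨q, hq⟩ := hb's (Points.map fst ξ)
    have h1 : Points.map b (Points.map ((yon S).map a') q) =
        Points.map g (Points.map ((yon S).map snd) ξ) := by
      rw [← Points.map_comp, ← Points.map_comp, ← sq.w, ← sq'.w, Points.map_comp, Points.map_comp, hq]
    obtain ⟨z, -, hz⟩ := Points.exists_of_isPullback sqH _ _ h1
    obtain ⟨w, rfl⟩ := (Points.schemeHomeo _).surjective z
    refine ⟨w, ?_⟩
    have h2 := hz
    rw [Points.map_yon_map_apply, Points.map_yon_map_apply] at h2
    exact (Points.schemeHomeo T).injective h2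
  exact prop_of_partial_cover P hPo snd.left (hb.rep.snd g).left _ _ sqQs hsurj hpr₂

end Groth.Agent.Lib.Helper15.PartialChart
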