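import Groth.Agent.Lib.Helper15.GeomRedSp
import Groth.Agent.Lib.Helper15.OnePointSp

set_option autoImplicit false
set_option backward.isDefEq.respectTransparency.types false
universe u
open CategoryTheory CategoryTheory.Limits AlgebraicGeometry
open AlgSp

namespace Groth.Agent.Lib.Helper15.ProdChart

open Groth.Agent.Lib.Helper3

theorem isPullback_prod_fst_with_id {D : Type*} [Category D] {A B : D} (f : A ⟶ B) (Y : D)
    [HasBinaryProduct A Y] [HasBinaryProduct B Y] :
    IsPullback (prod.map f (𝟙 Y)) prod.fst prod.fst f := by
  refine IsPullback.mk' (by simp) ?_ ?_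
  · intro T φ φ' h1 h2
    apply Limits.prod.hom_ext
    · exact h2
    · have := h1 =≫ prod.snd
      simpa only [Category.assoc, prod.map_snd, Category.comp_id] using this
  · intro T a b hab
    refine ⟨prod.lift b (a ≫ prod.snd), ?_, by simp only [prod.lift_fst]⟩
    apply Limits.prod.hom_ext
    · simp only [Category.assoc, prod.map_fst, prod.lift_fst_assoc, hab]
    · simp only [Category.assoc, prod.map_snd, Category.comp_id, prod.lift_snd]

variable {S : Scheme.{u}}

/-- the chart of `X × h_T` induced by a chart of `X` -/
noncomputable def prodChart {X : Sp S} {U : Over S} (a : (yon S).obj U ⟶ X) (T : Over S) :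
    (yon S).obj (U ⨯ T) ⟶ X ⨯ (yon S).obj T :=
  prod.lift ((yon S).map prod.fst ≫ a) ((yon S).map prod.snd)

theorem prodChart_fst {X : Sp S} {U : Over S} (a : (yon S).obj U ⟶ X) (T : Over S) :
    prodChart a T ≫ prod.fst = (yon S).map prod.fst ≫ a := prod.lift_fst _ _

theorem prodChart_snd {X : Sp S} {U : Over S} (a : (yon S).obj U ⟶ X) (T : Over S) :
    prodChart a T ≫ prod.snd = (yon S).map prod.snd := prod.lift_snd _ _

theorem isPullback_prodChart {X : Sp S} {U : Over S} (a : (yon S).obj U ⟶ X) (T : Over S) :
    IsPullback (prodChart a T) ((yon S).map prod.fst) prod.fst a := by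
  refine (isPullback_prod_fst_with_id a ((yon S).obj T)).of_iso'
    (asIso (prodComparison (yon S) U T)) (Iso.refl _) (Iso.refl _) (Iso.refl _) ?_ ?_ ?_ ?_
  · apply Limits.prod.hom_ext
    · simp only [asIso_hom, Category.assoc, prod.map_fst, Iso.refl_hom, Category.comp_id,
        prodChart_fst]
      rw [← Category.assoc, prodComparison_fst]
    · simp only [asIso_hom, Category.assoc, prod.map_snd, Iso.refl_hom, Category.comp_id,
        prodChart_snd, prodComparison_snd]
  · simp only [asIso_hom, prodComparison_fst, Iso.refl_hom, Category.comp_id]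
  · simp
  · simp

theorem prodChart_etale {X : Sp S} {U : Over S} (a : (yon S).obj U ⟶ X) (T : Over S)
    (ha : RepWith @Etale a) : RepWith @Etale (prodChart a T) :=
  (repWith_isStableUnderBaseChange _).of_isPullback (isPullback_prodChart a T).flip ha

theorem prodChart_surjective {X : Sp S} {U : Over S} (a : (yon S).obj U ⟶ X) (T : Over S)
    (ha : RepWith @Surjective a) : RepWith @Surjective (prodChart a T) :=
  (repWith_isStableUnderBaseChange _).of_isPullback (isPullback_prodChart a T).flip ha

end Groth.Agent.Lib.Helper15.ProdChart
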