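import Groth.Agent.Lib.Helper15.PushFF
import Groth.Agent.Lib.Helper15.ClImmEt
import Groth.Prelude.Def_AlgSpOX2

set_option autoImplicit false
set_option backward.isDefEq.respectTransparency false
universe u
open CategoryTheory CategoryTheory.Limits AlgebraicGeometry Opposite
open AlgSp

namespace Groth.Agent.Lib.Helper15.PushCl

variable {S : Scheme.{u}}

theorem isIso_of_isIso_left {Y : Sp S} {E E' : EtOver Y} (φ : E ⟶ E')
    (h : IsIso φ.hom.left.left) : IsIso φ := by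
  have : IsIso ((EtOver.toScheme Y).map φ) := h
  exact isIso_of_reflects_iso φ (EtOver.toScheme Y)

variable {Z X : Sp S} {i : Z ⟶ X}

theorem locFull_bc (hi : RepWith @IsClosedImmersion i) : PushFF.LocFull (EtOver.bc hi.rep) := by
  intro U₁ U₂ g
  have hU₂ : Representable U₂.obj.hom := U₂.property.rep
  have sqP := hU₂.isPullback' U₁.obj.hom
  have hp₁ : Etale (hU₂.snd U₁.obj.hom).left := U₂.property.property_snd U₁.obj.hom
  haveI : IsClosedImmersion (hi.rep.snd U₁.obj.hom).left := hi.property_snd U₁.obj.hom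
  -- the graph
  have hΓw : (yon S).map (g.hom.left ≫ hi.rep.snd U₂.obj.hom) ≫ U₂.obj.hom =
      (yon S).map (hi.rep.snd U₁.obj.hom) ≫ U₁.obj.hom := by
    rw [Functor.map_comp, Category.assoc, ← hi.rep.w U₂.obj.hom, ← Category.assoc]
    have := EtOver.w g
    change (yon S).map g.hom.left ≫ hi.rep.fst U₂.obj.hom = hi.rep.fst U₁.obj.hom at this
    rw [this, hi.rep.w U₁.obj.hom]
  let Γ := hU₂.lift' (g.hom.left ≫ hi.rep.snd U₂.obj.hom) (hi.rep.snd U₁.obj.hom) hΓw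
  have hΓ1 : Γ ≫ hU₂.fst' U₁.obj.hom = g.hom.left ≫ hi.rep.snd U₂.obj.hom := hU₂.lift'_fst _ _ _
  have hΓ2 : Γ ≫ hU₂.snd U₁.obj.hom = hi.rep.snd U₁.obj.hom := hU₂.lift'_snd _ _ _
  have hΓ2' : Γ.left ≫ (hU₂.snd U₁.obj.hom).left = (hi.rep.snd U₁.obj.hom).left := by
    rw [← Over.comp_left, hΓ2]
  obtain ⟨W, ι, k, hι, hkΓ, sqW⟩ := ClImmEt.exists_open_of_section (hi.rep.snd U₁.obj.hom).left
    (hU₂.snd U₁.obj.hom).left Γ.left hΓ2'
  let WO : Over S := Over.mk (ι ≫ (hU₂.pullback U₁.obj.hom).hom)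
  let ιO : WO ⟶ hU₂.pullback U₁.obj.hom := Over.homMk ι rfl
  have hEW : RepWith @Etale ((yon S).map (ιO ≫ hU₂.snd U₁.obj.hom) ≫ U₁.obj.hom) := by
    refine (repWith_isMultiplicative (S := S) @Etale).comp_mem _ _ ?_ U₁.property
    rw [repWith_yon_map_iff]
    change Etale (ι ≫ (hU₂.snd U₁.obj.hom).left)
    infer_instance
  let EW : EtOver X := EtOver.mk _ hEW
  let a : EW ⟶ U₁ := EtOver.homMk (ιO ≫ hU₂.snd U₁.obj.hom) rfl
  let b : EW ⟶ U₂ := EtOver.homMk (ιO ≫ hU₂.fst' U₁.obj.hom) (by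
    change (yon S).map (ιO ≫ hU₂.fst' U₁.obj.hom) ≫ U₂.obj.hom =
      (yon S).map (ιO ≫ hU₂.snd U₁.obj.hom) ≫ U₁.obj.hom
    rw [Functor.map_comp, Functor.map_comp, Category.assoc, Category.assoc, sqP.w])
  have sq1 := EtOver.isPullback_bcMap_left hi.rep a
  have sq1' : IsPullback (EtOver.bcMap hi.rep a).hom.left.left (hi.rep.snd EW.obj.hom).left
      (hi.rep.snd U₁.obj.hom).left (ι ≫ (hU₂.snd U₁.obj.hom).left) := sq1
  have h1 : (sq1'.isoIsPullback _ _ sqW.flip).hom ≫ 𝟙 _ = (EtOver.bcMap hi.rep a).hom.left.left :=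
    sq1'.isoIsPullback_hom_fst _ _ sqW.flip
  have h2 : (sq1'.isoIsPullback _ _ sqW.flip).hom ≫ k = (hi.rep.snd EW.obj.hom).left :=
    sq1'.isoIsPullback_hom_snd _ _ sqW.flip
  rw [Category.comp_id] at h1
  refine ⟨EW, a, b, ?_, ?_⟩
  · apply isIso_of_isIso_left
    change IsIso (EtOver.bcMap hi.rep a).hom.left.left
    rw [← h1]
    infer_instance
  · apply EtOver.hom_ext
    apply hi.rep.hom_ext
    · exact (EtOver.w ((EtOver.bc hi.rep).map a ≫ g)).trans (EtOver.w ((EtOver.bc hi.rep).map b)).symm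
    · change ((EtOver.bcMap hi.rep a).hom.left ≫ g.hom.left) ≫ hi.rep.snd U₂.obj.hom =
        (EtOver.bcMap hi.rep b).hom.left ≫ hi.rep.snd U₂.obj.hom
      rw [EtOver.bcMap_snd, Category.assoc, ← hΓ1]
      change _ = hi.rep.snd EW.obj.hom ≫ ιO ≫ hU₂.fst' U₁.obj.hom
      rw [← Category.assoc, ← Category.assoc]
      congr 1
      ext : 1
      change (EtOver.bcMap hi.rep a).hom.left.left ≫ Γ.left = (hi.rep.snd EW.obj.hom).left ≫ ι
      rw [← hkΓ, ← h2, h1, Category.assoc]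

theorem exists_bc_to (hX : IsAlgSpace X) (hi : RepWith @IsClosedImmersion i) (V : EtOver Z)
    (x : ↥V.obj.left.left) :
    ∃ (U : EtOver X) (φ : (EtOver.bc hi.rep).obj U ⟶ V), IsAffine U.obj.left.left ∧
      x ∈ Set.range φ.hom.left.left := by
  obtain ⟨X0, a0, ha0e, ha0s⟩ := hX.atlas
  let E0 : EtOver X := EtOver.mk a0 ha0e
  haveI : IsClosedImmersion (hi.rep.snd a0).left := hi.property_snd a0
  have hz0s : RepWith @Surjective (hi.rep.fst a0) :=
    MorphismProperty.of_isPullback (hi.rep.isPullback a0).flip ha0s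
  have sqC := hz0s.rep.isPullback' V.obj.hom
  have hc0 : Surjective (hz0s.rep.snd V.obj.hom).left := hz0s.property_snd V.obj.hom
  haveI hw : Etale (hz0s.rep.fst' V.obj.hom).left :=
    V.property.property (hi.rep.fst a0) ((yon S).map (hz0s.rep.snd V.obj.hom))
      (hz0s.rep.fst' V.obj.hom) sqC.flip
  obtain ⟨x0, hx0⟩ := hc0.surj x
  obtain ⟨Usch, p, hUaff, hp, H⟩ := ClImmEt.exists_etale_lift_nbhd (hi.rep.snd a0).left
    (hz0s.rep.fst' V.obj.hom).left x0
  let UO : Over S := Over.mk (p ≫ X0.hom)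
  let pO : UO ⟶ X0 := Over.homMk p rfl
  have hEU : RepWith @Etale ((yon S).map pO ≫ a0) := by
    refine (repWith_isMultiplicative (S := S) @Etale).comp_mem _ _ ?_ ha0e
    rw [repWith_yon_map_iff]
    exact hp
  let EU : EtOver X := EtOver.mk _ hEU
  let eU0 : EU ⟶ E0 := EtOver.homMk pO rfl
  have sqU : IsPullback (EtOver.bcMap hi.rep eU0).hom.left.left (hi.rep.snd EU.obj.hom).left
      (hi.rep.snd a0).left p := EtOver.isPullback_bcMap_left hi.rep eU0
  obtain ⟨e', -, he'w, b0, hb0⟩ := H _ _ sqU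
  let e'O : (EtOver.bcObj hi.rep EU).obj.left ⟶ hz0s.rep.pullback V.obj.hom := Over.homMk e' (by
    rw [← Over.w (hz0s.rep.fst' V.obj.hom), ← Category.assoc, he'w]
    exact Over.w (EtOver.bcMap hi.rep eU0).hom.left)
  have he'O : e'O ≫ hz0s.rep.fst' V.obj.hom = (EtOver.bcMap hi.rep eU0).hom.left := by
    ext : 1
    exact he'w
  let φ : (EtOver.bc hi.rep).obj EU ⟶ V := EtOver.homMk (e'O ≫ hz0s.rep.snd V.obj.hom) (by
    change (yon S).map (e'O ≫ hz0s.rep.snd V.obj.hom) ≫ V.obj.hom = hi.rep.fst EU.obj.hom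
    rw [Functor.map_comp, Category.assoc, ← sqC.w, ← Category.assoc, ← Functor.map_comp, he'O]
    exact EtOver.w (EtOver.bcMap hi.rep eU0))
  refine ⟨EU, φ, hUaff, b0, ?_⟩
  change (e' ≫ (hz0s.rep.snd V.obj.hom).left) b0 = x
  rw [Scheme.Hom.comp_apply, hb0, hx0]

theorem isCoverDense_bc (hX : IsAlgSpace X) (hi : RepWith @IsClosedImmersion i) :
    (EtOver.bc hi.rep).IsCoverDense (etTop Z) := by
  constructor
  intro V
  · choose U φ hφ using exists_bc_to hX hi V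
    refine (etTop Z).superset_covering ?_
      (ofArrows_mem_etTop (fun x => (EtOver.bc hi.rep).obj (U x)) φ (fun x => ⟨x, (hφ x).2⟩))
    rintro V' f ⟨W, h, _, ⟨x⟩, rfl⟩
    exact ⟨⟨U x, h, φ x, rfl⟩⟩

theorem main {Z X : Space S} (i : Z ⟶ X) (hi : RepWith @IsClosedImmersion i.hom) :
    ((pushEt hi.1 (Type (u + 1))).Full ∧ (pushEt hi.1 (Type (u + 1))).Faithful) ∧
    ((pushEt hi.1 AddCommGrpCat.{u + 1}).Full ∧ (pushEt hi.1 AddCommGrpCat.{u + 1}).Faithful) ∧
    IsIso (pullPushAdjEt hi.1 (Type (u + 1))).counit := by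
  haveI := isCoverDense_bc X.property hi
  have h1 := PushFF.full_faithful (etTop X.obj) (etTop Z.obj) (Type (u + 1)) (locFull_bc hi)
  have h2 := PushFF.full_faithful (etTop X.obj) (etTop Z.obj) AddCommGrpCat.{u + 1} (locFull_bc hi)
  refine ⟨h1, h2, ?_⟩
  haveI := h1.1
  haveI := h1.2
  exact Adjunction.counit_isIso_of_R_fully_faithful _

end Groth.Agent.Lib.Helper15.PushCl
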