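import Mathlib

set_option autoImplicit false
open CategoryTheory Opposite

namespace Groth.Agent.Lib.Helper15.PushFF

universe v₁ v₂ v₃ u₁ u₂ u₃
variable {C : Type u₁} [Category.{v₁} C] {D : Type u₂} [Category.{v₂} D]
  (J : GrothendieckTopology C) (K : GrothendieckTopology D) (u : C ⥤ D)
  {A : Type u₃} [Category.{v₃} A]

/-- fullness of `u` up to morphisms inverted by `u` -/
def LocFull : Prop :=
  ∀ ⦃U₁ U₂ : C⦄ (g : u.obj U₁ ⟶ u.obj U₂), ∃ (W : C) (a : W ⟶ U₁) (b : W ⟶ U₂),
    IsIso (u.map a) ∧ u.map a ≫ g = u.map b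

variable {u}

/-- a natural transformation between restrictions along `u` is natural for all morphisms between
objects in the image. -/
def extendNat (h : LocFull u) {F G : Dᵒᵖ ⥤ A} (φ : u.op ⋙ F ⟶ u.op ⋙ G) :
    (inducedFunctor u.obj).op ⋙ F ⟶ (inducedFunctor u.obj).op ⋙ G where
  app U := φ.app (op (unop U : C))
  naturality := by
    rintro ⟨U₂⟩ ⟨U₁⟩ ⟨g⟩
    obtain ⟨W, a, b, ha, hab⟩ := h (U₁ := U₁) (U₂ := U₂) g.hom
    have na := φ.naturality a.op
    have nb := φ.naturality b.op
    dsimp at na nb ⊢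
    haveI : IsIso (G.map (u.map a).op) := inferInstance
    rw [← cancel_mono (G.map (u.map a).op), Category.assoc, Category.assoc, ← na,
      ← G.map_comp, ← op_comp, hab, ← nb, ← Category.assoc, ← F.map_comp, ← op_comp, hab]

instance isCoverDense_induced [u.IsCoverDense K] : (inducedFunctor u.obj).IsCoverDense K where
  is_cover U := by
    refine K.superset_covering ?_ (u.is_cover_of_isCoverDense K U)
    rintro V f ⟨⟨Z, f₁, f₂, e⟩⟩
    exact ⟨⟨Z, f₁, f₂, e⟩⟩

variable (A) in
theorem full_faithful (h : LocFull u) [u.IsCoverDense K] [u.IsContinuous J K] :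
    (u.sheafPushforwardContinuous A J K).Full ∧ (u.sheafPushforwardContinuous A J K).Faithful := by
  constructor
  · refine ⟨fun {F G} φ => ?_⟩
    let φ' : u.op ⋙ F.obj ⟶ u.op ⋙ G.obj := φ.hom
    let ψ : F.obj ⟶ G.obj :=
      Functor.IsCoverDense.restrictHomEquivHom (G := inducedFunctor u.obj) (K := K) (ℱ' := G) (extendNat h φ')
    refine ⟨⟨ψ⟩, ?_⟩
    ext U
    have := congrArg (fun (α : (inducedFunctor u.obj).op ⋙ F.obj ⟶ (inducedFunctor u.obj).op ⋙ G.obj) => α.app U)
      ((Functor.IsCoverDense.restrictHomEquivHom (G := inducedFunctor u.obj) (K := K) (ℱ' := G)).left_inv (extendNat h φ'))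
    exact this
  · refine ⟨fun {F G} ψ₁ ψ₂ h12 => ?_⟩
    ext : 1
    apply (Functor.IsCoverDense.restrictHomEquivHom (G := inducedFunctor u.obj) (K := K) (ℱ' := G)).symm.injective
    ext U
    have := congrArg (fun (α : (u.sheafPushforwardContinuous A J K).obj F ⟶ (u.sheafPushforwardContinuous A J K).obj G) => α.hom.app U) h12
    exact this

end Groth.Agent.Lib.Helper15.PushFF
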