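import Mathlib
import Groth.Agent.Lib.Helper15.PushFF

set_option autoImplicit false
open CategoryTheory Opposite

namespace Groth.Agent.Lib.Helper15.PushFF

universe v₁ v₂ u₁ u₂ w v

variable {C : Type u₁} [Category.{v₁} C] {D : Type u₂} [Category.{v₂} D]
  {J : GrothendieckTopology C} {K : GrothendieckTopology D} {F : C ⥤ D}
  {S : Sheaf J RingCat.{w}} {R : Sheaf K RingCat.{w}}
  [Functor.IsContinuous F J K]
  (φ : S ⟶ (F.sheafPushforwardContinuous RingCat.{w} J K).obj R)

/-- the sieve of morphisms over which a section of `R` comes from `S` -/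
def liftSieve (V : D) (r : R.obj.obj (op V)) : Sieve V where
  arrows V' f := ∃ (U : C) (k : V' ⟶ F.obj U) (g : F.obj U ⟶ V) (r' : S.obj.obj (op U)),
    k ≫ g = f ∧ φ.hom.app (op U) r' = R.obj.map g.op r
  downward_closed := by
    rintro V' V'' f ⟨U, k, g, r', rfl, h⟩ l
    exact ⟨U, l ≫ k, g, r', by rw [Category.assoc], h⟩

theorem faithful_mod (h : LocFull F) [F.IsCoverDense K] :
    (SheafOfModules.pushforward.{v} φ).Faithful := by
  refine ⟨fun {M M'} f g hfg => ?_⟩
  have := (full_faithful J K AddCommGrpCat.{v} h).2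
  apply (SheafOfModules.toSheaf R).map_injective
  apply (F.sheafPushforwardContinuous AddCommGrpCat.{v} J K).map_injective
  have h1 := congrArg (fun ψ => (SheafOfModules.toSheaf S).map ψ) hfg
  exact h1

theorem mod_ext (M' : SheafOfModules.{v} R) {V : D} (T : Sieve V) (hT : T ∈ K V)
    (s t : M'.val.obj (op V))
    (hst : ∀ ⦃V' : D⦄ (f : V' ⟶ V), T f → M'.val.map f.op s = M'.val.map f.op t) : s = t := by
  let E : AddCommGrpCat.{v} := AddCommGrpCat.of (ULift.{v} ℤ)
  let el : ∀ (W : Dᵒᵖ) (x : M'.val.obj W), E ⟶ M'.val.presheaf.obj W := fun W x =>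
    AddCommGrpCat.ofHom ((zmultiplesHom (M'.val.obj W) x).comp AddEquiv.ulift.toAddMonoidHom)
  have hel : ∀ (W : Dᵒᵖ) (x : M'.val.obj W), (el W x).hom ⟨1⟩ = x := by
    intro W x
    change (zmultiplesHom (M'.val.obj W) x) (1 : ℤ) = x
    simp
  have h2 := (M'.isSheaf E T hT).isSeparatedFor
  have key : el (op V) s = el (op V) t := by
    apply h2.ext
    intro V' f hf
    change el (op V) s ≫ M'.val.presheaf.map f.op = el (op V) t ≫ M'.val.presheaf.map f.op
    ext ⟨n⟩
    change M'.val.map f.op ((zmultiplesHom (M'.val.obj (op V)) s) n) =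
      M'.val.map f.op ((zmultiplesHom (M'.val.obj (op V)) t) n)
    simp only [zmultiplesHom_apply]
    rw [map_zsmul, map_zsmul, hst f hf]
  rw [← hel (op V) s, ← hel (op V) t, key]

theorem full_mod (h : LocFull F) [F.IsCoverDense K] (hφ : ∀ V r, liftSieve φ V r ∈ K V) :
    (SheafOfModules.pushforward.{v} φ).Full := by
  refine ⟨fun {M M'} ψ => ?_⟩
  have hfull := (full_faithful J K AddCommGrpCat.{v} h).1
  let ψab : (F.sheafPushforwardContinuous AddCommGrpCat.{v} J K).obj ((SheafOfModules.toSheaf R).obj M) ⟶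
      (F.sheafPushforwardContinuous AddCommGrpCat.{v} J K).obj ((SheafOfModules.toSheaf R).obj M') :=
    (SheafOfModules.toSheaf S).map ψ
  obtain ⟨θ₀, hθ⟩ := (F.sheafPushforwardContinuous AddCommGrpCat.{v} J K).map_surjective ψab
  let θ : M.val.presheaf ⟶ M'.val.presheaf := θ₀.hom
  have hθapp : ∀ (U : C) (x : M.val.obj (op (F.obj U))),
      θ.app (op (F.obj U)) x = ψ.val.app (op U) x := by
    intro U x
    have := congrArg (fun α => α.hom.app (op U)) hθ
    exact congrArg (fun β => β x) this
  have hlin : ∀ (V : Dᵒᵖ) (r : R.obj.obj V) (m : M.val.obj V),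
      θ.app V (r • m) = r • θ.app V m := by
    intro V r m
    refine mod_ext M' (liftSieve φ V.unop r) (hφ _ _) _ _ ?_
    rintro V' f ⟨U, k, g, r', rfl, hr'⟩
    rw [op_comp, PresheafOfModules.map_comp_apply, PresheafOfModules.map_comp_apply]
    congr 1
    -- naturality of θ
    have nat : ∀ y : M.val.obj V, M'.val.map g.op (θ.app V y) =
        θ.app (op (F.obj U)) (M.val.map g.op y) := by
      intro y
      have := θ.naturality g.op
      exact (congrArg (fun β => β y) this).symm
    have e1 : M.val.map g.op (r • m) = R.obj.map g.op r • M.val.map g.op m :=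
      PresheafOfModules.map_smul _ _ _ _
    have e2 : M'.val.map g.op (r • (show M'.val.obj V from θ.app V m)) =
        R.obj.map g.op r • M'.val.map g.op (show M'.val.obj V from θ.app V m) :=
      PresheafOfModules.map_smul _ _ _ _
    have e3 : ψ.val.app (op U) ((show R.obj.obj (op (F.obj U)) from φ.hom.app (op U) r') •
          (show M.val.obj (op (F.obj U)) from M.val.map g.op m)) =
        (show R.obj.obj (op (F.obj U)) from φ.hom.app (op U) r') •
          (show M'.val.obj (op (F.obj U)) from ψ.val.app (op U) (M.val.map g.op m)) :=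
      (ψ.val.app (op U)).hom.map_smul r' (M.val.map g.op m)
    refine (nat (r • m)).trans ?_
    refine Eq.trans ?_ e2.symm
    rw [e1, ← hr']
    refine (hθapp U _).trans ?_
    refine e3.trans ?_
    congr 1
    exact ((nat m).trans (hθapp U _)).symm
  refine ⟨⟨PresheafOfModules.homMk θ hlin⟩, ?_⟩
  apply SheafOfModules.hom_ext
  ext U x
  exact hθapp U.unop x

theorem full_faithful_mod (h : LocFull F) [F.IsCoverDense K]
    (hφ : ∀ V r, liftSieve φ V r ∈ K V) :
    (SheafOfModules.pushforward.{v} φ).Full ∧ (SheafOfModules.pushforward.{v} φ).Faithful :=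
  ⟨full_mod φ h hφ, faithful_mod φ h⟩

end Groth.Agent.Lib.Helper15.PushFF
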