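import Groth.Agent.Lib.Helper15.PushCl
import Groth.Agent.Lib.Helper15.PushFFMod
import Groth.Prelude.Def_AlgSpModX

set_option autoImplicit false
set_option backward.isDefEq.respectTransparency false
universe u
open CategoryTheory CategoryTheory.Limits AlgebraicGeometry Opposite
open AlgSp

namespace Groth.Agent.Lib.Helper15.PushCl

variable {S : Scheme.{u}} {Z X : Sp S} {i : Z ⟶ X}

theorem bcRingHom_surjective (hi : RepWith @IsClosedImmersion i) (U : EtOver X)
    (hU : IsAffine U.obj.left.left) :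
    Function.Surjective ((bcRingHom hi.1).hom.app (op U)) := by
  haveI : IsClosedImmersion (hi.rep.snd U.obj.hom).left := hi.property_snd U.obj.hom
  obtain ⟨-, hsurj⟩ := IsClosedImmersion.isAffine_surjective_of_isAffine (hi.rep.snd U.obj.hom).left
  rintro ⟨y⟩
  obtain ⟨x, hx⟩ := hsurj y
  exact ⟨⟨x⟩, congrArg ULift.up hx⟩

theorem liftSieve_mem (hX : IsAlgSpace X) (hi : RepWith @IsClosedImmersion i) (V : EtOver Z)
    (r : (OEtRing Z).obj.obj (op V)) :
    PushFF.liftSieve (bcRingHom hi.1) V r ∈ etTop Z V := by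
  choose U φ hφ using exists_bc_to hX hi V
  refine (etTop Z).superset_covering ?_
    (ofArrows_mem_etTop (fun x => (EtOver.bc hi.rep).obj (U x)) φ (fun x => ⟨x, (hφ x).2⟩))
  rintro V' f ⟨W, h, _, ⟨x⟩, rfl⟩
  obtain ⟨r', hr'⟩ := bcRingHom_surjective hi (U x) (hφ x).1 ((OEtRing Z).obj.map (φ x).op r)
  exact ⟨U x, h, φ x, r', rfl, hr'⟩

theorem main_mod {Z X : Space S} (i : Z ⟶ X) (hi : RepWith @IsClosedImmersion i.hom)
    [(SheafOfModules.pushforward.{u + 1} (bcRingHom hi.1)).IsRightAdjoint] (G : ModEt Z.obj) :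
    IsIso ((pullPushAdjModEt hi.1).counit.app G) := by
  haveI := isCoverDense_bc X.property hi
  obtain ⟨h1, h2⟩ := PushFF.full_faithful_mod.{_, _, _, _, _, u + 1} (bcRingHom hi.1) (locFull_bc hi)
    (liftSieve_mem X.property hi)
  haveI := h1
  haveI := h2
  haveI : IsIso (pullPushAdjModEt hi.1).counit := Adjunction.counit_isIso_of_R_fully_faithful _
  infer_instance

end Groth.Agent.Lib.Helper15.PushCl
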