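import Groth.Agent.Lib.Helper15.PushCl
import Groth.Agent.Lib.Helper23.PropCInt
import Groth.Prelude.Def_AlgSp4

set_option autoImplicit false
set_option backward.isDefEq.respectTransparency false
universe u
open CategoryTheory CategoryTheory.Limits AlgebraicGeometry Opposite
open AlgSp

namespace Groth.Agent.Lib.Helper15.PushInt

/-- an open subscheme of a topologically closed-embedded scheme is cut out by an open subscheme of
the ambient scheme -/
theorem exists_open_extension {Y P E : Scheme.{u}} (j : Y ⟶ P)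
    (hj : Topology.IsClosedEmbedding j.base) (σ : E ⟶ Y) [IsOpenImmersion σ] :
    ∃ (W : Scheme.{u}) (ι : W ⟶ P) (k : E ⟶ W), IsOpenImmersion ι ∧ IsPullback k σ ι j := by
  let O : Y.Opens := σ.opensRange
  have hC : IsClosed (j '' (O : Set Y)ᶜ) := hj.isClosedMap _ O.isOpen.isClosed_compl
  let W : P.Opens := ⟨(j '' (O : Set Y)ᶜ)ᶜ, hC.isOpen_compl⟩
  have hW : j ⁻¹ᵁ W = O := by
    ext y
    change j y ∈ (j '' (O : Set Y)ᶜ)ᶜ ↔ y ∈ O
    rw [Set.mem_compl_iff, hj.injective.mem_set_image, Set.mem_compl_iff, not_not]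
    rfl
  have sq := isPullback_morphismRestrict j W
  have hr : Set.range σ = Set.range (j ⁻¹ᵁ W).ι := by
    rw [hW]; simp [O]
  let e : E ≅ (j ⁻¹ᵁ W : Scheme) := IsOpenImmersion.isoOfRangeEq σ (j ⁻¹ᵁ W).ι hr
  have he : e.hom ≫ (j ⁻¹ᵁ W).ι = σ := IsOpenImmersion.isoOfRangeEq_hom_fac _ _ _
  refine ⟨W, W.ι, e.hom ≫ (j ∣_ W), inferInstance, ?_⟩
  refine IsPullback.of_iso sq e.symm (Iso.refl _) (Iso.refl _) (Iso.refl _) ?_ ?_ ?_ ?_
  · simp
  · simp only [Iso.symm_hom, Iso.refl_hom, Category.comp_id]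
    rw [← he, Iso.inv_hom_id_assoc]
  · simp
  · simp

/-- extension of a section of an etale morphism over a (topologically closed-embedded) base change
to an open subscheme -/
theorem exists_open_of_section {B₁ A₁ P Q : Scheme.{u}} (π₁ : B₁ ⟶ A₁)
    (p₁ : P ⟶ A₁) [Etale p₁] (j : Q ⟶ P) (q : Q ⟶ B₁) (sq : IsPullback j q p₁ π₁)
    (hj : Topology.IsClosedEmbedding j.base) (Γ : B₁ ⟶ P) (hΓ : Γ ≫ p₁ = π₁) :
    ∃ (W : Scheme.{u}) (ι : W ⟶ P) (k : B₁ ⟶ W), IsOpenImmersion ι ∧ k ≫ ι = Γ ∧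
      IsPullback k (𝟙 B₁) (ι ≫ p₁) π₁ := by
  let σ : B₁ ⟶ Q := sq.lift Γ (𝟙 B₁) (by rw [hΓ, Category.id_comp])
  have hσ : σ ≫ q = 𝟙 B₁ := sq.lift_snd _ _ _
  haveI : Etale q := MorphismProperty.of_isPullback sq inferInstance
  haveI : IsOpenImmersion σ :=
    Groth.Agent.Lib.Helper3.isOpenImmersion_of_section_of_etale q σ hσ
  obtain ⟨W, ι, k, hι, sq'⟩ := exists_open_extension j hj σ
  refine ⟨W, ι, k, hι, ?_, ?_⟩
  · rw [sq'.w]; exact sq.lift_fst _ _ _
  · have := sq'.paste_vert sq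
    rwa [hσ] at this

variable {S : Scheme.{u}} {Z X : Sp S} {i : Z ⟶ X}

theorem locFull_bc (hi : Representable i)
    (hCE : ∀ E : EtOver X, Topology.IsClosedEmbedding (hi.snd E.obj.hom).left.base) :
    PushFF.LocFull (EtOver.bc hi) := by
  intro U₁ U₂ g
  have hU₂ : Representable U₂.obj.hom := U₂.property.rep
  have sqP := hU₂.isPullback' U₁.obj.hom
  have hp₁ : Etale (hU₂.snd U₁.obj.hom).left := U₂.property.property_snd U₁.obj.hom
  -- the graph
  have hΓw : (yon S).map (g.hom.left ≫ hi.snd U₂.obj.hom) ≫ U₂.obj.hom =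
      (yon S).map (hi.snd U₁.obj.hom) ≫ U₁.obj.hom := by
    rw [Functor.map_comp, Category.assoc, ← hi.w U₂.obj.hom, ← Category.assoc]
    have := EtOver.w g
    change (yon S).map g.hom.left ≫ hi.fst U₂.obj.hom = hi.fst U₁.obj.hom at this
    rw [this, hi.w U₁.obj.hom]
  let Γ := hU₂.lift' (g.hom.left ≫ hi.snd U₂.obj.hom) (hi.snd U₁.obj.hom) hΓw
  have hΓ1 : Γ ≫ hU₂.fst' U₁.obj.hom = g.hom.left ≫ hi.snd U₂.obj.hom := hU₂.lift'_fst _ _ _
  have hΓ2 : Γ ≫ hU₂.snd U₁.obj.hom = hi.snd U₁.obj.hom := hU₂.lift'_snd _ _ _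
  have hΓ2' : Γ.left ≫ (hU₂.snd U₁.obj.hom).left = (hi.snd U₁.obj.hom).left := by
    rw [← Over.comp_left, hΓ2]
  -- the object `U₁ ×_X U₂` of the site and its base change
  have hEP : RepWith @Etale ((yon S).map (hU₂.snd U₁.obj.hom) ≫ U₁.obj.hom) := by
    refine (repWith_isMultiplicative (S := S) @Etale).comp_mem _ _ ?_ U₁.property
    rw [repWith_yon_map_iff]
    exact hp₁
  let EP : EtOver X := EtOver.mk _ hEP
  let eP : EP ⟶ U₁ := EtOver.homMk (hU₂.snd U₁.obj.hom) rfl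
  have sqQ : IsPullback (EtOver.bcMap hi eP).hom.left.left (hi.snd EP.obj.hom).left
      (hi.snd U₁.obj.hom).left (hU₂.snd U₁.obj.hom).left := EtOver.isPullback_bcMap_left hi eP
  obtain ⟨W, ι, k, hι, hkΓ, sqW⟩ := exists_open_of_section (hi.snd U₁.obj.hom).left
    (hU₂.snd U₁.obj.hom).left (hi.snd EP.obj.hom).left (EtOver.bcMap hi eP).hom.left.left
    sqQ.flip (hCE EP) Γ.left hΓ2'
  let WO : Over S := Over.mk (ι ≫ (hU₂.pullback U₁.obj.hom).hom)
  let ιO : WO ⟶ hU₂.pullback U₁.obj.hom := Over.homMk ι rfl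
  have hEW : RepWith @Etale ((yon S).map (ιO ≫ hU₂.snd U₁.obj.hom) ≫ U₁.obj.hom) := by
    refine (repWith_isMultiplicative (S := S) @Etale).comp_mem _ _ ?_ U₁.property
    rw [repWith_yon_map_iff]
    change Etale (ι ≫ (hU₂.snd U₁.obj.hom).left)
    infer_instance
  let EW : EtOver X := EtOver.mk _ hEW
  let a : EW ⟶ U₁ := EtOver.homMk (ιO ≫ hU₂.snd U₁.obj.hom) rfl
  let b : EW ⟶ U₂ := EtOver.homMk (ιO ≫ hU₂.fst' U₁.obj.hom) (by
    change (yon S).map (ιO ≫ hU₂.fst' U₁.obj.hom) ≫ U₂.obj.hom =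
      (yon S).map (ιO ≫ hU₂.snd U₁.obj.hom) ≫ U₁.obj.hom
    rw [Functor.map_comp, Functor.map_comp, Category.assoc, Category.assoc, sqP.w])
  have sq1 := EtOver.isPullback_bcMap_left hi a
  have sq1' : IsPullback (EtOver.bcMap hi a).hom.left.left (hi.snd EW.obj.hom).left
      (hi.snd U₁.obj.hom).left (ι ≫ (hU₂.snd U₁.obj.hom).left) := sq1
  have h1 : (sq1'.isoIsPullback _ _ sqW.flip).hom ≫ 𝟙 _ = (EtOver.bcMap hi a).hom.left.left :=
    sq1'.isoIsPullback_hom_fst _ _ sqW.flip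
  have h2 : (sq1'.isoIsPullback _ _ sqW.flip).hom ≫ k = (hi.snd EW.obj.hom).left :=
    sq1'.isoIsPullback_hom_snd _ _ sqW.flip
  rw [Category.comp_id] at h1
  refine ⟨EW, a, b, ?_, ?_⟩
  · apply PushCl.isIso_of_isIso_left
    change IsIso (EtOver.bcMap hi a).hom.left.left
    rw [← h1]
    infer_instance
  · apply EtOver.hom_ext
    apply hi.hom_ext
    · exact (EtOver.w ((EtOver.bc hi).map a ≫ g)).trans (EtOver.w ((EtOver.bc hi).map b)).symm
    · change ((EtOver.bcMap hi a).hom.left ≫ g.hom.left) ≫ hi.snd U₂.obj.hom =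
        (EtOver.bcMap hi b).hom.left ≫ hi.snd U₂.obj.hom
      rw [EtOver.bcMap_snd, Category.assoc, ← hΓ1]
      change _ = hi.snd EW.obj.hom ≫ ιO ≫ hU₂.fst' U₁.obj.hom
      rw [← Category.assoc, ← Category.assoc]
      congr 1
      ext : 1
      change (EtOver.bcMap hi a).hom.left.left ≫ Γ.left = (hi.snd EW.obj.hom).left ≫ ι
      rw [← hkΓ, ← h2, h1, Category.assoc]

theorem exists_bc_to (hX : IsAlgSpace X) (hi : Representable i)
    (hII : ∀ E : EtOver X, IsIntegralHom (hi.snd E.obj.hom).left)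
    (hCE : ∀ E : EtOver X, Topology.IsClosedEmbedding (hi.snd E.obj.hom).left.base)
    (V : EtOver Z) (x : ↥V.obj.left.left) :
    ∃ (U : EtOver X) (φ : (EtOver.bc hi).obj U ⟶ V), x ∈ Set.range φ.hom.left.left := by
  obtain ⟨X0, a0, ha0e, ha0s⟩ := hX.atlas
  let E0 : EtOver X := EtOver.mk a0 ha0e
  haveI : IsIntegralHom (hi.snd a0).left := hII E0
  have hce0 : Topology.IsClosedEmbedding (hi.snd a0).left.base := hCE E0
  have hz0s : RepWith @Surjective (hi.fst a0) :=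
    MorphismProperty.of_isPullback (hi.isPullback a0).flip ha0s
  have sqC := hz0s.rep.isPullback' V.obj.hom
  have hc0 : Surjective (hz0s.rep.snd V.obj.hom).left := hz0s.property_snd V.obj.hom
  haveI hw : Etale (hz0s.rep.fst' V.obj.hom).left :=
    V.property.property (hi.fst a0) ((yon S).map (hz0s.rep.snd V.obj.hom))
      (hz0s.rep.fst' V.obj.hom) sqC.flip
  obtain ⟨x0, hx0⟩ := hc0.surj x
  obtain ⟨Usch, p, hp, h, hh, hx0h⟩ := Groth.Agent.Lib.Helper23.PropCInt.propC_loc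
    (hi.snd a0).left hce0 (hz0s.rep.fst' V.obj.hom).left x0
  let UO : Over S := Over.mk (p ≫ X0.hom)
  let pO : UO ⟶ X0 := Over.homMk p rfl
  have hEU : RepWith @Etale ((yon S).map pO ≫ a0) := by
    refine (repWith_isMultiplicative (S := S) @Etale).comp_mem _ _ ?_ ha0e
    rw [repWith_yon_map_iff]
    exact hp
  let EU : EtOver X := EtOver.mk _ hEU
  let eU0 : EU ⟶ E0 := EtOver.homMk pO rfl
  have sqU : IsPullback (EtOver.bcMap hi eU0).hom.left.left (hi.snd EU.obj.hom).left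
      (hi.snd a0).left p := EtOver.isPullback_bcMap_left hi eU0
  let θ := sqU.isoPullback
  have hθ1 : θ.hom ≫ pullback.fst (hi.snd a0).left p = (EtOver.bcMap hi eU0).hom.left.left :=
    sqU.isoPullback_hom_fst
  let e' : (EtOver.bcObj hi EU).obj.left.left ⟶ (hz0s.rep.pullback V.obj.hom).left := θ.hom ≫ h
  have he'w : e' ≫ (hz0s.rep.fst' V.obj.hom).left = (EtOver.bcMap hi eU0).hom.left.left := by
    change (θ.hom ≫ h) ≫ _ = _
    rw [Category.assoc, hh, hθ1]
  obtain ⟨b1, hb1⟩ := hx0h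
  let e'O : (EtOver.bcObj hi EU).obj.left ⟶ hz0s.rep.pullback V.obj.hom := Over.homMk e' (by
    rw [← Over.w (hz0s.rep.fst' V.obj.hom), ← Category.assoc, he'w]
    exact Over.w (EtOver.bcMap hi eU0).hom.left)
  have he'O : e'O ≫ hz0s.rep.fst' V.obj.hom = (EtOver.bcMap hi eU0).hom.left := by
    ext : 1
    exact he'w
  let φ : (EtOver.bc hi).obj EU ⟶ V := EtOver.homMk (e'O ≫ hz0s.rep.snd V.obj.hom) (by
    change (yon S).map (e'O ≫ hz0s.rep.snd V.obj.hom) ≫ V.obj.hom = hi.fst EU.obj.hom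
    rw [Functor.map_comp, Category.assoc, ← sqC.w, ← Category.assoc, ← Functor.map_comp, he'O]
    exact EtOver.w (EtOver.bcMap hi eU0))
  refine ⟨EU, φ, θ.inv b1, ?_⟩
  change ((θ.hom ≫ h) ≫ (hz0s.rep.snd V.obj.hom).left) (θ.inv b1) = x
  rw [Scheme.Hom.comp_apply, Scheme.Hom.comp_apply, ← Scheme.Hom.comp_apply θ.inv θ.hom,
    Iso.inv_hom_id]
  change (hz0s.rep.snd V.obj.hom).left (h b1) = x
  rw [hb1, hx0]

theorem isCoverDense_bc (hX : IsAlgSpace X) (hi : Representable i)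
    (hII : ∀ E : EtOver X, IsIntegralHom (hi.snd E.obj.hom).left)
    (hCE : ∀ E : EtOver X, Topology.IsClosedEmbedding (hi.snd E.obj.hom).left.base) :
    (EtOver.bc hi).IsCoverDense (etTop Z) := by
  constructor
  intro V
  · choose U φ hφ using exists_bc_to hX hi hII hCE V
    refine (etTop Z).superset_covering ?_
      (ofArrows_mem_etTop (fun x => (EtOver.bc hi).obj (U x)) φ (fun x => ⟨x, hφ x⟩))
    rintro V' f ⟨W, h, _, ⟨x⟩, rfl⟩
    exact ⟨⟨U x, h, φ x, rfl⟩⟩

theorem closedEmbedding_of (hi : RepWith @IsIntegralHom i) (hu : IsUnivInjectiveMor i)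
    (E : EtOver X) : Topology.IsClosedEmbedding (hi.rep.snd E.obj.hom).left.base := by
  haveI : IsIntegralHom (hi.rep.snd E.obj.hom).left := hi.property_snd E.obj.hom
  have hinj : Function.Injective (hi.rep.snd E.obj.hom).left.base := by
    have h1 : Function.Injective (Points.map ((yon S).map (hi.rep.snd E.obj.hom))) :=
      hu (IsAlgSpace.yon_obj E.obj.left) E.obj.hom (hi.rep.fst E.obj.hom)
        ((yon S).map (hi.rep.snd E.obj.hom)) (hi.rep.isPullback E.obj.hom)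
    rw [Points.map_yon_map_eq] at h1
    intro a b hab
    have h2 : ((Points.schemeHomeo E.obj.left) ∘ (fun t => (hi.rep.snd E.obj.hom).left t) ∘
        (Points.schemeHomeo _).symm) (Points.schemeHomeo _ a) =
        ((Points.schemeHomeo E.obj.left) ∘ (fun t => (hi.rep.snd E.obj.hom).left t) ∘
        (Points.schemeHomeo _).symm) (Points.schemeHomeo _ b) := by
      simp only [Function.comp_apply, Homeomorph.symm_apply_apply]
      exact congrArg _ hab
    exact (Points.schemeHomeo _).injective (h1 h2)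
  exact Topology.IsClosedEmbedding.of_continuous_injective_isClosedMap
    (hi.rep.snd E.obj.hom).left.continuous hinj (hi.rep.snd E.obj.hom).left.isClosedMap

theorem main {Z X : Space S} (i : Z ⟶ X) (hi : RepWith @IsIntegralHom i.hom)
    (hu : IsUnivInjectiveMor i.hom) :
    ((pushEt hi.1 (Type (u + 1))).Full ∧ (pushEt hi.1 (Type (u + 1))).Faithful) ∧
    ((pushEt hi.1 AddCommGrpCat.{u + 1}).Full ∧ (pushEt hi.1 AddCommGrpCat.{u + 1}).Faithful) ∧
    IsIso (pullPushAdjEt hi.1 (Type (u + 1))).counit := by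
  have hII : ∀ E : EtOver X.obj, IsIntegralHom (hi.rep.snd E.obj.hom).left :=
    fun E => hi.property_snd E.obj.hom
  have hCE := closedEmbedding_of hi hu
  haveI := isCoverDense_bc X.property hi.rep hII hCE
  have h1 := PushFF.full_faithful (etTop X.obj) (etTop Z.obj) (Type (u + 1)) (locFull_bc hi.rep hCE)
  have h2 := PushFF.full_faithful (etTop X.obj) (etTop Z.obj) AddCommGrpCat.{u + 1}
    (locFull_bc hi.rep hCE)
  refine ⟨h1, h2, ?_⟩
  haveI := h1.1
  haveI := h1.2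
  exact Adjunction.counit_isIso_of_R_fully_faithful _

end Groth.Agent.Lib.Helper15.PushInt
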