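import Groth.Agent.Lib.Helper15.PushInt
import Groth.Agent.Lib.Helper15.EtOverGlue
import Groth.Agent.Lib.Helper3.AlgSpPoints2

set_option autoImplicit false
set_option backward.isDefEq.respectTransparency false
universe u
open CategoryTheory CategoryTheory.Limits AlgebraicGeometry Opposite
open AlgSp

namespace Groth.Agent.Lib.Helper15.PushIntEss

open Groth.Agent.Lib.Helper15.EtOverGlue

variable {S : Scheme.{u}} {Z X : Sp S} {i : Z ⟶ X} (hi : Representable i)

/-- an object of the small etale site misses the image of `i` iff its base change is empty -/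
theorem disjoint_iff_isEmpty (E : EtOver X) :
    Disjoint (Set.range (Points.map E.obj.hom)) (Set.range (Points.map i)) ↔
      IsEmpty ↥(EtOver.bcObj hi E).obj.left.left := by
  have key := Groth.Agent.Lib.Helper3.Points.ofPt_preimage_image (hi.isPullback E.obj.hom) Set.univ
  rw [Set.image_univ, Set.preimage_univ, Set.image_univ] at key
  constructor
  · intro hd
    refine ⟨fun z => ?_⟩
    have h1 : (hi.snd E.obj.hom).left z ∈ Set.range (hi.snd E.obj.hom).left := ⟨z, rfl⟩
    rw [← key] at h1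
    have h2 : Points.ofPt E.obj.hom ((hi.snd E.obj.hom).left z) ∈ Set.range (Points.map E.obj.hom) := by
      rw [Groth.Agent.Lib.Helper3.Points.ofPt_eq]
      exact ⟨_, rfl⟩
    exact Set.disjoint_left.1 hd h2 h1
  · intro he
    rw [Set.disjoint_left]
    rintro p ⟨q, rfl⟩ hp
    obtain ⟨e, rfl⟩ := (Points.schemeHomeo E.obj.left).surjective q
    have h1 : e ∈ Points.ofPt E.obj.hom ⁻¹' Set.range (Points.map i) := by
      change Points.ofPt E.obj.hom e ∈ Set.range (Points.map i)
      rw [Groth.Agent.Lib.Helper3.Points.ofPt_eq]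
      exact hp
    rw [key] at h1
    obtain ⟨z, -⟩ := h1
    exact he.false z

theorem isLocallyFull_bc (h : PushFF.LocFull (EtOver.bc hi)) :
    (EtOver.bc hi).IsLocallyFull (etTop Z) where
  functorPushforward_imageSieve_mem {U V} f := by
    obtain ⟨W, a, b, ha, hab⟩ := h f
    have hmem : ((EtOver.bc hi).imageSieve f).functorPushforward (EtOver.bc hi)
        ((EtOver.bc hi).map a) := ⟨W, a, 𝟙 _, ⟨b, hab.symm⟩, (Category.id_comp _).symm⟩
    have : ((EtOver.bc hi).imageSieve f).functorPushforward (EtOver.bc hi) = ⊤ := by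
      rw [← Sieve.id_mem_iff_eq_top]
      have h2 := Sieve.downward_closed _ hmem (inv ((EtOver.bc hi).map a))
      rwa [IsIso.inv_hom_id] at h2
    rw [this]
    exact (etTop Z).top_mem _

theorem isLocallyFaithful_bc : (EtOver.bc hi).IsLocallyFaithful (etTop Z) where
  functorPushforward_equalizer_mem {U V} f₁ f₂ h12 := by
    have hV : Representable V.obj.hom := V.property.rep
    haveI hsnd : Etale (hV.snd V.obj.hom).left := V.property.property_snd V.obj.hom
    have hw : (yon S).map f₁.hom.left ≫ V.obj.hom = (yon S).map f₂.hom.left ≫ V.obj.hom :=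
      (EtOver.w f₁).trans (EtOver.w f₂).symm
    let pair : U.obj.left ⟶ hV.pullback V.obj.hom := hV.lift' f₁.hom.left f₂.hom.left hw
    have hp1 : pair ≫ hV.fst' V.obj.hom = f₁.hom.left := hV.lift'_fst _ _ _
    have hp2 : pair ≫ hV.snd V.obj.hom = f₂.hom.left := hV.lift'_snd _ _ _
    let Δ : V.obj.left ⟶ hV.pullback V.obj.hom := hV.lift' (𝟙 _) (𝟙 _) rfl
    have hΔ1 : Δ ≫ hV.fst' V.obj.hom = 𝟙 _ := hV.lift'_fst _ _ _
    have hΔ2 : Δ ≫ hV.snd V.obj.hom = 𝟙 _ := hV.lift'_snd _ _ _
    have hΔ2' : Δ.left ≫ (hV.snd V.obj.hom).left = 𝟙 _ := by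
      rw [← Over.comp_left, hΔ2]; rfl
    have hΔ1' : Δ.left ≫ (hV.fst' V.obj.hom).left = 𝟙 _ := by
      rw [← Over.comp_left, hΔ1]; rfl
    haveI : IsOpenImmersion Δ.left :=
      Groth.Agent.Lib.Helper3.isOpenImmersion_of_section_of_etale (hV.snd V.obj.hom).left Δ.left hΔ2'
    let W₀ : U.obj.left.left.Opens := pair.left ⁻¹ᵁ Δ.left.opensRange
    let a : sub U W₀.ι ⟶ U := subι U W₀.ι
    -- the equalizer property
    have hrange : Set.range (W₀.ι ≫ pair.left) ⊆ Set.range Δ.left := by
      rintro _ ⟨w, rfl⟩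
      exact w.2
    let k := IsOpenImmersion.lift Δ.left (W₀.ι ≫ pair.left) hrange
    have hk : k ≫ Δ.left = W₀.ι ≫ pair.left := IsOpenImmersion.lift_fac _ _ _
    have heq : a ≫ f₁ = a ≫ f₂ := by
      apply EtOver.hom_ext
      ext : 1
      change W₀.ι ≫ f₁.hom.left.left = W₀.ι ≫ f₂.hom.left.left
      have e1 : W₀.ι ≫ f₁.hom.left.left = k := by
        rw [← hp1, Over.comp_left, ← Category.assoc, ← hk, Category.assoc, hΔ1', Category.comp_id]
      have e2 : W₀.ι ≫ f₂.hom.left.left = k := by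
        rw [← hp2, Over.comp_left, ← Category.assoc, ← hk, Category.assoc, hΔ2', Category.comp_id]
      rw [e1, e2]
    -- the base change of `a` is surjective
    have hcomp : hi.snd U.obj.hom ≫ pair =
        ((EtOver.bcMap hi f₁).hom.left ≫ hi.snd V.obj.hom) ≫ Δ := by
      apply hV.hom_ext'
      · rw [Category.assoc, hp1, Category.assoc, hΔ1, Category.comp_id, EtOver.bcMap_snd]
      · rw [Category.assoc, hp2, Category.assoc, hΔ2, Category.comp_id]
        have : EtOver.bcMap hi f₁ = EtOver.bcMap hi f₂ := h12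
        rw [this, EtOver.bcMap_snd]
    rw [Groth.Agent.Lib.Helper3.mem_etTop_iff_pointwise]
    intro y
    refine ⟨(EtOver.bc hi).obj (sub U W₀.ι), (EtOver.bc hi).map a,
      ⟨sub U W₀.ι, a, 𝟙 _, heq, (Category.id_comp _).symm⟩, ?_⟩
    have hy : (hi.snd U.obj.hom).left y ∈ W₀ := by
      change pair.left ((hi.snd U.obj.hom).left y) ∈ Set.range Δ.left
      have h3 := congrArg (fun φ => φ.left y) hcomp
      simp only [Over.comp_left, Scheme.Hom.comp_apply] at h3
      rw [h3]
      exact ⟨_, rfl⟩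
    have sq : IsPullback (EtOver.bcMap hi a).hom.left.left (hi.snd (sub U W₀.ι).obj.hom).left
        (hi.snd U.obj.hom).left W₀.ι := EtOver.isPullback_bcMap_left hi a
    obtain ⟨z, hz1, -⟩ := Scheme.Pullback.exists_preimage_pullback
      (f := (hi.snd U.obj.hom).left) (g := W₀.ι) y ⟨_, hy⟩ rfl
    refine ⟨sq.isoPullback.inv z, ?_⟩
    change (EtOver.bcMap hi a).hom.left.left (sq.isoPullback.inv z) = y
    rw [← Scheme.Hom.comp_apply, sq.isoPullback_inv_fst]
    exact hz1

end Groth.Agent.Lib.Helper15.PushIntEss
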