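import Mathlib

set_option autoImplicit false
universe v u w
open CategoryTheory Opposite

namespace Groth.Agent.Lib.Helper15.VanishSheaf

variable {C : Type u} [Category.{v} C] (e : C → Prop)
  (he : ∀ ⦃E' E : C⦄ (_ : E' ⟶ E), e E → e E')

/-- the sieve of arrows whose source satisfies `e` -/
def smallSieve (U : C) : Sieve U where
  arrows E _ := e E
  downward_closed := by
    intro E E' g hg k
    exact he k hg

variable {e he}

theorem isSheafFor_of_sup (G : Cᵒᵖ ⥤ Type w)
    (hvan : ∀ E, e E → Nonempty (Unique (G.obj (op E)))) {U : C} (R : Sieve U)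
    (hR : Presieve.IsSheafFor G (R ⊔ smallSieve e he U).arrows) :
    Presieve.IsSheafFor G R.arrows := by
  classical
  intro x hx
  -- extend the family
  let x' : Presieve.FamilyOfElements G (R ⊔ smallSieve e he U).arrows := fun E g hg =>
    if h : R g then x g h else
      (hvan E (by
        rcases hg with hg | hg
        · exact (h hg).elim
        · exact hg)).some.default
  have hsub : ∀ E, e E → Subsingleton (G.obj (op E)) := fun E hE =>
    (hvan E hE).some.instSubsingleton
  have hx' : x'.Compatible := by
    intro E₁ E₂ Z k₁ k₂ g₁ g₂ hg₁ hg₂ hk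
    by_cases h1 : R g₁
    · by_cases h2 : R g₂
      · simp only [x', dif_pos h1, dif_pos h2]
        exact hx k₁ k₂ h1 h2 hk
      · have hE₂ : e E₂ := by
          rcases hg₂ with hg | hg
          · exact (h2 hg).elim
          · exact hg
        haveI := hsub Z (he k₂ hE₂)
        exact Subsingleton.elim _ _
    · have hE₁ : e E₁ := by
        rcases hg₁ with hg | hg
        · exact (h1 hg).elim
        · exact hg
      haveI := hsub Z (he k₁ hE₁)
      exact Subsingleton.elim _ _
  obtain ⟨t, ht, htu⟩ := hR x' hx'
  refine ⟨t, ?_, ?_⟩
  · intro E g hg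
    have := ht g (Or.inl hg)
    simpa only [x', dif_pos hg] using this
  · intro t' ht'
    apply htu
    intro E g hg
    by_cases h : R g
    · simp only [x', dif_pos h]
      exact ht' g h
    · have hE : e E := by
        rcases hg with hg | hg
        · exact (h hg).elim
        · exact hg
      haveI := hsub E hE
      exact Subsingleton.elim _ _

end Groth.Agent.Lib.Helper15.VanishSheaf
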