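import Groth.Agent.Lib.Helper15.PushIntEss
import Groth.Agent.Lib.Helper15.VanishSheaf

set_option autoImplicit false
set_option backward.isDefEq.respectTransparency false
universe u
open CategoryTheory CategoryTheory.Limits AlgebraicGeometry Opposite
open AlgSp

namespace Groth.Agent.Lib.Helper15.PushIntEss

open Groth.Agent.Lib.Helper15.EtOverGlue

variable {S : Scheme.{u}} {Z X : Sp S} {i : Z ⟶ X} (hi : Representable i)

/-- objects with empty base change -/
def emptyProp : EtOver X → Prop := fun E => IsEmpty ↥(EtOver.bcObj hi E).obj.left.left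

theorem emptyProp_of_hom ⦃E' E : EtOver X⦄ (k : E' ⟶ E) (h : emptyProp hi E) : emptyProp hi E' := by
  haveI : IsEmpty ↥(EtOver.bcObj hi E).obj.left.left := h
  exact Function.isEmpty (EtOver.bcMap hi k).hom.left.left

theorem unique_of_isEmpty (G : EtSh X (Type (u + 1))) (Q : EtOver X)
    [IsEmpty ↥Q.obj.left.left] : Nonempty (Unique (G.obj.obj (op Q))) := by
  have hbot : (⊥ : Sieve Q) ∈ etTop X Q := by
    rw [Groth.Agent.Lib.Helper3.mem_etTop_iff_pointwise]
    intro x
    exact (IsEmpty.false x).elim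
  have hs := (isSheaf_iff_isSheaf_of_type _ _).1 G.property (⊥ : Sieve Q) hbot
  obtain ⟨t, -, -⟩ := hs (fun _ _ h => h.elim) (by intro _ _ _ _ _ _ _ h; exact h.elim)
  haveI := subsingleton_of_isEmpty G Q
  exact ⟨⟨⟨t⟩, fun a => Subsingleton.elim _ _⟩⟩

theorem sup_mem (hCE : ∀ E : EtOver X, Topology.IsClosedEmbedding (hi.snd E.obj.hom).left.base)
    {U : EtOver X} (R : Sieve U)
    (hR : R.functorPushforward (EtOver.bc hi) ∈ etTop Z ((EtOver.bc hi).obj U)) :
    R ⊔ VanishSheaf.smallSieve (emptyProp hi) (emptyProp_of_hom hi) U ∈ etTop X U := by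
  rw [Groth.Agent.Lib.Helper3.mem_etTop_iff_pointwise] at hR ⊢
  intro x
  by_cases hx : x ∈ Set.range (hi.snd U.obj.hom).left
  · obtain ⟨y, rfl⟩ := hx
    obtain ⟨E', g, ⟨W, a, h, ha, rfl⟩, e', he'⟩ := hR y
    refine ⟨W, a, Or.inl ha, (hi.snd W.obj.hom).left (h.hom.left.left e'), ?_⟩
    have h1 : (EtOver.bcMap hi a).hom.left.left ≫ (hi.snd U.obj.hom).left =
        (hi.snd W.obj.hom).left ≫ a.hom.left.left := by
      rw [← Over.comp_left, EtOver.bcMap_snd]; rfl
    have h2 := congrArg (fun φ => φ (h.hom.left.left e')) h1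
    simp only [Scheme.Hom.comp_apply] at h2
    exact h2.symm.trans (congrArg (fun t => (hi.snd U.obj.hom).left t) he')
  · have hcl : IsClosed (Set.range (hi.snd U.obj.hom).left) := (hCE U).isClosed_range
    let U₀ : U.obj.left.left.Opens := ⟨(Set.range (hi.snd U.obj.hom).left)ᶜ, hcl.isOpen_compl⟩
    refine ⟨sub U U₀.ι, subι U U₀.ι, Or.inr ?_, ⟨x, hx⟩, rfl⟩
    change IsEmpty _
    refine ⟨fun z => ?_⟩
    have h1 : (EtOver.bcMap hi (subι U U₀.ι)).hom.left.left ≫ (hi.snd U.obj.hom).left =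
        (hi.snd (sub U U₀.ι).obj.hom).left ≫ U₀.ι := by
      rw [← Over.comp_left, EtOver.bcMap_snd]; rfl
    have h2 := congrArg (fun φ => φ z) h1
    simp only [Scheme.Hom.comp_apply] at h2
    have h3 : (U₀.ι ((hi.snd (sub U U₀.ι).obj.hom).left z)) ∈ U₀ :=
      ((hi.snd (sub U U₀.ι).obj.hom).left z).2
    have h4 := Set.mem_of_eq_of_mem h2 h3
    exact h4 ⟨_, rfl⟩

variable [(EtOver.bc hi).IsCoverDense (etTop Z)] [(EtOver.bc hi).IsLocallyFull (etTop Z)]
  [(EtOver.bc hi).IsLocallyFaithful (etTop Z)]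

theorem isSheaf_induced
    (hCE : ∀ E : EtOver X, Topology.IsClosedEmbedding (hi.snd E.obj.hom).left.base)
    (G : (EtOver X)ᵒᵖ ⥤ Type (u + 1)) (hG : Presieve.IsSheaf (etTop X) G)
    (hvan : ∀ E, emptyProp hi E → Nonempty (Unique (G.obj (op E)))) :
    Presieve.IsSheaf ((EtOver.bc hi).inducedTopology (etTop Z)) G := by
  intro U R hR
  rw [Functor.mem_inducedTopology_iff_of_isCoverDense] at hR
  exact VanishSheaf.isSheafFor_of_sup G hvan R (hG _ (sup_mem hi hCE R hR))

end Groth.Agent.Lib.Helper15.PushIntEss
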