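import Groth.Agent.Lib.Helper15.PushIntEss2

set_option autoImplicit false
set_option backward.isDefEq.respectTransparency false
universe u
open CategoryTheory CategoryTheory.Limits AlgebraicGeometry Opposite
open AlgSp

namespace Groth.Agent.Lib.Helper15.PushIntEss

open Groth.Agent.Lib.Helper15.EtOverGlue

variable {S : Scheme.{u}} {Z X : Sp S} {i : Z ⟶ X} (hi : Representable i)

section

variable [(EtOver.bc hi).IsCoverDense (etTop Z)] [(EtOver.bc hi).IsLocallyFull (etTop Z)]
  [(EtOver.bc hi).IsLocallyFaithful (etTop Z)]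

theorem essImage_of_isSheaf_induced {A : Type (u + 2)} [Category.{u + 1} A]
    [∀ W, HasLimitsOfShape (StructuredArrow W (EtOver.bc hi).op) A]
    (G : EtSh X A)
    (hG : Presheaf.IsSheaf ((EtOver.bc hi).inducedTopology (etTop Z)) G.obj) :
    (pushEt hi A).essImage G := by
  let J' := (EtOver.bc hi).inducedTopology (etTop Z)
  let G' : Sheaf J' A := ⟨G.obj, hG⟩
  let Φ := (EtOver.bc hi).sheafPushforwardContinuous A J' (etTop Z)
  haveI : Φ.IsEquivalence := inferInstance
  let F := Φ.objPreimage G'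
  let e : Φ.obj F ≅ G' := Φ.objObjPreimageIso G'
  let e' : (EtOver.bc hi).op ⋙ F.obj ≅ G.obj := (sheafToPresheaf J' A).mapIso e
  refine ⟨F, ⟨?_⟩⟩
  exact (fullyFaithfulSheafToPresheaf (etTop X) A).preimageIso e'

end

end Groth.Agent.Lib.Helper15.PushIntEss

namespace Groth.Agent.Lib.Helper15.PushIntEss

open Groth.Agent.Lib.Helper15.EtOverGlue

variable {S : Scheme.{u}}

theorem main {Y X : Space S} (f : Y ⟶ X) (hi : RepWith @IsIntegralHom f.hom)
    (hu : IsUnivInjectiveMor f.hom) :
    (∀ G : EtSh X.obj (Type (u + 1)),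
      (pushEt hi.1 (Type (u + 1))).essImage G ↔
        ∀ E : EtOver X.obj,
          Disjoint (Set.range (Points.map E.obj.hom)) (Set.range (Points.map f.hom)) →
            Nonempty (Unique (G.obj.obj (op E)))) ∧
    (∀ G : AbEt X.obj,
      (pushEt hi.1 AddCommGrpCat.{u + 1}).essImage G ↔
        ∀ E : EtOver X.obj,
          Disjoint (Set.range (Points.map E.obj.hom)) (Set.range (Points.map f.hom)) →
            Subsingleton ↥(G.obj.obj (op E))) := by
  have hII : ∀ E : EtOver X.obj, IsIntegralHom (hi.rep.snd E.obj.hom).left :=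
    fun E => hi.property_snd E.obj.hom
  have hCE := PushInt.closedEmbedding_of hi hu
  haveI := PushInt.isCoverDense_bc X.property hi.rep hII hCE
  haveI := isLocallyFull_bc hi.rep (PushInt.locFull_bc hi.rep hCE)
  haveI := isLocallyFaithful_bc hi.rep
  constructor
  · intro G
    constructor
    · rintro ⟨F, ⟨e⟩⟩ E hE
      rw [disjoint_iff_isEmpty hi.rep] at hE
      haveI : IsEmpty ↥((EtOver.bc hi.rep).obj E).obj.left.left := hE
      obtain ⟨hU⟩ := unique_of_isEmpty F ((EtOver.bc hi.rep).obj E)
      let e' : F.obj.obj (op ((EtOver.bc hi.rep).obj E)) ≃ G.obj.obj (op E) :=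
        (((sheafToPresheaf _ _).mapIso e).app (op E)).toEquiv
      exact ⟨e'.symm.unique⟩
    · intro hvan
      apply essImage_of_isSheaf_induced hi.rep G
      rw [isSheaf_iff_isSheaf_of_type]
      refine isSheaf_induced hi.rep hCE G.obj ((isSheaf_iff_isSheaf_of_type _ _).1 G.property) ?_
      intro E hE
      exact hvan E ((disjoint_iff_isEmpty hi.rep E).2 hE)
  · intro G
    constructor
    · rintro ⟨F, ⟨e⟩⟩ E hE
      rw [disjoint_iff_isEmpty hi.rep] at hE
      haveI : IsEmpty ↥((EtOver.bc hi.rep).obj E).obj.left.left := hE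
      have hs := subsingleton_of_isEmpty
        ((sheafCompose (etTop Y.obj) (forget AddCommGrpCat.{u+1})).obj F) ((EtOver.bc hi.rep).obj E)
      have hs' : Subsingleton ↥(F.obj.obj (op ((EtOver.bc hi.rep).obj E))) := hs
      let e' : F.obj.obj (op ((EtOver.bc hi.rep).obj E)) ≅ G.obj.obj (op E) :=
        ((sheafToPresheaf _ _).mapIso e).app (op E)
      exact e'.symm.addCommGroupIsoToAddEquiv.toEquiv.subsingleton
    · intro hvan
      apply essImage_of_isSheaf_induced hi.rep G
      rw [Presheaf.isSheaf_iff_isSheaf_forget _ _ (forget AddCommGrpCat.{u+1}),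
        isSheaf_iff_isSheaf_of_type]
      have hG : Presieve.IsSheaf (etTop X.obj) (G.obj ⋙ forget AddCommGrpCat.{u+1}) := by
        rw [← isSheaf_iff_isSheaf_of_type, ← Presheaf.isSheaf_iff_isSheaf_forget]
        exact G.property
      refine isSheaf_induced hi.rep hCE _ hG ?_
      intro E hE
      haveI := hvan E ((disjoint_iff_isEmpty hi.rep E).2 hE)
      exact ⟨⟨⟨(0 : ↥(G.obj.obj (op E)))⟩, fun a => Subsingleton.elim _ _⟩⟩

end Groth.Agent.Lib.Helper15.PushIntEss
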