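import Groth.Agent.Lib.Helper15.LimBC
import Groth.Agent.Lib.Helper15.LimRep
import Groth.Agent.S10007

set_option autoImplicit false
set_option backward.isDefEq.respectTransparency.types false
universe u
open CategoryTheory CategoryTheory.Limits AlgebraicGeometry
open AlgSp

/-! The closed subschemes `Spec A/I_a` of `Spec A` for a chain of ideals: limit cone. -/

namespace Groth.Agent.Lib.Helper15.QuotLim

variable (A : CommRingCat.{u})

/-- The closed immersion `Spec (A/I) ⟶ Spec A`. -/
noncomputable def zh (I : Ideal A) : Spec (CommRingCat.of (A ⧸ I)) ⟶ Spec A :=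
  Spec.map (CommRingCat.ofHom (Ideal.Quotient.mk I))

instance (I : Ideal A) : IsClosedImmersion (zh A I) :=
  IsClosedImmersion.spec_of_surjective _ Ideal.Quotient.mk_surjective

/-- `Spec (A/I)` over `Spec A`. -/
noncomputable def Z (I : Ideal A) : Over (Spec A) := Over.mk (zh A I)

/-- The structure map as a morphism to the terminal object. -/
noncomputable def ι (I : Ideal A) : Z A I ⟶ Over.mk (𝟙 (Spec A)) :=
  Over.homMk (Spec.map (CommRingCat.ofHom (Ideal.Quotient.mk I)))

instance (I : Ideal A) : IsClosedImmersion (Z A I).hom :=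
  inferInstanceAs (IsClosedImmersion (zh A I))

instance (I : Ideal A) : Mono (Z A I).hom := inferInstanceAs (Mono (zh A I))

/-- transition maps. -/
noncomputable def tr {I I' : Ideal A} (h : I ≤ I') : Z A I' ⟶ Z A I :=
  Over.homMk (Spec.map (CommRingCat.ofHom (Ideal.Quotient.factor h))) (by
    change Spec.map _ ≫ Spec.map _ = Spec.map _
    rw [← Spec.map_comp, ← CommRingCat.ofHom_comp, Ideal.Quotient.factor_comp_mk])

/-- lifting through the closed subscheme. -/
noncomputable def liftZ {I : Ideal A} (T : Over (Spec A))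
    (H : (zh A I).ker ≤ (show T.left ⟶ Spec A from T.hom).ker) : T ⟶ Z A I :=
  Over.homMk (show T.left ⟶ Spec (CommRingCat.of (A ⧸ I)) from
    IsClosedImmersion.lift (zh A I) (show T.left ⟶ Spec A from T.hom) H)
    (IsClosedImmersion.lift_fac (zh A I) (show T.left ⟶ Spec A from T.hom) H)

theorem hom_ext_Z {T : Over (Spec A)} {I : Ideal A} (x y : T ⟶ Z A I) : x = y := by
  apply Over.OverMorphism.ext
  rw [← cancel_mono (Z A I).hom, Over.w x, Over.w y]


section Chain

variable {A} (c : Set (Ideal A))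

/-- The index category: the chain with reversed order. -/
abbrev J := (↥c)ᵒᵈ

/-- the ideal of an index. -/
def idl (a : J c) : Ideal A := (OrderDual.ofDual a).1

theorem idl_le {a b : J c} (f : a ⟶ b) : idl c b ≤ idl c a := leOfHom f

/-- The diagram of closed subschemes. -/
noncomputable def E : J c ⥤ Over (Spec A) where
  obj a := Z A (idl c a)
  map f := tr A (idl_le c f)
  map_id _ := hom_ext_Z A _ _
  map_comp _ _ := hom_ext_Z A _ _

theorem idl_le_sSup (a : J c) : idl c a ≤ sSup c := le_sSup (OrderDual.ofDual a).2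

/-- The cone with vertex `Spec (A / sSup c)`. -/
noncomputable def cE : Cone (E c) where
  pt := Z A (sSup c)
  π :=
    { app := fun a => tr A (idl_le_sSup c a)
      naturality := fun _ _ _ => hom_ext_Z A _ _ }

variable (hc : IsChain (· ≤ ·) c) (hne : c.Nonempty)

theorem ker_appTop (I : Ideal A) (x : Γ(Spec A, ⊤)) :
    x ∈ RingHom.ker (zh A I).appTop.hom ↔ (Scheme.ΓSpecIso A).hom x ∈ I := by
  have hnat := Scheme.ΓSpecIso_naturality (CommRingCat.ofHom (Ideal.Quotient.mk I))
  have h1 : (Scheme.ΓSpecIso (CommRingCat.of (A ⧸ I))).hom ((zh A I).appTop.hom x) =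
      Ideal.Quotient.mk I ((Scheme.ΓSpecIso A).hom x) := by
    have := congrArg (fun φ => φ.hom x) hnat
    exact this
  have hinj : Function.Injective (Scheme.ΓSpecIso (CommRingCat.of (A ⧸ I))).hom :=
    (ConcreteCategory.bijective_of_isIso (Scheme.ΓSpecIso (CommRingCat.of (A ⧸ I))).hom).1
  rw [RingHom.mem_ker, ← Ideal.Quotient.eq_zero_iff_mem, ← h1]
  constructor
  · intro h; rw [h, map_zero]
  · intro h; exact hinj (by rw [h, map_zero])

include hc hne in
theorem ker_le (T : Over (Spec A)) (s : ∀ a : J c, T ⟶ Z A (idl c a)) :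
    (zh A (sSup c)).ker ≤ (show T.left ⟶ Spec A from T.hom).ker := by
  suffices key : ∀ g : T.left ⟶ Spec A, g = T.hom → (zh A (sSup c)).ker ≤ g.ker from key _ rfl
  intro g hg
  rw [Scheme.ker_of_isAffine (zh A (sSup c)), Scheme.ker_of_isAffine g]
  refine (map_le_map_iff (Scheme.IdealSheafData.equivOfIsAffine (X := Spec A)).symm).2 ?_
  intro x hx
  rw [ker_appTop] at hx
  obtain ⟨I, hI, hxI⟩ := (Submodule.mem_sSup_of_directed hne hc.directedOn).1 hx
  let a : J c := OrderDual.toDual ⟨I, hI⟩
  have h1 : x ∈ RingHom.ker (zh A I).appTop.hom := (ker_appTop I x).2 hxI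
  have hg' : g = (show T.left ⟶ Spec (CommRingCat.of (A ⧸ I)) from (s a).left) ≫ zh A I := by
    rw [hg]; exact (Over.w (s a)).symm
  rw [RingHom.mem_ker] at h1 ⊢
  rw [hg', Scheme.Hom.comp_appTop, CommRingCat.hom_comp, RingHom.comp_apply, h1, map_zero]

include hc hne in
noncomputable def isLimit_cE : IsLimit (cE c) where
  lift s := liftZ A s.pt (ker_le c hc hne s.pt (fun a => s.π.app a))
  fac s a := hom_ext_Z A _ _
  uniq s m _ := hom_ext_Z A _ _


include hc hne in
theorem isCofiltered_J : IsCofiltered (J c) := by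
  obtain ⟨y, hy⟩ := hne
  haveI : Nonempty (J c) := ⟨OrderDual.toDual ⟨y, hy⟩⟩
  haveI : IsDirected (J c) (· ≥ ·) := ⟨fun a b => by
    rcases hc.total (OrderDual.ofDual a).2 (OrderDual.ofDual b).2 with h | h
    · exact ⟨b, h, le_rfl⟩
    · exact ⟨a, le_rfl, h⟩⟩
  infer_instance

open Groth.Agent.Lib.Helper15 Groth.Agent.Lib.Helper3 Groth.Agent.Lib.Helper15.LimBC

include hc hne in
/-- If the base change of `X` to `A / sSup c` is a scheme, so is the base change to `A / I` for
some `I` in the chain `c`. -/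
theorem exists_rep_stage (X : AlgSp.Space (Spec A))
    (q : X.obj ⟶ (yon (Spec A)).obj (Over.mk (𝟙 (Spec A))))
    (hqc : IsQuasiCompactMor q) (hqs : IsQuasiSeparatedMor q)
    (hrep : (pullback ((yon (Spec A)).map (ι A (sSup c))) q).obj.IsRepresentable) :
    ∃ I ∈ c, (pullback ((yon (Spec A)).map (ι A I)) q).obj.IsRepresentable := by
  haveI := isCofiltered_J c hc hne
  let D0 : J c ⥤ Sp (Spec A) := E c ⋙ yon (Spec A)
  let t : ∀ a : J c, D0.obj a ⟶ (yon (Spec A)).obj (Over.mk (𝟙 (Spec A))) :=
    fun a => (yon (Spec A)).map (ι A (idl c a))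
  have t_w : ∀ {a b : J c} (f : a ⟶ b), D0.map f ≫ t b = t a := by
    intro a b f
    change (yon (Spec A)).map _ ≫ (yon (Spec A)).map _ = (yon (Spec A)).map _
    rw [← Functor.map_comp]
    congr 1
    exact Over.OverMorphism.ext (Over.w (tr A (idl_le c f)))
  let c0 : Cone D0 := (yon (Spec A)).mapCone (cE c)
  have hc0 : IsLimit c0 := isLimitOfPreserves (yon (Spec A)) (isLimit_cE c hc hne)
  have hg : ∀ a, c0.π.app a ≫ t a = (yon (Spec A)).map (ι A (sSup c)) := by
    intro a
    change (yon (Spec A)).map _ ≫ (yon (Spec A)).map _ = (yon (Spec A)).map _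
    rw [← Functor.map_comp]
    congr 1
    exact Over.OverMorphism.ext (Over.w (tr A (idl_le_sSup c a)))
  have hYalg : IsAlgSpace ((yon (Spec A)).obj (Over.mk (𝟙 (Spec A)))) := IsAlgSpace.yon_obj _
  have hD0 : ∀ a, IsAlgSpace (D0.obj a) := fun a => IsAlgSpace.yon_obj _
  have hD0a : ∀ (a b : J c) (f : a ⟶ b), IsAffineMor (D0.map f) := by
    intro a b f
    refine (isAffineMor_iff_repWith _).2 ((repWith_yon_map_iff @IsAffineHom _).2 ?_)
    change IsAffineHom (Spec.map (CommRingCat.ofHom (Ideal.Quotient.factor (idl_le c f))))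
    infer_instance
  have hbqc : ∀ a, IsQuasiCompactSp (pullback (t a) q) := by
    intro a
    haveI : IsAffine ((E c).obj a).left :=
      inferInstanceAs (IsAffine (Spec (CommRingCat.of (A ⧸ idl c a))))
    exact hqc (IsAlgSpace.yon_obj _) (isQuasiCompactSp_yon inferInstance) (t a)
      (pullback.snd (t a) q) (pullback.fst (t a) q) (IsPullback.of_hasPullback (t a) q).flip
  have hbqs : ∀ a, IsQuasiSeparatedSp (pullback (t a) q) := by
    intro a
    haveI : IsAffine ((E c).obj a).left :=
      inferInstanceAs (IsAffine (Spec (CommRingCat.of (A ⧸ idl c a))))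
    exact LimRep.isQuasiSeparatedSp_of_mor (pullback.fst (t a) q)
      (repWith_diagonal_of_isPullback @QuasiCompact (IsPullback.of_hasPullback (t a) q).flip hqs)
      (LimRep.isQuasiSeparatedSp_yon _)
  obtain ⟨a, ha⟩ := Groth.Agent.S10007.result (Spec A) (bcD D0 t t_w q)
    (fun a => isAlgSpace_bc D0 t q hD0 hYalg X.property a)
    (fun a b f => isAffineMor_bcMap D0 t t_w q hD0a f) hbqc hbqs
    (bcCone D0 t t_w q c0 _ hg) (bcConeIsLimit D0 t t_w q c0 _ hg hc0) hrep
  exact ⟨idl c a, (OrderDual.ofDual a).2, ha⟩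

end Chain

end Groth.Agent.Lib.Helper15.QuotLim
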