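import Groth.Prelude.Def_AlgSpGpd
import Groth.Agent.Lib.Helper3.QuotRelOpen
import Groth.Agent.Lib.Helper15.JShriek3

set_option autoImplicit false
set_option backward.isDefEq.respectTransparency.types false
universe u
open CategoryTheory CategoryTheory.Limits AlgebraicGeometry Opposite

namespace Groth.Agent.Lib.Helper15.SpQuot

open AlgSp

variable {S : Scheme.{u}} {R U : Sp S} (s t : R ⟶ U)

/-- the relation on sections. -/
def relQ (T : (Over S)ᵒᵖ) : U.obj.obj T → U.obj.obj T → Prop :=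
  fun a b => ∃ r : R.obj.obj T, t.hom.app T r = a ∧ s.hom.app T r = b

theorem relQ_map {T T' : (Over S)ᵒᵖ} (f : T ⟶ T') {a b : U.obj.obj T} (h : relQ s t T a b) :
    relQ s t T' (U.obj.map f a) (U.obj.map f b) := by
  obtain ⟨r, rfl, rfl⟩ := h
  exact ⟨R.obj.map f r, (t.hom.naturality_apply f r), (s.hom.naturality_apply f r)⟩

/-- the presheaf quotient. -/
def Q : (Over S)ᵒᵖ ⥤ Type (u+1) where
  obj T := Quot (relQ s t T)
  map {T T'} f := ↾(Quot.map (U.obj.map f) (fun a b h => relQ_map s t f h))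
  map_id T := by
    ext x
    induction x using Quot.ind with
    | mk a => simp [Quot.map]
  map_comp f g := by
    ext x
    induction x using Quot.ind with
    | mk a => simp [Quot.map]

/-- the projection to the presheaf quotient. -/
def toQ : U.obj ⟶ Q s t where
  app T := ↾(fun a => Quot.mk _ a)
  naturality T T' f := by
    ext a
    rfl

/-- the sheafified quotient -/
noncomputable def G : Sp S := (presheafToSheaf (J S) (Type (u+1))).obj (Q s t)

/-- the map from `U` to the sheafified quotient. -/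
noncomputable def toG : U ⟶ G s t := ⟨toQ s t ≫ toSheafify (J S) (Q s t)⟩

theorem toG_coeq : s ≫ toG s t = t ≫ toG s t := by
  apply Sheaf.hom_ext
  ext T r
  change (toSheafify (J S) (Q s t)).app T (Quot.mk _ (s.hom.app T r)) =
    (toSheafify (J S) (Q s t)).app T (Quot.mk _ (t.hom.app T r))
  congr 1
  exact (Quot.sound ⟨r, rfl, rfl⟩).symm

variable {s t}

/-- two sections of `U` with the same image in a weak coequalizer are locally related. -/
theorem exists_sieve_of_eq (hE : ∀ T, Equivalence (relQ s t T)) {F : Sp S} (π : U ⟶ F)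
    (hπ : ∃ φ' : F ⟶ G s t, π ≫ φ' = toG s t) {T : (Over S)ᵒᵖ} (a b : U.obj.obj T)
    (hab : π.hom.app T a = π.hom.app T b) :
    ∃ Sv ∈ J S T.unop, ∀ ⦃T' : Over S⦄ (f : T' ⟶ T.unop), Sv f →
      relQ s t (op T') (U.obj.map f.op a) (U.obj.map f.op b) := by
  obtain ⟨φ', hφ'⟩ := hπ
  have h2 : (toSheafify (J S) (Q s t)).app T (Quot.mk _ a) =
      (toSheafify (J S) (Q s t)).app T (Quot.mk _ b) := by
    have e1 : ∀ c : U.obj.obj T, (toSheafify (J S) (Q s t)).app T (Quot.mk _ c) =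
        φ'.hom.app T (π.hom.app T c) := by
      intro c
      have := congrArg (fun k => k.hom.app T c) hφ'
      exact this.symm
    rw [e1, e1, hab]
  have h3 := Presheaf.equalizerSieve_mem (J S) (toSheafify (J S) (Q s t))
    (X := T) (Quot.mk _ a) (Quot.mk _ b) h2
  refine ⟨_, h3, ?_⟩
  intro T' f hf
  have hf' : (Quot.mk (relQ s t (op T')) (U.obj.map f.op a) : Quot (relQ s t (op T'))) =
      Quot.mk _ (U.obj.map f.op b) := hf
  have := Quot.eqvGen_exact hf'
  rw [(hE (op T')).eqvGen_iff] at this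
  exact this

theorem relQ_iff {T : Over S} (a b : (yon S).obj T ⟶ U) :
    relQ s t (op T) ((J S).uliftYonedaEquiv.{u+1} a) ((J S).uliftYonedaEquiv.{u+1} b) ↔
      ∃ r : (yon S).obj T ⟶ R, r ≫ t = a ∧ r ≫ s = b := by
  constructor
  · rintro ⟨ρ, h1, h2⟩
    refine ⟨(J S).uliftYonedaEquiv.{u+1}.symm ρ, ?_, ?_⟩
    · apply (J S).uliftYonedaEquiv.{u+1}.injective
      rw [(J S).uliftYonedaEquiv_comp, Equiv.apply_symm_apply, h1]
    · apply (J S).uliftYonedaEquiv.{u+1}.injective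
      rw [(J S).uliftYonedaEquiv_comp, Equiv.apply_symm_apply, h2]
  · rintro ⟨r, rfl, rfl⟩
    exact ⟨(J S).uliftYonedaEquiv.{u+1} r, rfl, rfl⟩

theorem equivalence_relQ (hpre : IsPreEqvRelSp s t) (T : (Over S)ᵒᵖ) :
    Equivalence (relQ s t T) := by
  induction T using Opposite.rec with
  | op T =>
    have e := hpre T
    have key : ∀ a b : U.obj.obj (op T), relQ s t (op T) a b ↔
        ∃ r : (yon S).obj T ⟶ R, r ≫ t = (J S).uliftYonedaEquiv.{u+1}.symm a ∧
          r ≫ s = (J S).uliftYonedaEquiv.{u+1}.symm b := by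
      intro a b
      rw [← relQ_iff, Equiv.apply_symm_apply, Equiv.apply_symm_apply]
    refine ⟨fun a => (key a a).2 (e.refl _), fun {a b} hab => (key b a).2 (e.symm ((key a b).1 hab)),
      fun {a b c} hab hbc => (key a c).2 (e.trans ((key a b).1 hab) ((key b c).1 hbc))⟩

/-- the comparison from the coequalizer to the sheafified quotient. -/
theorem exists_toG : ∃ φ' : quotSp s t ⟶ G s t, quotSpπ s t ≫ φ' = toG s t :=
  ⟨quotSpDesc (toG s t) (toG_coeq s t), quotSpπ_desc _ _ _ _⟩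

/-- two points of `U` with the same image in `U/R` are locally related. -/
theorem exists_sieve_of_quot_eq (hpre : IsPreEqvRelSp s t) {T : Over S}
    (a b : (yon S).obj T ⟶ U) (hab : a ≫ quotSpπ s t = b ≫ quotSpπ s t) :
    ∃ Sv ∈ J S T, ∀ ⦃T' : Over S⦄ (f : T' ⟶ T), Sv f →
      ∃ r : (yon S).obj T' ⟶ R, r ≫ t = (yon S).map f ≫ a ∧ r ≫ s = (yon S).map f ≫ b := by
  have h1 : (quotSpπ s t).hom.app (op T) ((J S).uliftYonedaEquiv.{u+1} a) =
      (quotSpπ s t).hom.app (op T) ((J S).uliftYonedaEquiv.{u+1} b) := by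
    rw [← (J S).uliftYonedaEquiv_comp, ← (J S).uliftYonedaEquiv_comp, hab]
  obtain ⟨Sv, hSv, h⟩ := exists_sieve_of_eq (equivalence_relQ hpre) (quotSpπ s t) exists_toG
    (T := op T) _ _ h1
  refine ⟨Sv, hSv, fun T' f hf => ?_⟩
  have := h f hf
  rw [(J S).uliftYonedaEquiv_naturality, (J S).uliftYonedaEquiv_naturality, relQ_iff] at this
  exact this

/-- two points with locally equal images in a sheaf have equal images. -/
theorem eq_of_sieve {F : Sp S} {T : Over S} (a b : (yon S).obj T ⟶ F) (Sv : Sieve T)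
    (hSv : Sv ∈ J S T)
    (h : ∀ ⦃T' : Over S⦄ (f : T' ⟶ T), Sv f → (yon S).map f ≫ a = (yon S).map f ≫ b) : a = b := by
  have hF : Presieve.IsSheaf (J S) F.obj := (isSheaf_iff_isSheaf_of_type _ _).1 F.property
  apply (J S).uliftYonedaEquiv.{u+1}.injective
  refine (hF Sv hSv).isSeparatedFor.ext fun T' f hf => ?_
  rw [(J S).uliftYonedaEquiv_naturality, (J S).uliftYonedaEquiv_naturality, h f hf]

theorem mono_of_restrict {R' U' : Sp S} (hpre : IsPreEqvRelSp s t) (g : U' ⟶ U) (s' t' : R' ⟶ U')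
    (hlift : ∀ ⦃T : Over S⦄ (a' b' : (yon S).obj T ⟶ U') (r : (yon S).obj T ⟶ R),
      r ≫ t = a' ≫ g → r ≫ s = b' ≫ g → ∃ r' : (yon S).obj T ⟶ R', r' ≫ t' = a' ∧ r' ≫ s' = b')
    (ψ : quotSp s' t' ⟶ quotSp s t) (hψ : quotSpπ s' t' ≫ ψ = g ≫ quotSpπ s t) : Mono ψ := by
  have hk : pullback.fst (g ≫ quotSpπ s t) (g ≫ quotSpπ s t) ≫ quotSpπ s' t' =
      pullback.snd (g ≫ quotSpπ s t) (g ≫ quotSpπ s t) ≫ quotSpπ s' t' := by
    apply Groth.Agent.Lib.Helper15.JShriek.hom_ext_points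
    intro Z x
    obtain ⟨a', ha'⟩ : ∃ a' : (yon S).obj Z ⟶ U', a' = x ≫ pullback.fst _ _ := ⟨_, rfl⟩
    obtain ⟨b', hb'⟩ : ∃ b' : (yon S).obj Z ⟶ U', b' = x ≫ pullback.snd _ _ := ⟨_, rfl⟩
    have hab : (a' ≫ g) ≫ quotSpπ s t = (b' ≫ g) ≫ quotSpπ s t := by
      rw [ha', hb', Category.assoc, Category.assoc, Category.assoc, Category.assoc,
        pullback.condition]
    obtain ⟨Sv, hSv, h⟩ := exists_sieve_of_quot_eq hpre (a' ≫ g) (b' ≫ g) hab
    rw [← Category.assoc, ← Category.assoc, ← ha', ← hb']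
    refine eq_of_sieve _ _ Sv hSv fun T' f hf => ?_
    obtain ⟨r, hr1, hr2⟩ := h f hf
    obtain ⟨r', hr'1, hr'2⟩ := hlift ((yon S).map f ≫ a') ((yon S).map f ≫ b') r
      (by rw [hr1, Category.assoc]) (by rw [hr2, Category.assoc])
    rw [← Category.assoc, ← Category.assoc, ← hr'1, ← hr'2, Category.assoc, Category.assoc,
      quotSp_condition]
  have hπ' : Sheaf.IsLocallySurjective (quotSpπ s' t') :=
    (Sheaf.isLocallySurjective_iff_epi _).2 (by unfold quotSpπ; exact coequalizer.π_epi)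
  have kp : IsPullback (pullback.fst (g ≫ quotSpπ s t) (g ≫ quotSpπ s t))
      (pullback.snd (g ≫ quotSpπ s t) (g ≫ quotSpπ s t))
      (quotSpπ s' t' ≫ ψ) (quotSpπ s' t' ≫ ψ) := by
    rw [hψ]
    exact IsPullback.of_hasPullback _ _
  exact Groth.Agent.Lib.Helper3.QuotRel.mono_of_kernelPair _ hπ' ψ _ _ kp hk

end Groth.Agent.Lib.Helper15.SpQuot
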