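import Groth.Agent.Lib.Helper15.UnivRel
import Groth.Agent.Lib.Helper3.AlgSpOpenSubsp
import Groth.Agent.Lib.Helper3.QuotRelMain

set_option autoImplicit false
set_option backward.isDefEq.respectTransparency.types false
universe u
open CategoryTheory CategoryTheory.Limits AlgebraicGeometry Opposite MorphismProperty

namespace Groth.Agent.Lib.Helper15.UnivQuot

variable {S : Scheme.{u}}

open AlgSp Groth.Agent.Lib.Helper3

/-- a square of sheaves is cartesian if it is so on points with values in schemes -/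
theorem isPullback_of_points {A B C D : Sp S} (t : A ⟶ B) (l : A ⟶ C) (r : B ⟶ D) (b : C ⟶ D)
    (w : t ≫ r = l ≫ b)
    (hinj : ∀ (T : Over S) (x y : (yon S).obj T ⟶ A), x ≫ t = y ≫ t → x ≫ l = y ≫ l → x = y)
    (hex : ∀ (T : Over S) (x₂ : (yon S).obj T ⟶ B) (x₃ : (yon S).obj T ⟶ C),
      x₂ ≫ r = x₃ ≫ b → ∃ x₁ : (yon S).obj T ⟶ A, x₁ ≫ t = x₂ ∧ x₁ ≫ l = x₃) :
    IsPullback t l r b := by
  refine isPullback_of_sections t l r b w ?_ ?_
  · intro V x y h1 h2
    induction V using Opposite.rec with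
    | op T =>
      have := hinj T ((J S).uliftYonedaEquiv.{u+1}.symm x) ((J S).uliftYonedaEquiv.{u+1}.symm y) ?_ ?_
      · simpa using congrArg (J S).uliftYonedaEquiv.{u+1} this
      · rw [(J S).uliftYonedaEquiv_symm_naturality_right, (J S).uliftYonedaEquiv_symm_naturality_right, h1]
      · rw [(J S).uliftYonedaEquiv_symm_naturality_right, (J S).uliftYonedaEquiv_symm_naturality_right, h2]
  · intro V x₂ x₃ h
    induction V using Opposite.rec with
    | op T =>
      obtain ⟨x₁, h1, h2⟩ := hex T ((J S).uliftYonedaEquiv.{u+1}.symm x₂)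
        ((J S).uliftYonedaEquiv.{u+1}.symm x₃) (by
          rw [(J S).uliftYonedaEquiv_symm_naturality_right,
            (J S).uliftYonedaEquiv_symm_naturality_right, h])
      refine ⟨(J S).uliftYonedaEquiv.{u+1} x₁, ?_, ?_⟩
      · rw [← (J S).uliftYonedaEquiv_comp, h1, Equiv.apply_symm_apply]
      · rw [← (J S).uliftYonedaEquiv_comp, h2, Equiv.apply_symm_apply]

section Atlas

variable {Z Z' : Sp S} {V R V' R' : Over S} (v : (yon S).obj V ⟶ Z)
  (π' : (yon S).obj V' ⟶ Z') (i : Z ⟶ Z') (iV : V ⟶ V') (iR : R ⟶ R') (s₀ t₀ : R ⟶ V)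
  (s' t' : R' ⟶ V')

/-- the atlas of the thinner space is the base change of the atlas of the thicker one -/
theorem isPullback_atlas (hve : RepWith @Etale v) (hvs : RepWith @Surjective v)
    (kp' : IsPullback ((yon S).map t') ((yon S).map s') π' π')
    (kp : (yon S).map t₀ ≫ v = (yon S).map s₀ ≫ v) (w : (yon S).map iV ≫ π' = v ≫ i)
    (pbs : IsPullback iR s₀ s' iV) (ht1 : iR ≫ t' = t₀ ≫ iV) [Mono iV] :
    IsPullback ((yon S).map iV) v π' i := by
  refine isPullback_of_points _ _ _ _ w ?_ ?_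
  · intro T x y h1 _
    obtain ⟨x₀, rfl⟩ := (yon S).map_surjective x
    obtain ⟨y₀, rfl⟩ := (yon S).map_surjective y
    rw [← Functor.map_comp, ← Functor.map_comp] at h1
    have := (yon S).map_injective h1
    rw [cancel_mono] at this
    rw [this]
  · intro T y z hyz
    -- the etale cover of `T` on which `z` lifts to `V`
    let T₁ : Over S := hve.rep.pullback z
    let q : T₁ ⟶ T := hve.rep.snd z
    let x₁ : (yon S).obj T₁ ⟶ (yon S).obj V := hve.rep.fst z
    have sqT : IsPullback x₁ ((yon S).map q) v z := hve.rep.isPullback z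
    have hqe : Etale q.left := hve.2 _ _ _ sqT
    have hqs : Surjective q.left := hvs.2 _ _ _ sqT
    have hw1 : ((yon S).map q ≫ y) ≫ π' = (x₁ ≫ (yon S).map iV) ≫ π' := by
      rw [Category.assoc, hyz, ← Category.assoc, ← sqT.w, Category.assoc, Category.assoc, w]
    obtain ⟨r', hr1, hr2⟩ : ∃ r' : (yon S).obj T₁ ⟶ (yon S).obj R',
        r' ≫ (yon S).map t' = (yon S).map q ≫ y ∧ r' ≫ (yon S).map s' = x₁ ≫ (yon S).map iV :=
      ⟨kp'.lift _ _ hw1, kp'.lift_fst _ _ hw1, kp'.lift_snd _ _ hw1⟩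
    have pbsy := pbs.map (yon S)
    obtain ⟨ρ, hρ1, hρ2⟩ : ∃ ρ : (yon S).obj T₁ ⟶ (yon S).obj R,
        ρ ≫ (yon S).map iR = r' ∧ ρ ≫ (yon S).map s₀ = x₁ :=
      ⟨pbsy.lift _ _ hr2, pbsy.lift_fst _ _ hr2, pbsy.lift_snd _ _ hr2⟩
    obtain ⟨ξ, hξ⟩ := (yon S).map_surjective (ρ ≫ (yon S).map t₀)
    obtain ⟨y₀, rfl⟩ := (yon S).map_surjective y
    have hξ1 : ξ ≫ iV = q ≫ y₀ := by
      apply (yon S).map_injective
      rw [Functor.map_comp, hξ, Category.assoc, ← Functor.map_comp, ← ht1, Functor.map_comp,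
        ← Category.assoc, hρ1, hr1, Functor.map_comp]
    have hξ2 : (yon S).map ξ ≫ v = (yon S).map q ≫ z := by
      rw [hξ, Category.assoc, kp, ← Category.assoc, hρ2, sqT.w]
    -- descend `ξ` to `T`
    have hfl : Flat q.left := inferInstance
    have hfp : LocallyOfFinitePresentation q.left := inferInstance
    obtain ⟨x, hx⟩ := AlgSpFormal.exists_glue_of_cover (F := (yon S).obj V)
      (fun _ : PUnit.{u+1} => T₁) (fun _ => q) (fun t => ⟨PUnit.unit, hqs.surj t⟩)
      (fun _ => hfl) (fun _ => hfp) (fun _ => (yon S).map ξ) (by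
        intro _ _ W g₁ g₂ hg
        rw [← Functor.map_comp, ← Functor.map_comp]
        congr 1
        rw [← cancel_mono iV, Category.assoc, Category.assoc, hξ1, ← Category.assoc,
          ← Category.assoc, hg])
    have hx' := hx PUnit.unit
    refine ⟨x, ?_, ?_⟩
    · apply AlgSpFormal.hom_ext_of_cover (fun _ : PUnit.{u+1} => T₁) (fun _ => q)
        (fun t => ⟨PUnit.unit, hqs.surj t⟩) (fun _ => hfl) (fun _ => hfp)
      intro _
      rw [← Category.assoc, hx', ← Functor.map_comp, hξ1, Functor.map_comp]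
    · apply AlgSpFormal.hom_ext_of_cover (fun _ : PUnit.{u+1} => T₁) (fun _ => q)
        (fun t => ⟨PUnit.unit, hqs.surj t⟩) (fun _ => hfl) (fun _ => hfp)
      intro _
      rw [← Category.assoc, hx', hξ2]

open Groth.Agent.Lib.Helper3.QAffDesc in
/-- a morphism whose base change to an etale atlas of the target is a thickening of schemes is a
thickening -/
theorem repWith_thick_of_atlas (hπe : RepWith @Etale π') (hπs : RepWith @Surjective π')
    (sq : IsPullback ((yon S).map iV) v π' i) (hiV : thick iV.left) : RepWith thick i := by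
  refine repWith_of_forall thick i fun T k => ?_
  let T' : Over S := hπe.rep.pullback k
  let q : T' ⟶ T := hπe.rep.snd k
  let k' : (yon S).obj T' ⟶ (yon S).obj V' := hπe.rep.fst k
  have sqT : IsPullback k' ((yon S).map q) π' k := hπe.rep.isPullback k
  have hqe : Etale q.left := hπe.2 _ _ _ sqT
  have hqs : Surjective q.left := hπs.2 _ _ _ sqT
  obtain ⟨k'₀, hk'₀⟩ := (yon S).map_surjective k'
  have sqE' : IsPullback (pullback.fst iV k'₀) (pullback.snd iV k'₀) iV k'₀ :=
    IsPullback.of_hasPullback _ _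
  have big : IsPullback ((yon S).map (pullback.fst iV k'₀) ≫ v)
      ((yon S).map (pullback.snd iV k'₀)) i ((yon S).map q ≫ k) := by
    have := (sqE'.map (yon S)).paste_horiz sq.flip
    rw [hk'₀, sqT.w] at this
    exact this
  have sqE := IsPullback.of_hasPullback i k
  have hwE : ((yon S).map (pullback.fst iV k'₀) ≫ v) ≫ i =
      ((yon S).map (pullback.snd iV k'₀) ≫ (yon S).map q) ≫ k := by
    rw [Category.assoc ((yon S).map (pullback.snd iV k'₀)) ((yon S).map q)]
    exact big.w
  obtain ⟨fst', hf1, hf2⟩ : ∃ fst' : (yon S).obj (pullback iV k'₀) ⟶ pullback i k,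
      fst' ≫ pullback.fst i k = (yon S).map (pullback.fst iV k'₀) ≫ v ∧
      fst' ≫ pullback.snd i k = (yon S).map (pullback.snd iV k'₀) ≫ (yon S).map q :=
    ⟨sqE.lift _ _ hwE, sqE.lift_fst _ _ hwE, sqE.lift_snd _ _ hwE⟩
  have big' : IsPullback (fst' ≫ pullback.fst i k) ((yon S).map (pullback.snd iV k'₀)) i
      ((yon S).map q ≫ k) := by
    rw [hf1]; exact big
  have left := IsPullback.of_right big' hf2 sqE
  have hwci : IsClosedImmersion (pullback.snd iV k'₀).left :=
    MorphismProperty.of_isPullback (P := @IsClosedImmersion) (sqE'.map (Over.forget S)) hiV.1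
  have hwsurj : Surjective (pullback.snd iV k'₀).left :=
    MorphismProperty.of_isPullback (P := @Surjective) (sqE'.map (Over.forget S)) hiV.2
  have hfl : Flat q.left := inferInstance
  have hfp : LocallyOfFinitePresentation q.left := inferInstance
  have hrep : Representable (pullback.snd i k) :=
    representable_of_cover Plqf (fun g hY hg => isQuasiAffine_of_lqf g hY hg) q
      (pullback.snd iV k'₀) (plqf_of_mono _) _ fst' left
  obtain ⟨G, ι, fst'', sqG⟩ := hrep (𝟙 _)
  have hiso : IsIso fst'' := sqG.isIso_fst_of_isIso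
  have sqGk : IsPullback (fst'' ≫ pullback.fst i k) ((yon S).map ι) i k := by
    refine IsPullback.of_iso sqE (asIso fst'').symm (Iso.refl _) (Iso.refl _) (Iso.refl _)
      ?_ ?_ ?_ ?_
    · simp
    · simp only [Iso.refl_hom, Category.comp_id, Iso.symm_hom, asIso_inv]
      rw [IsIso.eq_inv_comp, sqG.w, Category.comp_id]
    · simp
    · simp
  refine ⟨G, fst'' ≫ pullback.fst i k, ι, sqGk, ?_⟩
  -- descend the property along `q`
  have sqP : IsPullback (pullback.fst ι q) (pullback.snd ι q) ι q := IsPullback.of_hasPullback _ _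
  have sqGq : IsPullback ((yon S).map (pullback.fst ι q) ≫ fst'') ((yon S).map (pullback.snd ι q))
      (pullback.snd i k) ((yon S).map q) := by
    have := (sqP.map (yon S)).paste_horiz sqG
    rw [Category.comp_id] at this
    exact this
  have hP2 : thick (pullback.snd ι q).left :=
    prop_of_isPullback_of_isPullback thick left sqGq ⟨hwci, hwsurj⟩
  have sqL : IsPullback (pullback.snd ι q).left (pullback.fst ι q).left q.left ι.left :=
    (sqP.map (Over.forget S)).flip
  have hQ : (@Surjective ⊓ @Flat ⊓ @LocallyOfFinitePresentation : MorphismProperty Scheme.{u})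
      q.left := ⟨⟨hqs, hfl⟩, hfp⟩
  exact ⟨MorphismProperty.of_isPullback_of_descendsAlong (P := @IsClosedImmersion)
      (Q := @Surjective ⊓ @Flat ⊓ @LocallyOfFinitePresentation) sqL hQ hP2.1,
    MorphismProperty.of_isPullback_of_descendsAlong (P := @Surjective)
      (Q := @Surjective ⊓ @Flat ⊓ @LocallyOfFinitePresentation) sqL hQ hP2.2⟩

/-- the square-zero condition on etale affine charts, from the atlas -/
theorem affLocT_sqZero_of_atlas (hπe : RepWith @Etale π') (hπs : RepWith @Surjective π')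
    (sq : IsPullback ((yon S).map iV) v π' i) (hiV : MoreMor.IsFirstOrderThickening iV.left)
    (hthick : RepWith thick i) : AffLocT sqZero i := by
  intro B W b fst snd hB _ sqB
  have hBaff : IsAffine B.left := hB
  have hci : IsClosedImmersion snd.left := (hthick.2 _ _ _ sqB).1
  let B' : Over S := hπe.rep.pullback b
  let q : B' ⟶ B := hπe.rep.snd b
  let k' : (yon S).obj B' ⟶ (yon S).obj V' := hπe.rep.fst b
  have sqT : IsPullback k' ((yon S).map q) π' b := hπe.rep.isPullback b
  have hqe : Etale q.left := hπe.2 _ _ _ sqT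
  have hqs : Surjective q.left := hπs.2 _ _ _ sqT
  obtain ⟨k'₀, hk'₀⟩ := (yon S).map_surjective k'
  change snd.left.ker * snd.left.ker = ⊥
  apply Scheme.IdealSheafData.ext_of_isAffine
  rw [Scheme.IdealSheafData.ideal_mul, Pi.mul_apply, Scheme.IdealSheafData.ideal_bot, Pi.bot_apply,
    eq_bot_iff, Ideal.mul_le]
  intro x hx y hy
  rw [Ideal.mem_bot]
  apply FOThickBC.eq_zero_of_flat_cover
  intro v₀
  obtain ⟨q₀, hq₀⟩ := hqs.surj v₀
  obtain ⟨Qk, hQk, hqQk, -⟩ := exists_isAffineOpen_mem_and_subset (x := q₀) (U := ⊤) trivial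
  let QkO : Over S := Over.mk (Qk.ι ≫ B'.hom)
  let ιk : QkO ⟶ B' := Over.homMk Qk.ι rfl
  have hQkaff : IsAffine QkO.left := hQk
  let κ : QkO ⟶ V' := ιk ≫ k'₀
  have sqPB : IsPullback (pullback.fst iV κ) (pullback.snd iV κ) iV κ :=
    IsPullback.of_hasPullback _ _
  have hτ : MoreMor.IsFirstOrderThickening (pullback.snd iV κ).left :=
    UnivThick.isFirstOrderThickening_of_isPullback iV.left hiV _ _ _
      (sqPB.map (Over.forget S))
  have sq₂ : IsPullback ((yon S).map (pullback.fst iV κ) ≫ v) ((yon S).map (pullback.snd iV κ)) i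
      ((yon S).map (ιk ≫ q) ≫ b) := by
    have := (sqPB.map (yon S)).paste_horiz sq.flip
    have e : (yon S).map κ ≫ π' = (yon S).map (ιk ≫ q) ≫ b := by
      rw [Functor.map_comp, Functor.map_comp, Category.assoc, Category.assoc, hk'₀, sqT.w]
    rw [e] at this
    exact this
  have k1 : (pullback.snd iV κ).left.ker = snd.left.ker.comap (ιk ≫ q).left :=
    FOThickBC.ker_eq_comap_of_isPullback_sp i b fst snd sqB (ιk ≫ q) _ _ sq₂
  refine ⟨QkO.left, (ιk ≫ q).left, ?_, ⟨q₀, hqQk⟩, ?_, ?_⟩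
  · have : Etale (ιk ≫ q).left := inferInstanceAs (Etale (Qk.ι ≫ q.left))
    infer_instance
  · change q.left (Qk.ι ⟨q₀, hqQk⟩) = v₀
    exact hq₀
  · let ρ := (ιk ≫ q).left
    have hJ1 : (snd.left.ker.comap ρ).ideal ⟨⊤, isAffineOpen_top _⟩ =
        (snd.left.ker.ideal ⟨⊤, isAffineOpen_top _⟩).map (ρ.appLE ⊤ ⊤ le_top).hom :=
      Groth.Agent.Lib.Helper29.EffCart.ideal_comap_eq_map snd.left.ker ρ
        ⟨⊤, isAffineOpen_top _⟩ ⟨⊤, isAffineOpen_top _⟩ le_top
    have hτ0 : (pullback.snd iV κ).left.ker.ideal ⟨⊤, isAffineOpen_top _⟩ *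
        (pullback.snd iV κ).left.ker.ideal ⟨⊤, isAffineOpen_top _⟩ = ⊥ := by
      have := congrArg (fun K => K.ideal ⟨⊤, isAffineOpen_top _⟩) hτ.2
      simpa only [Scheme.IdealSheafData.ideal_mul, Pi.mul_apply, Scheme.IdealSheafData.ideal_bot,
        Pi.bot_apply] using this
    have happ : ρ.appTop = ρ.appLE ⊤ ⊤ le_top := by
      rw [Scheme.Hom.appTop, Scheme.Hom.app_eq_appLE]
      rfl
    have hxx : (ρ.appLE ⊤ ⊤ le_top).hom x ∈
        ((pullback.snd iV κ).left.ker).ideal ⟨⊤, isAffineOpen_top _⟩ := by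
      rw [k1, hJ1]
      exact Ideal.mem_map_of_mem _ hx
    have hyy : (ρ.appLE ⊤ ⊤ le_top).hom y ∈
        ((pullback.snd iV κ).left.ker).ideal ⟨⊤, isAffineOpen_top _⟩ := by
      rw [k1, hJ1]
      exact Ideal.mem_map_of_mem _ hy
    have hprod := Ideal.mul_mem_mul hxx hyy
    rw [hτ0, Ideal.mem_bot] at hprod
    rw [happ]
    change (ρ.appLE ⊤ ⊤ le_top).hom (x * y) = 0
    rw [map_mul]
    exact hprod

end Atlas

end Groth.Agent.Lib.Helper15.UnivQuot
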