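import Groth.Prelude.Def_AlgSpGpd
import Groth.Prelude.Def_AlgSp4
import Groth.Agent.Lib.Helper15.SpQuot
import Groth.Agent.Lib.Helper15.ZarFppf
import Groth.Agent.Lib.Helper3.AlgSpLocBase
import Groth.Agent.Lib.Helper3.FiniteAffineRefine
import Groth.Agent.Lib.Helper15.UnivQuot

set_option autoImplicit false

universe u
open CategoryTheory CategoryTheory.Limits AlgebraicGeometry Opposite

namespace Groth.Agent.Lib.Helper15.QuotPi

open AlgSp Groth.Agent.Lib.Helper3

variable {S : Scheme.{u}}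

/-- glue locally defined, locally unique points of a sheaf. -/
theorem exists_glue {F : Sp S} {T : Over S} (Sv : Sieve T) (hSv : Sv ∈ J S T)
    (P : ∀ ⦃T' : Over S⦄, (T' ⟶ T) → ((yon S).obj T' ⟶ F) → Prop)
    (hex : ∀ ⦃T' : Over S⦄ (f : T' ⟶ T), Sv f → ∃ r, P f r)
    (huniq : ∀ ⦃T' : Over S⦄ (f : T' ⟶ T) (r r' : (yon S).obj T' ⟶ F), P f r → P f r' → r = r')
    (hres : ∀ ⦃T' T'' : Over S⦄ (f : T' ⟶ T) (g : T'' ⟶ T') (r : (yon S).obj T' ⟶ F),
      P f r → P (g ≫ f) ((yon S).map g ≫ r)) :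
    ∃ r : (yon S).obj T ⟶ F, ∀ ⦃T' : Over S⦄ (f : T' ⟶ T), Sv f → P f ((yon S).map f ≫ r) := by
  classical
  have hF : Presieve.IsSheaf (J S) F.obj := (isSheaf_iff_isSheaf_of_type _ _).1 F.property
  choose ρ hρ using hex
  let x : Presieve.FamilyOfElements F.obj Sv.arrows := fun T' f hf =>
    (J S).uliftYonedaEquiv.{u+1} (ρ f hf)
  have hx : x.Compatible := by
    rw [Presieve.compatible_iff_sieveCompatible]
    intro T' T'' f g hf
    change (J S).uliftYonedaEquiv.{u+1} (ρ (g ≫ f) _) = F.obj.map g.op ((J S).uliftYonedaEquiv.{u+1} (ρ f hf))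
    rw [(J S).uliftYonedaEquiv_naturality.{u+1}]
    congr 1
    exact huniq _ _ _ (hρ _ _) (hres f g _ (hρ f hf))
  obtain ⟨r₀, hr₀⟩ := (hF Sv hSv x hx).exists
  refine ⟨(J S).uliftYonedaEquiv.{u+1}.symm r₀, fun T' f hf => ?_⟩
  have : (yon S).map f ≫ (J S).uliftYonedaEquiv.{u+1}.symm r₀ = ρ f hf := by
    apply (J S).uliftYonedaEquiv.{u+1}.injective
    rw [← (J S).uliftYonedaEquiv_naturality.{u+1}, Equiv.apply_symm_apply]
    exact hr₀ f hf
  rw [this]
  exact hρ f hf

section KP
variable {R U : Sp S} {s t : R ⟶ U}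

/-- an equivalence relation is the kernel pair of its quotient. -/
theorem isPullback_quot (hj : IsEqvRelSp s t) :
    IsPullback t s (quotSpπ s t) (quotSpπ s t) := by
  refine UnivQuot.isPullback_of_points t s _ _ (quotSp_condition s t).symm
    (fun T x y h1 h2 => hj.injective T x y h1 h2) ?_
  intro T a b hab
  obtain ⟨Sv, hSv, h⟩ := SpQuot.exists_sieve_of_quot_eq hj.equivalence a b hab
  obtain ⟨r, hr⟩ := exists_glue (F := R) Sv hSv
    (fun T' f r => r ≫ t = (yon S).map f ≫ a ∧ r ≫ s = (yon S).map f ≫ b)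
    (fun T' f hf => h f hf)
    (fun T' f r r' h1 h2 => hj.injective T' r r' (h1.1.trans h2.1.symm) (h1.2.trans h2.2.symm))
    (fun T' T'' f g r h1 => by
      constructor
      · rw [Category.assoc, h1.1, Functor.map_comp, Category.assoc]
      · rw [Category.assoc, h1.2, Functor.map_comp, Category.assoc])
  refine ⟨r, ?_, ?_⟩
  · refine SpQuot.eq_of_sieve _ _ Sv hSv fun T' f hf => ?_
    rw [← Category.assoc, (hr f hf).1]
  · refine SpQuot.eq_of_sieve _ _ Sv hSv fun T' f hf => ?_
    rw [← Category.assoc, (hr f hf).2]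

end KP

section Refine

/-- an epimorphism of sheaves admits standard (finite affine flat) refinements over affines. -/
theorem hasStdRefinement_of_locallySurjective {U F : Sp S} (π : U ⟶ F)
    (hπ : Sheaf.IsLocallySurjective π) :
    HasStdRefinement (fun _ : PUnit.{u+1} => U) (fun _ => π) := by
  intro Z hZ h
  have hmem := Presheaf.imageSieve_mem (J S) π.hom ((J S).uliftYonedaEquiv.{u+1} h)
  obtain ⟨κ, P, g, hg, hfl, hfp, hsurj⟩ := exists_fppf_family_of_mem_J _ hmem
  have : CompactSpace ↥Z.left := inferInstance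
  have hopen : ∀ k, IsOpenMap (g k).left := fun k => by
    have := hfl k
    have := hfp k
    exact (g k).left.isOpenMap
  obtain ⟨m, i, O, hO, hcov⟩ := exists_finite_affine_refinement (Z := Z.left)
    (fun k => (P k).left) (fun k => (g k).left) hopen hsurj
  let W : Fin m → Over S := fun j => Over.mk ((O j).ι ≫ (P (i j)).hom)
  let e : ∀ j, W j ⟶ P (i j) := fun j => Over.homMk (O j).ι rfl
  refine ⟨m, W, fun j => e j ≫ g (i j), fun j => hO j, fun j => ?_, fun z => ?_,
    fun j => ?_⟩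
  · have := hfl (i j)
    change Flat ((O j).ι ≫ (g (i j)).left)
    infer_instance
  · obtain ⟨j, y, hy, rfl⟩ := hcov z
    refine ⟨j, ⟨y, hy⟩, rfl⟩
  · obtain ⟨l₀, hl₀⟩ := hg (i j)
    refine ⟨PUnit.unit, (yon S).map (e j) ≫ (J S).uliftYonedaEquiv.{u+1}.symm l₀, ?_⟩
    apply (J S).uliftYonedaEquiv.{u+1}.injective
    rw [Functor.map_comp, Category.assoc, Category.assoc,
      ← (J S).uliftYonedaEquiv_naturality.{u+1}, ← (J S).uliftYonedaEquiv_naturality.{u+1},
      (J S).uliftYonedaEquiv_comp.{u+1}, Equiv.apply_symm_apply, hl₀,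
      ← (J S).uliftYonedaEquiv_naturality.{u+1}]

end Refine

section Main
open MorphismProperty
variable {R U : Sp S} {s t : R ⟶ U}

theorem quotSpπ_locallySurjective : Sheaf.IsLocallySurjective (quotSpπ s t) :=
  (Sheaf.isLocallySurjective_iff_epi _).2 (by unfold quotSpπ; exact coequalizer.π_epi)

theorem isSurjectiveMor_of_locallySurjective {U F : Sp S} (π : U ⟶ F)
    (hπ : Sheaf.IsLocallySurjective π) : IsSurjectiveMor π := by
  intro x
  obtain ⟨_, hx⟩ := (hasStdRefinement_of_locallySurjective π hπ).jointly_surjective x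
  exact hx

theorem locP_quotSpπ {P : MorphismProperty Scheme.{u}} (hP : IsEtLocal P)
    [P.DescendsAlong (@Surjective ⊓ @Flat ⊓ @QuasiCompact)] [IsZariskiLocalAtTarget P]
    (hR : IsAlgSpace R) (hU : IsAlgSpace U) (hj : IsEqvRelSp s t)
    (hF : IsAlgSpace (quotSp s t)) (hs : LocP P s) : LocP P (quotSpπ s t) :=
  locP_of_stdRefinement hP (ι := PUnit.{u+1}) (Yi := fun _ => U) (Xi := fun _ => R)
    (g := fun _ => quotSpπ s t) (p := fun _ => s) (q := fun _ => t) hU hF (fun _ => hU)
    (fun _ => hR) (hasStdRefinement_of_locallySurjective _ quotSpπ_locallySurjective)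
    (fun _ => isPullback_quot hj) (fun _ => hs)

end Main

end Groth.Agent.Lib.Helper15.QuotPi
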