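import Mathlib
import Groth.Prelude.Def_RegImm
import Groth.Agent.Lib.Helper15.H1App
import Groth.Agent.Lib.Helper5.RegImmA
import Groth.Agent.Lib.Helper5.RegDescA

/-!
# Composition of regular immersions of the kinds h1 / quasi
-/

set_option autoImplicit false
universe u
open CategoryTheory CategoryTheory.Limits AlgebraicGeometry TopologicalSpace

namespace Groth.Agent.Lib.Helper15.RegImmComp

open Groth.Agent.Lib.Helper5.RegImmA Groth.Agent.Lib.Helper5.RegDesc

theorem exists_kind_comp (k : RegImm.Kind) (hk : k = RegImm.Kind.h1 ∨ k = RegImm.Kind.quasi)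
    {A B C : Type u} [CommRing A] [CommRing B] [CommRing C]
    (φ : A →+* B) (hφ : Function.Surjective φ) (ψ : B →+* C)
    (fs : List A) (hfs : k.Seq A fs) (hkf : RingHom.ker φ = Ideal.ofList fs)
    (gs : List B) (hgs : RegImm.Kind.h1.Seq B gs) (hkg : RingHom.ker ψ = Ideal.ofList gs) :
    ∃ rs : List A, k.Seq A rs ∧ RingHom.ker (ψ.comp φ) = Ideal.ofList rs := by
  let gt : List A := gs.map (Function.surjInv hφ)
  have hgt : gt.map φ = gs := by
    rw [List.map_map]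
    conv_rhs => rw [← List.map_id gs]
    apply List.map_congr_left
    intro b _
    exact Function.surjInv_eq hφ b
  refine ⟨fs ++ gt, ?_, ?_⟩
  · let e0 : (A ⧸ RingHom.ker φ) ≃+* B := RingHom.quotientKerEquivOfSurjective hφ
    let e1 : (A ⧸ Ideal.ofList fs) ≃+* (A ⧸ RingHom.ker φ) := Ideal.quotEquivOfEq hkf.symm
    let e : (A ⧸ Ideal.ofList fs) ≃+* B := e1.trans e0
    have he : ∀ a : A, e (Ideal.Quotient.mk (Ideal.ofList fs) a) = φ a := fun a => rfl
    have hfl : (e.symm : B →+* (A ⧸ Ideal.ofList fs)).Flat :=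
      RingHom.Flat.of_bijective e.symm.bijective
    have h1 := kind_seq_map_of_flat' RegImm.Kind.h1 (by decide)
      (e.symm : B →+* (A ⧸ Ideal.ofList fs)) hfl gs hgs
    have hmap : gs.map (e.symm : B →+* (A ⧸ Ideal.ofList fs)) =
        gt.map (Ideal.Quotient.mk (Ideal.ofList fs)) := by
      rw [List.map_map]
      apply List.map_congr_left
      intro b _
      change e.symm b = Ideal.Quotient.mk (Ideal.ofList fs) (Function.surjInv hφ b)
      rw [RingEquiv.symm_apply_eq, he, Function.surjInv_eq hφ b]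
    rw [hmap] at h1
    exact Groth.Agent.Lib.Helper15.H1App.kind_append k hk fs gt hfs h1
  · rw [← RingHom.comap_ker, hkg, ← hgt, ← Ideal.map_ofList,
      Ideal.comap_map_of_surjective φ hφ, Ideal.ofList_append, ← RingHom.ker_eq_comap_bot, hkf,
      sup_comm]

section Shrink

variable {X Z : Scheme.{u}} (i : Z ⟶ X)

theorem shrinkK (k : RegImm.Kind) (hk : k ≠ RegImm.Kind.regular)
    {U U' : X.Opens} (hU : IsAffineOpen U) (hU' : IsAffineOpen U') (h : U' ≤ U)
    [IsClosedImmersion (i ∣_ U)] (rs : List Γ(X, U)) (hrs : k.Seq Γ(X, U) rs)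
    (hker : RingHom.ker (i.app U).hom = Ideal.ofList rs) :
    IsClosedImmersion (i ∣_ U') ∧
      k.Seq Γ(X, U') (rs.map (X.presheaf.map (homOfLE h).op).hom) ∧
      RingHom.ker (i.app U').hom = Ideal.ofList (rs.map (X.presheaf.map (homOfLE h).op).hom) := by
  refine ⟨isClosedImmersion_restrict_of_le i h, ?_, ?_⟩
  · exact kind_seq_map_of_flat' k hk _ (flat_res hU hU' h) rs hrs
  · rw [← ker_map_res i hU hU' h, hker, Ideal.map_ofList]

end Shrink

section Comp

variable {X Y Z : Scheme.{u}} (i : Y ⟶ X) (j : Z ⟶ Y)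

theorem comp_at (k : RegImm.Kind) (hk : k = RegImm.Kind.h1 ∨ k = RegImm.Kind.quasi)
    [IsImmersion i] (z : Z)
    (U : X.affineOpens) (hxU : i (j z) ∈ U.1) (hUc : IsClosedImmersion (i ∣_ U.1))
    (fs : List Γ(X, U.1)) (hfs : k.Seq Γ(X, U.1) fs)
    (hkf : RingHom.ker (i.app U.1).hom = Ideal.ofList fs)
    (V : Y.affineOpens) (hyV : j z ∈ V.1) (hVc : IsClosedImmersion (j ∣_ V.1))
    (gs : List Γ(Y, V.1)) (hgs : RegImm.Kind.h1.Seq Γ(Y, V.1) gs)
    (hkg : RingHom.ker (j.app V.1).hom = Ideal.ofList gs) :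
    ∃ U' : X.affineOpens, (j ≫ i) z ∈ U'.1 ∧ IsClosedImmersion ((j ≫ i) ∣_ U'.1) ∧
      ∃ rs : List Γ(X, U'.1), k.Seq Γ(X, U'.1) rs ∧
        RingHom.ker ((j ≫ i).app U'.1).hom = Ideal.ofList rs := by
  have hk' : k ≠ RegImm.Kind.regular := by rcases hk with rfl | rfl <;> decide
  obtain ⟨O, hO, hOV⟩ := i.isEmbedding.isInducing.isOpen_iff.mp V.1.isOpen
  have hxO : i (j z) ∈ O := by
    have : j z ∈ i ⁻¹' O := by rw [hOV]; exact hyV
    exact this
  obtain ⟨a, ha, hxa⟩ := U.2.exists_basicOpen_le (V := ⟨O, hO⟩) ⟨i (j z), hxO⟩ hxU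
  have hU' : IsAffineOpen (X.basicOpen a) := U.2.basicOpen a
  have hle : X.basicOpen a ≤ U.1 := X.basicOpen_le a
  have hW'V : i ⁻¹ᵁ (X.basicOpen a) ≤ V.1 := by
    intro y hy
    have h1 : i y ∈ O := ha hy
    have h2 : y ∈ i ⁻¹' O := h1
    rw [hOV] at h2
    exact h2
  obtain ⟨hc1, hf1, hk1⟩ := shrinkK i k hk' U.2 hU' hle fs hfs hkf
  have hW' : IsAffineOpen (i ⁻¹ᵁ (X.basicOpen a)) := isAffineOpen_preimage_of_restrict i hU'
  obtain ⟨hc2, hg2, hk2⟩ := shrinkK j RegImm.Kind.h1 (by decide) V.2 hW' hW'V gs hgs hkg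
  have hsurj := app_surjective_of_restrict i hU'
  obtain ⟨rs, hreg, hker⟩ := exists_kind_comp k hk (i.app (X.basicOpen a)).hom hsurj
    (j.app (i ⁻¹ᵁ (X.basicOpen a))).hom _ hf1 hk1 _ hg2 hk2
  have hcc : IsClosedImmersion ((j ≫ i) ∣_ X.basicOpen a) := by
    rw [morphismRestrict_comp]
    exact @IsClosedImmersion.comp _ _ _ _ _ hc2 hc1
  have hkk : RingHom.ker ((j ≫ i).app (X.basicOpen a)).hom = Ideal.ofList rs := by
    rw [← hker, Scheme.Hom.comp_app]
    rfl
  exact ⟨⟨X.basicOpen a, hU'⟩, hxa, hcc, rs, hreg, hkk⟩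

/-- The composite of an `H_1`-regular immersion `j` followed by an immersion `i` of kind
`k ∈ {h1, quasi}` is a regular immersion of kind `k`. -/
theorem comp (k : RegImm.Kind) (hk : k = RegImm.Kind.h1 ∨ k = RegImm.Kind.quasi)
    (hi : RegImm.IsRegularImmersion k i) (hj : RegImm.IsRegularImmersion RegImm.Kind.h1 j) :
    RegImm.IsRegularImmersion k (j ≫ i) := by
  obtain ⟨hi1, hi2⟩ := hi
  obtain ⟨hj1, hj2⟩ := hj
  refine ⟨inferInstance, fun z => ?_⟩
  obtain ⟨U, hxU, hUc, fs, hfs, hkf⟩ := hi2 (j z)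
  obtain ⟨V, hyV, hVc, gs, hgs, hkg⟩ := hj2 z
  exact comp_at i j k hk z U hxU hUc fs hfs hkf V hyV hVc gs hgs hkg

end Comp

end Groth.Agent.Lib.Helper15.RegImmComp
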