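import Groth.Prelude.Def_AlgSpMor6
import Groth.Agent.S5003
import Groth.Agent.S8905
import Groth.Agent.Lib.Helper3.AlgSpNoethChart

set_option autoImplicit false
universe u
open CategoryTheory CategoryTheory.Limits AlgebraicGeometry
open AlgSp

namespace Groth.Agent.Lib.Helper15.RegImmNoeth

theorem sch_all_of_quasi {Z X : Scheme.{u}} [IsLocallyNoetherian X] (i : Z ⟶ X)
    (h : RegImm.IsRegularImmersion RegImm.Kind.quasi i) :
    RegImm.IsRegularImmersion RegImm.Kind.koszul i ∧ RegImm.IsRegularImmersion RegImm.Kind.h1 i := by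
  have hr := (Groth.Agent.S5003.result i).2 h
  have hk := (Groth.Agent.S8905.result i).1 hr
  exact ⟨hk, (Groth.Agent.S8905.result i).2.1 hk⟩

theorem sp_of_quasi {S : Scheme.{u}} {Z X : Sp S} (i : Z ⟶ X) (hX : IsLocNoethSp X)
    (h : IsRegImmMor RegImm.Kind.quasi i) :
    IsRegImmMor RegImm.Kind.koszul i ∧ IsRegImmMor RegImm.Kind.h1 i := by
  obtain ⟨hrep, hloc⟩ := h
  refine ⟨⟨hrep, fun V W b fst snd hbe sq => ?_⟩, ⟨hrep, fun V W b fst snd hbe sq => ?_⟩⟩
  · haveI : IsLocallyNoetherian V.left :=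
      Groth.Agent.Lib.Helper3.isLocallyNoetherian_of_isLocNoethSp hX b hbe
    exact (sch_all_of_quasi snd.left (hloc b fst snd hbe sq)).1
  · haveI : IsLocallyNoetherian V.left :=
      Groth.Agent.Lib.Helper3.isLocallyNoetherian_of_isLocNoethSp hX b hbe
    exact (sch_all_of_quasi snd.left (hloc b fst snd hbe sq)).2

theorem sp_mono {S : Scheme.{u}} {Z X : Sp S} (i : Z ⟶ X) :
    (IsRegImmMor RegImm.Kind.koszul i → IsRegImmMor RegImm.Kind.h1 i) ∧
      (IsRegImmMor RegImm.Kind.h1 i → IsRegImmMor RegImm.Kind.quasi i) := by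
  refine ⟨fun h => ⟨h.1, fun V W b fst snd hbe sq => ?_⟩, fun h => ⟨h.1, fun V W b fst snd hbe sq => ?_⟩⟩
  · exact (Groth.Agent.S8905.result snd.left).2.1 (h.2 b fst snd hbe sq)
  · exact (Groth.Agent.S8905.result snd.left).2.2 (h.2 b fst snd hbe sq)

theorem main {S : Scheme.{u}} {Z X : Sp S} (i : Z ⟶ X) (hX : IsLocNoethSp X) :
    (IsRegImmMor RegImm.Kind.koszul i ↔ IsRegImmMor RegImm.Kind.h1 i) ∧
      (IsRegImmMor RegImm.Kind.h1 i ↔ IsRegImmMor RegImm.Kind.quasi i) :=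
  ⟨⟨(sp_mono i).1, fun h => (sp_of_quasi i hX ((sp_mono i).2 h)).1⟩,
    ⟨(sp_mono i).2, fun h => (sp_of_quasi i hX h).2⟩⟩

end Groth.Agent.Lib.Helper15.RegImmNoeth
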