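import Mathlib
import Groth.Prelude.Def_RegImm
import Groth.Agent.Lib.Helper5.RegDescE
import Groth.Agent.Lib.Helper5.FlatKind
import Groth.Agent.Lib.Helper9.ImmDesc2

/-!
# Regular immersions of schemes: flat base change and etale descent, in `IsPullback` form
-/

set_option autoImplicit false
universe u
open CategoryTheory CategoryTheory.Limits AlgebraicGeometry TopologicalSpace

namespace Groth.Agent.Lib.Helper15.RegImmSch

open Groth.Agent.Lib.Helper5.RegDesc Groth.Agent.Lib.Helper5.RegImmA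
  Groth.Agent.Lib.Helper5.FlatKind

/-- Flat base change of regular immersions, for an arbitrary pullback square. -/
theorem flatBC (k : RegImm.Kind) {Z X X' Z' : Scheme.{u}} (i : Z ⟶ X)
    (hi : RegImm.IsRegularImmersion k i) (g : X' ⟶ X) [Flat g]
    (i' : Z' ⟶ X') (g' : Z' ⟶ Z) (hsq : IsPullback g' i' i g) :
    RegImm.IsRegularImmersion k i' := by
  obtain ⟨him, hreg⟩ := hi
  have : IsImmersion i := him
  have him' : IsImmersion i' := MorphismProperty.of_isPullback (P := @IsImmersion) hsq him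
  refine ⟨him', fun z' => ?_⟩
  obtain ⟨U, hzU, hUc, rs, hrs, hker⟩ := hreg (g' z')
  have hcond : i (g' z') = g (i' z') := by
    rw [← Scheme.Hom.comp_apply, ← Scheme.Hom.comp_apply, hsq.w]
  obtain ⟨_, ⟨U', hU', rfl⟩, hzU', hU'le⟩ :=
    X'.isBasis_affineOpens.exists_subset_of_mem_open
      (show i' z' ∈ (g ⁻¹ᵁ U.1 : X'.Opens) from by
        change g (i' z') ∈ U.1
        rw [← hcond]; exact hzU) (g ⁻¹ᵁ U.1).2
  have : IsClosedImmersion (i ∣_ U.1) := hUc
  obtain ⟨hci', hk⟩ := Groth.Agent.Lib.Helper5.RegBC.ker_app_of_isPullback i g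
    i' g' hsq U.2 hU' hU'le
  have hk' : RingHom.ker (i'.app U').hom =
      Ideal.ofList (rs.map (g.appLE U.1 U' hU'le).hom) := by
    rw [hk, hker, Ideal.map_ofList]
  refine ⟨⟨U', hU'⟩, hzU', hci', rs.map (g.appLE U.1 U' hU'le).hom, ?_, hk'⟩
  refine Groth.Agent.Lib.Helper5.FlatKind.kind_seq_map_of_flat k _
    (Flat.flat_appLE g U.2 hU' hU'le) rs hrs ?_
  rw [← hk']
  intro htop
  have h1 : (1 : Γ(X', U')) ∈ RingHom.ker (i'.app U').hom := by
    rw [htop]; trivial
  rw [RingHom.mem_ker, map_one] at h1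
  have : Nontrivial Γ(Z', i' ⁻¹ᵁ U') := by
    have : Nonempty ↥(i' ⁻¹ᵁ U') := ⟨⟨z', hzU'⟩⟩
    infer_instance
  exact one_ne_zero h1

/-- Descent of regular immersions of kind `k ≠ regular` along a flat surjective open morphism
(no quasi-compactness), assuming `i` is an immersion. -/
theorem descOpen (k : RegImm.Kind) (hk : k ≠ RegImm.Kind.regular)
    {X Y X' Y' : Scheme.{u}} (i : Y ⟶ X) [IsImmersion i]
    (g : X' ⟶ X) [Flat g] [Surjective g] (hopen : IsOpenMap g)
    (i' : Y' ⟶ X') (g' : Y' ⟶ Y) (hsq : IsPullback g' i' i g)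
    (hi' : RegImm.IsRegularImmersion k i') : RegImm.IsRegularImmersion k i := by
  have hdesc : KindDescends.{u} k := kindDescends k hk
  refine ⟨inferInstance, fun z => ?_⟩
  obtain ⟨_, ⟨U, hU, rfl⟩, hzU, hUle⟩ :=
    X.isBasis_affineOpens.exists_subset_of_mem_open
      (show i z ∈ (i.coborderRange : Set X) from subset_coborder ⟨z, rfl⟩) i.coborderRange.2
  have hc : IsClosedImmersion (i ∣_ U) :=
    Groth.Agent.Lib.Helper5.RegSchImm.isClosedImmersion_restrict_of_le_coborderRange i hUle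
  -- a finite family of affine opens of `X'` over `U` whose images cover `U`
  let ι := {W : X'.affineOpens // W.1 ≤ g ⁻¹ᵁ U}
  have hcov : (U : Set X) ⊆ ⋃ w : ι, g '' (w.1.1 : Set X') := by
    intro x hx
    obtain ⟨x', rfl⟩ := Surjective.surj (f := g) x
    obtain ⟨_, ⟨W, hW, rfl⟩, hxW, hWle⟩ :=
      X'.isBasis_affineOpens.exists_subset_of_mem_open
        (show x' ∈ (g ⁻¹ᵁ U : X'.Opens) from hx) (g ⁻¹ᵁ U).2
    exact Set.mem_iUnion.2 ⟨⟨⟨W, hW⟩, hWle⟩, ⟨x', hxW, rfl⟩⟩
  obtain ⟨t, ht⟩ := hU.isCompact.elim_finite_subcover (fun w : ι => g '' (w.1.1 : Set X'))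
    (fun w => hopen _ w.1.1.2) hcov
  obtain ⟨n, ⟨eqv⟩⟩ := Finite.exists_equiv_fin ↥t
  let W : Fin n → X'.affineOpens := fun j => (eqv.symm j).1.1
  have hWle : ∀ j, (W j).1 ≤ g ⁻¹ᵁ U := fun j => (eqv.symm j).1.2
  have hcover : ∀ x : X, x ∈ U → ∃ j, ∃ x' : X', x' ∈ (W j).1 ∧ g x' = x := by
    intro x hx
    have h1 := ht hx
    simp only [Set.mem_iUnion] at h1
    obtain ⟨w, hw, x', hx', rfl⟩ := h1
    refine ⟨eqv ⟨w, hw⟩, x', ?_, rfl⟩
    simp only [W, Equiv.symm_apply_apply]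
    exact hx'
  apply isRegularImmersionAt_of_kindIdeal i k hk hU _ z hzU
  apply kindIdeal_of_family k hk hdesc (fun j => Γ(X', (W j).1))
    (fun j => (g.appLE U (W j).1 (hWle j)).hom)
  · intro j
    exact Flat.flat_appLE g hU (W j).2 (hWle j)
  · intro P
    obtain ⟨j, x', hj, hx'⟩ := hcover (hU.fromSpec P) (fromSpec_mem hU P)
    refine ⟨j, (W j).2.primeIdealOf ⟨x', hj⟩, ?_⟩
    have h1 := IsAffineOpen.comap_primeIdealOf_appLE U hU (W j).1 (W j).2 (hWle j) hj
    have h2 : hU.primeIdealOf ⟨g x', hWle j hj⟩ = P := by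
      apply hU.fromSpec.isOpenEmbedding.injective
      rw [hU.fromSpec_primeIdealOf]
      exact hx'
    rw [← h2, ← h1]
    rfl
  · intro j
    obtain ⟨hci', hker'⟩ :=
      Groth.Agent.Lib.Helper5.RegBC.ker_app_of_isPullback i g i' g' hsq hU (W j).2 (hWle j)
    rw [← hker']
    exact kindIdeal_ker_app i' k hk (W j).2 (fun z' _ => hi'.2 z')

/-- Etale descent of regular immersions of kind `k ≠ regular` (the immersion property descends
too). -/
theorem descEtale (k : RegImm.Kind) (hk : k ≠ RegImm.Kind.regular)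
    {X Y X' Y' : Scheme.{u}} (i : Y ⟶ X)
    (g : X' ⟶ X) [Etale g] [Surjective g]
    (i' : Y' ⟶ X') (g' : Y' ⟶ Y) (hsq : IsPullback g' i' i g)
    (hi' : RegImm.IsRegularImmersion k i') : RegImm.IsRegularImmersion k i := by
  have him : IsImmersion i := by
    have := Groth.Agent.Lib.Helper9.ImmDesc.descendsAlong_isImmersion_fppf.{u}
    exact MorphismProperty.of_isPullback_of_descendsAlong (P := @IsImmersion)
      (Q := (@Surjective ⊓ @Flat ⊓ @LocallyOfFinitePresentation : MorphismProperty Scheme.{u}))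
      hsq.flip ⟨⟨inferInstance, inferInstance⟩, inferInstance⟩ hi'.1
  exact descOpen k hk i g g.isOpenMap i' g' hsq hi'

end Groth.Agent.Lib.Helper15.RegImmSch
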