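import Groth.Prelude.Def_AlgSpMor6
import Groth.Agent.Lib.Helper15.RegImmSch
import Groth.Agent.Lib.Helper3.AlgSpChartPts

set_option autoImplicit false
universe u
open CategoryTheory CategoryTheory.Limits AlgebraicGeometry
open AlgSp

namespace Groth.Agent.Lib.Helper15.RegImmSpBC

open Groth.Agent.Lib.Helper3

theorem main {S : Scheme.{u}} (k : RegImm.Kind) (hk : k ≠ RegImm.Kind.regular)
    {Z X X' P : Sp S} (hX : IsAlgSpace X) (i : Z ⟶ X) (g : X' ⟶ X)
    (hi : IsRegImmMor k i) (hg : LocP @Flat g)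
    (fst : P ⟶ Z) (i' : P ⟶ X') (sq : IsPullback fst i' i g) :
    IsRegImmMor k i' := by
  refine ⟨MorphismProperty.of_isPullback (P := Representable) sq hi.1,
    fun V' W' b' fst' snd' hb' sq' => ?_⟩
  obtain ⟨U, a, hae, has⟩ := hX.atlas
  obtain ⟨V'', pU, pV, sqV⟩ := exists_pullback_charts a hae.1 (b' ≫ g)
  have hpVe : Etale pV.left := hae.2 (b' ≫ g) ((yon S).map pU) pV sqV
  have hpVs : Surjective pV.left := has.2 (b' ≫ g) ((yon S).map pU) pV sqV
  have hpVb : RepWith @Etale ((yon S).map pV ≫ b') :=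
    (RepWith @Etale).comp_mem _ _ ((repWith_yon_map_iff _ _).2 hpVe) hb'
  have hpUf : Flat pU.left :=
    hg ((yon S).map pV ≫ b') a pU hpVb hae (by rw [Category.assoc, sqV.w])
  obtain ⟨ZU, sndU, fstU, sqU⟩ := hi.1 a
  have hreg : RegImm.IsRegularImmersion k sndU.left := hi.2 a fstU sndU hae sqU
  -- the scheme `T = W' ×_{V'} V''`
  have sqT : IsPullback (pullback.fst snd' pV) (pullback.snd snd' pV) snd' pV :=
    IsPullback.of_hasPullback snd' pV
  have big : IsPullback ((yon S).map (pullback.fst snd' pV) ≫ (fst' ≫ fst))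
      ((yon S).map (pullback.snd snd' pV)) i ((yon S).map pV ≫ (b' ≫ g)) :=
    (sqT.map (yon S)).paste_horiz (sq'.paste_horiz sq)
  rw [← sqV.w] at big
  let l : (yon S).obj (pullback snd' pV) ⟶ (yon S).obj ZU :=
    sqU.lift ((yon S).map (pullback.fst snd' pV) ≫ (fst' ≫ fst))
      ((yon S).map (pullback.snd snd' pV) ≫ (yon S).map pU) big.w
  have hl1 : l ≫ fstU = (yon S).map (pullback.fst snd' pV) ≫ (fst' ≫ fst) := sqU.lift_fst _ _ _
  have hl2 : l ≫ (yon S).map sndU =
      (yon S).map (pullback.snd snd' pV) ≫ (yon S).map pU := sqU.lift_snd _ _ _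
  rw [← hl1] at big
  have sqL : IsPullback l ((yon S).map (pullback.snd snd' pV)) ((yon S).map sndU)
      ((yon S).map pU) := IsPullback.of_right big hl2 sqU
  obtain ⟨m, hm⟩ := (yon S).map_surjective l
  rw [← hm] at sqL hl2
  have sqM : IsPullback m (pullback.snd snd' pV) sndU pU := by
    refine IsPullback.of_map (yon S) ?_ sqL
    apply (yon S).map_injective
    simpa using hl2
  have sqMs := sqM.map (Over.forget S)
  have sqTs := sqT.map (Over.forget S)
  have hT : RegImm.IsRegularImmersion k (pullback.snd snd' pV).left := by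
    haveI := hpUf
    exact RegImmSch.flatBC k sndU.left hreg pU.left _ _ sqMs
  haveI := hpVe
  haveI := hpVs
  exact RegImmSch.descEtale k hk snd'.left pV.left _ _ sqTs hT

end Groth.Agent.Lib.Helper15.RegImmSpBC
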