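import Groth.Prelude.Def_AlgSpMor6
import Groth.Agent.Lib.Helper15.RegImmComp
import Groth.Agent.S8654

set_option autoImplicit false
universe u
open CategoryTheory CategoryTheory.Limits AlgebraicGeometry
open AlgSp

namespace Groth.Agent.Lib.Helper15.RegImmSpComp

theorem comp_generic {S : Scheme.{u}} (ki kj kr : RegImm.Kind)
    (hcomp : ∀ {Z Y X : Scheme.{u}} (i : Z ⟶ Y) (j : Y ⟶ X), RegImm.IsRegularImmersion ki i →
      RegImm.IsRegularImmersion kj j → RegImm.IsRegularImmersion kr (i ≫ j))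
    {Z Y X : Sp S} (i : Z ⟶ Y) (j : Y ⟶ X)
    (hi : IsRegImmMor ki i) (hj : IsRegImmMor kj j) : IsRegImmMor kr (i ≫ j) := by
  refine ⟨MorphismProperty.comp_mem _ i j hi.1 hj.1, fun V W b fst snd hb sq => ?_⟩
  obtain ⟨VY, sJ, bY, sqJ⟩ := hj.1 b
  have hsJ : RegImm.IsRegularImmersion kj sJ.left := hj.2 b bY sJ hb sqJ
  have hbY : RepWith @Etale bY := MorphismProperty.of_isPullback sqJ.flip hb
  let l : (yon S).obj W ⟶ (yon S).obj VY :=
    sqJ.lift (fst ≫ i) ((yon S).map snd) (by rw [Category.assoc]; exact sq.w)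
  have hl1 : l ≫ bY = fst ≫ i := sqJ.lift_fst _ _ _
  have hl2 : l ≫ (yon S).map sJ = (yon S).map snd := sqJ.lift_snd _ _ _
  have sqI : IsPullback fst l i bY := by
    refine IsPullback.of_bot ?_ hl1.symm sqJ
    rw [hl2]
    exact sq
  obtain ⟨m, hm⟩ := (yon S).map_surjective l
  rw [← hm] at sqI hl2
  have hmreg : RegImm.IsRegularImmersion ki m.left := hi.2 bY fst m hbY sqI
  have hsnd : snd = m ≫ sJ := by
    apply (yon S).map_injective
    rw [Functor.map_comp, hl2]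
  rw [hsnd]
  exact hcomp m.left sJ.left hmreg hsJ

theorem main {S : Scheme.{u}} {Z Y X : Sp S} (i : Z ⟶ Y) (j : Y ⟶ X) :
    (IsRegImmMor RegImm.Kind.koszul i → IsRegImmMor RegImm.Kind.koszul j →
        IsRegImmMor RegImm.Kind.koszul (i ≫ j)) ∧
      (IsRegImmMor RegImm.Kind.h1 i → IsRegImmMor RegImm.Kind.h1 j →
        IsRegImmMor RegImm.Kind.h1 (i ≫ j)) ∧
      (IsRegImmMor RegImm.Kind.h1 i → IsRegImmMor RegImm.Kind.quasi j →
        IsRegImmMor RegImm.Kind.quasi (i ≫ j)) := by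
  refine ⟨fun hi hj => ?_, fun hi hj => ?_, fun hi hj => ?_⟩
  · exact comp_generic _ _ _ (fun i j hi hj => Groth.Agent.S8654.result j i hj hi) i j hi hj
  · exact comp_generic _ _ _
      (fun i j hi hj => RegImmComp.comp j i RegImm.Kind.h1 (Or.inl rfl) hj hi) i j hi hj
  · exact comp_generic _ _ _
      (fun i j hi hj => RegImmComp.comp j i RegImm.Kind.quasi (Or.inr rfl) hj hi) i j hi hj

end Groth.Agent.Lib.Helper15.RegImmSpComp
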