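import Groth.Agent.S10357
import Groth.Agent.S10359
import Groth.Agent.S10373
import Groth.Agent.S9928
import Groth.Agent.Lib.Helper3.AlgSpDiag

set_option autoImplicit false
set_option backward.isDefEq.respectTransparency.types false
universe u
open CategoryTheory CategoryTheory.Limits AlgebraicGeometry Topology TopologicalSpace
open AlgSp

namespace Groth.Agent.Lib.Helper15.RelClosedPt

open Groth.Agent.Lib.Helper3 Groth.Agent.Lib.Helper15
  Groth.Agent.Lib.Helper15.OnePointSp Groth.Agent.Lib.Helper15.LiftDiscrete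
  Groth.Agent.Lib.Helper15.EtaleField

variable {S : Scheme.{u}}

/-- **Relative closedness of algebraic points.**  Let `X` be a decent algebraic space with a
morphism `π` to a scheme `T`, and `p : Spec k ⟶ X` a field point whose composite to `T` is an
integral morphism.  Then the point of `p` is closed in `|X|`. -/
theorem isClosed_point_of_integral_over (X : AlgSp.Space S) (hX : AlgSp.IsDecent X.obj)
    {T : Over S} (π : X.obj ⟶ (yon S).obj T) {k : Type u} [Field k]
    (str : Spec (CommRingCat.of k) ⟶ S) (q : Over.mk str ⟶ T) [IsIntegralHom q.left]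
    (p : (yon S).obj (Over.mk str) ⟶ X.obj) (hp : p ≫ π = (yon S).map q)
    (t : ↥(Spec (CommRingCat.of k))) :
    IsClosed ({AlgSp.Points.ofPt p t} : Set (AlgSp.Points X.obj)) := by
  set x := Points.ofPt p t with hx
  obtain ⟨U, a, hae, has⟩ := X.property.atlas
  obtain ⟨p', hp', -, hq'⟩ := hX x
  obtain ⟨g, hg⟩ := (yon S).map_surjective (a ≫ π)
  -- every point of the fibre is closed
  have hA1 : ∀ u : ↥U.left, Points.ofPt a u = x → IsClosed ({u} : Set ↥U.left) := by
    intro u hu
    have hrep : Representable p := X.property.representable_from_yon p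
    obtain ⟨W, pK, pW, sq⟩ := exists_pullback_charts p hrep a
    haveI : Etale pK.left := hae.2 p ((yon S).map pW) pK sq.flip
    obtain ⟨w, hw1, hw2⟩ := exists_of_ofPt_eq_of_isPullback sq t u hu.symm
    obtain ⟨L, _, j, hj, ⟨s₁, hs₁⟩⟩ := exists_field_open_nhd
      (show W.left ⟶ Spec (CommRingCat.of k) from pK.left) w
    haveI : Etale (j ≫ (show W.left ⟶ Spec (CommRingCat.of k) from pK.left)) := inferInstance
    haveI hfin : IsFinite (j ≫ (show W.left ⟶ Spec (CommRingCat.of k) from pK.left)) :=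
      isFinite_of_etale_fields _
    have hcomm : pK ≫ q = pW ≫ g := by
      apply (yon S).map_injective
      rw [Functor.map_comp, Functor.map_comp, ← hp, hg, ← Category.assoc, ← Category.assoc, sq.w]
    have hcomm' : pK.left ≫ q.left = pW.left ≫ g.left := by
      rw [← Over.comp_left, ← Over.comp_left, hcomm]
    let m : Spec (CommRingCat.of L) ⟶ U.left := j ≫ pW.left
    have hmU : m ≫ g.left =
        (j ≫ (show W.left ⟶ Spec (CommRingCat.of k) from pK.left)) ≫ q.left := by
      change (j ≫ pW.left) ≫ g.left = _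
      rw [Category.assoc, ← hcomm', Category.assoc]
    haveI : IsIntegralHom (m ≫ g.left) := by rw [hmU]; infer_instance
    have hcl := Groth.Agent.S10357.W1.isClosed_of_isIntegralHom_comp g.left m
    have hmpt : m (IsLocalRing.closedPoint L) = u := by
      change pW.left (j (IsLocalRing.closedPoint L)) = u
      have : IsLocalRing.closedPoint L = s₁ := Subsingleton.elim _ _
      rw [this, hs₁, hw2]
    rwa [hmpt] at hcl
  -- the fibre is closed
  have hF : IsClosed (Points.ofPt a ⁻¹' ({x} : Set (Points X.obj))) := by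
    rw [← closure_subset_iff_isClosed]
    intro u₁ hu₁
    obtain ⟨U₀, hU₀, hu₁U₀⟩ : ∃ U₀ : U.left.Opens, IsAffineOpen U₀ ∧ u₁ ∈ U₀ := by
      obtain ⟨_, ⟨W, hW, rfl⟩, huW, -⟩ := (U.left.isBasis_affineOpens).exists_subset_of_mem_open
        (Set.mem_univ u₁) isOpen_univ
      exact ⟨W, hW, huW⟩
    let W₀ : Over S := Over.mk (U₀.ι ≫ U.hom)
    let a' : (yon S).obj W₀ ⟶ X.obj := chartRestrict a U₀
    have ha' : RepWith @Etale a' := chartRestrict_etale a hae U₀
    haveI haff : IsAffine W₀.left := hU₀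
    haveI : CompactSpace ↥W₀.left := inferInstance
    have hfin : (Points.ofPt a' ⁻¹' {x}).Finite := by
      rw [← hp']; exact finite_fibre_of_qc_point p' hq' a' ha'
    have hfin' : ((U₀ : Set ↥U.left) ∩ Points.ofPt a ⁻¹' {x}).Finite := by
      refine (hfin.image U₀.ι).subset ?_
      rintro u ⟨huU₀, hu⟩
      refine ⟨(⟨u, huU₀⟩ : ↥U₀), ?_, rfl⟩
      change Points.ofPt a' _ = x
      rw [ofPt_chartRestrict]
      exact hu
    have hcl' : IsClosed ((U₀ : Set ↥U.left) ∩ Points.ofPt a ⁻¹' {x}) := by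
      have : ((U₀ : Set ↥U.left) ∩ Points.ofPt a ⁻¹' {x}) =
          ⋃ u ∈ ((U₀ : Set ↥U.left) ∩ Points.ofPt a ⁻¹' {x}), ({u} : Set ↥U.left) := by
        ext u; simp
      rw [this]
      exact hfin'.isClosed_biUnion fun u hu => hA1 u hu.2
    have h1 : u₁ ∈ closure ((U₀ : Set ↥U.left) ∩ Points.ofPt a ⁻¹' {x}) :=
      U₀.isOpen.inter_closure ⟨hu₁U₀, hu₁⟩
    rw [hcl'.closure_eq] at h1
    exact h1.2
  -- conclude
  rw [← isOpen_compl_iff]
  have : ({x} : Set (Points X.obj))ᶜ = Points.ofPt a '' (Points.ofPt a ⁻¹' {x})ᶜ := by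
    ext y
    simp only [Set.mem_compl_iff, Set.mem_singleton_iff, Set.mem_image, Set.mem_preimage]
    constructor
    · intro hy
      obtain ⟨u, rfl⟩ := exists_ofPt_eq a has y
      exact ⟨u, hy, rfl⟩
    · rintro ⟨u, hu, rfl⟩
      exact hu
  rw [this]
  exact isOpenMap_ofPt a hae _ hF.isOpen_compl

/-- **A section of a decent space over the spectrum of a field is a closed immersion.** -/
theorem repWith_closedImmersion_of_section (X : AlgSp.Space S) (hX : AlgSp.IsDecent X.obj)
    {k : Type u} [Field k] (σ : Spec (CommRingCat.of k) ⟶ S)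
    (π : X.obj ⟶ (yon S).obj (Over.mk σ)) (e : (yon S).obj (Over.mk σ) ⟶ X.obj)
    (he : e ≫ π = 𝟙 _) : RepWith @IsClosedImmersion e := by
  let t₀ : ↥(Spec (CommRingCat.of k)) := IsLocalRing.closedPoint k
  set x := Points.ofPt e t₀ with hx
  have hcl : IsClosed ({x} : Set (Points X.obj)) := by
    haveI : IsIntegralHom (𝟙 (Over.mk σ) : Over.mk σ ⟶ Over.mk σ).left := by
      change IsIntegralHom (𝟙 (Spec (CommRingCat.of k))); infer_instance
    exact isClosed_point_of_integral_over X hX π σ (𝟙 _) e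
      (by rw [he, CategoryTheory.Functor.map_id]) t₀
  obtain ⟨p', hp', hci⟩ := Groth.Agent.S10359.result X hX x hcl
  haveI hm : Mono p'.toHom := Groth.Agent.S9928.mono_of_repWith @IsClosedImmersion
    (fun k hk => by haveI : IsClosedImmersion k := hk; infer_instance) p'.toHom hci
  have hq : RepWith @QuasiCompact p'.toHom := by
    refine repWith_mono ?_ hci
    intro A B k hk
    haveI : IsClosedImmersion k := hk
    infer_instance
  let Y : AlgSp.Space S := ⟨(yon S).obj (Over.mk σ), IsAlgSpace.yon_obj _⟩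
  have hY : AlgSp.EtaleLocally (fun U => IsReduced U) Y.obj :=
    ⟨Over.mk σ, 𝟙 _, (RepWith @Etale).id_mem _, (RepWith @Surjective).id_mem _,
      (inferInstance : IsReduced (Spec (CommRingCat.of k)))⟩
  let f : Y ⟶ X := ObjectProperty.homMk e
  have hf : ∀ y : AlgSp.Points Y.obj, AlgSp.Points.map f.hom y = x := by
    intro y
    rw [← Points.ofScheme_toScheme (Over.mk σ) y, ← Points.ofPt_eq_map_ofScheme]
    have : Points.toScheme (Over.mk σ) y = t₀ :=
      @Subsingleton.elim ↥(Spec (CommRingCat.of k)) inferInstance _ _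
    rw [this]
    rfl
  obtain ⟨g, hg⟩ := Groth.Agent.S10373.result f x p' hp' hm hq hY hf
  have hg' : g ≫ p'.toHom = e := hg
  obtain ⟨g₀, rfl⟩ := (yon S).map_surjective g
  obtain ⟨r, hr⟩ := (yon S).map_surjective (p'.toHom ≫ π)
  have hgr : g₀ ≫ r = 𝟙 _ := by
    apply (yon S).map_injective
    rw [Functor.map_comp, hr, ← Category.assoc, hg', he, CategoryTheory.Functor.map_id]
  have hgr' : g₀.left ≫ r.left = 𝟙 _ := by
    rw [← Over.comp_left, hgr]; rfl
  obtain ⟨γ, hγ⟩ := Spec.map_surjective
    (show Spec (CommRingCat.of k) ⟶ Spec (CommRingCat.of p'.K) from g₀.left)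
  obtain ⟨ψ, hψ⟩ := Spec.map_surjective
    (show Spec (CommRingCat.of p'.K) ⟶ Spec (CommRingCat.of k) from r.left)
  have hψγ : ψ ≫ γ = 𝟙 _ := by
    apply Spec.map_injective
    rw [Spec.map_comp, hγ, hψ, Spec.map_id]
    exact hgr'
  have hbij : Function.Bijective γ.hom := by
    refine ⟨γ.hom.injective, fun y => ⟨ψ.hom y, ?_⟩⟩
    have := congrArg (fun h => h.hom y) hψγ
    simpa using this
  haveI : IsIso γ := by
    rw [ConcreteCategory.isIso_iff_bijective]
    exact hbij
  haveI : IsIso g₀.left := by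
    change IsIso (show Spec (CommRingCat.of k) ⟶ Spec (CommRingCat.of p'.K) from g₀.left)
    rw [← hγ]; infer_instance
  haveI : IsIso ((Over.forget S).map g₀) := ‹IsIso g₀.left›
  haveI : IsIso g₀ := isIso_of_reflects_iso g₀ (Over.forget S)
  rw [← hg']
  exact ((RepWith (S := S) @IsClosedImmersion).cancel_left_of_respectsIso ((yon S).map g₀) _).2 hci

end Groth.Agent.Lib.Helper15.RelClosedPt
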