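import Mathlib

/-!
# Relative finite presentation of modules (Stacks 0659 ff.)

Helper library of helper15: finitely presented modules along finite type / surjective
ring maps, independence of the presentation.
-/

set_option autoImplicit false

namespace Groth.Agent.Lib.Helper15.RelFP

open TensorProduct

section L1

variable {P Q M : Type*} [CommRing P] [CommRing Q] [Algebra P Q]
  [AddCommGroup M] [Module P M] [Module Q M] [IsScalarTower P Q M]

/-- Stacks 10.6.4: if `Q` is a finite type `P`-algebra and the `Q`-module `M` is finitely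
presented over `P`, then it is finitely presented over `Q`. -/
theorem fp_of_finiteType [Algebra.FiniteType P Q] [Module.FinitePresentation P M] :
    Module.FinitePresentation Q M := by
  classical
  obtain ⟨s, hs⟩ := (Algebra.FiniteType.out : (⊤ : Subalgebra P Q).FG)
  obtain ⟨S, hS⟩ := (Module.finite_def.mp inferInstance : (⊤ : Submodule P M).FG)
  let μ : Q ⊗[P] M →ₗ[Q] M := (LinearMap.id : M →ₗ[P] M).liftBaseChange Q
  have hμ : ∀ (q : Q) (m : M), μ (q ⊗ₜ m) = q • m := fun q m => rfl
  have hsurj : Function.Surjective μ := fun m => ⟨1 ⊗ₜ m, by rw [hμ, one_smul]⟩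
  let G : Set (Q ⊗[P] M) :=
    (fun xm : Q × M => xm.1 ⊗ₜ[P] xm.2 - (1 : Q) ⊗ₜ[P] (xm.1 • xm.2)) ''
      ((s : Set Q) ×ˢ (S : Set M))
  have hGfin : G.Finite := (s.finite_toSet.prod S.finite_toSet).image _
  refine Module.finitePresentation_of_surjective μ hsurj ?_
  suffices h : LinearMap.ker μ = Submodule.span Q G by rw [h]; exact Submodule.fg_span hGfin
  set K' : Submodule Q (Q ⊗[P] M) := Submodule.span Q G with hK'
  apply le_antisymm
  · have h1 : ∀ x ∈ s, ∀ m : M, x ⊗ₜ[P] m - (1 : Q) ⊗ₜ[P] (x • m) ∈ K' := by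
      intro x hx m
      have hm : m ∈ Submodule.span P (S : Set M) := by rw [hS]; trivial
      induction hm using Submodule.span_induction with
      | mem m hm => exact Submodule.subset_span ⟨(x, m), ⟨hx, hm⟩, rfl⟩
      | zero => simp
      | add a b _ _ ha hb =>
        have : x ⊗ₜ[P] (a + b) - (1 : Q) ⊗ₜ[P] (x • (a + b)) =
            (x ⊗ₜ[P] a - (1 : Q) ⊗ₜ[P] (x • a)) + (x ⊗ₜ[P] b - (1 : Q) ⊗ₜ[P] (x • b)) := by
          rw [TensorProduct.tmul_add, smul_add, TensorProduct.tmul_add]; abel
        rw [this]; exact K'.add_mem ha hb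
      | smul p a _ ha =>
        have : x ⊗ₜ[P] (p • a) - (1 : Q) ⊗ₜ[P] (x • (p • a)) =
            p • (x ⊗ₜ[P] a - (1 : Q) ⊗ₜ[P] (x • a)) := by
          rw [smul_sub, smul_comm x p a, TensorProduct.tmul_smul, TensorProduct.tmul_smul]
        rw [this]; exact Submodule.smul_of_tower_mem K' p ha
    have h2 : ∀ (q : Q) (m : M), q ⊗ₜ[P] m - (1 : Q) ⊗ₜ[P] (q • m) ∈ K' := by
      intro q
      have hq : q ∈ Algebra.adjoin P (s : Set Q) := by rw [hs]; trivial
      induction hq using Algebra.adjoin_induction with
      | mem x hx => exact h1 x hx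
      | algebraMap p =>
        intro m
        have : (algebraMap P Q p) ⊗ₜ[P] m - (1 : Q) ⊗ₜ[P] ((algebraMap P Q p) • m) = 0 := by
          rw [algebraMap_smul, Algebra.algebraMap_eq_smul_one, TensorProduct.smul_tmul, sub_self]
        rw [this]; exact K'.zero_mem
      | add a b _ _ ha hb =>
        intro m
        have : (a + b) ⊗ₜ[P] m - (1 : Q) ⊗ₜ[P] ((a + b) • m) =
            (a ⊗ₜ[P] m - (1 : Q) ⊗ₜ[P] (a • m)) + (b ⊗ₜ[P] m - (1 : Q) ⊗ₜ[P] (b • m)) := by
          rw [TensorProduct.add_tmul, add_smul, TensorProduct.tmul_add]; abel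
        rw [this]; exact K'.add_mem (ha m) (hb m)
      | mul a b _ _ ha hb =>
        intro m
        have : (a * b) ⊗ₜ[P] m - (1 : Q) ⊗ₜ[P] ((a * b) • m) =
            a • (b ⊗ₜ[P] m - (1 : Q) ⊗ₜ[P] (b • m)) +
              (a ⊗ₜ[P] (b • m) - (1 : Q) ⊗ₜ[P] (a • (b • m))) := by
          rw [smul_sub, TensorProduct.smul_tmul', TensorProduct.smul_tmul', smul_eq_mul,
            smul_eq_mul, mul_one, mul_smul]; abel
        rw [this]; exact K'.add_mem (K'.smul_mem a (hb m)) (ha (b • m))
    have h3 : ∀ z : Q ⊗[P] M, z - (1 : Q) ⊗ₜ[P] (μ z) ∈ K' := by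
      intro z
      induction z using TensorProduct.induction_on with
      | zero => simp
      | tmul q m => rw [hμ]; exact h2 q m
      | add a b ha hb =>
        have : a + b - (1 : Q) ⊗ₜ[P] (μ (a + b)) =
            (a - (1 : Q) ⊗ₜ[P] (μ a)) + (b - (1 : Q) ⊗ₜ[P] (μ b)) := by
          rw [map_add, TensorProduct.tmul_add]; abel
        rw [this]; exact K'.add_mem ha hb
    intro z hz
    have := h3 z
    rwa [LinearMap.mem_ker.mp hz, TensorProduct.tmul_zero, sub_zero] at this
  · rw [hK', Submodule.span_le]
    rintro _ ⟨⟨x, m⟩, _, rfl⟩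
    simp only [SetLike.mem_coe, LinearMap.mem_ker, map_sub, hμ, one_smul, sub_self]

end L1

section L2

variable {P Q M : Type*} [CommRing P] [CommRing Q] [Algebra P Q]
  [AddCommGroup M] [Module P M] [Module Q M] [IsScalarTower P Q M]

/-- If `P → Q` is surjective with finitely generated kernel, a finitely presented `Q`-module is
finitely presented over `P`. -/
theorem fp_of_surjective_of_fg_ker (hsurj : Function.Surjective (algebraMap P Q))
    (hker : (RingHom.ker (algebraMap P Q)).FG) [Module.FinitePresentation Q M] :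
    Module.FinitePresentation P M := by
  haveI : Module.FinitePresentation P Q :=
    Module.finitePresentation_of_surjective (Algebra.linearMap P Q) hsurj hker
  exact Module.FinitePresentation.trans P M Q

end L2

/-- `M` is finitely presented over `P` through the ring hom `φ : P →+* B`. -/
def FPvia {P B : Type*} [CommRing P] [CommRing B] (φ : P →+* B) (M : Type*)
    [AddCommGroup M] [Module B M] : Prop :=
  @Module.FinitePresentation P M _ _ (Module.compHom M φ)

section E1

variable {P' P B M : Type*} [CommRing P'] [CommRing P] [CommRing B] [AddCommGroup M] [Module B M]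

theorem fpvia_comp_iff (π : P' →+* P) (hπ : Function.Surjective π) (hker : (RingHom.ker π).FG)
    (φ : P →+* B) : FPvia (φ.comp π) M ↔ FPvia φ M := by
  letI : Module P M := Module.compHom M φ
  letI : Algebra P' P := π.toAlgebra
  letI : Module P' M := Module.compHom M (φ.comp π)
  haveI : IsScalarTower P' P M := ⟨fun p' p m => by
    show φ (π p' * p) • m = φ (π p') • (φ p • m)
    rw [map_mul, mul_smul]⟩
  haveI : Algebra.FiniteType P' P := Algebra.FiniteType.of_surjective (Algebra.ofId P' P) hπ
  constructor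
  · intro h
    haveI : Module.FinitePresentation P' M := h
    exact fp_of_finiteType (P := P') (Q := P)
  · intro h
    haveI : Module.FinitePresentation P M := h
    exact fp_of_surjective_of_fg_ker (P := P') (Q := P) hπ hker

/-- A finite type algebra `Q` over `P` (through `π`): finitely presented over `P` implies over `Q`. -/
theorem fpvia_of_comp_finiteType (π : P' →+* P) (hπ : π.FiniteType)
    (φ : P →+* B) (h : FPvia (φ.comp π) M) : FPvia φ M := by
  letI : Module P M := Module.compHom M φ
  letI : Algebra P' P := π.toAlgebra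
  letI : Module P' M := Module.compHom M (φ.comp π)
  haveI : IsScalarTower P' P M := ⟨fun p' p m => by
    show φ (π p' * p) • m = φ (π p') • (φ p • m)
    rw [map_mul, mul_smul]⟩
  haveI : Algebra.FiniteType P' P := hπ
  haveI : Module.FinitePresentation P' M := h
  exact fp_of_finiteType (P := P') (Q := P)

/-- If `P` is finitely presented as a `P'`-module (through `π`): finitely presented over `P`
implies over `P'`. -/
theorem fpvia_comp_of_fp (π : P' →+* P)
    (hπ : @Module.FinitePresentation P' P _ _ π.toAlgebra.toModule)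
    (φ : P →+* B) (h : FPvia φ M) : FPvia (φ.comp π) M := by
  letI : Module P M := Module.compHom M φ
  letI : Algebra P' P := π.toAlgebra
  letI : Module P' M := Module.compHom M (φ.comp π)
  haveI : IsScalarTower P' P M := ⟨fun p' p m => by
    show φ (π p' * p) • m = φ (π p') • (φ p • m)
    rw [map_mul, mul_smul]⟩
  haveI : Module.FinitePresentation P' P := hπ
  haveI : Module.FinitePresentation P M := h
  exact Module.FinitePresentation.trans P' M P

end E1

section E2

variable {R B M : Type*} {σ τ : Type*} [Finite σ] [Finite τ] [CommRing R] [CommRing B]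
  [Algebra R B] [AddCommGroup M] [Module B M]

theorem fpvia_sum_iff_left (α : MvPolynomial σ R →ₐ[R] B) (hα : Function.Surjective α)
    (b : τ → B) :
    FPvia (MvPolynomial.aeval (Sum.elim (fun i => α (MvPolynomial.X i)) b) :
      MvPolynomial (σ ⊕ τ) R →ₐ[R] B).toRingHom M ↔ FPvia α.toRingHom M := by
  classical
  choose c hc using fun t => hα (b t)
  let π : MvPolynomial (σ ⊕ τ) R →ₐ[R] MvPolynomial σ R :=
    MvPolynomial.aeval (Sum.elim MvPolynomial.X c)
  have hπ : Function.Surjective π := fun p =>
    ⟨MvPolynomial.rename Sum.inl p, by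
      simp only [π, MvPolynomial.aeval_rename]
      exact MvPolynomial.aeval_X_left_apply p⟩
  have hcomp : α.comp π = (MvPolynomial.aeval (Sum.elim (fun i => α (MvPolynomial.X i)) b) :
      MvPolynomial (σ ⊕ τ) R →ₐ[R] B) := by
    apply MvPolynomial.algHom_ext
    rintro (i | t)
    · simp [π]
    · simp [π, hc]
  have hker := Algebra.FinitePresentation.ker_fG_of_surjective π hπ
  rw [← hcomp]
  exact fpvia_comp_iff π.toRingHom hπ hker α.toRingHom

theorem fpvia_sum_iff_right (a : σ → B) (β : MvPolynomial τ R →ₐ[R] B)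
    (hβ : Function.Surjective β) :
    FPvia (MvPolynomial.aeval (Sum.elim a (fun i => β (MvPolynomial.X i))) :
      MvPolynomial (σ ⊕ τ) R →ₐ[R] B).toRingHom M ↔ FPvia β.toRingHom M := by
  classical
  choose c hc using fun t => hβ (a t)
  let π : MvPolynomial (σ ⊕ τ) R →ₐ[R] MvPolynomial τ R :=
    MvPolynomial.aeval (Sum.elim c MvPolynomial.X)
  have hπ : Function.Surjective π := fun p =>
    ⟨MvPolynomial.rename Sum.inr p, by
      simp only [π, MvPolynomial.aeval_rename]
      exact MvPolynomial.aeval_X_left_apply p⟩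
  have hcomp : β.comp π = (MvPolynomial.aeval (Sum.elim a (fun i => β (MvPolynomial.X i))) :
      MvPolynomial (σ ⊕ τ) R →ₐ[R] B) := by
    apply MvPolynomial.algHom_ext
    rintro (i | t)
    · simp [π, hc]
    · simp [π]
  have hker := Algebra.FinitePresentation.ker_fG_of_surjective π hπ
  rw [← hcomp]
  exact fpvia_comp_iff π.toRingHom hπ hker β.toRingHom

/-- Independence of the polynomial presentation. -/
theorem fpvia_mvPolynomial_indep (α : MvPolynomial σ R →ₐ[R] B) (hα : Function.Surjective α)
    (β : MvPolynomial τ R →ₐ[R] B) (hβ : Function.Surjective β) :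
    FPvia α.toRingHom M ↔ FPvia β.toRingHom M :=
  (fpvia_sum_iff_left α hα (fun t => β (MvPolynomial.X t))).symm.trans
    (fpvia_sum_iff_right (fun i => α (MvPolynomial.X i)) β hβ)

end E2

section E3

variable {R B M P₁ P₂ : Type*} [CommRing R] [CommRing B] [Algebra R B]
  [CommRing P₁] [CommRing P₂] [Algebra R P₁] [Algebra R P₂]
  [Algebra.FinitePresentation R P₁] [Algebra.FinitePresentation R P₂]
  [AddCommGroup M] [Module B M]

/-- Independence of the presentation, for arbitrary finitely presented `R`-algebras surjecting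
onto `B`. -/
theorem fpvia_indep (ψ₁ : P₁ →ₐ[R] B) (h₁ : Function.Surjective ψ₁)
    (ψ₂ : P₂ →ₐ[R] B) (h₂ : Function.Surjective ψ₂) :
    FPvia ψ₁.toRingHom M ↔ FPvia ψ₂.toRingHom M := by
  obtain ⟨n₁, f₁, hf₁, hk₁⟩ := Algebra.FinitePresentation.out (R := R) (A := P₁)
  obtain ⟨n₂, f₂, hf₂, hk₂⟩ := Algebra.FinitePresentation.out (R := R) (A := P₂)
  rw [← fpvia_comp_iff f₁.toRingHom hf₁ hk₁ ψ₁.toRingHom,
    ← fpvia_comp_iff f₂.toRingHom hf₂ hk₂ ψ₂.toRingHom]
  exact fpvia_mvPolynomial_indep (ψ₁.comp f₁) (h₁.comp hf₁) (ψ₂.comp f₂) (h₂.comp hf₂)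

/-- If `M` is finitely presented through a surjection, it is finitely presented over the
target. -/
theorem fp_of_fpvia_surjective {P : Type*} [CommRing P] (φ : P →+* B)
    (hφ : Function.Surjective φ) (h : FPvia φ M) : Module.FinitePresentation B M := by
  letI : Algebra P B := φ.toAlgebra
  letI : Module P M := Module.compHom M φ
  haveI : IsScalarTower P B M := ⟨fun p b m => by
    show (φ p * b) • m = φ p • (b • m)
    rw [mul_smul]⟩
  haveI : Algebra.FiniteType P B := Algebra.FiniteType.of_surjective (Algebra.ofId P B) hφ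
  haveI : Module.FinitePresentation P M := h
  exact fp_of_finiteType (P := P) (Q := B)

end E3

end Groth.Agent.Lib.Helper15.RelFP
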