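import Groth.Agent.Lib.Helper15.RelFP

/-!
# Relative finite presentation, part 2: finite extensions
-/

set_option autoImplicit false

universe u

namespace Groth.Agent.Lib.Helper15.RelFP

section E1'

variable {P' P B M : Type*} [CommRing P'] [CommRing P] [CommRing B] [AddCommGroup M] [Module B M]
  [Algebra P' P]

theorem fpvia_of_comp_finiteType' [Algebra.FiniteType P' P] (φ : P →+* B)
    (h : FPvia (φ.comp (algebraMap P' P)) M) : FPvia φ M := by
  letI : Module P M := Module.compHom M φ
  letI : Module P' M := Module.compHom M (φ.comp (algebraMap P' P))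
  haveI : IsScalarTower P' P M := ⟨fun p' p m => by
    show φ (p' • p) • m = φ (algebraMap P' P p') • (φ p • m)
    rw [Algebra.smul_def, map_mul, mul_smul]⟩
  haveI : Module.FinitePresentation P' M := h
  exact fp_of_finiteType (P := P') (Q := P)

theorem fpvia_comp_of_fp' [Module.FinitePresentation P' P] (φ : P →+* B)
    (h : FPvia φ M) : FPvia (φ.comp (algebraMap P' P)) M := by
  letI : Module P M := Module.compHom M φ
  letI : Module P' M := Module.compHom M (φ.comp (algebraMap P' P))
  haveI : IsScalarTower P' P M := ⟨fun p' p m => by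
    show φ (p' • p) • m = φ (algebraMap P' P p') • (φ p • m)
    rw [Algebra.smul_def, map_mul, mul_smul]⟩
  haveI : Module.FinitePresentation P M := h
  exact Module.FinitePresentation.trans P' M P

end E1'

section E4

variable {R B M P₂ : Type*} {P₁ : Type u} [CommRing R] [CommRing B] [Algebra R B]
  [CommRing P₁] [CommRing P₂] [Algebra R P₁] [Algebra R P₂]
  [Algebra.FinitePresentation R P₁] [Algebra.FinitePresentation R P₂]
  [AddCommGroup M] [Module B M]

/-- Finite extension: if `φ₁ : P₁ → B` is finite (not necessarily surjective) with `P₁` finitely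
presented over `R`, then finite presentation over `P₁` through `φ₁` is the same as finite
presentation relative to `R` as a `B`-module. -/
theorem fpvia_finite_iff (φ₁ : P₁ →ₐ[R] B) (hfin : φ₁.toRingHom.Finite)
    (ψ : P₂ →ₐ[R] B) (hψ : Function.Surjective ψ) :
    FPvia φ₁.toRingHom M ↔ FPvia ψ.toRingHom M := by
  letI : Algebra P₁ B := φ₁.toRingHom.toAlgebra
  haveI : Module.Finite P₁ B := hfin
  haveI : IsScalarTower R P₁ B := IsScalarTower.of_algebraMap_eq (fun r => (φ₁.commutes r).symm)
  obtain ⟨B', _, _, _, _, _, f, hf⟩ := Module.Finite.exists_free_surjective P₁ B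
  letI : Algebra R B' := ((algebraMap P₁ B').comp (algebraMap R P₁)).toAlgebra
  haveI : IsScalarTower R P₁ B' := IsScalarTower.of_algebraMap_eq' rfl
  haveI : Algebra.FinitePresentation R B' := Algebra.FinitePresentation.trans R P₁ B'
  haveI : Module.FinitePresentation P₁ B' := Module.finitePresentation_of_projective P₁ B'
  have hcomp : φ₁.toRingHom = f.toRingHom.comp (algebraMap P₁ B') :=
    RingHom.ext fun p => (f.commutes p).symm
  have h1 : FPvia φ₁.toRingHom M ↔ FPvia f.toRingHom M := by
    rw [hcomp]
    exact ⟨fun h => fpvia_of_comp_finiteType' f.toRingHom h,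
      fun h => fpvia_comp_of_fp' f.toRingHom h⟩
  rw [h1]
  exact fpvia_indep (R := R) (f.restrictScalars R) hf ψ hψ

end E4

end Groth.Agent.Lib.Helper15.RelFP
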