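import Groth.Agent.Lib.Helper15.RelFP2

/-!
# Relative finite presentation, part 3: localization
-/

set_option autoImplicit false

universe u

namespace Groth.Agent.Lib.Helper15.RelFP

section LOC

variable {P A M : Type*} [CommRing P] [CommRing A] [Algebra P A] [AddCommGroup M]
  [Module P M] [Module A M] [IsScalarTower P A M] (F : P)

theorem fp_localizedModule_iff_fpvia_awayMap :
    Module.FinitePresentation (Localization.Away F) (LocalizedModule (Submonoid.powers F) M) ↔
      FPvia (Localization.awayMap (algebraMap P A) F)
        (LocalizedModule (Submonoid.powers (algebraMap P A F)) M) := by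
  set f := algebraMap P A F with hf
  set αF := Localization.awayMap (algebraMap P A) F with hαF
  let ℓ : M →ₗ[P] LocalizedModule (Submonoid.powers f) M :=
    (LocalizedModule.mkLinearMap (Submonoid.powers f) M).restrictScalars P
  haveI : IsLocalizedModule (Submonoid.powers F) ℓ :=
    IsLocalizedModule.restrictScalars_powers F (LocalizedModule.mkLinearMap (Submonoid.powers f) M)
  let e : LocalizedModule (Submonoid.powers F) M ≃ₗ[P] LocalizedModule (Submonoid.powers f) M :=
    IsLocalizedModule.iso (Submonoid.powers F) ℓ
  letI : Module (Localization.Away F) (LocalizedModule (Submonoid.powers f) M) :=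
    Module.compHom _ αF
  haveI : IsScalarTower P (Localization.Away F) (LocalizedModule (Submonoid.powers f) M) :=
    ⟨fun p q x => by
      show αF (p • q) • x = p • (αF q • x)
      have : αF (algebraMap P (Localization.Away F) p) =
          algebraMap A (Localization.Away f) (algebraMap P A p) := by
        rw [hαF]
        exact IsLocalization.map_eq _ p
      rw [Algebra.smul_def, map_mul, mul_smul, this, algebraMap_smul, algebraMap_smul]⟩
  let e' : LocalizedModule (Submonoid.powers F) M ≃ₗ[Localization.Away F]
      LocalizedModule (Submonoid.powers f) M :=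
    LinearEquiv.extendScalarsOfIsLocalization (Submonoid.powers F) (Localization.Away F) e
  exact e'.finitePresentation_iff

end LOC

section LOC2

variable {R P A M P₂ : Type*} [CommRing R] [CommRing P] [CommRing A] [Algebra R P] [Algebra R A]
  [Algebra P A] [IsScalarTower R P A] [Algebra.FinitePresentation R P]
  [AddCommGroup M] [Module P M] [Module A M] [IsScalarTower P A M]
  [CommRing P₂] [Algebra R P₂] [Algebra.FinitePresentation R P₂]

theorem fp_localizedModule_iff_fpvia (hsurj : Function.Surjective (algebraMap P A)) (G : P)
    (γ : P₂ →ₐ[R] Localization.Away (algebraMap P A G)) (hγ : Function.Surjective γ) :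
    Module.FinitePresentation (Localization.Away G) (LocalizedModule (Submonoid.powers G) M) ↔
      FPvia γ.toRingHom (LocalizedModule (Submonoid.powers (algebraMap P A G)) M) := by
  rw [fp_localizedModule_iff_fpvia_awayMap (A := A) G]
  let ψ₁ : Localization.Away G →ₐ[R] Localization.Away (algebraMap P A G) :=
    Localization.awayMapₐ (IsScalarTower.toAlgHom R P A) G
  have hψ₁ : Function.Surjective ψ₁ := by
    have : Function.Surjective (Localization.awayMap (algebraMap P A) G) := by
      rw [Localization.awayMap_surjective_iff]
      intro a
      obtain ⟨b, rfl⟩ := hsurj a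
      exact ⟨b, 0, by simp⟩
    exact this
  exact fpvia_indep (R := R) ψ₁ hψ₁ γ hγ

end LOC2

end Groth.Agent.Lib.Helper15.RelFP
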