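import Mathlib
import Groth.Agent.Lib.Helper15.RelPC9

/-!
# Helper15 — RelPC16: relative pseudo-coherence and finite ring maps.
-/

open CategoryTheory CategoryTheory.Limits DerivedCategory CategoryTheory.Pretriangulated

namespace Groth.Agent.Lib.Helper15.RelPC16

open Groth.Agent.Lib.Helper16.PC Groth.Agent.Lib.Helper16.RelPC Groth.Agent.Lib.Helper16.RestrictD
  Groth.Agent.Lib.Helper15.RelPC5 Groth.Agent.Lib.Helper15.RelPC9

universe u

attribute [local instance] HasDerivedCategory.standard

section Basic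

variable {R A B : Type u} [CommRing R] [CommRing A] [CommRing B] [Algebra R A] [Algebra R B]

/-- pseudo-coherence via a composite `P → A → B`. -/
lemma via_comp_iff {n : ℕ} (α : MvPolynomial (Fin n) R →ₐ[R] A) (φ : A →ₐ[R] B) (m : ℤ)
    (K : Dual.D B) :
    DerCA.IsRelPseudoCoherentVia (φ.comp α) m K ↔
      DerCA.IsRelPseudoCoherentVia α m ((DRing.restrictD (φ : A →+* B)).obj K) := by
  unfold DerCA.IsRelPseudoCoherentVia
  have e := restrictDCompIso (α : MvPolynomial (Fin n) R →+* A) (φ : A →+* B) K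
  exact ⟨fun h => pc_of_iso h e, fun h => pc_of_iso h e.symm⟩

/-- Lemma S: surjective case. -/
lemma rel_iff_of_surjective [Algebra.FiniteType R A] (φ : A →ₐ[R] B) (hφ : Function.Surjective φ)
    (m : ℤ) (K : Dual.D B) :
    DerCA.IsRelPseudoCoherent R B m K ↔
      DerCA.IsRelPseudoCoherent R A m ((DRing.restrictD (φ : A →+* B)).obj K) := by
  obtain ⟨n, α, hα⟩ := exists_presentation R A
  rw [rel_iff_via α hα, rel_iff_via (φ.comp α) (hφ.comp hα), via_comp_iff]

end Basic

section AdjoinRoot

open Polynomial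

lemma pcHom_mk_of_monic {P : Type u} [CommRing P] (Q : P[X]) (hQ : Q.Monic) :
    PCHom (AdjoinRoot.mk Q) := by
  refine pcHom_of_ker_span_regular _ AdjoinRoot.mk_surjective Q ?_ ?_
  · exact hQ.isRegular.left.isSMulRegular
  · ext p
    rw [RingHom.mem_ker, AdjoinRoot.mk_eq_zero, Ideal.mem_span_singleton]

lemma pcHom_of_of_monic {P : Type u} [CommRing P] (Q : P[X]) (hQ : Q.Monic) :
    PCHom (AdjoinRoot.of Q) := by
  refine pcHom_of_finite_free _ ?_
  have key : (AdjoinRoot.of Q).toAlgebra = (inferInstance : Algebra P (AdjoinRoot Q)) :=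
    Algebra.algebra_ext _ _ (fun _ => rfl)
  rw [key]
  exact ⟨hQ.finite_adjoinRoot, hQ.free_adjoinRoot⟩

lemma pc_restrict_comp_iff {A B C : Type u} [CommRing A] [CommRing B] [CommRing C] {φ : A →+* B}
    (hφ : PCHom φ) (ψ : B →+* C) (K : Dual.D C) (m : ℤ) :
    DRing.IsPseudoCoherent A m ((DRing.restrictD (ψ.comp φ)).obj K) ↔
      DRing.IsPseudoCoherent B m ((DRing.restrictD ψ).obj K) := by
  rw [pc_iff_of_pcHom hφ]
  have e := restrictDCompIso φ ψ K
  exact ⟨fun h => pc_of_iso h e, fun h => pc_of_iso h e.symm⟩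

variable {R A : Type u} [CommRing R] [CommRing A] [Algebra R A]

/-- Lemma Q: relative pseudo-coherence over `A[X]/(q)`, `q` monic, can be tested over `A`. -/
theorem rel_adjoinRoot_iff [Algebra.FiniteType R A] (q : A[X]) (hq : q.Monic) (m : ℤ)
    (K : Dual.D (AdjoinRoot q)) :
    DerCA.IsRelPseudoCoherent R (AdjoinRoot q) m K ↔
      DerCA.IsRelPseudoCoherent R A m ((DRing.restrictD (AdjoinRoot.of q)).obj K) := by
  obtain ⟨n, α, hα⟩ := exists_presentation R A
  have hl : q ∈ Polynomial.lifts (α : MvPolynomial (Fin n) R →+* A) := by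
    rw [Polynomial.mem_lifts]
    exact Polynomial.map_surjective _ hα q
  obtain ⟨Q, hQq, -, hQ⟩ := Polynomial.lifts_and_natDegree_eq_and_monic hl hq
  let γ : AdjoinRoot Q →ₐ[R] AdjoinRoot q := AdjoinRoot.mapAlgHom α Q q (by
    have : Q.map (α : MvPolynomial (Fin n) R →+* A) = q := hQq
    exact this ▸ dvd_rfl)
  have hγmk : ∀ p : (MvPolynomial (Fin n) R)[X], γ (AdjoinRoot.mk Q p) =
      AdjoinRoot.mk q (p.map (α : MvPolynomial (Fin n) R →+* A)) := by
    intro p
    induction p using Polynomial.induction_on' with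
    | add p1 p2 h1 h2 => rw [map_add, map_add, h1, h2, Polynomial.map_add, map_add]
    | monomial k a =>
      rw [← Polynomial.C_mul_X_pow_eq_monomial]
      simp [γ]
  have hγ : Function.Surjective γ := by
    intro y
    induction y using AdjoinRoot.induction_on with
    | ih p =>
      obtain ⟨p', rfl⟩ := Polynomial.map_surjective _ hα p
      exact ⟨AdjoinRoot.mk Q p', hγmk p'⟩
  let mkR : (MvPolynomial (Fin n) R)[X] →ₐ[R] AdjoinRoot Q := (AdjoinRoot.mkₐ Q).restrictScalars R
  let β : MvPolynomial (Fin (n + 1)) R →ₐ[R] AdjoinRoot q :=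
    (γ.comp mkR).comp (MvPolynomial.finSuccEquiv R n).toAlgHom
  have hβ : Function.Surjective β := by
    intro y
    obtain ⟨z, rfl⟩ := hγ y
    obtain ⟨w, rfl⟩ := AdjoinRoot.mk_surjective (g := Q) z
    refine ⟨(MvPolynomial.finSuccEquiv R n).symm w, ?_⟩
    change γ (AdjoinRoot.mk Q ((MvPolynomial.finSuccEquiv R n)
      ((MvPolynomial.finSuccEquiv R n).symm w))) = _
    rw [AlgEquiv.apply_symm_apply]
  rw [rel_iff_via β hβ, rel_iff_via α hα]
  unfold DerCA.IsRelPseudoCoherentVia
  have hβ' : (β : MvPolynomial (Fin (n + 1)) R →+* AdjoinRoot q) =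
      ((γ : AdjoinRoot Q →+* AdjoinRoot q).comp (AdjoinRoot.mk Q)).comp
        ((MvPolynomial.finSuccEquiv R n : MvPolynomial (Fin (n + 1)) R ≃ₐ[R] _) :
          MvPolynomial (Fin (n + 1)) R →+* Polynomial (MvPolynomial (Fin n) R)) := rfl
  have hsq : (γ : AdjoinRoot Q →+* AdjoinRoot q).comp (AdjoinRoot.of Q) =
      (AdjoinRoot.of q).comp (α : MvPolynomial (Fin n) R →+* A) := by
    refine RingHom.ext fun x => ?_
    change γ (AdjoinRoot.mk Q (C x)) = AdjoinRoot.mk q (C (α x))
    rw [hγmk, Polynomial.map_C]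
    rfl
  rw [hβ', pc_restrict_comp_iff (pcHom_of_bijective _ (MvPolynomial.finSuccEquiv R n).bijective),
    pc_restrict_comp_iff (pcHom_mk_of_monic Q hQ), ← pc_restrict_comp_iff (pcHom_of_of_monic Q hQ),
    hsq]
  have e := restrictDCompIso (α : MvPolynomial (Fin n) R →+* A) (AdjoinRoot.of q) K
  exact ⟨fun h => pc_of_iso h e, fun h => pc_of_iso h e.symm⟩

end AdjoinRoot

section Ind

open Polynomial

variable {R A : Type u} [CommRing R] [CommRing A] [Algebra R A]

lemma adjoin_eq_top_of_insert {A A' B : Type u} [CommRing A] [CommRing A'] [CommRing B]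
    [Algebra A A'] [Algebra A B] [Algebra A' B] [IsScalarTower A A' B] (b : B) (s' : Set B)
    (x : A') (hx : algebraMap A' B x = b) (h : Algebra.adjoin A (insert b s') = ⊤) :
    Algebra.adjoin A' s' = ⊤ := by
  rw [eq_top_iff]
  have h1 : Algebra.adjoin A (insert b s') ≤ (Algebra.adjoin A' s').restrictScalars A := by
    apply Algebra.adjoin_le
    intro y hy
    rw [Set.mem_insert_iff] at hy
    change y ∈ Algebra.adjoin A' s'
    rcases hy with hy | hy
    · rw [hy, ← hx]
      exact Subalgebra.algebraMap_mem _ _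
    · exact Algebra.subset_adjoin hy
  intro y _
  have h2 : y ∈ Algebra.adjoin A (insert b s') := by rw [h]; exact Algebra.mem_top
  exact h1 h2

lemma rel_step {A' B : Type u} [CommRing A'] [CommRing B] [Algebra R A'] [Algebra R B]
    [Algebra A A'] [Algebra A B] [Algebra A' B] [IsScalarTower A A' B]
    (hQ : ∀ (m : ℤ) (L : Dual.D A'), DerCA.IsRelPseudoCoherent R A' m L ↔
      DerCA.IsRelPseudoCoherent R A m ((DRing.restrictD (algebraMap A A')).obj L))
    (K : Dual.D B) (m : ℤ)
    (hI : DerCA.IsRelPseudoCoherent R B m K ↔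
      DerCA.IsRelPseudoCoherent R A' m ((DRing.restrictD (algebraMap A' B)).obj K)) :
    DerCA.IsRelPseudoCoherent R B m K ↔
      DerCA.IsRelPseudoCoherent R A m ((DRing.restrictD (algebraMap A B)).obj K) := by
  rw [hI, hQ]
  have hcomp : (algebraMap A' B).comp (algebraMap A A') = algebraMap A B :=
    (IsScalarTower.algebraMap_eq A A' B).symm
  have e := restrictDCompIso (algebraMap A A') (algebraMap A' B) K
  rw [hcomp] at e
  exact ⟨fun h => rel_of_iso h e.symm, fun h => rel_of_iso h e⟩

theorem rel_iff_of_adjoin (R B : Type u) [CommRing R] [CommRing B] [Algebra R B] (s : Finset B) :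
    ∀ (A : Type u) [CommRing A] [Algebra R A] [Algebra A B] [IsScalarTower R A B]
      [Algebra.FiniteType R A] [Module.Finite A B],
      Algebra.adjoin A (s : Set B) = ⊤ → ∀ (K : Dual.D B) (m : ℤ),
        (DerCA.IsRelPseudoCoherent R B m K ↔
          DerCA.IsRelPseudoCoherent R A m ((DRing.restrictD (algebraMap A B)).obj K)) := by
  classical
  induction s using Finset.induction_on with
  | empty =>
    intro A _ _ _ _ _ _ h K m
    have hsurj : Function.Surjective (algebraMap A B) := by
      rw [Algebra.surjective_algebraMap_iff, ← h, Finset.coe_empty, Algebra.adjoin_empty]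
    exact rel_iff_of_surjective (IsScalarTower.toAlgHom R A B) hsurj m K
  | insert b s' hb ih =>
    intro A _ _ _ _ _ _ h K m
    obtain ⟨q, hq, hqb⟩ := (Algebra.IsIntegral.of_finite A B).isIntegral b
    let ψ : AdjoinRoot q →ₐ[A] B := AdjoinRoot.liftAlgHom q (Algebra.ofId A B) b hqb
    letI : Algebra (AdjoinRoot q) B := (ψ : AdjoinRoot q →+* B).toAlgebra
    haveI : IsScalarTower A (AdjoinRoot q) B := .of_algebraMap_eq (fun a => (ψ.commutes a).symm)
    haveI : IsScalarTower R (AdjoinRoot q) B := .of_algebraMap_eq (fun r => by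
      rw [IsScalarTower.algebraMap_apply R A (AdjoinRoot q), IsScalarTower.algebraMap_apply R A B]
      exact (ψ.commutes _).symm)
    haveI : Module.Finite (AdjoinRoot q) B := Module.Finite.of_restrictScalars_finite A _ _
    have hroot : algebraMap (AdjoinRoot q) B (AdjoinRoot.root q) = b :=
      AdjoinRoot.liftAlgHom_root q (Algebra.ofId A B) b hqb
    have hadj : Algebra.adjoin (AdjoinRoot q) ((s' : Finset B) : Set B) = ⊤ := by
      rw [Finset.coe_insert] at h
      exact adjoin_eq_top_of_insert (A := A) b _ (AdjoinRoot.root q) hroot h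
    exact rel_step (fun m L => rel_adjoinRoot_iff q hq m L) K m (ih (AdjoinRoot q) hadj K m)


/-- relative pseudo-coherence along a finite map of finite type `R`-algebras. -/
theorem rel_iff_restrict_of_finite {R A B : Type u} [CommRing R] [CommRing A] [CommRing B]
    [Algebra R A] [Algebra A B] [Algebra R B] [IsScalarTower R A B] [Algebra.FiniteType R A]
    [Module.Finite A B] (K : Dual.D B) (m : ℤ) :
    DerCA.IsRelPseudoCoherent R B m K ↔
      DerCA.IsRelPseudoCoherent R A m ((DRing.restrictD (algebraMap A B)).obj K) := by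
  obtain ⟨s, hs⟩ := (inferInstance : Algebra.FiniteType A B).out
  exact rel_iff_of_adjoin R B s A hs K m

end Ind

end Groth.Agent.Lib.Helper15.RelPC16
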