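import Mathlib
import Groth.Agent.Lib.Helper15.RelPC13
import Groth.Agent.S6954

/-!
# Helper15 — RelPC17: perfect ring maps and perfect modules over a presentation.
-/

open CategoryTheory CategoryTheory.Limits DerivedCategory CategoryTheory.Pretriangulated

namespace Groth.Agent.Lib.Helper15.RelPC17

open Groth.Agent.Lib.Helper16.PC Groth.Agent.Lib.Helper16.RelPC Groth.Agent.Lib.Helper16.RestrictD
  Groth.Agent.Lib.Helper15.RelPC9 Groth.Agent.Lib.Helper15.RelPC11 Groth.Agent.Lib.Helper15.RelPC13

universe u

attribute [local instance] HasDerivedCategory.standard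

section Eval

theorem ftd_evalRingHom {R : Type u} [CommRing R] (c : R) : FTD (Polynomial.evalRingHom c) := by
  refine (perfH_of_ker_span_regular _ ?_ (Polynomial.X - Polynomial.C c) ?_ ?_).2
  · intro r
    exact ⟨Polynomial.C r, by simp⟩
  · exact (Polynomial.monic_X_sub_C c).isRegular.left.isSMulRegular
  · exact Polynomial.ker_evalRingHom c

theorem ftd_mvEval : ∀ (n : ℕ) {B : Type u} [CommRing B] (b : Fin n → B),
    FTD (MvPolynomial.eval b) := by
  intro n
  induction n with
  | zero =>
    intro B _ b
    refine (perfH_of_bijective _ ?_).2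
    have hC : Function.Surjective (MvPolynomial.C : B → MvPolynomial (Fin 0) B) :=
      MvPolynomial.C_surjective _
    refine ⟨?_, fun r => ⟨MvPolynomial.C r, MvPolynomial.eval_C _⟩⟩
    intro p q hpq
    obtain ⟨p', rfl⟩ := hC p
    obtain ⟨q', rfl⟩ := hC q
    rw [MvPolynomial.eval_C, MvPolynomial.eval_C] at hpq
    rw [hpq]
  | succ n ih =>
    intro B _ b
    have hcomp : MvPolynomial.eval b =
        (MvPolynomial.eval (fun i => b i.succ)).comp
          ((Polynomial.evalRingHom (MvPolynomial.C (b 0))).comp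
            ((MvPolynomial.finSuccEquiv B n : MvPolynomial (Fin (n + 1)) B ≃ₐ[B] _) :
              MvPolynomial (Fin (n + 1)) B →+* Polynomial (MvPolynomial (Fin n) B))) := by
      apply MvPolynomial.ringHom_ext
      · intro r
        have h1 : (MvPolynomial.finSuccEquiv B n) (MvPolynomial.C r) =
            Polynomial.C (MvPolynomial.C r) := by
          rw [MvPolynomial.finSuccEquiv_apply]
          simp
        simp [h1]
      · intro i
        refine Fin.cases ?_ (fun j => ?_) i
        · simp [MvPolynomial.finSuccEquiv_X_zero]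
        · simp [MvPolynomial.finSuccEquiv_X_succ]
    rw [hcomp]
    refine ftd_comp _ _ (ftd_comp _ _ ?_ (ftd_evalRingHom _)) (ih _)
    exact (perfH_of_bijective _ (MvPolynomial.finSuccEquiv B n).bijective).2

end Eval

section Pres

variable {A B : Type u} [CommRing A] [CommRing B] [Algebra A B]

attribute [local instance] MvPolynomial.algebraMvPolynomial

/-- flat base change: `A[x] → B[x]` has finite tor dimension when `A → B` has. -/
theorem ftd_mvMap (h : DRing.HasFiniteTorDim A B) (n : ℕ) :
    FTD (MvPolynomial.map (algebraMap A B) :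
      MvPolynomial (Fin n) A →+* MvPolynomial (Fin n) B) := by
  obtain ⟨d, hd⟩ := h
  have h1 : DRing.HasTorDimLE (MvPolynomial (Fin n) A) d (MvPolynomial (Fin n) B) :=
    hasTorDimLE_baseChange (R := A) (S := B) (R' := MvPolynomial (Fin n) A)
      (S' := MvPolynomial (Fin n) B) d hd
  exact ftd_algebraMap.2 ⟨d, h1⟩

/-- a presentation of an algebra of finite tor dimension has finite tor dimension. -/
theorem ftd_presentation (h : DRing.HasFiniteTorDim A B) {n : ℕ}
    (φ : MvPolynomial (Fin n) A →ₐ[A] B) : FTD (φ : MvPolynomial (Fin n) A →+* B) := by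
  have hcomp : (φ : MvPolynomial (Fin n) A →+* B) =
      (MvPolynomial.eval (fun i => φ (MvPolynomial.X i))).comp
        (MvPolynomial.map (algebraMap A B)) := by
    apply MvPolynomial.ringHom_ext
    · intro a
      have : (φ : MvPolynomial (Fin n) A →+* B) (MvPolynomial.C a) = algebraMap A B a :=
        φ.commutes a
      rw [this]
      simp
    · intro i
      simp
  rw [hcomp]
  exact ftd_comp _ _ (ftd_mvMap h n) (ftd_mvEval n _)

end Pres

section Amp

open Groth.Agent.Lib.Helper16.TorBal Groth.Agent.Lib.Helper16.TorAmp MonoidalCategory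

theorem hasFiniteTorDim_of_torAmp {R : Type u} [CommRing R] (M : Type u) [AddCommGroup M]
    [Module R M] (a b : ℤ) (h : DRing.HasTorAmplitudeIn R a b (Dual.inD R M)) :
    DRing.HasFiniteTorDim R M := by
  obtain ⟨P, hP, hproj, ⟨e⟩⟩ := exists_resolution (ModuleCat.of R M)
  have hflat := termwiseFlat_of_projective P hproj
  have h1 : DRing.HasTorAmplitudeIn R a b (DRing.toD P) := hasTorAmplitudeIn_of_iso e.symm _ _ h
  rw [torAmp_iff_exactAt_tensCx P 0 hP hflat] at h1
  refine ⟨(-a).toNat, ?_⟩
  rw [hasTorDimLE_iff_torAmp]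
  refine hasTorAmplitudeIn_of_iso e _ _ ?_
  rw [torAmp_iff_exactAt_tensCx P 0 hP hflat]
  intro N i hi
  rcases hi with hi | hi
  · exact h1 N i (Or.inl (by omega))
  · exact HomologicalComplex.ExactAt.of_isZero (Functor.map_isZero (tensorRight N) (hP i hi))

/-- S7066: perfect ring maps are those with a presentation over which the target is a perfect
module. -/
theorem isPerfectHom_iff_exists_perfectModule (A B : Type u) [CommRing A] [CommRing B]
    [Algebra A B] :
    MoreMor.IsPerfectHom A B ↔
      ∃ (n : ℕ) (φ : MvPolynomial (Fin n) A →ₐ[A] B), Function.Surjective φ ∧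
        letI := φ.toRingHom.toAlgebra
        DRing.IsPerfectModule (MvPolynomial (Fin n) A) B := by
  constructor
  · rintro ⟨⟨n, φ, hφ, hpc⟩, hftd⟩
    refine ⟨n, φ, hφ, ?_⟩
    letI := φ.toRingHom.toAlgebra
    obtain ⟨d, hd⟩ : DRing.HasFiniteTorDim (MvPolynomial (Fin n) A) B := ftd_presentation hftd φ
    change DRing.IsPerfect _ _
    rw [Groth.Agent.S6954.result]
    exact ⟨hpc, -(d : ℤ), 0, (hasTorDimLE_iff_torAmp B d).1 hd⟩
  · rintro ⟨n, φ, hφ, hperf⟩
    letI := φ.toRingHom.toAlgebra
    haveI : IsScalarTower A (MvPolynomial (Fin n) A) B :=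
      .of_algebraMap_eq (fun a => (φ.commutes a).symm)
    have hperf' : DRing.IsPerfect (MvPolynomial (Fin n) A)
      (Dual.inD (MvPolynomial (Fin n) A) B) := hperf
    rw [Groth.Agent.S6954.result] at hperf'
    obtain ⟨hpc, a, b, hab⟩ := hperf'
    refine ⟨⟨n, φ, hφ, hpc⟩, ?_⟩
    have h1 : DRing.HasFiniteTorDim (MvPolynomial (Fin n) A) B := hasFiniteTorDim_of_torAmp B a b hab
    have h0 : DRing.HasFiniteTorDim A (MvPolynomial (Fin n) A) :=
      ⟨0, (Groth.Agent.S6946.result A (MvPolynomial (Fin n) A) 0).2.2 inferInstance⟩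
    exact hasFiniteTorDim_trans (A := A) (B := MvPolynomial (Fin n) A) (C := B) h0 h1

end Amp

end Groth.Agent.Lib.Helper15.RelPC17
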