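import Mathlib
import Groth.Agent.Lib.Helper16.TorAmp1
import Groth.Agent.Lib.Helper16.KPR1
import Groth.Agent.Lib.Helper15.RelPC13
import Groth.Agent.S7067

open CategoryTheory CategoryTheory.Limits DerivedCategory CategoryTheory.Pretriangulated

namespace Groth.Agent.Lib.Helper15.RelPC18

open Groth.Agent.Lib.Helper16.PC Groth.Agent.Lib.Helper16.RelPC Groth.Agent.Lib.Helper16.RestrictD
  Groth.Agent.Lib.Helper16.LDer Groth.Agent.Lib.Helper16.FlatAcyc Groth.Agent.Lib.Helper16.TorAmp
  Groth.Agent.Lib.Helper15.RelPC6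
  Groth.Agent.Lib.Helper15.RelPC9 Groth.Agent.Lib.Helper15.RelPC11 Groth.Agent.Lib.Helper15.RelPC13

universe u

attribute [local instance] HasDerivedCategory.standard

section TI

variable (A₀ A : Type u) {P₀ P : Type u} [CommRing A₀] [CommRing A] [CommRing P₀] [CommRing P]
  [Algebra A₀ A] [Algebra A₀ P₀] [Algebra P₀ P] [Algebra A P] [Algebra A₀ P]
  [IsScalarTower A₀ A P] [IsScalarTower A₀ P₀ P] [Algebra.IsPushout A₀ A P₀ P]

include A in
/-- Tor-independent base change: extension of scalars along `P₀ → P = A ⊗_{A₀} P₀` preserves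
quasi-isomorphisms between bounded above complexes of `P₀`-modules which are flat over `A₀`. -/
theorem quasiIso_extCx_of_relFlat {K L : DRing.Cx P₀} (f : K ⟶ L) (hf : QuasiIso f) (n : ℤ)
    (hK : DRing.VanishesAbove K n) (hL : DRing.VanishesAbove L n)
    (hKfl : ∀ i, Module.Flat A₀ ((ModuleCat.restrictScalars.{u} (algebraMap A₀ P₀)).obj (K.X i)))
    (hLfl : ∀ i, Module.Flat A₀ ((ModuleCat.restrictScalars.{u} (algebraMap A₀ P₀)).obj (L.X i))) :
    QuasiIso ((extCx (algebraMap P₀ P)).map f) := by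
  let R₀ := ModuleCat.restrictScalars.{u} (algebraMap A₀ P₀)
  let R := ModuleCat.restrictScalars.{u} (algebraMap A P)
  have h1 : QuasiIso ((R₀.mapHomologicalComplex (ComplexShape.up ℤ)).map f) := inferInstance
  have h2 : QuasiIso ((extCx (algebraMap A₀ A)).map
      ((R₀.mapHomologicalComplex (ComplexShape.up ℤ)).map f)) :=
    quasiIso_map_of_flat _ (mono_ext_of_flat (algebraMap A₀ A)) _ h1 n
      (fun i hi => Functor.map_isZero R₀ (hK i hi)) (fun i hi => Functor.map_isZero R₀ (hL i hi))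
      hKfl hLfl
  have nat : (extCx (algebraMap A₀ A)).map ((R₀.mapHomologicalComplex (ComplexShape.up ℤ)).map f) ≫
      (sqCxIso A₀ A P L).hom = (sqCxIso A₀ A P K).hom ≫
        (R.mapHomologicalComplex (ComplexShape.up ℤ)).map ((extCx (algebraMap P₀ P)).map f) := by
    ext i : 1
    exact sqIso_naturality A₀ A P (f.f i)
  have h3 : QuasiIso ((R.mapHomologicalComplex (ComplexShape.up ℤ)).map
      ((extCx (algebraMap P₀ P)).map f)) := by
    have : (R.mapHomologicalComplex (ComplexShape.up ℤ)).map ((extCx (algebraMap P₀ P)).map f) =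
        (sqCxIso A₀ A P K).inv ≫ ((extCx (algebraMap A₀ A)).map
          ((R₀.mapHomologicalComplex (ComplexShape.up ℤ)).map f) ≫ (sqCxIso A₀ A P L).hom) := by
      rw [nat, Iso.inv_hom_id_assoc]
    rw [this]
    infer_instance
  exact (HomologicalComplex.quasiIso_map_iff_of_preservesHomology _ R).1 h3

include A in
/-- pseudo-coherence of a module flat over `A₀` is preserved by the Tor-independent base change
`P₀ → P = A ⊗_{A₀} P₀`. -/
theorem pc'_ext_of_relFlat [Module.Flat A₀ P₀] (M₀ : ModuleCat.{u} P₀)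
    (hfl : Module.Flat A₀ ((ModuleCat.restrictScalars.{u} (algebraMap A₀ P₀)).obj M₀))
    (h : DRing.IsPseudoCoherent' P₀ ((singleFunctor (ModuleCat.{u} P₀) 0).obj M₀)) :
    DRing.IsPseudoCoherent' P ((singleFunctor (ModuleCat.{u} P) 0).obj
      ((ModuleCat.extendScalars.{u, u, u} (algebraMap P₀ P)).obj M₀)) := by
  obtain ⟨E₀, b, hb, hff, ⟨e⟩⟩ := h
  haveI : E₀.IsKProjective := isKProjective_of_bddAbove_projective E₀ b hb (fun i => by
    have := (hff i).2
    exact Module.Projective.of_free)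
  obtain ⟨f, hf⟩ := Groth.Agent.Lib.Helper16.KPR.exists_map_of_isKProjective E₀ (sCx M₀)
    (e.hom ≫ (toDSingleIso M₀).inv)
  have hfq : QuasiIso f := by
    rw [← isIso_Q_map_iff_quasiIso, hf]
    infer_instance
  have hq := quasiIso_extCx_of_relFlat A₀ A (P := P) f hfq (max b 0)
    (fun i hi => hb i (lt_of_le_of_lt (le_max_left _ _) hi))
    (fun i hi => HomologicalComplex.isZero_single_obj_X _ _ _ _
      (ne_of_gt (lt_of_le_of_lt (le_max_right _ _) hi)))
    (fun i => by
      have h1 := (hff i).2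
      have h2 : Module.Flat P₀ (E₀.X i) := inferInstance
      letI : Module A₀ (E₀.X i) := Module.compHom (E₀.X i) (algebraMap A₀ P₀)
      haveI : IsScalarTower A₀ P₀ (E₀.X i) := IsScalarTower.of_algebraMap_smul (fun _ _ => rfl)
      have h3 : Module.Flat A₀ (E₀.X i) := Module.Flat.trans A₀ P₀ (E₀.X i)
      exact h3)
    (fun i => by
      by_cases hi : i = 0
      · subst hi
        exact Module.Flat.of_linearEquiv
          ((ModuleCat.restrictScalars.{u} (algebraMap A₀ P₀)).mapIso
            (HomologicalComplex.singleObjXSelf (ComplexShape.up ℤ) 0 M₀)).toLinearEquiv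
      · have := ModuleCat.subsingleton_of_isZero
          (Functor.map_isZero (ModuleCat.restrictScalars.{u} (algebraMap A₀ P₀))
            (HomologicalComplex.isZero_single_obj_X (ComplexShape.up ℤ) 0 M₀ i hi))
        infer_instance)
  have hiso : IsIso (Q.map ((extCx (algebraMap P₀ P)).map f)) :=
    (isIso_Q_map_iff_quasiIso _ _).2 hq
  refine ⟨(extCx (algebraMap P₀ P)).obj E₀, b, fun i hi => extCx_isZero _ E₀ i (hb i hi),
    fun i => ?_, ⟨asIso (Q.map ((extCx (algebraMap P₀ P)).map f)) ≪≫ ?_⟩⟩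
  · have h1 := (hff i).1
    have h2 := (hff i).2
    exact ⟨ext_finite _ (E₀.X i), ext_free _ (E₀.X i)⟩
  · exact Q.mapIso ((HomologicalComplex.singleMapHomologicalComplex
      (ModuleCat.extendScalars.{u, u, u} (algebraMap P₀ P)) (ComplexShape.up ℤ) 0).app M₀) ≪≫
      toDSingleIso _

end TI

section BC

open TensorProduct

attribute [local instance] MvPolynomial.algebraMvPolynomial

variable {A₀ A B₀ : Type u} [CommRing A₀] [CommRing A] [CommRing B₀] [Algebra A₀ A]
  [Algebra A₀ B₀]

/-- transfer of pseudo-coherence along an algebra isomorphism. -/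
theorem isPseudoCoherentHom_of_algEquiv {A B B' : Type u} [CommRing A] [CommRing B] [CommRing B']
    [Algebra A B] [Algebra A B'] (e : B ≃ₐ[A] B') (h : MoreMor.IsPseudoCoherentHom A B) :
    MoreMor.IsPseudoCoherentHom A B' := by
  have h1 : PCH (algebraMap A B) := pch_algebraMap.2 h
  have h2 : PCH ((e : B ≃ₐ[A] B') : B →+* B') := (perfH_of_bijective _ e.bijective).1
  have h3 := pch_comp _ _ h1 h2
  have h4 : ((e : B ≃ₐ[A] B') : B →+* B').comp (algebraMap A B) = algebraMap A B' :=
    RingHom.ext fun a => e.commutes a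
  rw [h4] at h3
  exact pch_algebraMap.1 h3

/-- Tor-independent base change of a pseudo-coherent flat ring map. -/
theorem isPseudoCoherentHom_tensor_of_flat [Module.Flat A₀ B₀]
    (h : MoreMor.IsPseudoCoherentHom A₀ B₀) : MoreMor.IsPseudoCoherentHom A (A ⊗[A₀] B₀) := by
  obtain ⟨n, φ₀, hφ₀, hpc⟩ := h
  letI : Algebra (MvPolynomial (Fin n) A₀) B₀ := φ₀.toRingHom.toAlgebra
  haveI : IsScalarTower A₀ (MvPolynomial (Fin n) A₀) B₀ :=
    .of_algebraMap_eq (fun a => (φ₀.commutes a).symm)
  -- the presentation of `P ⊗[P₀] B₀`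
  let φ : MvPolynomial (Fin n) A →ₐ[A] (MvPolynomial (Fin n) A) ⊗[MvPolynomial (Fin n) A₀] B₀ :=
    Algebra.TensorProduct.includeLeft
  have hφ : Function.Surjective φ :=
    Algebra.TensorProduct.includeLeft_surjective (R := MvPolynomial (Fin n) A₀) A
      (MvPolynomial (Fin n) A) hφ₀
  have hB' : MoreMor.IsPseudoCoherentHom A
      ((MvPolynomial (Fin n) A) ⊗[MvPolynomial (Fin n) A₀] B₀) := by
    refine ⟨n, φ, hφ, ?_⟩
    have key : φ.toRingHom.toAlgebra = (inferInstance : Algebra (MvPolynomial (Fin n) A)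
        ((MvPolynomial (Fin n) A) ⊗[MvPolynomial (Fin n) A₀] B₀)) :=
      Algebra.algebra_ext _ _ (fun _ => rfl)
    rw [key]
    have hfl : Module.Flat A₀ ((ModuleCat.restrictScalars.{u}
        (algebraMap A₀ (MvPolynomial (Fin n) A₀))).obj (ModuleCat.of (MvPolynomial (Fin n) A₀) B₀)) := by
      let e : B₀ ≃ₗ[A₀] ((ModuleCat.restrictScalars.{u}
          (algebraMap A₀ (MvPolynomial (Fin n) A₀))).obj
            (ModuleCat.of (MvPolynomial (Fin n) A₀) B₀)) :=
        { toFun := fun x => x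
          invFun := fun x => x
          left_inv := fun _ => rfl
          right_inv := fun _ => rfl
          map_add' := fun _ _ => rfl
          map_smul' := fun a x => (algebraMap_smul (MvPolynomial (Fin n) A₀) a x).symm }
      exact Module.Flat.of_linearEquiv e.symm
    have h1 := pc'_ext_of_relFlat A₀ A (P₀ := MvPolynomial (Fin n) A₀) (P := MvPolynomial (Fin n) A)
      (ModuleCat.of (MvPolynomial (Fin n) A₀) B₀) hfl hpc
    obtain ⟨E, b, hb, hff, ⟨e⟩⟩ := h1
    refine ⟨E, b, hb, hff, ⟨e ≪≫ (singleFunctor _ 0).mapIso ?_⟩⟩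
    exact (Groth.Agent.Lib.Helper16.FlatBC.extEquiv (A := MvPolynomial (Fin n) A₀)
      (B := MvPolynomial (Fin n) A) B₀).symm.toModuleIso
  exact isPseudoCoherentHom_of_algEquiv
    (Algebra.IsPushout.cancelBaseChangeAlg A₀ A (MvPolynomial (Fin n) A₀)
      (MvPolynomial (Fin n) A) B₀) hB'

end BC

section Smooth

/-- a smooth ring map is perfect (pseudo-coherent and flat), by Noetherian descent. -/
theorem isPerfectHom_of_smooth (A B : Type u) [CommRing A] [CommRing B] [Algebra A B]
    [Algebra.Smooth A B] : MoreMor.IsPerfectHom A B := by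
  obtain ⟨A₀, B₀, _, _, _, _, _, -, hft, hsm, ⟨e⟩⟩ := Algebra.Smooth.exists_finiteType ℤ A B
  haveI : IsNoetherianRing A₀ := Algebra.FiniteType.isNoetherianRing ℤ A₀
  haveI : Algebra.FinitePresentation A₀ B₀ := hsm.finitePresentation
  haveI : Algebra.FiniteType A₀ B₀ := inferInstance
  have h0 : MoreMor.IsPseudoCoherentHom A₀ B₀ := Groth.Agent.S7067.result A₀ B₀
  haveI : Module.Flat A₀ B₀ := Algebra.Smooth.flat A₀ B₀
  have h1 := isPseudoCoherentHom_tensor_of_flat (A := A) h0
  have h2 : MoreMor.IsPseudoCoherentHom A B := isPseudoCoherentHom_of_algEquiv e.symm h1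
  haveI : Module.Flat A B := Algebra.Smooth.flat A B
  exact ⟨h2, ⟨0, (Groth.Agent.S6946.result A B 0).2.2 inferInstance⟩⟩

theorem perfH_of_smooth {A B : Type u} [CommRing A] [CommRing B] (φ : A →+* B) (h : φ.Smooth) :
    PerfH φ := by
  letI := φ.toAlgebra
  haveI : Algebra.Smooth A B := h
  exact isPerfectHom_of_smooth A B

end Smooth

end Groth.Agent.Lib.Helper15.RelPC18
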