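import Mathlib
import Groth.Agent.Lib.Helper15.RelPC18
import Groth.Agent.Lib.Helper15.RelPC15
import Groth.Agent.Lib.Helper15.RelPC14
import Groth.Prelude.Def_RegImm

/-!
# Helper15 — RelPC19: smooth morphisms and Koszul-regular immersions are perfect.
-/

open CategoryTheory CategoryTheory.Limits AlgebraicGeometry

namespace Groth.Agent.Lib.Helper15.RelPC19

open Groth.Agent.Lib.Helper15.RelPC9 Groth.Agent.Lib.Helper15.RelPC11
  Groth.Agent.Lib.Helper15.RelPC13 Groth.Agent.Lib.Helper15.RelPC14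
  Groth.Agent.Lib.Helper15.RelPC15 Groth.Agent.Lib.Helper15.RelPC18

universe u

attribute [local instance] HasDerivedCategory.standard

theorem isPerfectMor_of_smooth {X Y : Scheme.{u}} (f : X ⟶ Y) [Smooth f] :
    MoreMor.IsPerfectMor f := by
  intro U V hU hV hUV
  exact perfH_of_smooth _ (f.smooth_appLE hV hU hUV)

theorem isPerfectMor_of_koszulImmersion {Z P : Scheme.{u}} (i : Z ⟶ P)
    (h : RegImm.IsRegularImmersion .koszul i) : MoreMor.IsPerfectMor i := by
  rw [isPerfectMor_iff_exists]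
  intro z
  obtain ⟨W, hzW, hci, rs, hrs, hker⟩ := h.2 z
  have haff : IsAffineOpen (i ⁻¹ᵁ W.1) := by
    haveI : IsAffine (W.1 : Scheme) := W.2
    exact isAffine_of_isAffineHom (i ∣_ W.1)
  have hsurj : Function.Surjective (i.app W.1).hom := by
    have h1 := (i ∣_ W.1).app_surjective ⊤ (isAffineOpen_top _)
    rw [morphismRestrict_app'] at h1
    rw [Scheme.Hom.app_eq_appLE]
    exact (i.appLE_congr _ (Scheme.Opens.ι_image_top _)
      (by simp) (fun f => Function.Surjective f.hom)).1 h1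
  refine ⟨i ⁻¹ᵁ W.1, W.1, le_rfl, haff, W.2, hzW, ?_⟩
  have h2 : PerfH (i.app W.1).hom := perfH_of_koszulRegular rs hrs _ hsurj hker
  rw [Scheme.Hom.app_eq_appLE] at h2
  exact h2

end Groth.Agent.Lib.Helper15.RelPC19
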