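import Mathlib
import Groth.Agent.Lib.Helper15.RelPC18
import Groth.Agent.Lib.Helper15.RelPC17
import Groth.Agent.Lib.Helper15.RelPC14

/-!
# Helper15 — RelPC20: a retraction of a smooth ring map has finite tor dimension.
-/

open CategoryTheory CategoryTheory.Limits

namespace Groth.Agent.Lib.Helper15.RelPC20

open Groth.Agent.Lib.Helper15.RelPC9 Groth.Agent.Lib.Helper15.RelPC11
  Groth.Agent.Lib.Helper15.RelPC13 Groth.Agent.Lib.Helper15.RelPC17
  Groth.Agent.Lib.Helper15.RelPC18

universe u

attribute [local instance] HasDerivedCategory.standard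

section Etale

/-- Lemma R: a retraction of an étale ring map is a localization at an idempotent, hence of
finite tor dimension. -/
theorem ftd_of_retraction_etale {C E : Type u} [CommRing C] [CommRing E] (f : C →+* E)
    (τ : E →+* C) (hτf : τ.comp f = RingHom.id C) (hf : f.Etale) : FTD τ := by
  letI : Algebra C E := f.toAlgebra
  letI : Algebra E C := τ.toAlgebra
  haveI : IsScalarTower C E C := .of_algebraMap_eq (fun c => (RingHom.congr_fun hτf c).symm)
  haveI : Algebra.Etale C E := hf
  haveI : Algebra.FormallyEtale E C := Algebra.FormallyEtale.of_restrictScalars (R := C)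
  have hsurj : Function.Surjective (algebraMap E C) := fun c => ⟨f c, RingHom.congr_fun hτf c⟩
  have hidem : IsIdempotentElem (RingHom.ker (algebraMap E C)) :=
    (Algebra.FormallyEtale.iff_of_surjective hsurj).1 inferInstance
  have hfg : (RingHom.ker (algebraMap E C)).FG := by
    have := Algebra.FinitePresentation.ker_fG_of_surjective (IsScalarTower.toAlgHom C E C) hsurj
    exact this
  obtain ⟨e, he, hker⟩ := (Ideal.isIdempotentElem_iff_of_fg _ hfg).1 hidem
  have he' : IsIdempotentElem (1 - e) := he.one_sub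
  haveI : IsLocalization.Away (1 - e) C :=
    IsLocalization.away_of_isIdempotentElem he' (by rw [hker]; simp [Ideal.submodule_span_eq]) hsurj
  exact ftd_away (1 - e)

end Etale

section StandardSmooth

open TensorProduct

attribute [local instance] Algebra.TensorProduct.rightAlgebra

/-- Lemma SS: a retraction of a standard smooth ring map has finite tor dimension. -/
theorem ftd_of_retraction_standardSmooth {C D : Type u} [CommRing C] [CommRing D] (f : C →+* D)
    (σ : D →+* C) (hσf : σ.comp f = RingHom.id C) (hf : f.IsStandardSmooth) : FTD σ := by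
  obtain ⟨n, g, hgC, hg⟩ := hf.exists_etale_mvPolynomial
  let a : Fin n → C := fun i => σ (g (MvPolynomial.X i))
  have hev : σ.comp g = MvPolynomial.eval a := by
    apply MvPolynomial.ringHom_ext
    · intro c
      have h1 : g (MvPolynomial.C c) = f c := RingHom.congr_fun hgC c
      rw [RingHom.comp_apply, h1, MvPolynomial.eval_C]
      exact RingHom.congr_fun hσf c
    · intro i
      simp [a]
  letI : Algebra (MvPolynomial (Fin n) C) C := (MvPolynomial.eval a).toAlgebra
  letI : Algebra (MvPolynomial (Fin n) C) D := g.toAlgebra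
  haveI : Algebra.Etale (MvPolynomial (Fin n) C) D := hg
  let σ' : D →ₐ[MvPolynomial (Fin n) C] C :=
    { σ with commutes' := fun p => RingHom.congr_fun hev p }
  let τ : C ⊗[MvPolynomial (Fin n) C] D →ₐ[MvPolynomial (Fin n) C] C :=
    Algebra.TensorProduct.productMap (AlgHom.id (MvPolynomial (Fin n) C) C) σ'
  have hσ : σ = (τ : C ⊗[MvPolynomial (Fin n) C] D →+* C).comp
      (algebraMap D (C ⊗[MvPolynomial (Fin n) C] D)) := by
    refine RingHom.ext fun d => ?_
    change σ d = τ ((1 : C) ⊗ₜ d)
    simp [τ, σ']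
  rw [hσ]
  refine ftd_comp _ _ ?_ ?_
  · obtain ⟨d, hd⟩ : DRing.HasFiniteTorDim (MvPolynomial (Fin n) C) C := ftd_mvEval n a
    exact ftd_algebraMap.2 ⟨d, hasTorDimLE_baseChange (R := MvPolynomial (Fin n) C) (S := C)
      (R' := D) (S' := C ⊗[MvPolynomial (Fin n) C] D) d hd⟩
  · refine ftd_of_retraction_etale (algebraMap C (C ⊗[MvPolynomial (Fin n) C] D)) τ ?_ ?_
    · refine RingHom.ext fun c => ?_
      change τ (c ⊗ₜ (1 : D)) = c
      simp [τ]
    · exact RingHom.etale_algebraMap.2 inferInstance

/-- L1: reduction to a retraction after a flat base change. -/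
theorem ftd_of_ftd_productMap {C D C' : Type u} [CommRing C] [CommRing D] [CommRing C']
    [Algebra C D] [Algebra C C'] [Module.Flat C C'] (σ : D →ₐ[C] C')
    (h : FTD ((Algebra.TensorProduct.productMap (AlgHom.id C C') σ : C' ⊗[C] D →ₐ[C] C') :
      C' ⊗[C] D →+* C')) : FTD (σ : D →+* C') := by
  have hσ : (σ : D →+* C') =
      ((Algebra.TensorProduct.productMap (AlgHom.id C C') σ : C' ⊗[C] D →ₐ[C] C') :
        C' ⊗[C] D →+* C').comp (algebraMap D (C' ⊗[C] D)) := by
    refine RingHom.ext fun d => ?_
    change σ d = Algebra.TensorProduct.productMap (AlgHom.id C C') σ ((1 : C') ⊗ₜ d)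
    simp
  rw [hσ]
  refine ftd_comp _ _ ?_ h
  have hflat : (algebraMap D (C' ⊗[C] D)).Flat :=
    RingHom.Flat.isStableUnderBaseChange C C' D (C' ⊗[C] D)
      (RingHom.flat_algebraMap_iff.2 inferInstance)
  haveI : Module.Flat D (C' ⊗[C] D) := RingHom.flat_algebraMap_iff.1 hflat
  exact ftd_of_flat

/-- Theorem (II): a retraction of a smooth ring map has finite tor dimension. -/
theorem ftd_of_retraction_smooth {C D : Type u} [CommRing C] [CommRing D] [Algebra C D]
    [Algebra.Smooth C D] (σ : D →ₐ[C] C) : FTD (σ : D →+* C) := by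
  obtain ⟨s, hs, hstd⟩ := Algebra.Smooth.exists_span_eq_top_isStandardSmooth C D
  refine ftd_isLocal.ofLocalizationSpan _ s hs (fun g => ?_)
  haveI : Algebra.IsStandardSmooth C (Localization.Away (g : D)) := hstd g g.2
  let σg : Localization.Away (g : D) →ₐ[C] Localization.Away ((σ : D →+* C) (g : D)) :=
    { Localization.awayMap (σ : D →+* C) (g : D) with
      commutes' := fun c => by
        have h1 : algebraMap C (Localization.Away (g : D)) c =
            algebraMap D (Localization.Away (g : D)) (algebraMap C D c) :=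
          IsScalarTower.algebraMap_apply C D (Localization.Away (g : D)) c
        change Localization.awayMap (σ : D →+* C) (g : D)
          (algebraMap C (Localization.Away (g : D)) c) = _
        rw [h1]
        refine (IsLocalization.map_eq (S := Localization.Away (g : D))
          (Q := Localization.Away ((σ : D →+* C) (g : D))) _ (algebraMap C D c)).trans ?_
        change algebraMap C (Localization.Away ((σ : D →+* C) (g : D))) (σ (algebraMap C D c)) = _
        rw [σ.commutes]
        rfl }
  have h1 : FTD (σg : Localization.Away (g : D) →+* Localization.Away ((σ : D →+* C) (g : D))) := by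
    apply ftd_of_ftd_productMap
    refine ftd_of_retraction_standardSmooth
      (algebraMap (Localization.Away ((σ : D →+* C) (g : D)))
        (Localization.Away ((σ : D →+* C) (g : D)) ⊗[C] Localization.Away (g : D))) _ ?_ ?_
    · refine RingHom.ext fun c => ?_
      change Algebra.TensorProduct.productMap (AlgHom.id C _) σg (c ⊗ₜ (1 : Localization.Away (g : D))) = c
      rw [Algebra.TensorProduct.productMap_apply_tmul, map_one, mul_one]
      rfl
    · exact RingHom.isStandardSmooth_algebraMap.2 inferInstance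
  exact h1

/-- if `A → B` is smooth and `A → B → C` is perfect then `B → C` is perfect. -/
theorem perfH_of_comp_smooth {A B C : Type u} [CommRing A] [CommRing B] [CommRing C]
    (φ : A →+* B) (ψ : B →+* C) (hφ : φ.Smooth) (h : PerfH (ψ.comp φ)) : PerfH ψ := by
  refine ⟨Groth.Agent.Lib.Helper15.RelPC14.pch_of_comp φ ψ (perfH_of_smooth φ hφ).1 h.1, ?_⟩
  letI : Algebra A B := φ.toAlgebra
  letI : Algebra A C := (ψ.comp φ).toAlgebra
  letI : Algebra B C := ψ.toAlgebra
  haveI : IsScalarTower A B C := .of_algebraMap_eq (fun _ => rfl)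
  haveI : Algebra.Smooth A B := hφ
  haveI : Module.Flat A B := Algebra.Smooth.flat A B
  let ψ' : B →ₐ[A] C := IsScalarTower.toAlgHom A B C
  let τ : C ⊗[A] B →ₐ[A] C := Algebra.TensorProduct.productMap (AlgHom.id A C) ψ'
  have hψ : ψ = (τ : C ⊗[A] B →+* C).comp (algebraMap B (C ⊗[A] B)) := by
    refine RingHom.ext fun b => ?_
    change ψ b = τ ((1 : C) ⊗ₜ b)
    rw [Algebra.TensorProduct.productMap_apply_tmul, map_one, one_mul]
    rfl
  rw [hψ]
  refine ftd_comp _ _ ?_ ?_
  · obtain ⟨d, hd⟩ : DRing.HasFiniteTorDim A C := h.2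
    exact ftd_algebraMap.2 ⟨d, hasTorDimLE_baseChange (R := A) (S := C) (R' := B)
      (S' := C ⊗[A] B) d hd⟩
  · let τ' : C ⊗[A] B →ₐ[C] C :=
      { (τ : C ⊗[A] B →+* C) with
        commutes' := fun c => by
          change τ (c ⊗ₜ (1 : B)) = c
          rw [Algebra.TensorProduct.productMap_apply_tmul, map_one, mul_one]
          rfl }
    exact ftd_of_retraction_smooth τ'

end StandardSmooth

section Scheme

open AlgebraicGeometry Groth.Agent.Lib.Helper15.RelPC14

theorem isPerfectMor_of_comp_smooth {X Y S : Scheme.{u}} (f : X ⟶ Y) (g : Y ⟶ S) [Smooth g]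
    (h : MoreMor.IsPerfectMor (f ≫ g)) : MoreMor.IsPerfectMor f := by
  rw [isPerfectMor_iff_exists]
  intro x
  obtain ⟨W, hW, hxW, -⟩ := exists_isAffineOpen_mem_and_subset (x := g (f x)) (U := ⊤) trivial
  obtain ⟨V, hV, hxV, hVW⟩ := exists_isAffineOpen_mem_and_subset (x := f x) (U := g ⁻¹ᵁ W) hxW
  obtain ⟨U, hU, hxU, hUV⟩ := exists_isAffineOpen_mem_and_subset (x := x) (U := f ⁻¹ᵁ V) hxV
  refine ⟨U, V, hUV, hU, hV, hxU, ?_⟩
  have e₁ : V ≤ g ⁻¹ᵁ W := hVW
  have e₂ : U ≤ f ⁻¹ᵁ V := hUV
  have h1 : (g.appLE W V e₁).hom.Smooth := g.smooth_appLE hW hV e₁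
  have h2 := h U W hU hW (e₂.trans ((TopologicalSpace.Opens.map f.base).map (homOfLE e₁)).le)
  change PerfH _ at h2
  rw [← Scheme.Hom.appLE_comp_appLE f g W V U e₁ e₂, CommRingCat.hom_comp] at h2
  exact perfH_of_comp_smooth _ _ h1 h2

end Scheme

end Groth.Agent.Lib.Helper15.RelPC20
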