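import Mathlib
import Groth.Agent.Lib.Helper15.RelPC20

/-!
# Helper15 — RelPC21: ring maps of tor dimension `≤ d` with sharp bounds.
-/

open CategoryTheory CategoryTheory.Limits

namespace Groth.Agent.Lib.Helper15.RelPC21

open Groth.Agent.Lib.Helper16.TorAmp Groth.Agent.Lib.Helper16.TorBal
  Groth.Agent.Lib.Helper15.RelPC9 Groth.Agent.Lib.Helper15.RelPC11
  Groth.Agent.Lib.Helper15.RelPC13 Groth.Agent.Lib.Helper15.RelPC17
  Groth.Agent.Lib.Helper15.RelPC18 Groth.Agent.Lib.Helper15.RelPC20

universe u

attribute [local instance] HasDerivedCategory.standard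

/-- ring homomorphisms of tor dimension `≤ d`. -/
def TDLE (d : ℕ) {A B : Type u} [CommRing A] [CommRing B] (φ : A →+* B) : Prop :=
  letI := φ.toAlgebra
  DRing.HasTorDimLE A d B

section Basic

variable {A B C : Type u} [CommRing A] [CommRing B] [CommRing C]

lemma tdle_algebraMap [Algebra A B] (d : ℕ) :
    TDLE d (algebraMap A B) ↔ DRing.HasTorDimLE A d B := by
  unfold TDLE
  rw [RelPC9.toAlgebra_algebraMap]

lemma tdle_mono {d d' : ℕ} (h : d ≤ d') (φ : A →+* B) (hφ : TDLE d φ) : TDLE d' φ := by
  letI := φ.toAlgebra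
  exact hasTorDimLE_mono h B hφ

lemma TDLE.ftd {d : ℕ} {φ : A →+* B} (h : TDLE d φ) : FTD φ := ⟨d, h⟩

theorem hasTorDimLE_trans [Algebra A B] [Algebra B C] [Algebra A C] [IsScalarTower A B C]
    (d e : ℕ) (hd : DRing.HasTorDimLE A d B) (he : DRing.HasTorDimLE B e C) :
    DRing.HasTorDimLE A (e + d) C := by
  rw [hasTorDimLE_iff_torAmp] at hd he ⊢
  have h3 := torAmp_restrict d hd (Dual.inD B C) (-(e : ℤ)) 0 he
  have h4 := hasTorAmplitudeIn_of_iso (restrictInDIso' (A := A) (B := B) (C := C)) _ _ h3
  have : (-((e + d : ℕ) : ℤ)) = -(e : ℤ) - d := by push_cast; ring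
  rw [this]
  exact h4

theorem tdle_comp {d e : ℕ} (φ : A →+* B) (ψ : B →+* C) (h1 : TDLE d φ) (h2 : TDLE e ψ) :
    TDLE (e + d) (ψ.comp φ) := by
  letI := φ.toAlgebra
  letI := ψ.toAlgebra
  letI : Algebra A C := (ψ.comp φ).toAlgebra
  haveI : IsScalarTower A B C := .of_algebraMap_eq (fun _ => rfl)
  exact hasTorDimLE_trans (A := A) (B := B) (C := C) d e h1 h2

theorem tdle_of_flat [Algebra A B] [Module.Flat A B] : TDLE 0 (algebraMap A B) :=
  (tdle_algebraMap 0).2 ((Groth.Agent.S6946.result A B 0).2.2 inferInstance)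

theorem tdle_of_bijective (φ : A →+* B) (h : Function.Bijective φ) : TDLE 0 φ := by
  letI := φ.toAlgebra
  haveI : Module.Flat A B :=
    Module.Flat.of_linearEquiv (LinearEquiv.ofBijective (Algebra.linearMap A B) h).symm
  exact (tdle_algebraMap 0).1 tdle_of_flat |> fun h => h

theorem tdle_away [Algebra A B] (r : A) [IsLocalization.Away r B] : TDLE 0 (algebraMap A B) :=
  haveI : Module.Flat A B := IsLocalization.flat B (Submonoid.powers r)
  tdle_of_flat

end Basic

section Eval

theorem tdle_evalRingHom {R : Type u} [CommRing R] (c : R) :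
    TDLE 1 (Polynomial.evalRingHom c) := by
  refine hasTorDimLE_one_of_ker_span_regular _ ?_ (Polynomial.X - Polynomial.C c) ?_ ?_
  · intro r
    exact ⟨Polynomial.C r, by simp⟩
  · exact (Polynomial.monic_X_sub_C c).isRegular.left.isSMulRegular
  · exact Polynomial.ker_evalRingHom c

theorem tdle_mvEval : ∀ (n : ℕ) {B : Type u} [CommRing B] (b : Fin n → B),
    TDLE n (MvPolynomial.eval b) := by
  intro n
  induction n with
  | zero =>
    intro B _ b
    refine tdle_of_bijective _ ?_
    have hC : Function.Surjective (MvPolynomial.C : B → MvPolynomial (Fin 0) B) :=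
      MvPolynomial.C_surjective _
    refine ⟨?_, fun r => ⟨MvPolynomial.C r, MvPolynomial.eval_C _⟩⟩
    intro p q hpq
    obtain ⟨p', rfl⟩ := hC p
    obtain ⟨q', rfl⟩ := hC q
    rw [MvPolynomial.eval_C, MvPolynomial.eval_C] at hpq
    rw [hpq]
  | succ n ih =>
    intro B _ b
    have hcomp : MvPolynomial.eval b =
        (MvPolynomial.eval (fun i => b i.succ)).comp
          ((Polynomial.evalRingHom (MvPolynomial.C (b 0))).comp
            ((MvPolynomial.finSuccEquiv B n : MvPolynomial (Fin (n + 1)) B ≃ₐ[B] _) :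
              MvPolynomial (Fin (n + 1)) B →+* Polynomial (MvPolynomial (Fin n) B))) := by
      apply MvPolynomial.ringHom_ext
      · intro r
        have h1 : (MvPolynomial.finSuccEquiv B n) (MvPolynomial.C r) =
            Polynomial.C (MvPolynomial.C r) := by
          rw [MvPolynomial.finSuccEquiv_apply]
          simp
        simp [h1]
      · intro i
        refine Fin.cases ?_ (fun j => ?_) i
        · simp [MvPolynomial.finSuccEquiv_X_zero]
        · simp [MvPolynomial.finSuccEquiv_X_succ]
    rw [hcomp]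
    have h1 := tdle_comp _ _ (tdle_of_bijective
      ((MvPolynomial.finSuccEquiv B n : MvPolynomial (Fin (n + 1)) B ≃ₐ[B] _) :
        MvPolynomial (Fin (n + 1)) B →+* Polynomial (MvPolynomial (Fin n) B))
      (MvPolynomial.finSuccEquiv B n).bijective)
      (tdle_evalRingHom (MvPolynomial.C (b 0)))
    have h2 := tdle_comp _ _ h1 (ih (fun i => b i.succ))
    exact tdle_mono (by omega) _ h2

end Eval

section Retraction

open TensorProduct

attribute [local instance] Algebra.TensorProduct.rightAlgebra

/-- a retraction of an étale ring map is flat. -/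
theorem tdle_of_retraction_etale {C E : Type u} [CommRing C] [CommRing E] (f : C →+* E)
    (τ : E →+* C) (hτf : τ.comp f = RingHom.id C) (hf : f.Etale) : TDLE 0 τ := by
  letI : Algebra C E := f.toAlgebra
  letI : Algebra E C := τ.toAlgebra
  haveI : IsScalarTower C E C := .of_algebraMap_eq (fun c => (RingHom.congr_fun hτf c).symm)
  haveI : Algebra.Etale C E := hf
  haveI : Algebra.FormallyEtale E C := Algebra.FormallyEtale.of_restrictScalars (R := C)
  have hsurj : Function.Surjective (algebraMap E C) := fun c => ⟨f c, RingHom.congr_fun hτf c⟩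
  have hidem : IsIdempotentElem (RingHom.ker (algebraMap E C)) :=
    (Algebra.FormallyEtale.iff_of_surjective hsurj).1 inferInstance
  have hfg : (RingHom.ker (algebraMap E C)).FG := by
    have := Algebra.FinitePresentation.ker_fG_of_surjective (IsScalarTower.toAlgHom C E C) hsurj
    exact this
  obtain ⟨e, he, hker⟩ := (Ideal.isIdempotentElem_iff_of_fg _ hfg).1 hidem
  have he' : IsIdempotentElem (1 - e) := he.one_sub
  haveI : IsLocalization.Away (1 - e) C :=
    IsLocalization.away_of_isIdempotentElem he' (by rw [hker]; simp [Ideal.submodule_span_eq]) hsurj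
  exact tdle_away (1 - e)

/-- a retraction of a standard smooth ring map of relative dimension `n` has tor dimension
`≤ n`. -/
theorem tdle_of_retraction_standardSmooth {C D : Type u} [CommRing C] [CommRing D] (n : ℕ)
    (f : C →+* D) (σ : D →+* C) (hσf : σ.comp f = RingHom.id C)
    (hf : f.IsStandardSmoothOfRelativeDimension n) : TDLE n σ := by
  obtain ⟨g, hgC, hg⟩ := hf.exists_etale_mvPolynomial
  let a : Fin n → C := fun i => σ (g (MvPolynomial.X i))
  have hev : σ.comp g = MvPolynomial.eval a := by
    apply MvPolynomial.ringHom_ext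
    · intro c
      have h1 : g (MvPolynomial.C c) = f c := RingHom.congr_fun hgC c
      rw [RingHom.comp_apply, h1, MvPolynomial.eval_C]
      exact RingHom.congr_fun hσf c
    · intro i
      simp [a]
  letI : Algebra (MvPolynomial (Fin n) C) C := (MvPolynomial.eval a).toAlgebra
  letI : Algebra (MvPolynomial (Fin n) C) D := g.toAlgebra
  haveI : Algebra.Etale (MvPolynomial (Fin n) C) D := hg
  let σ' : D →ₐ[MvPolynomial (Fin n) C] C :=
    { σ with commutes' := fun p => RingHom.congr_fun hev p }
  let τ : C ⊗[MvPolynomial (Fin n) C] D →ₐ[MvPolynomial (Fin n) C] C :=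
    Algebra.TensorProduct.productMap (AlgHom.id (MvPolynomial (Fin n) C) C) σ'
  have hσ : σ = (τ : C ⊗[MvPolynomial (Fin n) C] D →+* C).comp
      (algebraMap D (C ⊗[MvPolynomial (Fin n) C] D)) := by
    refine RingHom.ext fun d => ?_
    change σ d = τ ((1 : C) ⊗ₜ d)
    simp [τ, σ']
  rw [hσ]
  have h1 : TDLE n (algebraMap D (C ⊗[MvPolynomial (Fin n) C] D)) := by
    have hd : DRing.HasTorDimLE (MvPolynomial (Fin n) C) n C := tdle_mvEval n a
    exact (tdle_algebraMap n).2 (hasTorDimLE_baseChange (R := MvPolynomial (Fin n) C) (S := C)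
      (R' := D) (S' := C ⊗[MvPolynomial (Fin n) C] D) n hd)
  have h2 : TDLE 0 (τ : C ⊗[MvPolynomial (Fin n) C] D →+* C) := by
    refine tdle_of_retraction_etale (algebraMap C (C ⊗[MvPolynomial (Fin n) C] D)) τ ?_ ?_
    · refine RingHom.ext fun c => ?_
      change τ (c ⊗ₜ (1 : D)) = c
      simp [τ]
    · exact RingHom.etale_algebraMap.2 inferInstance
  exact tdle_mono (by omega) _ (tdle_comp _ _ h1 h2)

/-- if `A → B` is standard smooth of relative dimension `n` and `B → C` is such that `C` is flat
over `A`, then `B → C` has tor dimension `≤ n`. -/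
theorem tdle_of_flat_over_standardSmooth {A B C : Type u} [CommRing A] [CommRing B] [CommRing C]
    (n : ℕ) (φ : A →+* B) (ψ : B →+* C) (hφ : φ.IsStandardSmoothOfRelativeDimension n)
    (h : (ψ.comp φ).Flat) : TDLE n ψ := by
  letI : Algebra A B := φ.toAlgebra
  letI : Algebra A C := (ψ.comp φ).toAlgebra
  haveI : Module.Flat A C := h
  let ψ' : B →ₐ[A] C := { ψ with commutes' := fun _ => rfl }
  let τ : C ⊗[A] B →ₐ[A] C := Algebra.TensorProduct.productMap (AlgHom.id A C) ψ'
  have hψ : ψ = (τ : C ⊗[A] B →+* C).comp (algebraMap B (C ⊗[A] B)) := by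
    refine RingHom.ext fun b => ?_
    change ψ b = τ ((1 : C) ⊗ₜ b)
    rw [Algebra.TensorProduct.productMap_apply_tmul, map_one, one_mul]
    rfl
  rw [hψ]
  have h1 : TDLE 0 (algebraMap B (C ⊗[A] B)) := by
    have hflat : (algebraMap B (C ⊗[A] B)).Flat :=
      RingHom.Flat.isStableUnderBaseChange A C B (C ⊗[A] B)
        (RingHom.flat_algebraMap_iff.2 inferInstance)
    haveI : Module.Flat B (C ⊗[A] B) := RingHom.flat_algebraMap_iff.1 hflat
    exact tdle_of_flat
  have h2 : TDLE n (τ : C ⊗[A] B →+* C) := by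
    refine tdle_of_retraction_standardSmooth n (algebraMap C (C ⊗[A] B)) _ ?_ ?_
    · refine RingHom.ext fun c => ?_
      change τ (c ⊗ₜ (1 : B)) = c
      rw [Algebra.TensorProduct.productMap_apply_tmul, map_one, mul_one]
      rfl
    · have hφ' : (algebraMap A B).IsStandardSmoothOfRelativeDimension n := hφ
      haveI : Algebra.IsStandardSmoothOfRelativeDimension n A B :=
        (RingHom.isStandardSmoothOfRelativeDimension_algebraMap n).1 hφ'
      exact (RingHom.isStandardSmoothOfRelativeDimension_algebraMap n).2 inferInstance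
  exact tdle_mono (by omega) _ (tdle_comp _ _ h1 h2)

end Retraction

end Groth.Agent.Lib.Helper15.RelPC21
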