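import Mathlib
import Groth.Agent.Lib.Helper15.RelPC21
import Groth.Agent.Lib.Helper16.StalkTor1

/-!
# Helper15 — RelPC22: from affine charts to stalks for tor dimension of morphisms of schemes.
-/

open CategoryTheory CategoryTheory.Limits AlgebraicGeometry

namespace Groth.Agent.Lib.Helper15.RelPC22

open Groth.Agent.Lib.Helper16.TorAmp Groth.Agent.Lib.Helper16.TorBal
  Groth.Agent.Lib.Helper15.RelPC9 Groth.Agent.Lib.Helper15.RelPC11
  Groth.Agent.Lib.Helper15.RelPC21

universe u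

attribute [local instance] HasDerivedCategory.standard

/-- tor dimension on an affine chart passes to the stalks. -/
theorem hasTorDimLE_stalk_of_appLE {X S : Scheme.{u}} (f : X ⟶ S) {x : X} (V : S.Opens)
    (hV : IsAffineOpen V) (U : X.Opens) (hU : IsAffineOpen U) (e : U ≤ f ⁻¹ᵁ V) (hx : x ∈ U)
    (d : ℕ) (h : TDLE d (f.appLE V U e).hom) :
    letI := (f.stalkMap x).hom.toAlgebra
    DRing.HasTorDimLE (S.presheaf.stalk (f x)) d (X.presheaf.stalk x) := by
  letI a0 : Algebra Γ(S, V) Γ(X, U) := (f.appLE V U e).hom.toAlgebra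
  letI a1 : Algebra Γ(S, V) (S.presheaf.stalk (f x)) :=
    S.presheaf.algebra_section_stalk ⟨f x, e hx⟩
  haveI l1 : IsLocalization.AtPrime (S.presheaf.stalk (f x))
      (hV.primeIdealOf ⟨f x, e hx⟩).asIdeal := hV.isLocalization_stalk ⟨f x, e hx⟩
  letI a2 : Algebra Γ(X, U) (X.presheaf.stalk x) := X.presheaf.algebra_section_stalk ⟨x, hx⟩
  haveI l2 : IsLocalization.AtPrime (X.presheaf.stalk x)
      (hU.primeIdealOf ⟨x, hx⟩).asIdeal := hU.isLocalization_stalk ⟨x, hx⟩
  letI a3 : Algebra (S.presheaf.stalk (f x)) (X.presheaf.stalk x) := (f.stalkMap x).hom.toAlgebra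
  letI a4 : Algebra Γ(S, V) (X.presheaf.stalk x) :=
    ((algebraMap Γ(X, U) (X.presheaf.stalk x)).comp (algebraMap Γ(S, V) Γ(X, U))).toAlgebra
  haveI t1 : IsScalarTower Γ(S, V) Γ(X, U) (X.presheaf.stalk x) :=
    .of_algebraMap_eq (fun _ => rfl)
  haveI t2 : IsScalarTower Γ(S, V) (S.presheaf.stalk (f x)) (X.presheaf.stalk x) := by
    refine .of_algebraMap_eq (fun a => ?_)
    change X.presheaf.germ U x hx ((f.appLE V U e).hom a) =
      (f.stalkMap x).hom (S.presheaf.germ V (f x) (e hx) a)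
    rw [Scheme.Hom.appLE]
    erw [Scheme.Hom.germ_stalkMap_apply]
    simp only [CommRingCat.hom_comp, RingHom.coe_comp, Function.comp_apply]
    exact TopCat.Presheaf.germ_res_apply X.presheaf _ x hx _
  haveI : Module.Flat Γ(X, U) (X.presheaf.stalk x) :=
    IsLocalization.flat _ (hU.primeIdealOf ⟨x, hx⟩).asIdeal.primeCompl
  haveI : Module.Flat Γ(S, V) (S.presheaf.stalk (f x)) :=
    IsLocalization.flat _ (hV.primeIdealOf ⟨f x, e hx⟩).asIdeal.primeCompl
  have h1 : DRing.HasTorDimLE Γ(S, V) (0 + d) (X.presheaf.stalk x) :=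
    hasTorDimLE_trans (A := Γ(S, V)) (B := Γ(X, U)) (C := X.presheaf.stalk x) d 0 h
      ((tdle_algebraMap 0).1 tdle_of_flat)
  rw [zero_add] at h1
  haveI : IsLocalization (Algebra.algebraMapSubmonoid (X.presheaf.stalk x)
      (hV.primeIdealOf ⟨f x, e hx⟩).asIdeal.primeCompl) (X.presheaf.stalk x) := by
    apply IsLocalization.of_le_isUnit
    rintro _ ⟨a, ha, rfl⟩
    have hu : IsUnit (algebraMap Γ(S, V) (S.presheaf.stalk (f x)) a) :=
      IsLocalization.map_units (S.presheaf.stalk (f x))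
        (⟨a, ha⟩ : (hV.primeIdealOf ⟨f x, e hx⟩).asIdeal.primeCompl)
    have := hu.map (algebraMap (S.presheaf.stalk (f x)) (X.presheaf.stalk x))
    rw [← IsScalarTower.algebraMap_apply] at this
    exact this
  haveI : Algebra.IsPushout Γ(S, V) (X.presheaf.stalk x) (S.presheaf.stalk (f x))
      (X.presheaf.stalk x) :=
    Algebra.isPushout_of_isLocalization (hV.primeIdealOf ⟨f x, e hx⟩).asIdeal.primeCompl
      (S.presheaf.stalk (f x)) (X.presheaf.stalk x) (X.presheaf.stalk x)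
  exact hasTorDimLE_baseChange (R := Γ(S, V)) (S := X.presheaf.stalk x)
    (R' := S.presheaf.stalk (f x)) (S' := X.presheaf.stalk x) d h1

/-- the stalkwise tor dimension condition at a point, from an affine chart. -/
theorem hasTorAmplitudeAt_unit_of_appLE {X S : Scheme.{u}} (f : X ⟶ S) {x : X} (V : S.Opens)
    (hV : IsAffineOpen V) (U : X.Opens) (hU : IsAffineOpen U) (e : U ≤ f ⁻¹ᵁ V) (hx : x ∈ U)
    (d : ℕ) (h : TDLE d (f.appLE V U e).hom) :
    DerSch.HasTorAmplitudeAt f (-(d : ℤ)) 0 (DerSch.unitCx X) x := by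
  letI : Algebra (S.presheaf.stalk (f.base x)) (X.presheaf.stalk x) :=
    (f.stalkMap x).hom.toAlgebra
  have h1 := hasTorDimLE_stalk_of_appLE f V hV U hU e hx d h
  rw [hasTorDimLE_iff_torAmp] at h1
  exact hasTorAmplitudeIn_of_iso (Groth.Agent.Lib.Helper16.StalkTor.unitStalkIso f x).symm _ _ h1

end Groth.Agent.Lib.Helper15.RelPC22
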