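import Mathlib
import Groth.Agent.Lib.Helper15.RelPC22

/-!
# Helper15 — RelPC23: tor dimension of an algebra can be checked at the maximal ideals of the
algebra; from stalks to affine charts.
-/

open CategoryTheory CategoryTheory.Limits AlgebraicGeometry

namespace Groth.Agent.Lib.Helper15.RelPC23

open Groth.Agent.Lib.Helper16.TorAmp Groth.Agent.Lib.Helper16.TorBal
  Groth.Agent.Lib.Helper15.RelPC9 Groth.Agent.Lib.Helper15.RelPC11
  Groth.Agent.Lib.Helper15.RelPC21 Groth.Agent.Lib.Helper15.RelPC22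

universe u

attribute [local instance] HasDerivedCategory.standard

section Modules

open TensorProduct

variable {A B : Type u} [CommRing A] [CommRing B] [Algebra A B]

/-- exactness of `B ⊗_A -` can be checked at the maximal ideals of `B`. -/
theorem exact_lTensor_of_localized_maximal
    {X Y Z : Type u} [AddCommGroup X] [Module A X] [AddCommGroup Y] [Module A Y]
    [AddCommGroup Z] [Module A Z] (f : X →ₗ[A] Y) (g : Y →ₗ[A] Z)
    (Bₘ : ∀ (m : Ideal B) [m.IsMaximal], Type u) [∀ (m : Ideal B) [m.IsMaximal], CommRing (Bₘ m)]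
    [∀ (m : Ideal B) [m.IsMaximal], Algebra B (Bₘ m)]
    [∀ (m : Ideal B) [m.IsMaximal], Algebra A (Bₘ m)]
    [∀ (m : Ideal B) [m.IsMaximal], IsScalarTower A B (Bₘ m)]
    [∀ (m : Ideal B) [m.IsMaximal], IsLocalization.AtPrime (Bₘ m) m]
    (H : ∀ (m : Ideal B) [m.IsMaximal], Function.Exact (f.lTensor (Bₘ m)) (g.lTensor (Bₘ m))) :
    Function.Exact (f.lTensor B) (g.lTensor B) := by
  simp_rw [← AlgebraTensorModule.coe_lTensor (A := B)] at H ⊢
  refine _root_.exact_of_isLocalized_maximal _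
    (fun m _ ↦ AlgebraTensorModule.rTensor A _ (Algebra.linearMap B (Bₘ m))) _
    (fun m _ ↦ AlgebraTensorModule.rTensor A _ (Algebra.linearMap B (Bₘ m))) _
    (fun m _ ↦ AlgebraTensorModule.rTensor A _ (Algebra.linearMap B (Bₘ m))) _ _ fun m _ ↦ ?_
  simpa [IsLocalizedModule.map_lTensor] using H m

end Modules

section TorDim

variable {A B : Type u} [CommRing A] [CommRing B] [Algebra A B]

/-- tor dimension of an `A`-algebra `B` can be checked at the maximal ideals of `B`. -/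
theorem hasTorDimLE_of_localized_maximal (d : ℕ)
    (Bₘ : ∀ (m : Ideal B) [m.IsMaximal], Type u) [∀ (m : Ideal B) [m.IsMaximal], CommRing (Bₘ m)]
    [∀ (m : Ideal B) [m.IsMaximal], Algebra B (Bₘ m)]
    [∀ (m : Ideal B) [m.IsMaximal], Algebra A (Bₘ m)]
    [∀ (m : Ideal B) [m.IsMaximal], IsScalarTower A B (Bₘ m)]
    [∀ (m : Ideal B) [m.IsMaximal], IsLocalization.AtPrime (Bₘ m) m]
    (h : ∀ (m : Ideal B) [m.IsMaximal], DRing.HasTorDimLE A d (Bₘ m)) :
    DRing.HasTorDimLE A d B := by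
  rw [hasTorDimLE_iff_torVan]
  intro M p hp
  obtain ⟨q, rfl⟩ : ∃ q, p = q + 1 := ⟨p - 1, by omega⟩
  have hq : (-((q + 1 : ℕ) : ℤ)) = -((q : ℤ) + 1) := by push_cast; ring
  rw [hq, torVan_symm q]
  obtain ⟨Y, hY, hproj, ⟨e⟩⟩ := exists_resolution M
  rw [torVan_iff M _ _ Y 0 hY hproj e,
    exactAt_tensCx_iff _ Y (-((q : ℤ) + 1) - 1) _ (-((q : ℤ) + 1) + 1) (by omega) (by omega)]
  have hr : ∀ (m : Ideal B) [m.IsMaximal], Function.Exact
      ((Y.d (-((q : ℤ) + 1) - 1) (-((q : ℤ) + 1))).hom.rTensor (Bₘ m))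
      ((Y.d (-((q : ℤ) + 1)) (-((q : ℤ) + 1) + 1)).hom.rTensor (Bₘ m)) := by
    intro m _
    have h1 := (hasTorDimLE_iff_torVan (Bₘ m) d).1 (h m) M (q + 1) hp
    rw [hq, torVan_symm q, torVan_iff M _ _ Y 0 hY hproj e,
      exactAt_tensCx_iff _ Y (-((q : ℤ) + 1) - 1) _ (-((q : ℤ) + 1) + 1) (by omega) (by omega)] at h1
    exact h1
  set f := (Y.d (-((q : ℤ) + 1) - 1) (-((q : ℤ) + 1))).hom with hf
  set g := (Y.d (-((q : ℤ) + 1)) (-((q : ℤ) + 1) + 1)).hom with hg
  have hl : ∀ (m : Ideal B) [m.IsMaximal],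
      Function.Exact (f.lTensor (Bₘ m)) (g.lTensor (Bₘ m)) := fun m _ =>
    exact_of_ladder _ _ _ _ (TensorProduct.comm A _ (Bₘ m)).toEquiv
      (TensorProduct.comm A _ (Bₘ m)).toEquiv
      (TensorProduct.comm A _ (Bₘ m)).toAddEquiv
      (fun x => comm_rTensor f (Bₘ m) x) (fun x => comm_rTensor g (Bₘ m) x) (hr m)
  have h2 := exact_lTensor_of_localized_maximal f g Bₘ hl
  exact exact_of_ladder _ _ _ _ (TensorProduct.comm A B _).toEquiv (TensorProduct.comm A B _).toEquiv
      (TensorProduct.comm A B _).toAddEquiv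
      (fun x => comm_lTensor f B x) (fun x => comm_lTensor g B x) h2

theorem hasTorDimLE_of_linearEquiv {M N : Type u} [AddCommGroup M] [Module A M]
    [AddCommGroup N] [Module A N] (e : M ≃ₗ[A] N) (d : ℕ) (h : DRing.HasTorDimLE A d M) :
    DRing.HasTorDimLE A d N := by
  rw [hasTorDimLE_iff_torAmp] at h ⊢
  exact hasTorAmplitudeIn_of_iso
    ((DerivedCategory.singleFunctor (ModuleCat.{u} A) 0).mapIso e.toModuleIso) _ _ h

/-- existential form of `hasTorDimLE_of_localized_maximal`. -/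
theorem hasTorDimLE_of_forall_maximal (d : ℕ)
    (h : ∀ (m : Ideal B) [m.IsMaximal], ∃ (Bm : Type u) (_ : CommRing Bm) (_ : Algebra B Bm)
      (_ : Algebra A Bm) (_ : IsScalarTower A B Bm) (_ : IsLocalization.AtPrime Bm m),
      DRing.HasTorDimLE A d Bm) :
    DRing.HasTorDimLE A d B := by
  refine hasTorDimLE_of_localized_maximal (A := A) (B := B) d
    (fun m _ => Localization.AtPrime m) ?_
  intro m _
  obtain ⟨Bm, _, _, _, _, _, hBm⟩ := h m
  let e : Bm ≃ₐ[B] Localization.AtPrime m :=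
    IsLocalization.algEquiv m.primeCompl Bm (Localization.AtPrime m)
  refine hasTorDimLE_of_linearEquiv (A := A) (e.toLinearEquiv.restrictScalars A) d hBm

end TorDim

section Scheme

/-- a sharper form of `hasFiniteTorDim_of_torAmp`. -/
theorem hasTorDimLE_of_torAmp {R : Type u} [CommRing R] (M : Type u) [AddCommGroup M]
    [Module R M] (a b : ℤ) (h : DRing.HasTorAmplitudeIn R a b (Dual.inD R M)) :
    DRing.HasTorDimLE R (-a).toNat M := by
  open MonoidalCategory in
  obtain ⟨P, hP, hproj, ⟨e⟩⟩ := exists_resolution (ModuleCat.of R M)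
  have hflat := termwiseFlat_of_projective P hproj
  have h1 : DRing.HasTorAmplitudeIn R a b (DRing.toD P) := hasTorAmplitudeIn_of_iso e.symm _ _ h
  rw [torAmp_iff_exactAt_tensCx P 0 hP hflat] at h1
  rw [hasTorDimLE_iff_torAmp]
  refine hasTorAmplitudeIn_of_iso e _ _ ?_
  rw [torAmp_iff_exactAt_tensCx P 0 hP hflat]
  intro N i hi
  rcases hi with hi | hi
  · exact h1 N i (Or.inl (by omega))
  · exact HomologicalComplex.ExactAt.of_isZero (Functor.map_isZero (tensorRight N) (hP i hi))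

/-- tor dimension of the stalks gives tor dimension on affine charts. -/
theorem tdle_appLE_of_stalks {X S : Scheme.{u}} (f : X ⟶ S) (V : S.Opens)
    (hV : IsAffineOpen V) (U : X.Opens) (hU : IsAffineOpen U) (e : U ≤ f ⁻¹ᵁ V) (d : ℕ)
    (h : ∀ x : X, x ∈ U →
      letI := (f.stalkMap x).hom.toAlgebra
      DRing.HasTorDimLE (S.presheaf.stalk (f x)) d (X.presheaf.stalk x)) :
    TDLE d (f.appLE V U e).hom := by
  letI a0 : Algebra Γ(S, V) Γ(X, U) := (f.appLE V U e).hom.toAlgebra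
  have hmem : ∀ y : PrimeSpectrum Γ(X, U), hU.fromSpec y ∈ U := fun y => by
    have := Set.mem_range_self (f := hU.fromSpec) y
    rw [hU.range_fromSpec] at this
    exact this
  let pt : ∀ (m : Ideal Γ(X, U)) [m.IsMaximal], X := fun m _ =>
    hU.fromSpec ⟨m, Ideal.IsMaximal.isPrime' m⟩
  have hpt : ∀ (m : Ideal Γ(X, U)) [m.IsMaximal], pt m ∈ U := fun m _ => hmem _
  letI aB : ∀ (m : Ideal Γ(X, U)) [m.IsMaximal], Algebra Γ(X, U) (X.presheaf.stalk (pt m)) :=
    fun m _ => X.presheaf.algebra_section_stalk ⟨pt m, hpt m⟩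
  letI aA : ∀ (m : Ideal Γ(X, U)) [m.IsMaximal], Algebra Γ(S, V) (X.presheaf.stalk (pt m)) :=
    fun m _ => ((algebraMap Γ(X, U) (X.presheaf.stalk (pt m))).comp
      (algebraMap Γ(S, V) Γ(X, U))).toAlgebra
  haveI : ∀ (m : Ideal Γ(X, U)) [m.IsMaximal],
      IsScalarTower Γ(S, V) Γ(X, U) (X.presheaf.stalk (pt m)) :=
    fun m _ => .of_algebraMap_eq (fun _ => rfl)
  haveI : ∀ (m : Ideal Γ(X, U)) [m.IsMaximal],
      IsLocalization.AtPrime (X.presheaf.stalk (pt m)) m :=
    fun m _ => hU.isLocalization_stalk' ⟨m, Ideal.IsMaximal.isPrime' m⟩ (hmem _)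
  refine hasTorDimLE_of_forall_maximal (A := Γ(S, V)) (B := Γ(X, U)) d ?_
  intro m _
  refine ⟨X.presheaf.stalk (pt m), inferInstance, inferInstance, inferInstance, inferInstance,
    inferInstance, ?_⟩
  have hx := hpt m
  set x := pt m with hxdef
  letI a1 : Algebra Γ(S, V) (S.presheaf.stalk (f x)) :=
    S.presheaf.algebra_section_stalk ⟨f x, e hx⟩
  haveI l1 : IsLocalization.AtPrime (S.presheaf.stalk (f x))
      (hV.primeIdealOf ⟨f x, e hx⟩).asIdeal := hV.isLocalization_stalk ⟨f x, e hx⟩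
  letI a3 : Algebra (S.presheaf.stalk (f x)) (X.presheaf.stalk x) := (f.stalkMap x).hom.toAlgebra
  haveI t2 : IsScalarTower Γ(S, V) (S.presheaf.stalk (f x)) (X.presheaf.stalk x) := by
    refine .of_algebraMap_eq (fun a => ?_)
    change X.presheaf.germ U x hx ((f.appLE V U e).hom a) =
      (f.stalkMap x).hom (S.presheaf.germ V (f x) (e hx) a)
    rw [Scheme.Hom.appLE]
    erw [Scheme.Hom.germ_stalkMap_apply]
    simp only [CommRingCat.hom_comp, RingHom.coe_comp, Function.comp_apply]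
    exact TopCat.Presheaf.germ_res_apply X.presheaf _ x hx _
  haveI : Module.Flat Γ(S, V) (S.presheaf.stalk (f x)) :=
    IsLocalization.flat _ (hV.primeIdealOf ⟨f x, e hx⟩).asIdeal.primeCompl
  have h1 : DRing.HasTorDimLE Γ(S, V) (d + 0) (X.presheaf.stalk x) :=
    hasTorDimLE_trans (A := Γ(S, V)) (B := S.presheaf.stalk (f x)) (C := X.presheaf.stalk x) 0 d
      ((tdle_algebraMap 0).1 tdle_of_flat) (h x hx)
  exact h1

end Scheme

end Groth.Agent.Lib.Helper15.RelPC23
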