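import Mathlib
import Groth.Agent.Lib.Helper15.RelPC23

/-!
# Helper15 — RelPC24: for a pseudo-coherent module, finite tor dimension at a prime spreads out
to a basic open neighbourhood.
-/

open CategoryTheory CategoryTheory.Limits DerivedCategory

namespace Groth.Agent.Lib.Helper15.RelPC24

open Groth.Agent.Lib.Helper16.TorAmp Groth.Agent.Lib.Helper16.TorBal
  Groth.Agent.Lib.Helper16.FlatBC Groth.Agent.Lib.Helper16.LDer
  Groth.Agent.Lib.Helper15.RelPC9 Groth.Agent.Lib.Helper15.RelPC11
  Groth.Agent.Lib.Helper15.RelPC21 Groth.Agent.Lib.Helper15.RelPC22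
  Groth.Agent.Lib.Helper15.RelPC23

universe u

attribute [local instance] HasDerivedCategory.standard

section Cx

open TensorProduct

variable {P : Type u} [CommRing P]

/-- flatness of `ext` of a quotient by a range, from flatness of the quotient of the `ext`. -/
lemma flat_tensor_coker_iff {P' : Type u} [CommRing P'] [Algebra P P']
    {X Y : ModuleCat.{u} P} (d : X ⟶ Y) :
    Module.Flat P' (P' ⊗[P] (Y ⧸ LinearMap.range d.hom)) ↔
      Module.Flat P' (((ModuleCat.extendScalars.{u, u, u} (algebraMap P P')).obj Y) ⧸
        LinearMap.range ((ModuleCat.extendScalars.{u, u, u} (algebraMap P P')).map d).hom) := by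
  have e1 := (extCokerIso (algebraMap P P') d).toLinearEquiv
  have e2 := extEquiv (A := P) (B := P') (Y ⧸ LinearMap.range d.hom)
  constructor
  · intro h
    exact Module.Flat.of_linearEquiv (e1.symm.trans e2.symm)
  · intro h
    exact Module.Flat.of_linearEquiv (e2.trans e1)

theorem exists_away_torAmp (E : DRing.Cx P) (b' : ℤ)
    (hE : DRing.VanishesAbove E b') (hff : DRing.TermwiseFiniteFree E) (a : ℤ)
    (hex : ∀ i, i < a → E.ExactAt i)
    (q : Ideal P) [q.IsPrime] (c : ℤ)
    (hq : DRing.HasTorAmplitudeIn (Localization.AtPrime q) a c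
      (DRing.toD ((extCx (algebraMap P (Localization.AtPrime q))).obj E))) :
    ∃ h : P, h ∉ q ∧ DRing.HasTorAmplitudeIn (Localization.Away h) a b'
      (DRing.toD ((extCx (algebraMap P (Localization.Away h))).obj E)) := by
  set Z := (E.X a) ⧸ LinearMap.range (E.d (a - 1) a).hom with hZ
  haveI := (hff a).1
  haveI := (hff a).2
  haveI := (hff (a - 1)).1
  -- `Z` is finitely presented
  haveI hfp : Module.FinitePresentation P Z := by
    haveI : Module.FinitePresentation P (E.X a) := Module.finitePresentation_of_projective P _
    refine Module.finitePresentation_of_surjective (LinearMap.range (E.d (a - 1) a).hom).mkQ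
      (Submodule.mkQ_surjective _) ?_
    rw [Submodule.ker_mkQ, LinearMap.range_eq_map]
    exact (Module.Finite.fg_top).map _
  -- flatness at `q`
  have hflq : DRing.TermwiseFlat ((extCx (algebraMap P (Localization.AtPrime q))).obj E) := by
    intro i
    haveI := (hff i).2
    exact ext_flat (algebraMap P (Localization.AtPrime q)) (E.X i)
  have hvq : DRing.VanishesAbove ((extCx (algebraMap P (Localization.AtPrime q))).obj E) b' :=
    fun i hi => extCx_isZero _ E i (hE i hi)
  have h1 := flat_coker_of_torAmp _ b' hvq hflq a c hq
  have h2 : Module.Flat (Localization.AtPrime q) (Localization.AtPrime q ⊗[P] Z) :=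
    (flat_tensor_coker_iff (P' := Localization.AtPrime q) (E.d (a - 1) a)).2 h1
  haveI : Module.Free (Localization.AtPrime q) (Localization.AtPrime q ⊗[P] Z) :=
    Module.free_of_flat_of_isLocalRing
  obtain ⟨h, hh, hfree, -⟩ := Module.FinitePresentation.exists_free_localizedModule_powers
    q.primeCompl (TensorProduct.mk P (Localization.AtPrime q) Z 1) (Localization.AtPrime q)
  refine ⟨h, hh, ?_⟩
  haveI : Module.Flat P (Localization.Away h) := IsLocalization.flat _ (Submonoid.powers h)
  have hflh : DRing.TermwiseFlat ((extCx (algebraMap P (Localization.Away h))).obj E) := by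
    intro i
    haveI := (hff i).2
    exact ext_flat (algebraMap P (Localization.Away h)) (E.X i)
  have hvh : DRing.VanishesAbove ((extCx (algebraMap P (Localization.Away h))).obj E) b' :=
    fun i hi => extCx_isZero _ E i (hE i hi)
  refine torAmp_of_flat_coker _ a b' hvh hflh (fun i hi => ?_) ?_
  · rw [HomologicalComplex.exactAt_iff_isZero_homology]
    refine IsZero.of_iso ?_ (extHomologyIso (algebraMap P (Localization.Away h)) E i)
    exact Functor.map_isZero _ ((HomologicalComplex.exactAt_iff_isZero_homology _ _).1 (hex i hi))
  · refine (flat_tensor_coker_iff (P' := Localization.Away h) (E.d (a - 1) a)).1 ?_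
    haveI : Module.Flat (Localization (Submonoid.powers h)) (LocalizedModule.Away h Z) :=
      inferInstance
    exact Module.Flat.of_linearEquiv (LocalizedModule.equivTensorProduct (Submonoid.powers h) Z).symm

end Cx

section Mod

variable {P B : Type u} [CommRing P] [CommRing B] [Algebra P B]

/-- if `B` is a pseudo-coherent `P`-module and the localization of `B` at a prime `q` of `P` has
tor dimension `≤ d`, then so has `B_g` for some `g ∉ q`. -/
theorem exists_away_hasTorDimLE (hpc : DRing.IsPseudoCoherentModule' P B) (q : Ideal P)
    [q.IsPrime] (d : ℕ)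
    (Bq : Type u) [CommRing Bq] [Algebra B Bq] [Algebra P Bq] [IsScalarTower P B Bq]
    [IsLocalization (Algebra.algebraMapSubmonoid B q.primeCompl) Bq]
    (h : DRing.HasTorDimLE P d Bq) :
    ∃ g : P, g ∉ q ∧ DRing.HasTorDimLE P d (Localization.Away (algebraMap P B g)) := by
  letI aq : Algebra (Localization.AtPrime q) Bq :=
    (IsLocalization.map Bq (algebraMap P B)
      (show q.primeCompl ≤ (Algebra.algebraMapSubmonoid B q.primeCompl).comap (algebraMap P B)
        from fun x hx => ⟨x, hx, rfl⟩) : Localization.AtPrime q →+* Bq).toAlgebra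
  haveI t : IsScalarTower P (Localization.AtPrime q) Bq := .of_algebraMap_eq (fun x => by
    change algebraMap P Bq x = IsLocalization.map Bq (algebraMap P B) _
      (algebraMap P (Localization.AtPrime q) x)
    rw [IsLocalization.map_eq, ← IsScalarTower.algebraMap_apply])
  haveI : Module.Flat P (Localization.AtPrime q) := IsLocalization.flat _ q.primeCompl
  haveI : Algebra.IsPushout P B (Localization.AtPrime q) Bq :=
    Algebra.isPushout_of_isLocalization q.primeCompl (Localization.AtPrime q) B Bq
  haveI : IsLocalization (Algebra.algebraMapSubmonoid Bq q.primeCompl) Bq := by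
    apply IsLocalization.of_le_isUnit
    rintro _ ⟨a, ha, rfl⟩
    have hu : IsUnit (algebraMap B Bq (algebraMap P B a)) :=
      IsLocalization.map_units Bq
        (⟨algebraMap P B a, ⟨a, ha, rfl⟩⟩ : Algebra.algebraMapSubmonoid B q.primeCompl)
    rw [← IsScalarTower.algebraMap_apply] at hu
    exact hu
  haveI : Algebra.IsPushout P Bq (Localization.AtPrime q) Bq :=
    Algebra.isPushout_of_isLocalization q.primeCompl (Localization.AtPrime q) Bq Bq
  have h' : DRing.HasTorDimLE (Localization.AtPrime q) d Bq :=
    hasTorDimLE_baseChange (R := P) (S := Bq) (R' := Localization.AtPrime q) (S' := Bq) d h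
  obtain ⟨E, b', hE, hff, ⟨e⟩⟩ := hpc
  have hq : DRing.HasTorAmplitudeIn (Localization.AtPrime q) (-(d : ℤ)) 0
      (DRing.toD ((extCx (algebraMap P (Localization.AtPrime q))).obj E)) :=
    hasTorAmplitudeIn_of_iso
      ((εInDPushoutIso (R := P) (S := B) (R' := Localization.AtPrime q) (S' := Bq)).symm ≪≫
        (ε (algebraMap P (Localization.AtPrime q))).mapIso e.symm ≪≫
        εQIso (algebraMap P (Localization.AtPrime q)) E) _ _
      ((hasTorDimLE_iff_torAmp _ _).1 h')
  have hex : ∀ i : ℤ, i < -(d : ℤ) → E.ExactAt i := fun i hi =>
    exactAt_of_iso_single E _ e i (by omega)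
  obtain ⟨g, hg, hamp⟩ := exists_away_torAmp E b' hE hff (-(d : ℤ)) hex q 0 hq
  refine ⟨g, hg, ?_⟩
  letI ag : Algebra (Localization.Away g) (Localization.Away (algebraMap P B g)) :=
    (IsLocalization.Away.map (Localization.Away g) (Localization.Away (algebraMap P B g))
      (algebraMap P B) g).toAlgebra
  haveI tg : IsScalarTower P (Localization.Away g) (Localization.Away (algebraMap P B g)) :=
    .of_algebraMap_eq (fun x => by
      change algebraMap P (Localization.Away (algebraMap P B g)) x =
        IsLocalization.Away.map (Localization.Away g) (Localization.Away (algebraMap P B g))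
          (algebraMap P B) g (algebraMap P (Localization.Away g) x)
      rw [IsLocalization.Away.map, IsLocalization.map_eq, ← IsScalarTower.algebraMap_apply])
  haveI : Module.Flat P (Localization.Away g) := IsLocalization.flat _ (Submonoid.powers g)
  haveI : Algebra.IsPushout P B (Localization.Away g) (Localization.Away (algebraMap P B g)) :=
    Algebra.isPushout_of_isLocalization (Submonoid.powers g) (Localization.Away g) B
      (Localization.Away (algebraMap P B g))
  have h3 : DRing.HasTorAmplitudeIn (Localization.Away g) (-(d : ℤ)) b'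
      (Dual.inD (Localization.Away g) (Localization.Away (algebraMap P B g))) :=
    hasTorAmplitudeIn_of_iso
      ((εQIso (algebraMap P (Localization.Away g)) E).symm ≪≫
        (ε (algebraMap P (Localization.Away g))).mapIso e ≪≫
        εInDPushoutIso (R := P) (S := B) (R' := Localization.Away g)
          (S' := Localization.Away (algebraMap P B g))) _ _ hamp
  have h4 : DRing.HasTorDimLE (Localization.Away g) d (Localization.Away (algebraMap P B g)) := by
    have := hasTorDimLE_of_torAmp _ _ _ h3
    simpa using this
  have h5 := hasTorDimLE_trans (A := P) (B := Localization.Away g)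
    (C := Localization.Away (algebraMap P B g)) 0 d ((tdle_algebraMap 0).1 tdle_of_flat) h4
  exact h5

end Mod

end Groth.Agent.Lib.Helper15.RelPC24
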