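import Mathlib
import Groth.Agent.Lib.Helper15.RelPC24

open CategoryTheory CategoryTheory.Limits DerivedCategory

namespace Groth.Agent.Lib.Helper15.RelPC25

open Groth.Agent.Lib.Helper16.TorAmp Groth.Agent.Lib.Helper16.TorBal
  Groth.Agent.Lib.Helper16.FlatBC Groth.Agent.Lib.Helper16.LDer
  Groth.Agent.Lib.Helper15.RelPC9 Groth.Agent.Lib.Helper15.RelPC11
  Groth.Agent.Lib.Helper15.RelPC20 Groth.Agent.Lib.Helper15.RelPC21
  Groth.Agent.Lib.Helper15.RelPC23

universe u

attribute [local instance] HasDerivedCategory.standard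

section CompSmooth

open TensorProduct

attribute [local instance] Algebra.TensorProduct.rightAlgebra

/-- if `A → B` is smooth and `A → B → C` has finite tor dimension then so has `B → C`. -/
theorem ftd_of_comp_smooth {A B C : Type u} [CommRing A] [CommRing B] [CommRing C]
    (φ : A →+* B) (ψ : B →+* C) (hφ : φ.Smooth) (h : FTD (ψ.comp φ)) : FTD ψ := by
  letI : Algebra A B := φ.toAlgebra
  letI : Algebra A C := (ψ.comp φ).toAlgebra
  haveI : Algebra.Smooth A B := hφ
  haveI : Module.Flat A B := Algebra.Smooth.flat A B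
  let ψ' : B →ₐ[A] C := { ψ with commutes' := fun _ => rfl }
  let τ : C ⊗[A] B →ₐ[A] C := Algebra.TensorProduct.productMap (AlgHom.id A C) ψ'
  have hψ : ψ = (τ : C ⊗[A] B →+* C).comp (algebraMap B (C ⊗[A] B)) := by
    refine RingHom.ext fun b => ?_
    change ψ b = τ ((1 : C) ⊗ₜ b)
    rw [Algebra.TensorProduct.productMap_apply_tmul, map_one, one_mul]
    rfl
  rw [hψ]
  refine ftd_comp _ _ ?_ ?_
  · obtain ⟨d, hd⟩ : DRing.HasFiniteTorDim A C := h
    exact ftd_algebraMap.2 ⟨d, hasTorDimLE_baseChange (R := A) (S := C) (R' := B)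
      (S' := C ⊗[A] B) d hd⟩
  · let τ' : C ⊗[A] B →ₐ[C] C :=
      { (τ : C ⊗[A] B →+* C) with
        commutes' := fun c => by
          change τ (c ⊗ₜ (1 : B)) = c
          rw [Algebra.TensorProduct.productMap_apply_tmul, map_one, mul_one]
          rfl }
    exact ftd_of_retraction_smooth τ'

end CompSmooth

section Single

variable {A B : Type u} [CommRing A] [CommRing B]

/-- `ρ (N[0]) ≅ (ρ N)[0]`. -/
noncomputable def restrictSingleIso (φ : A →+* B) (N : ModuleCat.{u} B) :
    (DRing.restrictD φ).obj ((singleFunctor (ModuleCat.{u} B) 0).obj N) ≅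
      (singleFunctor (ModuleCat.{u} A) 0).obj ((ModuleCat.restrictScalars.{u} φ).obj N) :=
  ((ModuleCat.restrictScalars.{u} φ).mapDerivedCategorySingleFunctor 0).app N

/-- restriction of scalars along a flat ring map preserves tor amplitude of modules. -/
theorem torAmp_single_restrict_of_flat (φ : A →+* B) (hφ : φ.Flat) (N : ModuleCat.{u} B)
    (a b : ℤ) (h : DRing.HasTorAmplitudeIn B a b ((singleFunctor (ModuleCat.{u} B) 0).obj N)) :
    DRing.HasTorAmplitudeIn A a b
      ((singleFunctor (ModuleCat.{u} A) 0).obj ((ModuleCat.restrictScalars.{u} φ).obj N)) := by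
  letI : Algebra A B := φ.toAlgebra
  haveI : Module.Flat A B := hφ
  have hB : DRing.HasTorAmplitudeIn A (-((0 : ℕ) : ℤ)) 0 (Dual.inD A B) := by
    simpa using (torAmp_zero_iff_flat (R := A) B).2 inferInstance
  have h1 := torAmp_restrict 0 hB _ a b h
  have : a - ((0 : ℕ) : ℤ) = a := by simp
  rw [this] at h1
  exact hasTorAmplitudeIn_of_iso (restrictSingleIso φ N) _ _ h1

end Single

section Tsz
variable {B : Type u} [CommRing B] (N : Type u) [AddCommGroup N] [Module B N]

/-- the op-action on a module over a commutative ring. -/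
@[reducible] def opModule : Module Bᵐᵒᵖ N := Module.compHom N ((RingHom.id B).fromOpposite mul_comm)

attribute [local instance] opModule

instance : IsCentralScalar B N := ⟨fun _ _ => rfl⟩

/-- the split short exact sequence `0 → N → B ⊕ N → B → 0`. -/
noncomputable def tszSC : ShortComplex (ModuleCat.{u} B) :=
  ShortComplex.mk (ModuleCat.ofHom (TrivSqZeroExt.inrHom B N))
    (ModuleCat.ofHom (X := ModuleCat.of B (TrivSqZeroExt B N)) (Y := ModuleCat.of B B)
      (TrivSqZeroExt.fstHom B B N).toLinearMap) (by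
    ext x
    simp)

lemma tszSC_shortExact : (tszSC (B := B) N).ShortExact := by
  have h1 : Function.Injective (TrivSqZeroExt.inrHom B N) := TrivSqZeroExt.inr_injective
  have h2 : Function.Surjective (TrivSqZeroExt.fstHom B B N).toLinearMap := fun b =>
    ⟨TrivSqZeroExt.inl b, by simp⟩
  have : Mono (tszSC (B := B) N).f := (ModuleCat.mono_iff_injective _).2 h1
  have : Epi (tszSC (B := B) N).g := (ModuleCat.epi_iff_surjective _).2 h2
  refine ShortComplex.ShortExact.mk ?_
  rw [ShortComplex.moduleCat_exact_iff]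
  intro x hx
  refine ⟨TrivSqZeroExt.snd x, ?_⟩
  change TrivSqZeroExt.fst x = 0 at hx
  change TrivSqZeroExt.inr (TrivSqZeroExt.snd x) = x
  ext
  · simp [hx]
  · simp

/-- **Finite tor dimension of a module over a smooth algebra**: if `R → B` is smooth and the
`B`-module `N` has finite tor dimension over `R`, then it has finite tor dimension over `B`. -/
theorem exists_torAmp_of_smooth {R : Type u} [CommRing R] (φ : R →+* B) (hφ : φ.Smooth)
    (a b : ℤ)
    (h : DRing.HasTorAmplitudeIn R a b ((singleFunctor (ModuleCat.{u} R) 0).obj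
      ((ModuleCat.restrictScalars.{u} φ).obj (ModuleCat.of B N)))) :
    ∃ a' b' : ℤ, DRing.HasTorAmplitudeIn B a' b'
      ((singleFunctor (ModuleCat.{u} B) 0).obj (ModuleCat.of B N)) := by
  have hfl : φ.Flat := by
    letI : Algebra R B := φ.toAlgebra
    haveI : Algebra.Smooth R B := hφ
    exact (Algebra.Smooth.flat R B : Module.Flat R B)
  have hS := tszSC_shortExact (B := B) N
  have hSR := hS.map_of_exact (ModuleCat.restrictScalars.{u} φ)
  have hT := hSR.singleTriangle_distinguished
  have h3 : DRing.HasTorAmplitudeIn R 0 0 ((singleFunctor (ModuleCat.{u} R) 0).obj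
      ((ModuleCat.restrictScalars.{u} φ).obj (ModuleCat.of B B))) :=
    torAmp_single_restrict_of_flat φ hfl (ModuleCat.of B B) 0 0
      ((torAmp_zero_iff_flat (R := B) B).2 inferInstance)
  have h2 := torAmp_obj₂ _ hT (min a 0) (max b 0)
    (torAmp_mono _ _ _ _ _ (min_le_left _ _) (le_max_left _ _) h)
    (torAmp_mono _ _ _ _ _ (min_le_right _ _) (le_max_right _ _) h3)
  have h2' := hasTorDimLE_of_torAmp (R := R)
    ((ModuleCat.restrictScalars.{u} φ).obj (ModuleCat.of B (TrivSqZeroExt B N))) _ _ h2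
  have hC : FTD ((algebraMap B (TrivSqZeroExt B N)).comp φ) := by
    letI : Algebra R (TrivSqZeroExt B N) := ((algebraMap B (TrivSqZeroExt B N)).comp φ).toAlgebra
    refine ⟨_, hasTorDimLE_of_linearEquiv (A := R)
      (M := ((ModuleCat.restrictScalars.{u} φ).obj (ModuleCat.of B (TrivSqZeroExt B N))))
      (N := TrivSqZeroExt B N)
      { toFun := fun x => x
        invFun := fun x => x
        map_add' := fun _ _ => rfl
        map_smul' := fun r x => ?_
        left_inv := fun _ => rfl
        right_inv := fun _ => rfl } _ h2'⟩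
    have key : ∀ (r : R) (y : TrivSqZeroExt B N),
        φ r • y = algebraMap B (TrivSqZeroExt B N) (φ r) * y := fun r y => Algebra.smul_def _ _
    exact key r x
  obtain ⟨e, he⟩ := ftd_algebraMap.1 (ftd_of_comp_smooth φ _ hφ hC)
  rw [hasTorDimLE_iff_torAmp] at he
  have hTB := hS.singleTriangle_distinguished
  have h3B : DRing.HasTorAmplitudeIn B 0 0 ((singleFunctor (ModuleCat.{u} B) 0).obj
      (ModuleCat.of B B)) := (torAmp_zero_iff_flat (R := B) B).2 inferInstance
  refine ⟨-(e : ℤ) - 1 + 1, 0 + 1, torAmp_obj₁ _ hTB (-(e : ℤ) - 1) 0 ?_ ?_⟩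
  · exact torAmp_mono _ _ _ _ _ (by omega) (by omega) he
  · exact torAmp_mono _ _ _ _ _ (by omega) (by omega) h3B

end Tsz

/-- `ModuleCat` form of `exists_torAmp_of_smooth`. -/
theorem exists_torAmp_of_smooth' {B : Type u} [CommRing B] (N : ModuleCat.{u} B) {R : Type u}
    [CommRing R] (φ : R →+* B) (hφ : φ.Smooth) (a b : ℤ)
    (h : DRing.HasTorAmplitudeIn R a b ((singleFunctor (ModuleCat.{u} R) 0).obj
      ((ModuleCat.restrictScalars.{u} φ).obj N))) :
    ∃ a' b' : ℤ, DRing.HasTorAmplitudeIn B a' b'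
      ((singleFunctor (ModuleCat.{u} B) 0).obj N) :=
  exists_torAmp_of_smooth (B := B) N φ hφ a b h

section Loc

open TensorProduct

variable {A B : Type u} [CommRing A] [CommRing B]

/-- for a localization `φ : A → B` and a `B`-module `N`: `B ⊗_A N ≅ N`. -/
noncomputable def extendRestrictIsoOfLocalization (φ : A →+* B) (S : Submonoid A)
    (hφ : letI := φ.toAlgebra; IsLocalization S B) (N : ModuleCat.{u} B) :
    (ModuleCat.extendScalars.{u, u, u} φ).obj ((ModuleCat.restrictScalars.{u} φ).obj N) ≅ N := by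
  letI : Algebra A B := φ.toAlgebra
  haveI : IsLocalization S B := hφ
  letI : Module A N := Module.compHom N φ
  haveI : IsScalarTower A B N := ⟨fun a b n => by
    change (φ a * b) • n = φ a • (b • n)
    rw [mul_smul]⟩
  haveI : IsLocalizedModule S (LinearMap.id : N →ₗ[A] N) := isLocalizedModule_id S N B
  have hbc : IsBaseChange B (LinearMap.id : N →ₗ[A] N) := IsLocalizedModule.isBaseChange S B _
  exact (extIso (A := A) (B := B) N).symm ≪≫ hbc.equiv.toModuleIso

end Loc

section Square

variable {R₀ B₀ R₁ B₁ : Type u} [CommRing R₀] [CommRing B₀] [CommRing R₁] [CommRing B₁]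

/-- finite tor dimension of a module over a localization of a smooth algebra, from finite tor
dimension over a flat base. -/
theorem exists_torAmp_of_square (ψ : R₀ →+* B₀) (gS : R₀ →+* R₁) (gB : B₀ →+* B₁) (σ : R₁ →+* B₁)
    (hsq : σ.comp gS = gB.comp ψ) (hψ : ψ.Smooth) (hgS : gS.Flat) (M : Submonoid B₀)
    (hgB : letI := gB.toAlgebra; IsLocalization M B₁) (N : ModuleCat.{u} B₁) (a b : ℤ)
    (h : DRing.HasTorAmplitudeIn R₁ a b ((singleFunctor (ModuleCat.{u} R₁) 0).obj
      ((ModuleCat.restrictScalars.{u} σ).obj N))) :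
    ∃ a' b' : ℤ, DRing.HasTorAmplitudeIn B₁ a' b' ((singleFunctor (ModuleCat.{u} B₁) 0).obj N) := by
  have h1 := torAmp_single_restrict_of_flat gS hgS _ a b h
  have e1 : (ModuleCat.restrictScalars.{u} gS).obj ((ModuleCat.restrictScalars.{u} σ).obj N) ≅
      (ModuleCat.restrictScalars.{u} ψ).obj ((ModuleCat.restrictScalars.{u} gB).obj N) :=
    ((ModuleCat.restrictScalarsComp'.{u} gS σ _ rfl).app N).symm ≪≫
      (ModuleCat.restrictScalarsComp'.{u} ψ gB _ hsq).app N
  have h2 := hasTorAmplitudeIn_of_iso ((singleFunctor (ModuleCat.{u} R₀) 0).mapIso e1) _ _ h1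
  obtain ⟨a', b', h3⟩ := exists_torAmp_of_smooth'
    ((ModuleCat.restrictScalars.{u} gB).obj N) ψ hψ a b h2
  haveI : FlatHom gB := ⟨by
    letI := gB.toAlgebra
    haveI : IsLocalization M B₁ := hgB
    exact (IsLocalization.flat B₁ M : Module.Flat B₀ B₁)⟩
  have h4 := torAmp_ε gB _ a' b' h3
  refine ⟨a', b', hasTorAmplitudeIn_of_iso (εSingleIso gB _ ≪≫
    (singleFunctor (ModuleCat.{u} B₁) 0).mapIso (extendRestrictIsoOfLocalization gB M hgB N)) _ _ h4⟩

end Square

end Groth.Agent.Lib.Helper15.RelPC25
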