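import Mathlib
import Groth.Agent.Lib.Helper15.RelPC25
import Groth.Agent.Lib.Helper16.StalkTor1

/-!
# Helper15 — RelPC26: pointwise finite tor dimension of a module over a smooth morphism.
-/

open CategoryTheory CategoryTheory.Limits DerivedCategory AlgebraicGeometry

namespace Groth.Agent.Lib.Helper15.RelPC26

open Groth.Agent.Lib.Helper16.TorAmp Groth.Agent.Lib.Helper16.TorBal
  Groth.Agent.Lib.Helper16.FlatBC Groth.Agent.Lib.Helper16.LDer
  Groth.Agent.Lib.Helper16.StalkTor
  Groth.Agent.Lib.Helper15.RelPC9 Groth.Agent.Lib.Helper15.RelPC11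
  Groth.Agent.Lib.Helper15.RelPC20 Groth.Agent.Lib.Helper15.RelPC21
  Groth.Agent.Lib.Helper15.RelPC23 Groth.Agent.Lib.Helper15.RelPC25

universe u

attribute [local instance] HasDerivedCategory.standard

/-- the stalk complex of a module placed in degree `0`. -/
noncomputable def stalkSingleIso {X Y : Scheme.{u}} (g : X ⟶ Y) (x : X) (F : X.Modules) :
    DRing.toD ((DerSch.stalkCxOver g x).obj
      ((HomologicalComplex.single X.Modules (ComplexShape.up ℤ) 0).obj F)) ≅
      (singleFunctor (ModuleCat.{u} (Y.presheaf.stalk (g.base x))) 0).obj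
        ((DerSch.stalkOver g x).obj F) :=
  Q.mapIso ((HomologicalComplex.singleMapHomologicalComplex (DerSch.stalkOver g x)
      (ComplexShape.up ℤ) 0).app F) ≪≫ (singleFunctorIsoCompQ _ 0).symm.app _

/-- the germ maps and the stalk map form a commutative square with `appLE`. -/
theorem stalkMap_comp_germ {B S : Scheme.{u}} (h : B ⟶ S) (W : S.Opens) (V : B.Opens)
    (e : V ≤ h ⁻¹ᵁ W) (y : B) (hy : y ∈ V) :
    (h.stalkMap y).hom.comp (S.presheaf.germ W (h.base y) (e hy)).hom =
      (B.presheaf.germ V y hy).hom.comp (h.appLE W V e).hom := by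
  refine RingHom.ext fun a => ?_
  change (h.stalkMap y).hom (S.presheaf.germ W (h y) (e hy) a) =
    B.presheaf.germ V y hy ((h.appLE W V e).hom a)
  rw [Scheme.Hom.appLE]
  erw [Scheme.Hom.germ_stalkMap_apply]
  simp only [CommRingCat.hom_comp, RingHom.coe_comp, Function.comp_apply]
  exact (TopCat.Presheaf.germ_res_apply B.presheaf _ y hy _).symm

/-- pointwise finite tor amplitude over `S` gives it over a smooth `S`-scheme `B`. -/
theorem exists_hasTorAmplitudeAt_of_comp_smooth {X B S : Scheme.{u}} (h : B ⟶ S) [Smooth h] (φ : X ⟶ B) (F : X.Modules)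
    (x : X) (a b : ℤ)
    (hx : DerSch.HasTorAmplitudeAt (φ ≫ h) a b
      ((HomologicalComplex.single X.Modules (ComplexShape.up ℤ) 0).obj F) x) :
    ∃ a' b' : ℤ, DerSch.HasTorAmplitudeAt φ a' b'
      ((HomologicalComplex.single X.Modules (ComplexShape.up ℤ) 0).obj F) x := by
  obtain ⟨W, hW, hsW, -⟩ := exists_isAffineOpen_mem_and_subset (X := S)
    (x := h.base (φ.base x)) (U := ⊤) trivial
  obtain ⟨V, hV, hbV, hVW⟩ := exists_isAffineOpen_mem_and_subset (X := B) (x := φ.base x)
    (U := h ⁻¹ᵁ W) hsW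
  have e : V ≤ h ⁻¹ᵁ W := hVW
  have hψ := h.smooth_appLE hW hV e
  have hA : DRing.HasTorAmplitudeIn (S.presheaf.stalk (h.base (φ.base x))) a b
      ((singleFunctor (ModuleCat.{u} (S.presheaf.stalk (h.base (φ.base x)))) 0).obj
        ((ModuleCat.restrictScalars.{u} (h.stalkMap (φ.base x)).hom).obj
          ((DerSch.stalkOver φ x).obj F))) := by
    unfold DerSch.HasTorAmplitudeAt at hx
    exact hasTorAmplitudeIn_of_iso (stalkSingleIso (φ ≫ h) x F ≪≫
      (singleFunctor _ 0).mapIso ((stalkOverCompIso φ h x).app F)) _ _ hx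
  have hfl : (S.presheaf.germ W (h.base (φ.base x)) hsW).hom.Flat := by
    letI := S.presheaf.algebra_section_stalk ⟨h.base (φ.base x), hsW⟩
    haveI := hW.isLocalization_stalk ⟨h.base (φ.base x), hsW⟩
    exact (IsLocalization.flat (S.presheaf.stalk (h.base (φ.base x)))
      (hW.primeIdealOf ⟨h.base (φ.base x), hsW⟩).asIdeal.primeCompl :
        Module.Flat Γ(S, W) (S.presheaf.stalk (h.base (φ.base x))))
  obtain ⟨a', b', h'⟩ := exists_torAmp_of_square (h.appLE W V e).hom
    (S.presheaf.germ W (h.base (φ.base x)) hsW).hom (B.presheaf.germ V (φ.base x) hbV).hom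
    (h.stalkMap (φ.base x)).hom (stalkMap_comp_germ h W V e (φ.base x) hbV) hψ hfl
    (hV.primeIdealOf ⟨φ.base x, hbV⟩).asIdeal.primeCompl
    (hV.isLocalization_stalk ⟨φ.base x, hbV⟩) ((DerSch.stalkOver φ x).obj F) a b hA
  exact ⟨a', b', hasTorAmplitudeIn_of_iso (stalkSingleIso φ x F).symm _ _ h'⟩

end Groth.Agent.Lib.Helper15.RelPC26
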