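import Mathlib
import Groth.Prelude.Def_DerSch
import Groth.Prelude.Def_DTor2
import Groth.Agent.Lib.Helper18.Cyc.PushStalk
import Groth.Agent.Lib.Helper16.Stk4
import Groth.Agent.Lib.Helper15.RelPC26

/-!
# Helper15 — RelPC27: stalks of direct images along embeddings; flat amplitude of `i_* F` gives
stalkwise tor amplitude of `F` over a flat base.
-/

set_option autoImplicit false
universe u
open AlgebraicGeometry CategoryTheory Opposite TopologicalSpace DerivedCategory

namespace Groth.Agent.Lib.Helper15.RelPC27

open Groth.Agent.Lib.Helper18.CycPush Groth.Agent.Lib.Helper16.TorAmp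
  Groth.Agent.Lib.Helper16.TorBal Groth.Agent.Lib.Helper16.StalkTor

attribute [local instance] HasDerivedCategory.standard

section Push

variable {Z X : Scheme.{u}} (i : Z ⟶ X)

/-- `(i_* M)_{i z} ≃ M_z`, linear over `O_{X, i z}`. -/
noncomputable def pushStalkEquiv (hi : Topology.IsInducing i) (M : Z.Modules) (z : Z) :
    ((DerSch.stalkFunctor X (i.base z)).obj ((Scheme.Modules.pushforward i).obj M)) ≃ₗ[X.presheaf.stalk (i.base z)]
      ((DerSch.stalkOver i z).obj M) :=
  { (AddEquiv.ofBijective (pushStalk i M z) (pushStalk_bijective i M hi z)) with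
    map_smul' := fun a n => pushStalk_smul i M z a n }

/-- the stalk of the pushforward along an embedding, as a natural isomorphism. -/
noncomputable def pushStalkIso (hi : Topology.IsInducing i) (z : Z) :
    Scheme.Modules.pushforward i ⋙ DerSch.stalkFunctor X (i.base z) ≅ DerSch.stalkOver i z :=
  NatIso.ofComponents (fun M => (pushStalkEquiv i hi M z).toModuleIso) (by
    intro M N φ
    ext n
    obtain ⟨U, hxU, m, rfl⟩ :=
      TopCat.Presheaf.exists_germ_eq ((Scheme.Modules.pushforward i).obj M).presheaf n
    change pushStalk i N z ((DerSch.stalkFunctor X (i.base z)).map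
        ((Scheme.Modules.pushforward i).map φ)
        (((Scheme.Modules.pushforward i).obj M).presheaf.germ U (i.base z) hxU m)) =
      (DerSch.stalkFunctor Z z).map φ (pushStalk i M z
        (((Scheme.Modules.pushforward i).obj M).presheaf.germ U (i.base z) hxU m))
    rw [DerSch.stalkFunctor_map_germ, pushStalk_germ, pushStalk_germ]
    erw [DerSch.stalkFunctor_map_germ]
    rfl)

end Push

section Stalk

variable {X : Scheme.{u}} (x : X)

/-- an isomorphism in `D(O_X)` induces an isomorphism of stalk complexes in `D(O_{X,x})`. -/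
noncomputable def stalkDIso {E G : CochainComplex X.Modules ℤ}
    (e : DCoh.toD X E ≅ DCoh.toD X G) :
    DRing.toD (((DerSch.stalkFunctor X x).mapHomologicalComplex (ComplexShape.up ℤ)).obj E) ≅
      DRing.toD (((DerSch.stalkFunctor X x).mapHomologicalComplex (ComplexShape.up ℤ)).obj G) :=
  ((DerSch.stalkFunctor X x).mapDerivedCategoryFactors.app E).symm ≪≫
    (DerSch.stalkFunctor X x).mapDerivedCategory.mapIso e ≪≫
    (DerSch.stalkFunctor X x).mapDerivedCategoryFactors.app G

/-- flat amplitude on `X` gives tor amplitude of the stalk complexes. -/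
theorem torAmp_stalk_of_hasFlatAmplitudeIn (G : CochainComplex X.Modules ℤ) (a b : ℤ)
    (h : DCoh.HasFlatAmplitudeIn a b (DCoh.toD X G)) :
    DRing.HasTorAmplitudeIn (X.presheaf.stalk x) a b
      (DRing.toD (((DerSch.stalkFunctor X x).mapHomologicalComplex (ComplexShape.up ℤ)).obj G)) := by
  obtain ⟨E, hE, hfl, ⟨e⟩⟩ := h
  refine ⟨((DerSch.stalkFunctor X x).mapHomologicalComplex (ComplexShape.up ℤ)).obj E,
    fun i hi => (DerSch.stalkFunctor X x).map_isZero (hE i hi), fun i => hfl i x,
    ⟨stalkDIso x e⟩⟩

end Stalk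

section Main

variable {X X' Y : Scheme.{u}} (i : X ⟶ X') (f' : X' ⟶ Y)

/-- the stalk over `Y` of `F` at `x` as the restriction of the stalk of `i_* F` at `i x`. -/
noncomputable def pushStalkOverIso (hi : Topology.IsInducing i) (x : X) :
    (Scheme.Modules.pushforward i ⋙ DerSch.stalkFunctor X' (i.base x)) ⋙
        ModuleCat.restrictScalars.{u} (f'.stalkMap (i.base x)).hom ≅
      DerSch.stalkOver (i ≫ f') x :=
  Functor.isoWhiskerRight (pushStalkIso i hi x) _ ≪≫ (stalkOverCompIso i f' x).symm

/-- tor amplitude relative to `i ≫ f'` from flat amplitude of the direct image, `f'` flat. -/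
theorem hasTorAmplitude_of_hasFlatAmplitudeIn_pushforward (hi : Topology.IsInducing i) [Flat f']
    (F : CochainComplex X.Modules ℤ) (a b : ℤ)
    (hF : DCoh.HasFlatAmplitudeIn a b (DCoh.toD X'
      (((Scheme.Modules.pushforward i).mapHomologicalComplex (ComplexShape.up ℤ)).obj F))) :
    DerSch.HasTorAmplitude (i ≫ f') a b F := by
  intro x
  have h1 := torAmp_stalk_of_hasFlatAmplitudeIn (i.base x) _ a b hF
  letI : Algebra (Y.presheaf.stalk (f'.base (i.base x))) (X'.presheaf.stalk (i.base x)) :=
    (f'.stalkMap (i.base x)).hom.toAlgebra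
  haveI : Module.Flat (Y.presheaf.stalk (f'.base (i.base x))) (X'.presheaf.stalk (i.base x)) :=
    Flat.stalkMap f' (i.base x)
  have hB : DRing.HasTorAmplitudeIn (Y.presheaf.stalk (f'.base (i.base x))) (-((0 : ℕ) : ℤ)) 0
      (Dual.inD (Y.presheaf.stalk (f'.base (i.base x))) (X'.presheaf.stalk (i.base x))) := by
    simpa using (torAmp_zero_iff_flat (R := Y.presheaf.stalk (f'.base (i.base x)))
      (X'.presheaf.stalk (i.base x))).2 inferInstance
  have h2 := torAmp_restrict 0 hB _ a b h1
  have : a - ((0 : ℕ) : ℤ) = a := by simp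
  rw [this] at h2
  have e1 := Groth.Agent.Lib.Helper16.RestrictD.restrictQIso
    (algebraMap (Y.presheaf.stalk (f'.base (i.base x))) (X'.presheaf.stalk (i.base x)))
    (((DerSch.stalkFunctor X' (i.base x)).mapHomologicalComplex (ComplexShape.up ℤ)).obj
      (((Scheme.Modules.pushforward i).mapHomologicalComplex (ComplexShape.up ℤ)).obj F))
  have e2 : ((ModuleCat.restrictScalars.{u} (f'.stalkMap (i.base x)).hom).mapHomologicalComplex
      (ComplexShape.up ℤ)).obj
      (((DerSch.stalkFunctor X' (i.base x)).mapHomologicalComplex (ComplexShape.up ℤ)).obj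
        (((Scheme.Modules.pushforward i).mapHomologicalComplex (ComplexShape.up ℤ)).obj F)) ≅
      (DerSch.stalkCxOver (i ≫ f') x).obj F :=
    HomologicalComplex.Hom.isoOfComponents
      (fun n => (pushStalkOverIso i f' hi x).app (F.X n))
      (fun n m _ => ((pushStalkOverIso i f' hi x).hom.naturality (F.d n m)).symm)
  unfold DerSch.HasTorAmplitudeAt
  exact hasTorAmplitudeIn_of_iso (e1 ≪≫ Q.mapIso e2) _ _ h2

end Main

end Groth.Agent.Lib.Helper15.RelPC27
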