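import Groth.Agent.Lib.Helper15.UnivQuot
import Groth.Agent.Lib.Helper3.AlgSpChart
import Groth.Agent.Lib.Helper3.AlgSpFpqcLocal
import Groth.Agent.Lib.Helper3.AlgSpQC4
import Groth.Agent.S9872
import Groth.Agent.S10633

set_option autoImplicit false
set_option backward.isDefEq.respectTransparency.types false
universe u
open CategoryTheory CategoryTheory.Limits AlgebraicGeometry Opposite MorphismProperty

namespace Groth.Agent.Lib.Helper15.UnivExist

variable {S : Scheme.{u}}

open AlgSp Groth.Agent.Lib.Helper3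

theorem exists_isUnivFOThick {Z X : Space S} (h : Z ⟶ X) (hh : IsFormallyUnramifiedMor h.hom) :
    ∃ (Z' : Space S) (i : Z ⟶ Z') (h' : Z' ⟶ X), IsUnivFOThick h.hom i.hom h'.hom := by
  obtain ⟨V, U, p, u, ψ, hpe, hps, hue, hus, hve, hvs, hψ, hcomm⟩ :=
    exists_chart_diagram Z.property X.property h.hom
  obtain ⟨V', iV, kV, hiV, HUV⟩ := UnivAtlas.exists_univ_chart h hh _ hve p hpe ψ hcomm
  generalize hv : u ≫ pullback.fst h.hom p = v at hve hvs hcomm HUV
  -- the relation `R = V ×_Z V`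
  let R : Over S := hve.rep.pullback v
  let s₀ : R ⟶ V := hve.rep.snd v
  have sqR0 : IsPullback (hve.rep.fst v) ((yon S).map s₀) v v := hve.rep.isPullback v
  obtain ⟨t₀, ht₀⟩ := (yon S).map_surjective (hve.rep.fst v)
  have sqR : IsPullback ((yon S).map t₀) ((yon S).map s₀) v v := by rw [ht₀]; exact sqR0
  have hs₀e : Etale s₀.left := hve.2 _ _ _ sqR
  have ht₀e : Etale t₀.left := hve.2 _ _ _ sqR.flip
  obtain ⟨hE, ⟨hcolim⟩⟩ := Groth.Agent.S9872.result S Z.obj Z.property v hve hvs s₀ t₀ sqR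
  -- universal thickening of `R`
  have hvR : RepWith @Etale ((yon S).map s₀ ≫ v) :=
    (RepWith @Etale.{u}).comp_mem _ _ ((repWith_yon_map_iff @Etale s₀).2 hs₀e) hve
  obtain ⟨R', iR, kR, hiR, HUR0⟩ := UnivAtlas.exists_univ_chart h hh _ hvR p hpe (s₀ ≫ ψ)
    (by rw [Category.assoc, hcomm, Functor.map_comp, Category.assoc])
  have HUR : IsUnivFOThick ((yon S).map s₀ ≫ v ≫ h.hom) ((yon S).map iR) kR := by
    rw [← Category.assoc]; exact HUR0
  have hη : (yon S).map s₀ ≫ v ≫ h.hom = (yon S).map t₀ ≫ v ≫ h.hom := by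
    rw [← Category.assoc, ← Category.assoc, sqR.w]
  -- the induced maps `s'`, `t'`
  obtain ⟨s'sh, ⟨hs1', hs2⟩, -⟩ := HUV.2.2 (IsAlgSpace.yon_obj R) (IsAlgSpace.yon_obj R')
    ((yon S).map iR) ((yon S).map s₀) kR HUR.1 HUR.2.1
  obtain ⟨s', rfl⟩ := (yon S).map_surjective s'sh
  have hs1 : iR ≫ s' = s₀ ≫ iV := by
    apply (yon S).map_injective
    rw [Functor.map_comp, Functor.map_comp]
    exact hs1'
  obtain ⟨t'sh, ⟨ht1', ht2⟩, -⟩ := HUV.2.2 (IsAlgSpace.yon_obj R) (IsAlgSpace.yon_obj R')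
    ((yon S).map iR) ((yon S).map t₀) kR HUR.1 (HUR.2.1.trans hη)
  obtain ⟨t', rfl⟩ := (yon S).map_surjective t'sh
  have ht1 : iR ≫ t' = t₀ ≫ iV := by
    apply (yon S).map_injective
    rw [Functor.map_comp, Functor.map_comp]
    exact ht1'
  -- etaleness and the cartesian squares
  have hs'e : Etale s'.left :=
    UnivEtLoc.etale_of_isUnivFOThick (v ≫ h.hom) s₀ hs₀e iR kR HUR iV kV HUV s' hs1 hs2
  have HURt : IsUnivFOThick ((yon S).map t₀ ≫ v ≫ h.hom) ((yon S).map iR) kR := by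
    rw [← hη]; exact HUR
  have ht'e : Etale t'.left :=
    UnivEtLoc.etale_of_isUnivFOThick (v ≫ h.hom) t₀ ht₀e iR kR HURt iV kV HUV t' ht1 ht2
  have hiRci : IsClosedImmersion iR.left := hiR.1.1
  have hiRs : Surjective iR.left := hiR.1.2
  have hiVci : IsClosedImmersion iV.left := hiV.1.1
  have pbs : IsPullback iR s₀ s' iV :=
    UnivDescend.isPullback_over_of_left hs1
      (UnivEtLoc.isPullback_of_etale_thickenings iR.left iV.left s₀.left s'.left
        (congrArg (fun f => f.left) hs1))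
  have pbt : IsPullback iR t₀ t' iV :=
    UnivDescend.isPullback_over_of_left ht1
      (UnivEtLoc.isPullback_of_etale_thickenings iR.left iV.left t₀.left t'.left
        (congrArg (fun f => f.left) ht1))
  have hER' : IsEtaleEqvRel s' t' :=
    UnivRel.isEtaleEqvRel (v ≫ h.hom) s₀ t₀ hη iV kV HUV iR kR HUR s' t' hs1 hs2 ht1 ht2 pbs pbt
      hE.toIsEqvRel hs'e ht'e
  -- the quotient
  obtain ⟨hpres, hZ'⟩ := QuotRel.isPresentation_and_isAlgSpace s' t' hER'
  have hcoeq : (yon S).map s' ≫ QuotRel.quotMap s' t' = (yon S).map t' ≫ QuotRel.quotMap s' t' :=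
    QuotRel.quotMap_coeq s' t'
  have hi_coeq : (yon S).map t₀ ≫ ((yon S).map iV ≫ QuotRel.quotMap s' t') =
      (yon S).map s₀ ≫ ((yon S).map iV ≫ QuotRel.quotMap s' t') := by
    rw [← Category.assoc, ← Functor.map_comp, ← ht1, Functor.map_comp, Category.assoc, ← hcoeq,
      ← Category.assoc, ← Functor.map_comp, hs1, Functor.map_comp, Category.assoc]
  let ish : Z.obj ⟶ QuotSh.quot Scheme.fppfPrecoverage s' t' :=
    Cofork.IsColimit.desc hcolim _ hi_coeq
  have hvi : v ≫ ish = (yon S).map iV ≫ QuotRel.quotMap s' t' :=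
    Cofork.IsColimit.π_desc hcolim
  obtain ⟨h'sh, hh'⟩ := QuotRel.exists_desc_quotMap s' t' kV (by rw [hs2, ht2])
  have hih : ish ≫ h'sh = h.hom := by
    apply Cofork.IsColimit.hom_ext hcolim
    change v ≫ ish ≫ h'sh = v ≫ h.hom
    rw [← Category.assoc, hvi, Category.assoc, hh', HUV.2.1]
  -- `i` is a first order thickening
  have hmono : Mono iV := UnivRel.mono_iV (v ≫ h.hom) iV kV HUV
  have sqA : IsPullback ((yon S).map iV) v (QuotRel.quotMap s' t') ish :=
    UnivQuot.isPullback_atlas v _ ish iV iR s₀ t₀ s' t' hve hvs hpres.isPullback sqR.w hvi.symm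
      pbs ht1
  have hthick : RepWith thick ish :=
    UnivQuot.repWith_thick_of_atlas v _ ish iV hpres.etale hpres.surjective sqA hiV.1
  have hiFO : IsFOThickMor ish :=
    ⟨hthick, UnivQuot.affLocT_sqZero_of_atlas v _ ish iV hpres.etale hpres.surjective sqA hiV
      hthick⟩
  -- conclude by descent of the universal property
  let Z'sp : Space S := ⟨QuotSh.quot Scheme.fppfPrecoverage s' t', hZ'⟩
  let esp : (ofScheme S).obj V ⟶ Z := ObjectProperty.homMk v
  let isp : Z ⟶ Z'sp := ObjectProperty.homMk ish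
  let h'sp : Z'sp ⟶ X := ObjectProperty.homMk h'sh
  let πsp : (ofScheme S).obj V' ⟶ Z'sp := ObjectProperty.homMk (QuotRel.quotMap s' t')
  refine ⟨Z'sp, isp, h'sp, ?_⟩
  have w' : isp ≫ h'sp = h := by
    apply ObjectProperty.hom_ext
    exact hih
  have wsq : (ofScheme S).map iV ≫ πsp = esp ≫ isp := by
    apply ObjectProperty.hom_ext
    exact hvi.symm
  have HU' : IsUnivFOThick (esp ≫ h).hom ((ofScheme S).map iV).hom (πsp ≫ h'sp).hom := by
    change IsUnivFOThick (v ≫ h.hom) ((yon S).map iV) (QuotRel.quotMap s' t' ≫ h'sh)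
    rw [hh']
    exact HUV
  exact Groth.Agent.S10633.result esp (isEtaleMor_of_repWith_etale hve)
    (isSurjectiveMor_of_repWith hvs) h ((ofScheme S).map iV) isp HUV.1 hiFO πsp
    (isEtaleMor_of_repWith_etale hpres.etale) wsq h'sp w' HU'

end Groth.Agent.Lib.Helper15.UnivExist
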