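import Groth.Agent.Lib.Helper3.SchImCartier0
import Groth.Agent.Lib.Helper15.UnivExist

set_option autoImplicit false
set_option backward.isDefEq.respectTransparency.types false
universe u
open CategoryTheory CategoryTheory.Limits AlgebraicGeometry Opposite MorphismProperty

namespace Groth.Agent.Lib.Helper15.SmSp

variable {S : Scheme.{u}}

open AlgSp Groth.Agent.Lib.Helper3

/-- a jointly surjective family of etale morphisms of schemes is an fpqc covering -/
theorem isFpqcCover_of_etale_family {T' : Over S} {K : Type u} (W' : K → Over S)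
    (g' : ∀ k, W' k ⟶ T') (hg' : ∀ k, Etale (g' k).left)
    (hsurj : ∀ t : T'.left, ∃ k, t ∈ Set.range (g' k).left) :
    IsFpqcCover (fun k => (yon S).obj (W' k)) (fun k => (yon S).map (g' k)) := by
  have hflat : ∀ k, LocP @Flat ((yon S).map (g' k)) := by
    intro k
    have := hg' k
    refine locP_of_repWith isEtLocal_flat _ ((repWith_yon_map_iff _ _).2 ?_)
    infer_instance
  have hlfp : ∀ k, LocP @LocallyOfFinitePresentation ((yon S).map (g' k)) := by
    intro k
    have := hg' k
    refine locP_of_repWith isEtLocal_locallyOfFinitePresentation _ ((repWith_yon_map_iff _ _).2 ?_)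
    infer_instance
  refine ⟨hflat, hasStdRefinement_of_isFppfCover (IsAlgSpace.yon_obj T') _ _
    (fun k => IsAlgSpace.yon_obj (W' k)) ⟨fun k => ⟨hflat k, hlfp k⟩, fun x => ?_⟩⟩
  obtain ⟨t, rfl⟩ := (Points.schemeHomeo T').surjective x
  obtain ⟨k, w, rfl⟩ := hsurj t
  exact ⟨k, Points.schemeHomeo (W' k) w, Points.map_yon_map_apply (g' k) w⟩

end Groth.Agent.Lib.Helper15.SmSp
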