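import Mathlib
import Groth.Agent.Lib.Helper15.UnivThick

set_option autoImplicit false
set_option backward.isDefEq.respectTransparency.types false
universe u
open CategoryTheory CategoryTheory.Limits AlgebraicGeometry Opposite

namespace Groth.Agent.Lib.Helper15.SmoothNilLift

/-- smooth algebras lift along quotients by nil ideals -/
theorem exists_algHom_lift {R B C : Type u} [CommRing R] [CommRing B] [CommRing C] [Algebra R B]
    [Algebra R C] [Algebra.Smooth R B] (N : Ideal C) (hN : N ≤ nilradical C)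
    (φ : B →ₐ[R] C ⧸ N) : ∃ ψ : B →ₐ[R] C, (Ideal.Quotient.mkₐ R N).comp ψ = φ := by
  classical
  have hfp : Algebra.FinitePresentation R B := inferInstance
  obtain ⟨n, f, hf, hfg⟩ := hfp.out
  obtain ⟨s, hs⟩ := hfg
  -- choose lifts of the images of the variables
  have hc : ∀ k : Fin n, ∃ c : C, Ideal.Quotient.mk N c = φ (f (MvPolynomial.X k)) :=
    fun k => Ideal.Quotient.mk_surjective _
  choose c hcs using hc
  let ψ₀ : MvPolynomial (Fin n) R →ₐ[R] C := MvPolynomial.aeval c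
  have hψ₀ : (Ideal.Quotient.mkₐ R N).comp ψ₀ = φ.comp f := by
    apply MvPolynomial.algHom_ext
    intro k
    simp only [AlgHom.coe_comp, Function.comp_apply, ψ₀, MvPolynomial.aeval_X,
      Ideal.Quotient.mkₐ_eq_mk]
    exact hcs k
  let N₀ : Ideal C := Ideal.span (ψ₀ '' (s : Set (MvPolynomial (Fin n) R)))
  have hN₀fg : N₀.FG := ⟨s.image ψ₀, by simp [N₀]⟩
  have hN₀N : N₀ ≤ N := by
    rw [Ideal.span_le]
    rintro _ ⟨p, hp, rfl⟩
    have h1 : f p = 0 := by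
      have : p ∈ RingHom.ker f.toRingHom := by rw [← hs]; exact Ideal.subset_span hp
      exact this
    have h2 := congrArg (fun g => g p) hψ₀
    simp only [AlgHom.coe_comp, Function.comp_apply, Ideal.Quotient.mkₐ_eq_mk] at h2
    rw [h1, map_zero] at h2
    exact Ideal.Quotient.eq_zero_iff_mem.1 h2
  have hnil : IsNilpotent N₀ := hN₀fg.isNilpotent_iff_le_nilradical.2 (hN₀N.trans hN)
  -- the induced map to `C ⧸ N₀`
  have hker : RingHom.ker f.toRingHom ≤ RingHom.ker ((Ideal.Quotient.mkₐ R N₀).comp ψ₀).toRingHom := by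
    rw [← hs, Ideal.span_le]
    intro p hp
    change Ideal.Quotient.mk N₀ (ψ₀ p) = 0
    rw [Ideal.Quotient.eq_zero_iff_mem]
    exact Ideal.subset_span ⟨p, hp, rfl⟩
  let φ₀ : B →ₐ[R] C ⧸ N₀ :=
    AlgHom.liftOfSurjective f hf ((Ideal.Quotient.mkₐ R N₀).comp ψ₀) hker
  have hφ₀ : ∀ p, φ₀ (f p) = Ideal.Quotient.mk N₀ (ψ₀ p) := fun p => by
    simp only [φ₀]
    exact AlgHom.liftOfSurjective_apply f hf _ hker p
  refine ⟨Algebra.FormallySmooth.lift N₀ hnil φ₀, ?_⟩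
  apply AlgHom.ext
  intro b
  obtain ⟨p, rfl⟩ := hf b
  have h1 : Ideal.Quotient.mk N₀ (Algebra.FormallySmooth.lift N₀ hnil φ₀ (f p)) =
      Ideal.Quotient.mk N₀ (ψ₀ p) := by
    rw [Algebra.FormallySmooth.mk_lift, hφ₀]
  have h2 : Algebra.FormallySmooth.lift N₀ hnil φ₀ (f p) - ψ₀ p ∈ N := by
    apply hN₀N
    rw [← Ideal.Quotient.eq]
    exact h1
  have h3 := congrArg (fun g => g p) hψ₀
  simp only [AlgHom.coe_comp, Function.comp_apply, Ideal.Quotient.mkₐ_eq_mk] at h3 ⊢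
  rw [← h3]
  exact (Ideal.Quotient.eq).2 h2


/-- ring-hom form -/
theorem exists_ringHom_lift {R B C C₀ : Type u} [CommRing R] [CommRing B] [CommRing C] [CommRing C₀]
    (ρ : R →+* B) (hρ : ρ.Smooth) (γ : R →+* C) (π : C →+* C₀) (hπ : Function.Surjective π)
    (hnil : RingHom.ker π ≤ nilradical C) (α₀ : B →+* C₀) (hcomm : α₀.comp ρ = π.comp γ) :
    ∃ ψ : B →+* C, ψ.comp ρ = γ ∧ π.comp ψ = α₀ := by
  letI := ρ.toAlgebra
  letI := γ.toAlgebra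
  have hsm : Algebra.Smooth R B := hρ
  let e : C ⧸ RingHom.ker π ≃+* C₀ := RingHom.quotientKerEquivOfSurjective hπ
  have he : ∀ c : C, e (Ideal.Quotient.mk _ c) = π c := fun c =>
    RingHom.quotientKerEquivOfSurjective_apply_mk hπ c
  let φ : B →ₐ[R] C ⧸ RingHom.ker π :=
    { toRingHom := e.symm.toRingHom.comp α₀
      commutes' := fun r => by
        change e.symm (α₀ (ρ r)) = Ideal.Quotient.mk _ (γ r)
        rw [RingEquiv.symm_apply_eq, he]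
        exact congrArg (fun f => f r) hcomm }
  obtain ⟨ψ, hψ⟩ := exists_algHom_lift (RingHom.ker π) hnil φ
  refine ⟨ψ.toRingHom, ?_, ?_⟩
  · ext r
    exact ψ.commutes r
  · ext b
    have h1 := congrArg (fun f => f b) hψ
    change Ideal.Quotient.mk _ (ψ b) = e.symm (α₀ b) at h1
    rw [RingEquiv.eq_symm_apply, he] at h1
    exact h1

/-- the kernel of restriction along a surjective morphism consists of nilpotents -/
theorem ker_app_le_nilradical {V₀ V : Scheme.{u}} (j : V₀ ⟶ V) [Surjective j] (V' : V.Opens)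
    (hV' : IsAffineOpen V') : RingHom.ker (j.app V').hom ≤ nilradical Γ(V, V') := by
  intro b hb
  rw [mem_nilradical, Scheme.isNilpotent_iff_basicOpen_eq_bot_of_isCompact hV'.isCompact]
  have h1 : j ⁻¹ᵁ (V.basicOpen b) = ⊥ := by
    rw [Scheme.preimage_basicOpen]
    have : (j.app V') b = 0 := hb
    rw [this, Scheme.basicOpen_zero]
  ext y
  simp only [TopologicalSpace.Opens.coe_bot, Set.mem_empty_iff_false, iff_false]
  intro hy
  obtain ⟨x, rfl⟩ := j.surjective y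
  have : x ∈ j ⁻¹ᵁ (V.basicOpen b) := hy
  rw [h1] at this
  exact this

/-- naturality of `isoSpec` for the restriction of a morphism over an affine open with affine
preimage -/
theorem morphismRestrict_isoSpec {V₀ V : Scheme.{u}} (j : V₀ ⟶ V) (V' : V.Opens)
    (hV' : IsAffineOpen V') (hV₀ : IsAffineOpen (j ⁻¹ᵁ V')) :
    (j ∣_ V') ≫ hV'.isoSpec.hom = hV₀.isoSpec.hom ≫ Spec.map (j.app V') := by
  rw [← cancel_mono hV'.fromSpec, Category.assoc, Category.assoc,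
    IsAffineOpen.isoSpec_hom_fromSpec, morphismRestrict_ι]
  have h := IsAffineOpen.SpecMap_appLE_fromSpec j hV' hV₀ le_rfl
  rw [← Scheme.Hom.app_eq_appLE] at h
  rw [h, ← Category.assoc, IsAffineOpen.isoSpec_hom_fromSpec]

/-- Zariski-local lifting for smooth morphisms along an arbitrary thickening -/
theorem exists_local_lift {U W V V₀ : Scheme.{u}} (g : U ⟶ W) [Smooth g] (j : V₀ ⟶ V)
    [IsClosedImmersion j] [Surjective j] (α : V₀ ⟶ U) (β : V ⟶ W) (w : α ≫ g = j ≫ β) (v : V) :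
    ∃ (V' : V.Opens) (ℓ : V'.toScheme ⟶ U), v ∈ V' ∧ ℓ ≫ g = V'.ι ≫ β ∧
      (j ∣_ V') ≫ ℓ = (j ⁻¹ᵁ V').ι ≫ α := by
  obtain ⟨v₀, rfl⟩ := j.surjective v
  obtain ⟨W₁, hW₁, hvW₁⟩ : ∃ W₁ : W.Opens, IsAffineOpen W₁ ∧ β (j v₀) ∈ W₁ := by
    obtain ⟨_, ⟨O, hO, rfl⟩, hz, -⟩ := W.isBasis_affineOpens.exists_subset_of_mem_open
      (Set.mem_univ (β (j v₀))) isOpen_univ
    exact ⟨O, hO, hz⟩
  have hv₀ : α v₀ ∈ g ⁻¹ᵁ W₁ := by
    change g (α v₀) ∈ W₁
    rw [← Scheme.Hom.comp_apply, w, Scheme.Hom.comp_apply]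
    exact hvW₁
  obtain ⟨U₁, hU₁, hvU₁, e₁⟩ : ∃ U₁ : U.Opens, IsAffineOpen U₁ ∧ α v₀ ∈ U₁ ∧ U₁ ≤ g ⁻¹ᵁ W₁ := by
    obtain ⟨_, ⟨O, hO, rfl⟩, hz, hle⟩ := U.isBasis_affineOpens.exists_subset_of_mem_open
      hv₀ (g ⁻¹ᵁ W₁).2
    exact ⟨O, hO, hz, hle⟩
  obtain ⟨O, hO⟩ := UnivThick.exists_opens_preimage_eq j ⟨inferInstance, inferInstance⟩ (α ⁻¹ᵁ U₁)
  have hvO : j v₀ ∈ O ⊓ β ⁻¹ᵁ W₁ := by
    refine ⟨?_, hvW₁⟩
    have : v₀ ∈ j ⁻¹ᵁ O := by rw [hO]; exact hvU₁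
    exact this
  obtain ⟨V', hV', hvV', hle⟩ : ∃ V' : V.Opens, IsAffineOpen V' ∧ j v₀ ∈ V' ∧
      V' ≤ O ⊓ β ⁻¹ᵁ W₁ := by
    obtain ⟨_, ⟨V', hV', rfl⟩, hz, hle⟩ := V.isBasis_affineOpens.exists_subset_of_mem_open
      hvO (O ⊓ β ⁻¹ᵁ W₁).2
    exact ⟨V', hV', hz, hle⟩
  have e₂ : V' ≤ β ⁻¹ᵁ W₁ := hle.trans inf_le_right
  have e₃ : j ⁻¹ᵁ V' ≤ α ⁻¹ᵁ U₁ := by
    rw [← hO]
    intro x hx
    exact (hle hx).1
  have hV₀ : IsAffineOpen (j ⁻¹ᵁ V') := hV'.preimage j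
  have hsm : (g.appLE W₁ U₁ e₁).hom.Smooth :=
    HasRingHomProperty.appLE (P := @Smooth) g inferInstance ⟨W₁, hW₁⟩ ⟨U₁, hU₁⟩ e₁
  have hcomm : g.appLE W₁ U₁ e₁ ≫ α.appLE U₁ (j ⁻¹ᵁ V') e₃ = β.appLE W₁ V' e₂ ≫ j.app V' := by
    rw [Scheme.Hom.appLE_comp_appLE, Scheme.Hom.app_eq_appLE, Scheme.Hom.appLE_comp_appLE]
    simp only [w]
  obtain ⟨ψ, hψ1, hψ2⟩ := exists_ringHom_lift (g.appLE W₁ U₁ e₁).hom hsm (β.appLE W₁ V' e₂).hom
    (j.app V').hom (j.app_surjective V' hV') (ker_app_le_nilradical j V' hV')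
    (α.appLE U₁ (j ⁻¹ᵁ V') e₃).hom
    (by rw [← CommRingCat.hom_comp, ← CommRingCat.hom_comp, hcomm])
  refine ⟨V', hV'.isoSpec.hom ≫ Spec.map (CommRingCat.ofHom ψ) ≫ hU₁.fromSpec, hvV', ?_, ?_⟩
  · rw [Category.assoc, Category.assoc, ← IsAffineOpen.SpecMap_appLE_fromSpec g hW₁ hU₁ e₁,
      ← Spec.map_comp_assoc]
    have : g.appLE W₁ U₁ e₁ ≫ CommRingCat.ofHom ψ = β.appLE W₁ V' e₂ := by
      ext1
      rw [CommRingCat.hom_comp, CommRingCat.hom_ofHom, hψ1]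
    rw [this, IsAffineOpen.SpecMap_appLE_fromSpec β hW₁ hV' e₂, ← Category.assoc,
      IsAffineOpen.isoSpec_hom_fromSpec]
  · rw [← Category.assoc, morphismRestrict_isoSpec j V' hV' hV₀, Category.assoc,
      ← Spec.map_comp_assoc]
    have : CommRingCat.ofHom ψ ≫ j.app V' = α.appLE U₁ (j ⁻¹ᵁ V') e₃ := by
      ext1
      rw [CommRingCat.hom_comp, CommRingCat.hom_ofHom, hψ2]
    rw [this, IsAffineOpen.SpecMap_appLE_fromSpec α hU₁ hV₀ e₃, ← Category.assoc,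
      IsAffineOpen.isoSpec_hom_fromSpec]

end Groth.Agent.Lib.Helper15.SmoothNilLift
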