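import Mathlib

set_option autoImplicit false
universe u

namespace Groth.Agent.Lib.Helper15.SmoothSecRing

open TensorProduct

section RG
variable {A C : Type u} [CommRing A] [CommRing C] [Algebra A C] (I : Ideal A)

/-- gluing a retraction: `C` an `A`-algebra with a surjection `π` onto `A ⧸ I` having square zero
kernel, `A → C` injective and `C / I C` projective over `A / I`; then `A → C` has a ring retraction
compatible with `π`. -/
theorem exists_retraction (hI : I ^ 2 = ⊥) (π : C →+* A ⧸ I)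
    (hπ : ∀ a, π (algebraMap A C a) = Ideal.Quotient.mk I a) (hJ : RingHom.ker π ^ 2 = ⊥)
    (hinj : ∀ a, algebraMap A C a = 0 → a = 0)
    [Module.Projective (A ⧸ I) ((A ⧸ I) ⊗[A] C)] :
    ∃ μ : C →+* A, (∀ a, μ (algebraMap A C a) = a) ∧ ∀ c, Ideal.Quotient.mk I (μ c) = π c := by
  classical
  set J : Ideal C := RingHom.ker π with hJdef
  let N : Submodule A C := J.restrictScalars A
  have hIJ : ∀ a ∈ I, algebraMap A C a ∈ J := fun a ha => by
    rw [hJdef, RingHom.mem_ker, hπ, Ideal.Quotient.eq_zero_iff_mem]; exact ha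
  have hJJ : ∀ x ∈ J, ∀ y ∈ J, x * y = 0 := fun x hx y hy => by
    have : x * y ∈ J ^ 2 := by rw [pow_two]; exact Ideal.mul_mem_mul hx hy
    rw [hJ] at this; exact this
  have hII : ∀ x ∈ I, ∀ y ∈ I, x * y = 0 := fun x hx y hy => by
    have : x * y ∈ I ^ 2 := by rw [pow_two]; exact Ideal.mul_mem_mul hx hy
    rw [hI] at this; exact this
  have htors : Module.IsTorsionBySet A N (I : Set A) := by
    intro x a
    ext
    change (a : A) • (x : C) = 0
    rw [Algebra.smul_def]
    exact hJJ _ (hIJ a.1 a.2) _ x.2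
  letI : Module (A ⧸ I) N := htors.module
  haveI : IsScalarTower A (A ⧸ I) N := htors.isScalarTower
  -- decomposition
  have hdec : ∀ c : C, ∃ a : A, Ideal.Quotient.mk I a = π c ∧ c - algebraMap A C a ∈ J := by
    intro c
    obtain ⟨a, ha⟩ := Ideal.Quotient.mk_surjective (π c)
    refine ⟨a, ha, ?_⟩
    rw [hJdef, RingHom.mem_ker, map_sub, hπ, ha, sub_self]
  let Q := (A ⧸ I) ⊗[A] C
  let one : Q := (1 : A ⧸ I) ⊗ₜ[A] (1 : C)
  let Ψ : N →ₗ[A] Q := (TensorProduct.mk A (A ⧸ I) C 1) ∘ₗ N.subtype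
  let Ψ' : N →ₗ[A ⧸ I] Q := Ψ.extendScalarsOfSurjective Ideal.Quotient.mk_surjective
  have hΨ' : ∀ n : N, Ψ' n = (1 : A ⧸ I) ⊗ₜ[A] (n : C) := fun n => rfl
  let πl : C →ₗ[A] A ⧸ I :=
    { toFun := π
      map_add' := map_add π
      map_smul' := fun a c => by
        simp only [Algebra.smul_def, map_mul, hπ, RingHom.id_apply]
        rfl }
  let πb : Q →ₗ[A ⧸ I] A ⧸ I := πl.liftBaseChange (A ⧸ I)
  have hπb : ∀ (x : A ⧸ I) (c : C), πb (x ⊗ₜ c) = x * π c := fun x c => by
    rw [LinearMap.liftBaseChange_tmul]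
    rfl
  have h1alg : ∀ a : A, (1 : A ⧸ I) ⊗ₜ[A] (algebraMap A C a) = Ideal.Quotient.mk I a • one := by
    intro a
    rw [Algebra.algebraMap_eq_smul_one, TensorProduct.tmul_smul]
    exact (algebraMap_smul (A ⧸ I) a one).symm
  let Θ : (N × (A ⧸ I)) →ₗ[A ⧸ I] Q := Ψ'.coprod (LinearMap.toSpanSingleton (A ⧸ I) Q one)
  have hΘ : Function.Surjective Θ := by
    intro x
    induction x using TensorProduct.induction_on with
    | zero => exact ⟨0, map_zero _⟩
    | tmul x c =>
      obtain ⟨a, rfl⟩ := Ideal.Quotient.mk_surjective x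
      obtain ⟨a₀, ha₀, hj⟩ := hdec (a • c)
      refine ⟨(⟨a • c - algebraMap A C a₀, hj⟩, Ideal.Quotient.mk I a₀), ?_⟩
      simp only [Θ, LinearMap.coprod_apply, hΨ', LinearMap.toSpanSingleton_apply]
      rw [← h1alg, ← TensorProduct.tmul_add, sub_add_cancel, TensorProduct.tmul_smul,
        TensorProduct.smul_tmul', Algebra.smul_def, mul_one]
      rfl
    | add x y hx hy =>
      obtain ⟨x', rfl⟩ := hx
      obtain ⟨y', rfl⟩ := hy
      exact ⟨x' + y', map_add _ _ _⟩
  obtain ⟨h, hh⟩ := Module.projective_lifting_property Θ LinearMap.id hΘ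
  let e : Q →ₗ[A ⧸ I] Q := LinearMap.id - (LinearMap.toSpanSingleton (A ⧸ I) Q one) ∘ₗ πb
  let τ : C →ₗ[A] C := N.subtype ∘ₗ
    ((LinearMap.fst (A ⧸ I) N (A ⧸ I) ∘ₗ h ∘ₗ e).restrictScalars A) ∘ₗ
      (TensorProduct.mk A (A ⧸ I) C 1)
  have hτdef : ∀ c, τ c = ((h (e ((1 : A ⧸ I) ⊗ₜ[A] c))).1 : C) := fun c => rfl
  have hτJ : ∀ c, τ c ∈ J := fun c => Subtype.property _
  have hπbone : πb one = 1 := by simp [one, hπb]
  have hone : e one = 0 := by
    simp [e, hπbone]
  have hτalg : ∀ a, τ (algebraMap A C a) = 0 := by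
    intro a
    rw [hτdef, h1alg, map_smul, hone, smul_zero, map_zero]
    rfl
  have hker : ∀ y : C, (1 : A ⧸ I) ⊗ₜ[A] y = 0 → ∃ a ∈ I, algebraMap A C a = y := by
    intro y hy
    have h0 : (Submodule.Quotient.mk y : C ⧸ (I • (⊤ : Submodule A C))) = 0 := by
      rw [← TensorProduct.quotTensorEquivQuotSMul_mk_one_tmul, hy, map_zero]
    rw [Submodule.Quotient.mk_eq_zero] at h0
    refine Submodule.smul_induction_on h0 ?_ ?_
    · intro a ha c _
      obtain ⟨b, -, hb⟩ := hdec c
      refine ⟨a * b, I.mul_mem_right _ ha, ?_⟩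
      have : a • (c - algebraMap A C b) = 0 := by
        rw [Algebra.smul_def]; exact hJJ _ (hIJ a ha) _ hb
      rw [smul_sub, sub_eq_zero] at this
      rw [this, Algebra.smul_def, map_mul]
    · rintro x y ⟨a, ha, rfl⟩ ⟨b, hb, rfl⟩
      exact ⟨a + b, I.add_mem ha hb, map_add _ _ _⟩
  have hkey : ∀ c, ∃ a, algebraMap A C a = c - τ c ∧ Ideal.Quotient.mk I a = π c := by
    intro c
    obtain ⟨a₀, ha₀, hj⟩ := hdec c
    let n : N := ⟨c - algebraMap A C a₀, hj⟩
    have hex : e ((1 : A ⧸ I) ⊗ₜ[A] c) = Ψ' n := by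
      simp only [e, LinearMap.sub_apply, LinearMap.id_apply, LinearMap.coe_comp,
        Function.comp_apply, LinearMap.toSpanSingleton_apply, hπb, one_mul, hΨ', n]
      rw [← ha₀, ← h1alg, ← TensorProduct.tmul_sub]
    obtain ⟨m, r, hmr⟩ : ∃ (m : N) (r : A ⧸ I), h (Ψ' n) = (m, r) := ⟨_, _, rfl⟩
    have hτc : τ c = (m : C) := by
      rw [hτdef, hex, hmr]
    have hΘh : Ψ' m + r • one = Ψ' n := by
      have := congrArg (fun f => f (Ψ' n)) hh
      simpa [Θ, LinearMap.coprod_apply, hmr] using this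
    have hπΨ : ∀ m : N, πb (Ψ' m) = 0 := fun m => by
      rw [hΨ', hπb, one_mul]; exact m.2
    have h2 : r = 0 := by
      have := congrArg πb hΘh
      rw [map_add, hπΨ, hπΨ, map_smul, hπbone, zero_add, smul_eq_mul, mul_one] at this
      exact this
    rw [h2, zero_smul, add_zero, hΨ', hΨ', ← sub_eq_zero, ← TensorProduct.tmul_sub] at hΘh
    obtain ⟨a₁, ha₁, hy⟩ := hker _ hΘh
    refine ⟨a₀ - a₁, ?_, ?_⟩
    · have hn : (n : C) = c - algebraMap A C a₀ := rfl
      rw [map_sub, hy, hτc, hn]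
      ring
    · rw [map_sub, ha₀, Ideal.Quotient.eq_zero_iff_mem.2 ha₁, sub_zero]
  choose μ hμ1 hμ2 using hkey
  have hinj' : ∀ a b, algebraMap A C a = algebraMap A C b → a = b := fun a b hab => by
    have := hinj (a - b) (by rw [map_sub, hab, sub_self])
    exact sub_eq_zero.1 this
  have hμalg : ∀ a, μ (algebraMap A C a) = a := fun a => by
    apply hinj'
    rw [hμ1, hτalg, sub_zero]
  have hμadd : ∀ c c', μ (c + c') = μ c + μ c' := fun c c' => by
    apply hinj'
    rw [map_add, hμ1, hμ1, hμ1, map_add]; ring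
  have hμsmul : ∀ (a : A) c, μ (a • c) = a * μ c := fun a c => by
    apply hinj'
    rw [map_mul, hμ1, hμ1, map_smul, Algebra.smul_def, Algebra.smul_def]; ring
  have hμJ : ∀ j ∈ J, μ j ∈ I := fun j hj => by
    rw [← Ideal.Quotient.eq_zero_iff_mem, hμ2]; exact hj
  have hμzero : μ 0 = 0 := by
    have := hμalg 0
    rwa [map_zero] at this
  have hμmul : ∀ c c', μ (c * c') = μ c * μ c' := by
    intro c c'
    obtain ⟨a, -, hj⟩ := hdec c
    obtain ⟨a', -, hj'⟩ := hdec c'
    set j := c - algebraMap A C a with hjdef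
    set j' := c' - algebraMap A C a' with hj'def
    have hc : c = a • (1 : C) + j := by rw [hjdef, Algebra.smul_def, mul_one]; ring
    have hc' : c' = a' • (1 : C) + j' := by rw [hj'def, Algebra.smul_def, mul_one]; ring
    have e1 : c * c' = (a * a') • (1 : C) + (a • j' + a' • j) := by
      rw [hc, hc']
      simp only [Algebra.smul_def, mul_one, map_mul]
      have := hJJ j hj j' hj'
      linear_combination this
    have hone' : μ 1 = 1 := by
      have := hμalg 1
      rwa [map_one] at this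
    rw [e1, hμadd, hμadd, hμsmul, hμsmul, hμsmul, hone', hc, hc', hμadd, hμadd, hμsmul, hμsmul,
      hone']
    have := hII _ (hμJ j hj) _ (hμJ j' hj')
    linear_combination -this
  refine ⟨⟨⟨⟨μ, ?_⟩, hμmul⟩, hμzero, hμadd⟩, hμalg, hμ2⟩
  have := hμalg 1
  rwa [map_one] at this

end RG


section CotProj
variable {R B : Type u} [CommRing R] [CommRing B] [Algebra R B]

open KaehlerDifferential

/-- for a smooth algebra with a retraction, the first infinitesimal neighbourhood of the section is a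
finite projective module over the base -/
theorem finite_projective_quot_sq [Algebra.Smooth R B] (ε : B →ₐ[R] R) :
    Module.Finite R (B ⧸ RingHom.ker ε.toRingHom ^ 2) ∧
      Module.Projective R (B ⧸ RingHom.ker ε.toRingHom ^ 2) := by
  letI : Algebra B R := ε.toRingHom.toAlgebra
  haveI : IsScalarTower R B R := IsScalarTower.of_algebraMap_eq (fun r => (ε.commutes r).symm)
  have hsurj : Function.Surjective (algebraMap B R) := fun r => ⟨algebraMap R B r, ε.commutes r⟩
  set K : Ideal B := RingHom.ker (algebraMap B R) with hK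
  have hKε : RingHom.ker ε.toRingHom = K := rfl
  rw [hKε]
  obtain ⟨l, hl⟩ := (Algebra.FormallySmooth.iff_split_injection (R := R) (P := B) (A := R)
    hsurj).mp inferInstance
  haveI : Algebra.FiniteType R B := inferInstance
  haveI : Module.Finite B Ω[B⁄R] := inferInstance
  haveI : Module.Projective B Ω[B⁄R] := inferInstance
  haveI : Module.Finite R (R ⊗[B] Ω[B⁄R]) := inferInstance
  haveI : Module.Projective R (R ⊗[B] Ω[B⁄R]) := inferInstance
  let lR : R ⊗[B] Ω[B⁄R] →ₗ[R] K.Cotangent := l.restrictScalars R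
  let kR : K.Cotangent →ₗ[R] R ⊗[B] Ω[B⁄R] := (kerCotangentToTensor R B R).restrictScalars R
  have hlk : lR ∘ₗ kR = LinearMap.id := by
    refine LinearMap.ext fun x => ?_
    exact congrArg (fun f => f x) hl
  haveI : Module.Projective R K.Cotangent := Module.Projective.of_split kR lR hlk
  haveI : Module.Finite R K.Cotangent := by
    refine Module.Finite.of_surjective lR (fun x => ⟨kR x, ?_⟩)
    exact congrArg (fun f => f x) hlk
  let P' := B ⧸ K ^ 2
  let εb : P' →ₐ[R] R := ε.kerSquareLift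
  let dq : P' →ₗ[R] R ⊗[B] Ω[B⁄R] := (derivationQuotKerSq R B R).toLinearMap
  let cq : K.Cotangent →ₗ[R] P' := K.cotangentToQuotientSquare.restrictScalars R
  let i : P' →ₗ[R] R × K.Cotangent := εb.toLinearMap.prod (lR ∘ₗ dq)
  let s : R × K.Cotangent →ₗ[R] P' := (Algebra.linearMap R P').coprod cq
  have hsi : s ∘ₗ i = LinearMap.id := by
    refine LinearMap.ext fun x => ?_
    obtain ⟨b, rfl⟩ := Ideal.Quotient.mk_surjective x
    have hk : b - algebraMap R B (ε b) ∈ K := by
      rw [hK, RingHom.mem_ker, map_sub]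
      change ε b - ε (algebraMap R B (ε b)) = 0
      rw [ε.commutes]
      exact sub_self _
    have h1 : dq (Ideal.Quotient.mk (K ^ 2) b) = kR (K.toCotangent ⟨_, hk⟩) := by
      change (1 : R) ⊗ₜ[B] D R B b = kerCotangentToTensor R B R (K.toCotangent ⟨_, hk⟩)
      rw [kerCotangentToTensor_toCotangent, map_sub, Derivation.map_algebraMap, sub_zero]
    have h2 : lR (dq (Ideal.Quotient.mk (K ^ 2) b)) = K.toCotangent ⟨_, hk⟩ := by
      rw [h1]
      exact LinearMap.congr_fun hlk _
    change algebraMap R P' (ε b) + cq (lR (dq (Ideal.Quotient.mk (K ^ 2) b))) = _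
    rw [h2]
    change algebraMap R P' (ε b) + K.cotangentToQuotientSquare (K.toCotangent ⟨_, hk⟩) = _
    rw [Ideal.toCotangent_to_quotient_square]
    change Ideal.Quotient.mk (K ^ 2) (algebraMap R B (ε b)) +
      Ideal.Quotient.mk (K ^ 2) (b - algebraMap R B (ε b)) = Ideal.Quotient.mk (K ^ 2) b
    rw [← map_add]
    congr 1
    ring
  refine ⟨Module.Finite.of_surjective s (fun x => ⟨i x, congrArg (fun f => f x) hsi⟩),
    Module.Projective.of_split i s hsi⟩

theorem ringHom_props [Algebra.Smooth R B] (ε : B →ₐ[R] R) :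
    (algebraMap R (B ⧸ RingHom.ker ε.toRingHom ^ 2)).Finite ∧
      (algebraMap R (B ⧸ RingHom.ker ε.toRingHom ^ 2)).Flat ∧
      (algebraMap R (B ⧸ RingHom.ker ε.toRingHom ^ 2)).FinitePresentation := by
  obtain ⟨hf, hp⟩ := finite_projective_quot_sq ε
  haveI := hf
  haveI := hp
  refine ⟨RingHom.finite_algebraMap.2 hf, RingHom.flat_algebraMap_iff.2 inferInstance, ?_⟩
  haveI : Module.FinitePresentation R (B ⧸ RingHom.ker ε.toRingHom ^ 2) :=
    Module.finitePresentation_of_projective _ _
  exact RingHom.finitePresentation_algebraMap.2 inferInstance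

end CotProj

section Consumer
variable {R M : Type u} [CommRing R] [CommRing M] [Algebra R M]

theorem projective_of_ringHom_props (h1 : (algebraMap R M).Finite) (h2 : (algebraMap R M).Flat)
    (h3 : (algebraMap R M).FinitePresentation) : Module.Projective R M := by
  haveI : Module.Finite R M := RingHom.finite_algebraMap.1 h1
  haveI : Module.Flat R M := RingHom.flat_algebraMap_iff.1 h2
  haveI : Algebra.FinitePresentation R M := RingHom.finitePresentation_algebraMap.1 h3
  haveI : Module.FinitePresentation R M := Module.FinitePresentation.of_finite_of_finitePresentation R M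
  exact Module.Flat.projective_of_finitePresentation

end Consumer

end Groth.Agent.Lib.Helper15.SmoothSecRing
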