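import Mathlib
import Groth.Prelude.Def_Omega3
import Groth.Agent.Lib.Helper15.UnivThick
import Groth.Agent.S9426

set_option autoImplicit false
set_option backward.isDefEq.respectTransparency.types false
universe u
open CategoryTheory CategoryTheory.Limits AlgebraicGeometry Opposite

namespace Groth.Agent.Lib.Helper15.UnivThickAffine
open Groth.Agent.Lib.Helper15.UnivThick

theorem surjective_SpecMap_of_sq {R S : CommRingCat.{u}} (φ : R ⟶ S)
    (hφ : Function.Surjective φ.hom) (hker : RingHom.ker φ.hom ^ 2 = ⊥)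
    (w : Spec R) : ∃ w' : Spec S, Spec.map φ w' = w := by
  have hle : RingHom.ker φ.hom ≤ w.asIdeal := by
    apply Ideal.IsPrime.le_of_pow_le (n := 2)
    rw [hker]
    exact bot_le
  have : (w : PrimeSpectrum R) ∈ Set.range (PrimeSpectrum.comap φ.hom) := by
    rw [_root_.range_comap_of_surjective _ _ hφ]
    exact (PrimeSpectrum.mem_zeroLocus _ _).mpr hle
  obtain ⟨w', hw'⟩ := this
  exact ⟨w', hw'⟩

theorem isFirstOrderThickening_SpecMap {R S : CommRingCat.{u}} (φ : R ⟶ S)
    (hφ : Function.Surjective φ.hom) (hker : RingHom.ker φ.hom ^ 2 = ⊥) :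
    MoreMor.IsFirstOrderThickening (Spec.map φ) :=
  ⟨⟨IsClosedImmersion.spec_of_surjective φ hφ, ⟨fun w => surjective_SpecMap_of_sq φ hφ hker w⟩⟩,
    ker_SpecMap_sq φ hker⟩

theorem isFirstOrderThickening_iso_comp {A B C : Scheme.{u}} (e : A ⟶ B) [IsIso e] (f : B ⟶ C)
    (hf : MoreMor.IsFirstOrderThickening f) : MoreMor.IsFirstOrderThickening (e ≫ f) := by
  have sq : IsPullback e (e ≫ f) f (𝟙 C) := IsPullback.of_horiz_isIso ⟨by rw [Category.comp_id]⟩
  exact isFirstOrderThickening_of_isPullback f hf (e ≫ f) e (𝟙 C) sq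

/-- ring-level universal thickening gives a scheme-level one (affine source mapping into an affine
open of the target) -/
theorem isUnivThickening_of_ring {Z X : Scheme.{u}} (h : Z ⟶ X)
    {U : X.Opens} (hU : IsAffineOpen U) {V : Z.Opens} (hV : IsAffineOpen V) (e : V ≤ h ⁻¹ᵁ U)
    (S' : Type u) [CommRing S']
    (ρ : Γ(X, U) →+* S') (π : S' →+* Γ(Z, V)) (hπρ : π.comp ρ = (h.appLE U V e).hom)
    (hsurj : Function.Surjective π) (hker : RingHom.ker π ^ 2 = ⊥)
    (huniv : ∀ (A : Type u) [CommRing A] (I : Ideal A), I ^ 2 = ⊥ →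
      ∀ (β : Γ(X, U) →+* A) (α : Γ(Z, V) →+* A ⧸ I),
        α.comp (h.appLE U V e).hom = (Ideal.Quotient.mk I).comp β →
        ∃! γ : S' →+* A, γ.comp ρ = β ∧ (Ideal.Quotient.mk I).comp γ = α.comp π) :
    OmegaSh.IsUnivThickening (V.ι ≫ h) (hV.isoSpec.hom ≫ Spec.map (CommRingCat.ofHom π))
      (Spec.map (CommRingCat.ofHom ρ) ≫ hU.fromSpec) := by
  have hfac : (hV.isoSpec.hom ≫ Spec.map (CommRingCat.ofHom π)) ≫
      (Spec.map (CommRingCat.ofHom ρ) ≫ hU.fromSpec) = V.ι ≫ h := by
    rw [Category.assoc, ← Category.assoc (Spec.map _), ← Spec.map_comp, ← CommRingCat.ofHom_comp,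
      hπρ, CommRingCat.ofHom_hom, IsAffineOpen.SpecMap_appLE_fromSpec h hU hV e,
      ← Category.assoc, IsAffineOpen.isoSpec_hom_fromSpec]
  apply isUnivThickening_of_standard_tests _ _ _ ?_ hfac
  · intro A _ I hI b a hcomm
    have hrange : Set.range b ⊆ Set.range hU.fromSpec := by
      rintro _ ⟨t', rfl⟩
      obtain ⟨t, rfl⟩ := surjective_SpecMap_of_sq (CommRingCat.ofHom (Ideal.Quotient.mk I))
        Ideal.Quotient.mk_surjective (by simpa using hI) t'
      rw [hU.range_fromSpec, ← Scheme.Hom.comp_apply, hcomm]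
      exact e (a t).2
    set b₀ := IsOpenImmersion.lift hU.fromSpec b hrange with hb₀
    have hb₀f : b₀ ≫ hU.fromSpec = b := IsOpenImmersion.lift_fac _ _ _
    set β := Spec.preimage b₀ with hβ
    have hβm : Spec.map β = b₀ := Spec.map_preimage _
    set α := Spec.preimage (a ≫ hV.isoSpec.hom) with hα
    have hαm : Spec.map α = a ≫ hV.isoSpec.hom := Spec.map_preimage _
    have hαβ : h.appLE U V e ≫ α = β ≫ CommRingCat.ofHom (Ideal.Quotient.mk I) := by
      apply Spec.map_injective
      rw [Spec.map_comp, Spec.map_comp, hαm, hβm, ← cancel_mono hU.fromSpec]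
      simp only [Category.assoc]
      rw [hb₀f, hcomm, IsAffineOpen.SpecMap_appLE_fromSpec h hU hV e,
        ← Category.assoc hV.isoSpec.hom, IsAffineOpen.isoSpec_hom_fromSpec]
    have hαβ' : α.hom.comp (h.appLE U V e).hom = (Ideal.Quotient.mk I).comp β.hom := by
      have := congrArg CommRingCat.Hom.hom hαβ
      simpa using this
    obtain ⟨γ, ⟨hγ1, hγ2⟩, hγu⟩ := huniv A I hI β.hom α.hom hαβ'
    refine ⟨Spec.map (CommRingCat.ofHom γ), ⟨?_, ?_⟩, ?_⟩
    · rw [← Spec.map_comp, ← CommRingCat.ofHom_comp, hγ2, CommRingCat.ofHom_comp, Spec.map_comp,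
        CommRingCat.ofHom_hom, hαm, Category.assoc]
    · rw [← Category.assoc, ← Spec.map_comp, ← CommRingCat.ofHom_comp, hγ1, CommRingCat.ofHom_hom,
        hβm, hb₀f]
    · rintro a'' ⟨k1, k2⟩
      have hpre : Spec.map (Spec.preimage a'') = a'' := Spec.map_preimage _
      have hg1 : (Spec.preimage a'').hom.comp ρ = β.hom := by
        have : CommRingCat.ofHom ρ ≫ Spec.preimage a'' = β := by
          apply Spec.map_injective
          rw [Spec.map_comp, hpre, hβm, ← cancel_mono hU.fromSpec, Category.assoc, k2, hb₀f]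
        have := congrArg CommRingCat.Hom.hom this
        simpa using this
      have hg2 : (Ideal.Quotient.mk I).comp (Spec.preimage a'').hom = α.hom.comp π := by
        have : Spec.preimage a'' ≫ CommRingCat.ofHom (Ideal.Quotient.mk I) =
            CommRingCat.ofHom π ≫ α := by
          apply Spec.map_injective
          rw [Spec.map_comp, hpre, k1, Spec.map_comp, hαm, Category.assoc]
        have := congrArg CommRingCat.Hom.hom this
        simpa using this
      have := hγu _ ⟨hg1, hg2⟩
      rw [← hpre, ← this, CommRingCat.ofHom_hom]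
  · apply isFirstOrderThickening_iso_comp
    exact isFirstOrderThickening_SpecMap _ hsurj (by simpa using hker)

open Groth.Agent.Lib.Helper15.UnivThick

/-- affine-local existence of universal first-order thickenings -/
theorem exists_univThickening_affine {Z X : Scheme.{u}} (h : Z ⟶ X) [FormallyUnramified h]
    {U : X.Opens} (hU : IsAffineOpen U) {V : Z.Opens} (hV : IsAffineOpen V) (e : V ≤ h ⁻¹ᵁ U) :
    ∃ (Z' : Scheme.{u}) (i : V.toScheme ⟶ Z') (h' : Z' ⟶ X),
      OmegaSh.IsUnivThickening (V.ι ≫ h) i h' := by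
  letI : Algebra Γ(X, U) Γ(Z, V) := (h.appLE U V e).hom.toAlgebra
  have hFU : Algebra.FormallyUnramified Γ(X, U) Γ(Z, V) := h.formallyUnramified_appLE hU hV e
  obtain ⟨S', _, _, π, hs, hk, hu⟩ := Groth.Agent.S9426.result Γ(X, U) Γ(Z, V)
  refine ⟨Spec (.of S'), _, _, isUnivThickening_of_ring h hU hV e S' (algebraMap _ S')
    π.toRingHom ?_ hs hk ?_⟩
  · exact π.comp_algebraMap
  · intro A _ I hI β α hαβ
    letI : Algebra Γ(X, U) A := β.toAlgebra
    let αalg : Γ(Z, V) →ₐ[Γ(X, U)] A ⧸ I :=
      { α with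
        commutes' := fun r => by
          have := congrArg (fun f => f r) hαβ
          exact this }
    obtain ⟨γ, hγ, hγu⟩ := hu A I hI αalg
    refine ⟨γ.toRingHom, ⟨γ.comp_algebraMap, ?_⟩, ?_⟩
    · have := congrArg AlgHom.toRingHom hγ
      exact this
    · rintro γ' ⟨k1, k2⟩
      let γalg : S' →ₐ[Γ(X, U)] A :=
        { γ' with
          commutes' := fun r => by
            have := congrArg (fun f => f r) k1
            exact this }
      have : γalg = γ := by
        apply hγu
        apply AlgHom.ext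
        intro x
        have := congrArg (fun f => f x) k2
        exact this
      rw [← this]

end Groth.Agent.Lib.Helper15.UnivThickAffine
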