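import Mathlib
import Groth.Prelude.Def_Omega3
import Groth.Agent.Lib.Helper15.UnivThick
import Groth.Agent.Lib.Helper15.UnivThickAffine
import Groth.Agent.Lib.Helper15.SmoothSecRing

set_option autoImplicit false
set_option backward.isDefEq.respectTransparency.types false
universe u
open CategoryTheory CategoryTheory.Limits AlgebraicGeometry Opposite TopologicalSpace

namespace Groth.Agent.Lib.Helper15.SmoothSecSch
open Groth.Agent.Lib.Helper15.UnivThick Groth.Agent.Lib.Helper15.UnivThickAffine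

/-- converse of `ker_SpecMap_sq` -/
theorem ker_sq_of_SpecMap {R S : CommRingCat.{u}} (φ : R ⟶ S)
    (h : (Spec.map φ).ker * (Spec.map φ).ker = ⊥) : RingHom.ker φ.hom ^ 2 = ⊥ := by
  rw [eq_bot_iff, pow_two, Ideal.mul_le]
  intro x hx y hy
  rw [RingHom.mem_ker] at hx hy
  have key : ∀ z : R, φ.hom z = 0 → (Scheme.ΓSpecIso R).inv z ∈
      (Spec.map φ).ker.ideal ⟨⊤, isAffineOpen_top _⟩ := by
    intro z hz
    rw [Scheme.Hom.ker_apply, RingHom.mem_ker]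
    have h1 := congrArg (fun ψ => ψ.hom z) (Scheme.ΓSpecIso_inv_naturality φ)
    simp only [CommRingCat.hom_comp, RingHom.coe_comp, Function.comp_apply] at h1
    rw [hz, map_zero] at h1
    exact h1.symm
  have hxy : (Scheme.ΓSpecIso R).inv x * (Scheme.ΓSpecIso R).inv y ∈
      ((Spec.map φ).ker * (Spec.map φ).ker).ideal ⟨⊤, isAffineOpen_top _⟩ := by
    rw [Scheme.IdealSheafData.ideal_mul, Pi.mul_apply]
    exact Ideal.mul_mem_mul (key x hx) (key y hy)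
  rw [h, Scheme.IdealSheafData.ideal_bot, Pi.bot_apply, Ideal.mem_bot, ← map_mul] at hxy
  have hinj : Function.Injective (Scheme.ΓSpecIso R).inv :=
    (ConcreteCategory.bijective_of_isIso _).1
  rw [Ideal.mem_bot]
  exact hinj (by rw [hxy, map_zero])

/-- a scheme with a surjective closed immersion from an affine scheme which is surjective on global
sections is affine -/
theorem isAffine_of_thickening {V E : Scheme.{u}} (t : V ⟶ E) [IsClosedImmersion t] [Surjective t]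
    [IsAffine V] (hs : Function.Surjective t.appTop.hom) : IsAffine E := by
  let s : Set Γ(E, ⊤) := {f | IsAffineOpen (E.basicOpen f)}
  have hmem : ∀ v : V, ∃ f ∈ s, v ∈ V.basicOpen (t.appTop.hom f) := by
    intro v
    obtain ⟨W, hW, hvW, -⟩ : ∃ W : E.Opens, IsAffineOpen W ∧ t v ∈ W ∧ W ≤ ⊤ := by
      obtain ⟨_, ⟨W, hW, rfl⟩, hz, hle⟩ := E.isBasis_affineOpens.exists_subset_of_mem_open
        (show t v ∈ ((⊤ : E.Opens) : Set E) from trivial) (⊤ : E.Opens).2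
      exact ⟨W, hW, hz, hle⟩
    have hvW' : v ∈ t ⁻¹ᵁ W := hvW
    obtain ⟨_, ⟨_, ⟨fb, rfl⟩, rfl⟩, hvf, hle⟩ := (isBasis_basicOpen V).exists_subset_of_mem_open hvW'
      (t ⁻¹ᵁ W).2
    obtain ⟨f, rfl⟩ := hs fb
    refine ⟨f, ?_, hvf⟩
    have hpre : t ⁻¹ᵁ E.basicOpen f = V.basicOpen (t.appTop.hom f) :=
      Scheme.preimage_basicOpen_top t f
    have hfW : E.basicOpen f ≤ W := by
      intro x hx
      obtain ⟨v', rfl⟩ := t.surjective x
      have : v' ∈ t ⁻¹ᵁ E.basicOpen f := hx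
      rw [hpre] at this
      exact hle this
    change IsAffineOpen (E.basicOpen f)
    have := hW.basicOpen (E.presheaf.map (homOfLE le_top).op f)
    rwa [Scheme.basicOpen_res, inf_eq_right.2 hfW] at this
  apply isAffine_of_isAffineOpen_basicOpen s ?_ (fun f hf => hf)
  -- the ideal generated by `s` contains a unit
  have hspan : Ideal.span (t.appTop.hom '' s) = ⊤ := by
    rw [← IsAffineOpen.self_le_iSup_basicOpen_iff (isAffineOpen_top V)]
    intro v _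
    obtain ⟨f, hf, hv⟩ := hmem v
    exact Opens.mem_iSup.2 ⟨⟨_, f, hf, rfl⟩, hv⟩
  rw [← Ideal.map_span] at hspan
  have h1 : (1 : Γ(V, ⊤)) ∈ Ideal.map t.appTop.hom (Ideal.span s) := by rw [hspan]; trivial
  obtain ⟨u, hu, hu1⟩ := (Ideal.mem_map_iff_of_surjective _ hs).1 h1
  have hbo : E.basicOpen u = ⊤ := by
    apply le_antisymm le_top
    intro x _
    obtain ⟨v, rfl⟩ := t.surjective x
    have : v ∈ t ⁻¹ᵁ E.basicOpen u := by
      rw [Scheme.preimage_basicOpen_top t u, hu1, Scheme.basicOpen_of_isUnit _ isUnit_one]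
      trivial
    exact this
  have hunit : IsUnit u := by
    apply E.toRingedSpace.isUnit_of_isUnit_germ ⊤ u
    intro x hx
    exact (Scheme.mem_basicOpen_top E u x).1 (by rw [hbo]; trivial)
  exact Ideal.eq_top_of_isUnit_mem _ hu hunit

/-- transport of a universal first order thickening along an isomorphism of the thickening -/
theorem isUnivThickening_of_iso {Z X Z' Z'' : Scheme.{u}} (h : Z ⟶ X) (i : Z ⟶ Z') (h' : Z' ⟶ X)
    (hu : OmegaSh.IsUnivThickening h i h') (e : Z' ≅ Z'') :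
    OmegaSh.IsUnivThickening h (i ≫ e.hom) (e.inv ≫ h') := by
  obtain ⟨hi, hih, huniv⟩ := hu
  refine ⟨?_, ?_, ?_⟩
  · have sq : IsPullback (𝟙 Z) (i ≫ e.hom) i e.inv :=
      IsPullback.of_horiz_isIso ⟨by simp⟩
    exact isFirstOrderThickening_of_isPullback i hi (i ≫ e.hom) (𝟙 Z) e.inv sq
  · simp [hih]
  · intro T T' j b a hj hc
    obtain ⟨c, ⟨hc1, hc2⟩, hcu⟩ := huniv T T' j b a hj hc
    refine ⟨c ≫ e.hom, ⟨by rw [← Category.assoc, hc1, Category.assoc], by simp [hc2]⟩, ?_⟩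
    rintro c' ⟨h1, h2⟩
    have := hcu (c' ≫ e.inv) ⟨by rw [← Category.assoc, h1]; simp, by rw [Category.assoc, h2]⟩
    rw [← this]; simp

/-- checking a Zariski-local property of the target on local models given as pullback squares -/
theorem of_local_models (P : MorphismProperty Scheme.{u}) [IsZariskiLocalAtTarget P]
    {X Y : Scheme.{u}} (r : X ⟶ Y)
    (H : ∀ y : Y, ∃ (V : Y.Opens) (W : Scheme.{u}) (w : W ⟶ X) (t' : W ⟶ V.toScheme),
      y ∈ V ∧ IsPullback w t' r V.ι ∧ P t') : P r := by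
  choose V W w t' hy hpb hP using H
  have hcov : ⨆ y, V y = ⊤ := by
    apply le_antisymm le_top
    intro y _
    exact Opens.mem_iSup.2 ⟨y, hy y⟩
  refine IsZariskiLocalAtTarget.of_iSup_eq_top V hcov (fun y => ?_)
  have h1 : IsPullback (r ⁻¹ᵁ V y).ι (r ∣_ V y) r (V y).ι := (isPullback_morphismRestrict r (V y)).flip
  let e := (hpb y).isoIsPullback _ _ h1
  have he : e.hom ≫ (r ∣_ V y) = t' y := (hpb y).isoIsPullback_hom_snd _ _ h1
  rw [← P.cancel_left_of_respectsIso e.hom, he]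
  exact hP y

theorem id_appLE' {X : Scheme.{u}} (k : X ⟶ X) (hk : k = 𝟙 X) (V : X.Opens) (e : V ≤ k ⁻¹ᵁ V) :
    k.appLE V V e = 𝟙 _ := by
  subst hk
  simp only [Scheme.Hom.appLE, Scheme.Hom.id_app, Category.id_comp]
  exact X.presheaf.map_id _

section LocalModel
variable {B₀ Pb Zb : Scheme.{u}} (pb : Pb ⟶ B₀) [Smooth pb] (sb : B₀ ⟶ Pb) (hs : sb ≫ pb = 𝟙 B₀)
  (ib : B₀ ⟶ Zb) (hb : Zb ⟶ Pb) (hu : OmegaSh.IsUnivThickening sb ib hb)

include hs hu in
theorem exists_local_model (b : B₀) :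
    ∃ (V : B₀.Opens) (R S' : CommRingCat.{u}) (ψ : R ⟶ S') (w : Spec S' ⟶ Zb)
      (eV : Spec R ≅ V.toScheme), b ∈ V ∧ IsPullback w (Spec.map ψ ≫ eV.hom) (hb ≫ pb) V.ι ∧
        ψ.hom.Finite ∧ ψ.hom.Flat ∧ ψ.hom.FinitePresentation := by
  -- affine opens
  obtain ⟨V₁, hV₁, hbV₁, -⟩ : ∃ V₁ : B₀.Opens, IsAffineOpen V₁ ∧ b ∈ V₁ ∧ V₁ ≤ ⊤ := by
    obtain ⟨_, ⟨V, hV, rfl⟩, hz, hle⟩ := B₀.isBasis_affineOpens.exists_subset_of_mem_open
      (show b ∈ ((⊤ : B₀.Opens) : Set B₀) from trivial) (⊤ : B₀.Opens).2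
    exact ⟨V, hV, hz, hle⟩
  have hpsb : pb (sb b) = b := by
    rw [← Scheme.Hom.comp_apply, hs]; rfl
  obtain ⟨U₁, hU₁, hbU₁, e₁⟩ : ∃ U₁ : Pb.Opens, IsAffineOpen U₁ ∧ sb b ∈ U₁ ∧ U₁ ≤ pb ⁻¹ᵁ V₁ := by
    have hmem : sb b ∈ ((pb ⁻¹ᵁ V₁ : Pb.Opens) : Set Pb) := by
      change pb (sb b) ∈ V₁
      rw [hpsb]; exact hbV₁
    obtain ⟨_, ⟨U, hU, rfl⟩, hz, hle⟩ := Pb.isBasis_affineOpens.exists_subset_of_mem_open
      hmem (pb ⁻¹ᵁ V₁).2
    exact ⟨U, hU, hz, hle⟩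
  have hb2 : b ∈ sb ⁻¹ᵁ U₁ ⊓ V₁ := ⟨hbU₁, hbV₁⟩
  obtain ⟨g, hgle, hbg⟩ := hV₁.exists_basicOpen_le (V := sb ⁻¹ᵁ U₁ ⊓ V₁) ⟨b, hb2⟩ hbV₁
  set V : B₀.Opens := B₀.basicOpen g with hVdef
  have hV : IsAffineOpen V := hV₁.basicOpen g
  set U : Pb.Opens := Pb.basicOpen (pb.appLE V₁ U₁ e₁ g) with hUdef
  have hU : IsAffineOpen U := hU₁.basicOpen _
  have hUeq : U = U₁ ⊓ pb ⁻¹ᵁ V := Scheme.basicOpen_appLE pb U₁ V₁ e₁ g
  have eUV : U ≤ pb ⁻¹ᵁ V := by rw [hUeq]; exact inf_le_right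
  have eVU : V ≤ sb ⁻¹ᵁ U := by
    intro v hv
    change sb v ∈ U
    rw [hUeq]
    refine ⟨(hgle hv).1, ?_⟩
    change pb (sb v) ∈ V
    rw [← Scheme.Hom.comp_apply, hs]
    exact hv
  -- ring data
  let φ : Γ(B₀, V) ⟶ Γ(Pb, U) := pb.appLE V U eUV
  let ε : Γ(Pb, U) ⟶ Γ(B₀, V) := sb.appLE U V eVU
  have hφε : φ ≫ ε = 𝟙 _ := by
    rw [Scheme.Hom.appLE_comp_appLE]
    exact id_appLE' _ hs V _
  have hsm : RingHom.Smooth φ.hom :=
    HasRingHomProperty.appLE (P := @Smooth) pb inferInstance ⟨V, hV⟩ ⟨U, hU⟩ eUV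
  letI : Algebra Γ(B₀, V) Γ(Pb, U) := φ.hom.toAlgebra
  haveI : Algebra.Smooth Γ(B₀, V) Γ(Pb, U) := hsm
  let εa : Γ(Pb, U) →ₐ[Γ(B₀, V)] Γ(B₀, V) :=
    { ε.hom with
      commutes' := fun r => by
        have := congrArg (fun f => f.hom r) hφε
        exact this }
  set K : Ideal Γ(Pb, U) := RingHom.ker εa.toRingHom with hK
  let S' := Γ(Pb, U) ⧸ K ^ 2
  let ρ : Γ(Pb, U) →+* S' := Ideal.Quotient.mk (K ^ 2)
  let π : S' →+* Γ(B₀, V) := εa.kerSquareLift.toRingHom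
  have hπρ : π.comp ρ = (sb.appLE U V eVU).hom := by
    ext x
    rfl
  have hεsurj : Function.Surjective ε.hom := fun r =>
    ⟨φ.hom r, congrArg (fun f => f.hom r) hφε⟩
  have hπsurj : Function.Surjective π := fun r => by
    obtain ⟨x, hx⟩ := hεsurj r
    exact ⟨ρ x, hx⟩
  have hπker : RingHom.ker π ^ 2 = ⊥ := by
    have : RingHom.ker π = K.cotangentIdeal := εa.ker_kerSquareLift
    rw [this, Ideal.cotangentIdeal_square]
  have huniv : ∀ (A : Type u) [CommRing A] (I : Ideal A), I ^ 2 = ⊥ →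
      ∀ (β : Γ(Pb, U) →+* A) (α : Γ(B₀, V) →+* A ⧸ I),
        α.comp (sb.appLE U V eVU).hom = (Ideal.Quotient.mk I).comp β →
        ∃! γ : S' →+* A, γ.comp ρ = β ∧ (Ideal.Quotient.mk I).comp γ = α.comp π := by
    intro A _ I hI β α hαβ
    have hβK : ∀ k ∈ K, β k ∈ I := by
      intro k hk
      rw [← Ideal.Quotient.eq_zero_iff_mem]
      have := congrArg (fun f => f k) hαβ
      simp only [RingHom.coe_comp, Function.comp_apply] at this
      rw [← this]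
      have hk' : ε.hom k = 0 := hk
      rw [hk', map_zero]
    have hK2 : ∀ x ∈ K ^ 2, β x = 0 := by
      intro x hx
      have : β x ∈ I ^ 2 := by
        have h1 : (K ^ 2).map β ≤ I ^ 2 := by
          rw [Ideal.map_pow]
          exact Ideal.pow_right_mono (Ideal.map_le_iff_le_comap.2 hβK) 2
        exact h1 (Ideal.mem_map_of_mem β hx)
      rw [hI] at this
      exact this
    refine ⟨Ideal.Quotient.lift (K ^ 2) β hK2, ⟨?_, ?_⟩, ?_⟩
    · ext x; rfl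
    · apply Ideal.Quotient.ringHom_ext
      ext x
      have := congrArg (fun f => f x) hαβ
      exact this.symm
    · rintro γ' ⟨h1, -⟩
      apply Ideal.Quotient.ringHom_ext
      rw [h1]
      ext x; rfl
  have hu₁ := isUnivThickening_of_ring sb hU hV eVU S' ρ π hπρ hπsurj hπker huniv
  obtain ⟨V', i₀, hV', hi₀, hu₂⟩ := exists_isUnivThickening_of_openImmersion sb ib hb hu V.ι
  obtain ⟨t, ⟨ht1, ht2⟩, -⟩ := hu₂.2.2 _ _ _ _ (𝟙 _) hu₁.1 (by rw [hu₁.2.1, Category.id_comp])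
  rw [Category.id_comp] at ht1
  haveI : IsIso t := isIso_of_isUnivThickening _ _ _ hu₁ _ _ hu₂ t ht1 ht2
  -- the open `V'` is the preimage of `V`
  have hibr : ib ≫ hb ≫ pb = 𝟙 B₀ := by rw [← Category.assoc, hu.2.1, hs]
  have hV'eq : (hb ≫ pb) ⁻¹ᵁ V = V' := by
    ext x
    obtain ⟨b', rfl⟩ := hu.1.1.2.surj x
    have h1 : (hb ≫ pb) (ib b') = b' := by
      rw [← Scheme.Hom.comp_apply, hibr]; rfl
    have h2 : ib b' ∈ V' ↔ b' ∈ V := by
      have : b' ∈ ib ⁻¹ᵁ V' ↔ b' ∈ V := by rw [hV', Scheme.Opens.opensRange_ι]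
      exact this
    change (hb ≫ pb) (ib b') ∈ V ↔ ib b' ∈ V'
    rw [h1, h2]
  let ψ : Γ(B₀, V) ⟶ CommRingCat.of S' := φ ≫ CommRingCat.ofHom ρ
  let w : Spec (CommRingCat.of S') ⟶ Zb := t ≫ V'.ι
  have hcomm : w ≫ (hb ≫ pb) = (Spec.map ψ ≫ hV.isoSpec.inv) ≫ V.ι := by
    change (t ≫ V'.ι) ≫ (hb ≫ pb) = _
    rw [Category.assoc, ← Category.assoc V'.ι, ← Category.assoc t, ht2, Category.assoc,
      Category.assoc, IsAffineOpen.isoSpec_inv_ι, Spec.map_comp, Category.assoc,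
      IsAffineOpen.SpecMap_appLE_fromSpec pb hV hU eUV]
  have hrange : (hb ≫ pb) ⁻¹ᵁ V.ι.opensRange = w.opensRange := by
    rw [Scheme.Opens.opensRange_ι, hV'eq]
    change _ = (t ≫ V'.ι).opensRange
    rw [Scheme.Hom.opensRange_comp_of_isIso, Scheme.Opens.opensRange_ι]
  have hpb : IsPullback (Spec.map ψ ≫ hV.isoSpec.inv) w V.ι (hb ≫ pb) :=
    IsOpenImmersion.isPullback _ _ _ _ hcomm hrange
  obtain ⟨h1, h2, h3⟩ := Groth.Agent.Lib.Helper15.SmoothSecRing.ringHom_props εa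
  refine ⟨V, Γ(B₀, V), CommRingCat.of S', ψ, w, hV.isoSpec.symm, hbg, hpb.flip, ?_, ?_, ?_⟩
  · exact h1
  · exact h2
  · exact h3

include hs hu in
theorem props_of_section :
    IsFinite (hb ≫ pb) ∧ Flat (hb ≫ pb) ∧ LocallyOfFinitePresentation (hb ≫ pb) := by
  have H := exists_local_model pb sb hs ib hb hu
  refine ⟨?_, ?_, ?_⟩
  · apply of_local_models @IsFinite
    intro y
    obtain ⟨V, R, S', ψ, w, eV, hy, hpb, h1, -, -⟩ := H y
    refine ⟨V, _, w, _, hy, hpb, ?_⟩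
    rw [MorphismProperty.cancel_right_of_respectsIso (P := @IsFinite)]
    exact (IsFinite.SpecMap_iff ψ).2 h1
  · apply of_local_models @Flat
    intro y
    obtain ⟨V, R, S', ψ, w, eV, hy, hpb, -, h2, -⟩ := H y
    refine ⟨V, _, w, _, hy, hpb, ?_⟩
    rw [MorphismProperty.cancel_right_of_respectsIso (P := @Flat)]
    exact Flat.SpecMap_iff.2 h2
  · apply of_local_models @LocallyOfFinitePresentation
    intro y
    obtain ⟨V, R, S', ψ, w, eV, hy, hpb, -, -, h3⟩ := H y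
    refine ⟨V, _, w, _, hy, hpb, ?_⟩
    rw [MorphismProperty.cancel_right_of_respectsIso (P := @LocallyOfFinitePresentation)]
    exact (LocallyOfFinitePresentation.SpecMap_iff ψ).2 h3

end LocalModel

end Groth.Agent.Lib.Helper15.SmoothSecSch
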