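import Mathlib
import Groth.Prelude.Def_Omega3
import Groth.Agent.Lib.Helper15.UnivThick

set_option autoImplicit false
set_option backward.isDefEq.respectTransparency.types false
universe u
open CategoryTheory CategoryTheory.Limits AlgebraicGeometry Opposite

namespace Groth.Agent.Lib.Helper15.UnivThickGlue
open Groth.Agent.Lib.Helper15.UnivThick

variable {Z X : Scheme.{u}} (h : Z ⟶ X)

/-- an open of `Z` is good if its restriction admits a universal first-order thickening over `X` -/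
def Good (V : Z.Opens) : Prop :=
  ∃ (Z' : Scheme.{u}) (i : V.toScheme ⟶ Z') (h' : Z' ⟶ X),
    OmegaSh.IsUnivThickening (V.ι ≫ h) i h'

theorem good_of_le {V W : Z.Opens} (hVW : V ≤ W) (hW : Good h W) : Good h V := by
  obtain ⟨TW, iW, hW', hu⟩ := hW
  obtain ⟨V', i₀, -, -, hu₀⟩ :=
    exists_isUnivThickening_of_openImmersion (W.ι ≫ h) iW hW' hu (Z.homOfLE hVW)
  have e : Z.homOfLE hVW ≫ W.ι ≫ h = V.ι ≫ h := Scheme.homOfLE_ι_assoc _ _ _
  rw [e] at hu₀
  exact ⟨_, _, _, hu₀⟩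

/-- the index category: good opens -/
abbrev J := {V : Z.Opens // Good h V}

variable {h}

noncomputable def T (V : J h) : Scheme.{u} := V.2.choose
noncomputable def iT (V : J h) : V.1.toScheme ⟶ T V := V.2.choose_spec.choose
noncomputable def hT (V : J h) : T V ⟶ X := V.2.choose_spec.choose_spec.choose
theorem uT (V : J h) : OmegaSh.IsUnivThickening (V.1.ι ≫ h) (iT V) (hT V) :=
  V.2.choose_spec.choose_spec.choose_spec

theorem uT' {V W : J h} (hVW : V.1 ≤ W.1) :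
    OmegaSh.IsUnivThickening (Z.homOfLE hVW ≫ W.1.ι ≫ h) (iT V) (hT V) := by
  have e : Z.homOfLE hVW ≫ W.1.ι ≫ h = V.1.ι ≫ h := Scheme.homOfLE_ι_assoc _ _ _
  rw [e]; exact uT V

theorem tr_existsUnique {V W : J h} (hVW : V.1 ≤ W.1) :
    ∃! t : T V ⟶ T W, iT V ≫ t = Z.homOfLE hVW ≫ iT W ∧ t ≫ hT W = hT V :=
  (uT W).2.2 _ _ (iT V) (hT V) (Z.homOfLE hVW) (uT V).1
    (by rw [(uT V).2.1, Scheme.homOfLE_ι_assoc])

noncomputable def tr {V W : J h} (hVW : V.1 ≤ W.1) : T V ⟶ T W := (tr_existsUnique hVW).exists.choose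

theorem iT_tr {V W : J h} (hVW : V.1 ≤ W.1) : iT V ≫ tr hVW = Z.homOfLE hVW ≫ iT W :=
  (tr_existsUnique hVW).exists.choose_spec.1

theorem tr_hT {V W : J h} (hVW : V.1 ≤ W.1) : tr hVW ≫ hT W = hT V :=
  (tr_existsUnique hVW).exists.choose_spec.2

theorem tr_unique {V W : J h} (hVW : V.1 ≤ W.1) (t : T V ⟶ T W)
    (h1 : iT V ≫ t = Z.homOfLE hVW ≫ iT W) (h2 : t ≫ hT W = hT V) : t = tr hVW :=
  (tr_existsUnique hVW).unique ⟨h1, h2⟩ ⟨iT_tr hVW, tr_hT hVW⟩

instance {V W : J h} (hVW : V.1 ≤ W.1) : IsOpenImmersion (tr hVW) :=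
  isOpenImmersion_of_isUnivThickening (W.1.ι ≫ h) (iT W) (hT W) (uT W) (Z.homOfLE hVW)
    (iT V) (hT V) (uT' hVW) (tr hVW) (iT_tr hVW) (tr_hT hVW)

theorem tr_id (V : J h) : tr (le_refl V.1) = 𝟙 (T V) := by
  symm
  apply tr_unique
  · rw [Category.comp_id]
    have : Z.homOfLE (le_refl V.1) = 𝟙 _ := Scheme.homOfLE_rfl _ _
    rw [this, Category.id_comp]
  · rw [Category.id_comp]

theorem tr_comp {V W Y : J h} (hVW : V.1 ≤ W.1) (hWY : W.1 ≤ Y.1) :
    tr hVW ≫ tr hWY = tr (hVW.trans hWY) := by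
  apply tr_unique
  · rw [← Category.assoc, iT_tr, Category.assoc, iT_tr, ← Category.assoc, Scheme.homOfLE_homOfLE]
  · rw [Category.assoc, tr_hT, tr_hT]

/-- the diagram of local universal thickenings -/
noncomputable def F : J h ⥤ Scheme.{u} where
  obj V := T V
  map f := tr (leOfHom f)
  map_id V := tr_id V
  map_comp f g := (tr_comp (leOfHom f) (leOfHom g)).symm

instance {V W : J h} (f : V ⟶ W) : IsOpenImmersion ((F (h := h)).map f) :=
  inferInstanceAs (IsOpenImmersion (tr (leOfHom f)))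

open Groth.Agent.Lib.Helper15.UnivThick

variable {Z X : Scheme.{u}} {h : Z ⟶ X}

theorem iT_surj (V : J h) (x : T V) : ∃ z : V.1.toScheme, iT V z = x := (uT V).1.1.2.surj x

theorem iT_inj (V : J h) : Function.Injective (iT V) := by
  have : IsClosedImmersion (iT V) := (uT V).1.1.1
  exact (iT V).isEmbedding.injective

theorem tr_iT_apply {V W : J h} (hVW : V.1 ≤ W.1) (z : V.1.toScheme) :
    tr hVW (iT V z) = iT W (Z.homOfLE hVW z) := by
  rw [← Scheme.Hom.comp_apply, iT_tr]; rfl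

/-- intersection of good opens -/
def inf (V W : J h) : J h := ⟨V.1 ⊓ W.1, good_of_le h inf_le_left V.2⟩

theorem inf_le_l (V W : J h) : inf V W ≤ V := (inf_le_left : V.1 ⊓ W.1 ≤ V.1)
theorem inf_le_r (V W : J h) : inf V W ≤ W := (inf_le_right : V.1 ⊓ W.1 ≤ W.1)

instance : ((F (h := h)) ⋙ Scheme.forget).IsLocallyDirected where
  cond {i j k} fi fj xi xj hxij := by
    change tr (leOfHom fi) xi = tr (leOfHom fj) xj at hxij
    obtain ⟨zi, rfl⟩ := iT_surj i xi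
    obtain ⟨zj, rfl⟩ := iT_surj j xj
    rw [tr_iT_apply, tr_iT_apply] at hxij
    have h1 := congrArg Subtype.val (iT_inj k hxij)
    rw [Scheme.homOfLE_apply, Scheme.homOfLE_apply] at h1
    let z : (inf i j).1.toScheme := ⟨zi.1, ⟨zi.2, h1 ▸ zj.2⟩⟩
    refine ⟨inf i j, homOfLE (inf_le_l i j), homOfLE (inf_le_r i j), iT (inf i j) z, ?_, ?_⟩
    · change tr _ (iT (inf i j) z) = iT i zi
      rw [tr_iT_apply]
      congr 1
      apply Subtype.ext
      rw [Scheme.homOfLE_apply]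
    · change tr _ (iT (inf i j) z) = iT j zj
      rw [tr_iT_apply]
      congr 1
      apply Subtype.ext
      rw [Scheme.homOfLE_apply]
      exact h1

open Groth.Agent.Lib.Helper15.UnivThick

variable {Z X : Scheme.{u}} {h : Z ⟶ X}

/-- the glued thickening -/
noncomputable def Z' (h : Z ⟶ X) : Scheme.{u} := colimit (F (h := h))

noncomputable def ιF (V : J h) : T V ⟶ Z' h := colimit.ι (F (h := h)) V

instance (V : J h) : IsOpenImmersion (ιF V) :=
  inferInstanceAs (IsOpenImmersion (colimit.ι (F (h := h)) V))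

theorem tr_ιF {V W : J h} (hVW : V.1 ≤ W.1) : tr hVW ≫ ιF W = ιF V :=
  colimit.w (F (h := h)) (homOfLE hVW : V ⟶ W)

/-- the structure morphism of the glued thickening -/
noncomputable def hZ' (h : Z ⟶ X) : Z' h ⟶ X :=
  colimit.desc (F (h := h)) (Cocone.mk X
    { app := fun V => hT V
      naturality := fun V W f => by
        change tr (leOfHom f) ≫ hT W = hT V ≫ 𝟙 X
        rw [tr_hT, Category.comp_id] })

theorem ιF_hZ' (V : J h) : ιF V ≫ hZ' h = hT V :=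
  colimit.ι_desc _ _

theorem ιF_jointly_surjective (x : Z' h) : ∃ (V : J h) (y : T V), ιF V y = x :=
  Scheme.IsLocallyDirected.ι_jointly_surjective (F (h := h)) x

theorem ιF_eq_iff {V W : J h} {xV : T V} {xW : T W} :
    ιF V xV = ιF W xW ↔ ∃ (k : J h) (hkV : k.1 ≤ V.1) (hkW : k.1 ≤ W.1) (x : T k),
      tr hkV x = xV ∧ tr hkW x = xW := by
  constructor
  · intro hx
    obtain ⟨k, fi, fj, x, h1, h2⟩ := (Scheme.IsLocallyDirected.ι_eq_ι_iff (F (h := h))).1 hx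
    exact ⟨k, leOfHom fi, leOfHom fj, x, h1, h2⟩
  · rintro ⟨k, hkV, hkW, x, rfl, rfl⟩
    rw [← Scheme.Hom.comp_apply, ← Scheme.Hom.comp_apply, tr_ιF, tr_ιF]

/-- the local pieces of the thickening morphism -/
noncomputable def gi (V : J h) : V.1.toScheme ⟶ Z' h := iT V ≫ ιF V

theorem gi_nat {V W : J h} (hVW : V.1 ≤ W.1) : Z.homOfLE hVW ≫ gi W = gi V := by
  rw [gi, gi, ← Category.assoc, ← iT_tr, Category.assoc, tr_ιF]

section
variable (hcov : ∀ z : Z, ∃ V : Z.Opens, z ∈ V ∧ Good h V)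
include hcov

theorem isOpenCover_J : TopologicalSpace.IsOpenCover (fun V : J h => V.1) := by
  apply TopologicalSpace.IsOpenCover.mk
  rw [eq_top_iff]
  intro z _
  obtain ⟨V, hzV, hV⟩ := hcov z
  exact TopologicalSpace.Opens.mem_iSup.2 ⟨⟨V, hV⟩, hzV⟩

theorem exists_iZ' : ∃ i : Z ⟶ Z' h, ∀ V : J h, V.1.ι ≫ i = gi V := by
  apply exists_glue_opens (fun V : J h => V.1) (isOpenCover_J hcov) gi
  intro V W
  exact (gi_nat (V := inf V W) (W := V) inf_le_left).trans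
    (gi_nat (V := inf V W) (W := W) inf_le_right).symm

end

open Groth.Agent.Lib.Helper15.UnivThick

variable {Z X : Scheme.{u}} {h : Z ⟶ X}

section
variable (hcov : ∀ z : Z, ∃ V : Z.Opens, z ∈ V ∧ Good h V)
  (i : Z ⟶ Z' h) (hi : ∀ V : J h, V.1.ι ≫ i = gi V)
include hcov hi

theorem iZ'_hZ' : i ≫ hZ' h = h := by
  apply hom_ext_opens (fun V : J h => V.1) (isOpenCover_J hcov)
  intro V
  rw [← Category.assoc, hi, gi, Category.assoc, ιF_hZ', (uT V).2.1]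

omit hcov in
theorem iZ'_apply (V : J h) (z : V.1.toScheme) : i z.1 = ιF V (iT V z) := by
  have := congrArg (fun f => f z) (congrArg (fun f : V.1.toScheme ⟶ Z' h => (f : _ → _)) (hi V))
  exact this

theorem preimage_opensRange (V : J h) : i ⁻¹ᵁ (ιF V).opensRange = V.1 := by
  ext z
  constructor
  · rintro ⟨x, hx⟩
    obtain ⟨W, hzW, hW⟩ := hcov z
    have h1 := iZ'_apply i hi ⟨W, hW⟩ ⟨z, hzW⟩
    change i z = _ at h1
    rw [h1] at hx
    obtain ⟨k, hkV, hkW, y, hy1, hy2⟩ := ιF_eq_iff.1 hx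
    obtain ⟨zk, rfl⟩ := iT_surj k y
    rw [tr_iT_apply] at hy2
    have h2 := congrArg Subtype.val (iT_inj _ hy2)
    rw [Scheme.homOfLE_apply] at h2
    change zk.1 = z at h2
    rw [← h2]
    exact hkV zk.2
  · intro hz
    exact ⟨iT V ⟨z, hz⟩, (iZ'_apply i hi V ⟨z, hz⟩).symm⟩

theorem isPullback_iZ' (V : J h) : IsPullback (iT V) V.1.ι (ιF V) i :=
  IsOpenImmersion.isPullback (iT V) V.1.ι (ιF V) i (hi V)
    (by rw [preimage_opensRange hcov i hi V, Scheme.Opens.opensRange_ι])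

end

open Groth.Agent.Lib.Helper15.UnivThick

variable {Z X : Scheme.{u}} {h : Z ⟶ X}

section
variable (hcov : ∀ z : Z, ∃ V : Z.Opens, z ∈ V ∧ Good h V)
  (i : Z ⟶ Z' h) (hi : ∀ V : J h, V.1.ι ≫ i = gi V)
include hcov hi

theorem isClosedImmersion_snd (V : J h) : IsClosedImmersion (pullback.snd i (ιF V)) := by
  have sq : IsPullback V.1.ι (iT V) i (ιF V) := (isPullback_iZ' hcov i hi V).flip
  have e : sq.isoPullback.hom ≫ pullback.snd i (ιF V) = iT V := sq.isoPullback_hom_snd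
  have : IsClosedImmersion (iT V) := (uT V).1.1.1
  have e' : pullback.snd i (ιF V) = sq.isoPullback.inv ≫ iT V :=
    (Iso.eq_inv_comp sq.isoPullback).2 e
  rw [e']
  infer_instance

theorem isClosedImmersion_iZ' : IsClosedImmersion i := by
  apply IsZariskiLocalAtTarget.of_openCover (P := @IsClosedImmersion)
    (Scheme.IsLocallyDirected.openCover (F (h := h)))
  intro V
  exact isClosedImmersion_snd hcov i hi V

theorem isFirstOrderThickening_iZ' : MoreMor.IsFirstOrderThickening i := by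
  have hcl : IsClosedImmersion i := isClosedImmersion_iZ' hcov i hi
  refine ⟨⟨hcl, ⟨?_⟩⟩, ?_⟩
  · intro x
    obtain ⟨V, y, rfl⟩ := ιF_jointly_surjective x
    obtain ⟨z, rfl⟩ := iT_surj V y
    exact ⟨z.1, iZ'_apply i hi V z⟩
  · apply sq_eq_bot_of_openCover i.ker (Scheme.IsLocallyDirected.openCover (F (h := h)))
    intro V
    have hk : (iT V).ker = i.ker.comap (ιF V) :=
      FOThickBC.ker_eq_comap_of_isPullback i (ιF V) (iT V) V.1.ι
        (isPullback_iZ' hcov i hi V).flip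
    change i.ker.comap (ιF V) * i.ker.comap (ιF V) = ⊥
    rw [← hk]
    exact (uT V).1.2

end

open Groth.Agent.Lib.Helper15.UnivThick

variable {Z X : Scheme.{u}} {h : Z ⟶ X}

section sol
variable {Q Q' : Scheme.{u}} (jT : Q ⟶ Q') (b : Q' ⟶ X) (a : Q ⟶ Z)
  (hjT : MoreMor.IsFirstOrderThickening jT) (hcomm : jT ≫ b = a ≫ h)
include hjT hcomm

/-- local solution of the lifting problem -/
theorem sol_existsUnique (O : Q'.Opens) (V : J h) (hle : jT ⁻¹ᵁ O ≤ a ⁻¹ᵁ V.1) :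
    ∃! s : O.toScheme ⟶ T V,
      (jT ∣_ O) ≫ s = a.resLE V.1 (jT ⁻¹ᵁ O) hle ≫ iT V ∧ s ≫ hT V = O.ι ≫ b := by
  have sq : IsPullback (jT ∣_ O) (jT ⁻¹ᵁ O).ι O.ι jT := isPullback_morphismRestrict jT O
  refine (uT V).2.2 _ _ (jT ∣_ O) (O.ι ≫ b) (a.resLE V.1 (jT ⁻¹ᵁ O) hle)
    (isFirstOrderThickening_of_isPullback jT hjT _ _ _ sq.flip) ?_
  rw [← Category.assoc, morphismRestrict_ι, Category.assoc, hcomm, ← Category.assoc,
    ← Scheme.Hom.resLE_comp_ι a hle, Category.assoc]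

end sol

section sol2
variable {Q Q' : Scheme.{u}} (jT : Q ⟶ Q') (b : Q' ⟶ X) (a : Q ⟶ Z)
  (hjT : MoreMor.IsFirstOrderThickening jT) (hcomm : jT ≫ b = a ≫ h)

noncomputable def sol (O : Q'.Opens) (V : J h) (hle : jT ⁻¹ᵁ O ≤ a ⁻¹ᵁ V.1) : O.toScheme ⟶ T V :=
  (sol_existsUnique jT b a hjT hcomm O V hle).exists.choose

theorem sol_spec1 (O : Q'.Opens) (V : J h) (hle : jT ⁻¹ᵁ O ≤ a ⁻¹ᵁ V.1) :
    (jT ∣_ O) ≫ sol jT b a hjT hcomm O V hle = a.resLE V.1 (jT ⁻¹ᵁ O) hle ≫ iT V :=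
  (sol_existsUnique jT b a hjT hcomm O V hle).exists.choose_spec.1

theorem sol_spec2 (O : Q'.Opens) (V : J h) (hle : jT ⁻¹ᵁ O ≤ a ⁻¹ᵁ V.1) :
    sol jT b a hjT hcomm O V hle ≫ hT V = O.ι ≫ b :=
  (sol_existsUnique jT b a hjT hcomm O V hle).exists.choose_spec.2

theorem sol_unique (O : Q'.Opens) (V : J h) (hle : jT ⁻¹ᵁ O ≤ a ⁻¹ᵁ V.1) (s : O.toScheme ⟶ T V)
    (h1 : (jT ∣_ O) ≫ s = a.resLE V.1 (jT ⁻¹ᵁ O) hle ≫ iT V) (h2 : s ≫ hT V = O.ι ≫ b) :
    s = sol jT b a hjT hcomm O V hle :=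
  (sol_existsUnique jT b a hjT hcomm O V hle).unique ⟨h1, h2⟩
    ⟨sol_spec1 jT b a hjT hcomm O V hle, sol_spec2 jT b a hjT hcomm O V hle⟩

theorem morphismRestrict_homOfLE {O₁ O₂ : Q'.Opens} (hO : O₁ ≤ O₂) :
    (jT ∣_ O₁) ≫ Q'.homOfLE hO =
      Q.homOfLE (show jT ⁻¹ᵁ O₁ ≤ jT ⁻¹ᵁ O₂ from fun _ hx => hO hx) ≫ (jT ∣_ O₂) := by
  rw [← cancel_mono O₂.ι]
  simp only [Category.assoc, Scheme.homOfLE_ι, morphismRestrict_ι, Scheme.homOfLE_ι_assoc]

theorem sol_res {O₁ O₂ : Q'.Opens} (hO : O₁ ≤ O₂) (V : J h) (hle₂ : jT ⁻¹ᵁ O₂ ≤ a ⁻¹ᵁ V.1) :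
    Q'.homOfLE hO ≫ sol jT b a hjT hcomm O₂ V hle₂ =
      sol jT b a hjT hcomm O₁ V (le_trans (fun _ hx => hO hx) hle₂) := by
  apply sol_unique
  · rw [← Category.assoc, morphismRestrict_homOfLE, Category.assoc, sol_spec1, ← Category.assoc,
      Scheme.Hom.map_resLE]
  · rw [Category.assoc, sol_spec2, ← Category.assoc, Scheme.homOfLE_ι]

theorem sol_tr (O : Q'.Opens) {V W : J h} (hVW : V.1 ≤ W.1) (hle : jT ⁻¹ᵁ O ≤ a ⁻¹ᵁ V.1) :
    sol jT b a hjT hcomm O V hle ≫ tr hVW =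
      sol jT b a hjT hcomm O W (le_trans hle (fun _ hx => hVW hx)) := by
  apply sol_unique
  · rw [← Category.assoc, sol_spec1, Category.assoc, iT_tr, ← Category.assoc,
      Scheme.Hom.resLE_map]
  · rw [Category.assoc, tr_hT, sol_spec2]

end sol2

open Groth.Agent.Lib.Helper15.UnivThick

variable {Z X : Scheme.{u}} {h : Z ⟶ X}

section univ
variable (hcov : ∀ z : Z, ∃ V : Z.Opens, z ∈ V ∧ Good h V)
  (i : Z ⟶ Z' h) (hi : ∀ V : J h, V.1.ι ≫ i = gi V)
include hcov hi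

theorem univ_iZ' {Q Q' : Scheme.{u}} (jT : Q ⟶ Q') (b : Q' ⟶ X) (a : Q ⟶ Z)
    (hjT : MoreMor.IsFirstOrderThickening jT) (hcomm : jT ≫ b = a ≫ h) :
    ∃! a' : Q' ⟶ Z' h, jT ≫ a' = a ≫ i ∧ a' ≫ hZ' h = b := by
  have hO : ∀ V : J h, ∃ O : Q'.Opens, jT ⁻¹ᵁ O = a ⁻¹ᵁ V.1 :=
    fun V => exists_opens_preimage_eq jT hjT.1 _
  choose O hO using hO
  have hle : ∀ V, jT ⁻¹ᵁ O V ≤ a ⁻¹ᵁ V.1 := fun V => (hO V).le
  have hOcov : TopologicalSpace.IsOpenCover O := by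
    apply TopologicalSpace.IsOpenCover.mk
    rw [eq_top_iff]
    intro q' _
    obtain ⟨q, rfl⟩ := hjT.1.2.surj q'
    obtain ⟨V, hzV, hV⟩ := hcov (a q)
    have : q ∈ jT ⁻¹ᵁ O ⟨V, hV⟩ := by rw [hO]; exact hzV
    exact TopologicalSpace.Opens.mem_iSup.2 ⟨⟨V, hV⟩, this⟩
  have hOcov' : TopologicalSpace.IsOpenCover (fun V : J h => jT ⁻¹ᵁ O V) := by
    apply TopologicalSpace.IsOpenCover.mk
    rw [eq_top_iff]
    intro q _
    obtain ⟨V, hzV, hV⟩ := hcov (a q)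
    have : q ∈ jT ⁻¹ᵁ O ⟨V, hV⟩ := by rw [hO]; exact hzV
    exact TopologicalSpace.Opens.mem_iSup.2 ⟨⟨V, hV⟩, this⟩
  have hcompat : ∀ V W : J h, Q'.homOfLE (inf_le_left : O V ⊓ O W ≤ O V) ≫
      (sol jT b a hjT hcomm (O V) V (hle V) ≫ ιF V) =
      Q'.homOfLE (inf_le_right : O V ⊓ O W ≤ O W) ≫
        (sol jT b a hjT hcomm (O W) W (hle W) ≫ ιF W) := by
    intro V W
    have hk : jT ⁻¹ᵁ (O V ⊓ O W) ≤ a ⁻¹ᵁ (inf V W).1 :=
      fun x hx => ⟨hle V hx.1, hle W hx.2⟩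
    have e1 : Q'.homOfLE (inf_le_left : O V ⊓ O W ≤ O V) ≫
        (sol jT b a hjT hcomm (O V) V (hle V) ≫ ιF V) =
        sol jT b a hjT hcomm (O V ⊓ O W) (inf V W) hk ≫ ιF (inf V W) := by
      rw [← Category.assoc, sol_res, ← tr_ιF (V := inf V W) (W := V) inf_le_left,
        ← Category.assoc, sol_tr]
    have e2 : Q'.homOfLE (inf_le_right : O V ⊓ O W ≤ O W) ≫
        (sol jT b a hjT hcomm (O W) W (hle W) ≫ ιF W) =
        sol jT b a hjT hcomm (O V ⊓ O W) (inf V W) hk ≫ ιF (inf V W) := by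
      rw [← Category.assoc, sol_res, ← tr_ιF (V := inf V W) (W := W) inf_le_right,
        ← Category.assoc, sol_tr]
    rw [e1, e2]
  obtain ⟨a', ha'⟩ := exists_glue_opens O hOcov
    (fun V => sol jT b a hjT hcomm (O V) V (hle V) ≫ ιF V) hcompat
  refine ⟨a', ⟨?_, ?_⟩, ?_⟩
  · apply hom_ext_opens _ hOcov'
    intro V
    rw [← Category.assoc, ← morphismRestrict_ι, Category.assoc, ha', ← Category.assoc, sol_spec1,
      Category.assoc, ← gi, ← hi, ← Category.assoc, Scheme.Hom.resLE_comp_ι, Category.assoc]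
  · apply hom_ext_opens _ hOcov
    intro V
    rw [← Category.assoc, ha', Category.assoc, ιF_hZ', sol_spec2]
  · rintro a'' ⟨k1, k2⟩
    apply hom_ext_opens _ hOcov
    intro V
    rw [ha']
    have hrange : Set.range ((O V).ι ≫ a'') ⊆ Set.range (ιF V) := by
      rintro _ ⟨q', rfl⟩
      obtain ⟨q, hq⟩ := hjT.1.2.surj q'.1
      have hqV : a q ∈ V.1 := by
        have : q ∈ jT ⁻¹ᵁ O V := by
          change jT q ∈ O V
          rw [hq]; exact q'.2
        exact hle V this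
      have h1 : ((O V).ι ≫ a'') q' = a'' (jT q) := by
        rw [hq]; rfl
      have h2 : a'' (jT q) = i (a q) := by
        rw [← Scheme.Hom.comp_apply, k1]; rfl
      rw [h1, h2]
      exact ⟨iT V ⟨a q, hqV⟩, (iZ'_apply i hi V ⟨a q, hqV⟩).symm⟩
    have hc : IsOpenImmersion.lift (ιF V) ((O V).ι ≫ a'') hrange ≫ ιF V = (O V).ι ≫ a'' :=
      IsOpenImmersion.lift_fac _ _ _
    rw [← hc]
    congr 1
    apply sol_unique
    · rw [← cancel_mono (ιF V), Category.assoc, hc, ← Category.assoc, morphismRestrict_ι,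
        Category.assoc, k1, Category.assoc, ← gi, ← hi, ← Category.assoc (a.resLE _ _ _),
        Scheme.Hom.resLE_comp_ι, Category.assoc]
    · rw [← ιF_hZ', ← Category.assoc, hc, Category.assoc, k2]

/-- the glued pair is a universal first-order thickening -/
theorem isUnivThickening_iZ' : OmegaSh.IsUnivThickening h i (hZ' h) :=
  ⟨isFirstOrderThickening_iZ' hcov i hi, iZ'_hZ' hcov i hi,
    fun _ _ jT b a hjT hcomm => univ_iZ' hcov i hi jT b a hjT hcomm⟩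

end univ

/-- universal first-order thickenings glue -/
theorem exists_isUnivThickening_of_cover (h : Z ⟶ X)
    (hcov : ∀ z : Z, ∃ V : Z.Opens, z ∈ V ∧ Good h V) :
    ∃ (Z₁ : Scheme.{u}) (i : Z ⟶ Z₁) (h' : Z₁ ⟶ X), OmegaSh.IsUnivThickening h i h' := by
  obtain ⟨i, hi⟩ := exists_iZ' hcov
  exact ⟨Z' h, i, hZ' h, isUnivThickening_iZ' hcov i hi⟩

end Groth.Agent.Lib.Helper15.UnivThickGlue
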