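import Mathlib
import Groth.Prelude.Def_Omega3
import Groth.Agent.S9731
import Groth.Agent.S9733
import Groth.Agent.Lib.Helper15.SmoothNilLift
import Groth.Agent.Lib.Helper15.SmoothSecSch
import Groth.Agent.Lib.Helper15.SmoothSecRing

set_option autoImplicit false
set_option backward.isDefEq.respectTransparency.types false
universe u
open CategoryTheory CategoryTheory.Limits AlgebraicGeometry Opposite TopologicalSpace TensorProduct

namespace Groth.Agent.Lib.Helper15.SmoothSecGL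
open Groth.Agent.Lib.Helper15.UnivThick Groth.Agent.Lib.Helper15.UnivThickAffine
open Groth.Agent.Lib.Helper15.SmoothSecSch Groth.Agent.Lib.Helper15.SmoothSecRing
open Groth.Agent.Lib.Helper15.SmoothNilLift

theorem projective_of_isPullback {A C : Type u} [CommRing A] [CommRing C] [Algebra A C]
    (I : Ideal A) {Zb : Scheme.{u}} (r : Zb ⟶ Spec (.of (A ⧸ I))) (w : Zb ⟶ Spec (.of C))
    (sq : IsPullback r w (Spec.map (CommRingCat.ofHom (algebraMap A (A ⧸ I))))
      (Spec.map (CommRingCat.ofHom (algebraMap A C))))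
    (h1 : IsFinite r) (h2 : Flat r) (h3 : LocallyOfFinitePresentation r) :
    Module.Projective (A ⧸ I) ((A ⧸ I) ⊗[A] C) := by
  let e : Zb ≅ Spec (.of ((A ⧸ I) ⊗[A] C)) := sq.isoPullback ≪≫ pullbackSpecIso A (A ⧸ I) C
  have he : e.inv ≫ r = Spec.map (CommRingCat.ofHom (algebraMap (A ⧸ I) ((A ⧸ I) ⊗[A] C))) := by
    simp only [e, Iso.trans_inv, Category.assoc, IsPullback.isoPullback_inv_fst]
    exact pullbackSpecIso_inv_fst' A (A ⧸ I) C
  have k1 : IsFinite (Spec.map (CommRingCat.ofHom (algebraMap (A ⧸ I) ((A ⧸ I) ⊗[A] C)))) := by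
    rw [← he]; exact (MorphismProperty.cancel_left_of_respectsIso @IsFinite e.inv r).2 h1
  have k2 : Flat (Spec.map (CommRingCat.ofHom (algebraMap (A ⧸ I) ((A ⧸ I) ⊗[A] C)))) := by
    rw [← he]; exact (MorphismProperty.cancel_left_of_respectsIso @Flat e.inv r).2 h2
  have k3 : LocallyOfFinitePresentation
      (Spec.map (CommRingCat.ofHom (algebraMap (A ⧸ I) ((A ⧸ I) ⊗[A] C)))) := by
    rw [← he]
    exact (MorphismProperty.cancel_left_of_respectsIso @LocallyOfFinitePresentation e.inv r).2 h3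
  exact projective_of_ringHom_props ((IsFinite.SpecMap_iff _).1 k1) (Flat.SpecMap_iff.1 k2)
    ((LocallyOfFinitePresentation.SpecMap_iff _).1 k3)

/-- global lifting of sections of smooth morphisms along an affine first order thickening -/
theorem exists_section {A : Type u} [CommRing A] (I : Ideal A) (hI : I ^ 2 = ⊥) {P : Scheme.{u}}
    (p : P ⟶ Spec (.of A)) [Smooth p] (s₀ : Spec (.of (A ⧸ I)) ⟶ P)
    (hs : s₀ ≫ p = Spec.map (CommRingCat.ofHom (Ideal.Quotient.mk I))) :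
    ∃ s : Spec (.of A) ⟶ P,
      Spec.map (CommRingCat.ofHom (Ideal.Quotient.mk I)) ≫ s = s₀ ∧ s ≫ p = 𝟙 _ := by
  set i₀ : Spec (.of (A ⧸ I)) ⟶ Spec (.of A) :=
    Spec.map (CommRingCat.ofHom (Ideal.Quotient.mk I)) with hi₀
  have hi₀fo : MoreMor.IsFirstOrderThickening i₀ :=
    isFirstOrderThickening_SpecMap _ Ideal.Quotient.mk_surjective (by
      simpa using hI)
  haveI : IsClosedImmersion i₀ := hi₀fo.1.1
  haveI : Surjective i₀ := hi₀fo.1.2
  haveI : FormallyUnramified s₀ := by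
    haveI : FormallyUnramified (s₀ ≫ p) := by rw [hs]; infer_instance
    exact FormallyUnramified.of_comp s₀ p
  obtain ⟨Z₁, i₁, h₁, hu₁⟩ := Groth.Agent.S9731.result s₀
  haveI : IsClosedImmersion i₁ := hu₁.1.1.1
  haveI : Surjective i₁ := hu₁.1.1.2
  have hq₁ : i₁ ≫ (h₁ ≫ p) = i₀ := by rw [← Category.assoc, hu₁.2.1, hs]
  haveI : IsAffine Z₁ := by
    apply isAffine_of_thickening i₁
    have hsurj : Function.Surjective i₀.appTop.hom :=
      i₀.app_surjective ⊤ (isAffineOpen_top _)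
    rw [← hq₁, Scheme.Hom.comp_appTop] at hsurj
    exact Function.Surjective.of_comp hsurj
  -- transport to a spectrum
  let C : CommRingCat.{u} := Γ(Z₁, ⊤)
  have hu := isUnivThickening_of_iso s₀ i₁ h₁ hu₁ Z₁.isoSpec
  set i : Spec (.of (A ⧸ I)) ⟶ Spec C := i₁ ≫ Z₁.isoSpec.hom with hidef
  set h' : Spec C ⟶ P := Z₁.isoSpec.inv ≫ h₁ with hh'def
  have hih' : i ≫ h' = s₀ := hu.2.1
  have hiq : i ≫ (h' ≫ p) = i₀ := by rw [← Category.assoc, hih', hs]
  let π : C ⟶ CommRingCat.of (A ⧸ I) := Spec.preimage i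
  let σ : CommRingCat.of A ⟶ C := Spec.preimage (h' ≫ p)
  have hπ : Spec.map π = i := Spec.map_preimage _
  have hσ : Spec.map σ = h' ≫ p := Spec.map_preimage _
  have hσπ : σ ≫ π = CommRingCat.ofHom (Ideal.Quotient.mk I) := by
    apply Spec.map_injective
    rw [Spec.map_comp, hπ, hσ, hiq]
  have hJ : RingHom.ker π.hom ^ 2 = ⊥ := ker_sq_of_SpecMap π (by rw [hπ]; exact hu.1.2)
  -- local sections
  have hloc : ∀ t : Spec (.of A), ∃ (V' : (Spec (.of A)).Opens) (a' : V'.toScheme ⟶ Spec C),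
      t ∈ V' ∧ a' ≫ (h' ≫ p) = V'.ι := by
    intro t
    obtain ⟨V', ℓ, htV', hℓ1, hℓ2⟩ := exists_local_lift p i₀ s₀ (𝟙 _)
      (by rw [hs, Category.comp_id]) t
    have hfo : MoreMor.IsFirstOrderThickening (i₀ ∣_ V') :=
      isFirstOrderThickening_of_isPullback i₀ hi₀fo (i₀ ∣_ V') (i₀ ⁻¹ᵁ V').ι V'.ι
        (isPullback_morphismRestrict i₀ V').flip
    obtain ⟨a', ⟨ha1, ha2⟩, -⟩ := hu.2.2 _ _ (i₀ ∣_ V') ℓ (i₀ ⁻¹ᵁ V').ι hfo hℓ2
    exact ⟨V', a', htV', by rw [← Category.assoc, ha2, hℓ1, Category.comp_id]⟩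
  have hinj : ∀ a : A, σ.hom a = 0 → a = 0 := by
    intro a ha
    have hx : (Scheme.ΓSpecIso (.of A)).inv a = 0 := by
      apply FOThickBC.eq_zero_of_flat_cover
      intro t
      obtain ⟨V', a', htV', ha'⟩ := hloc t
      refine ⟨V'.toScheme, V'.ι, inferInstance, ⟨t, htV'⟩, rfl, ?_⟩
      have h1 := congrArg (fun ψ => ψ.hom a) (Scheme.ΓSpecIso_inv_naturality σ)
      simp only [CommRingCat.hom_comp, RingHom.coe_comp, Function.comp_apply] at h1
      rw [ha, map_zero, hσ] at h1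
      rw [← ha', Scheme.Hom.comp_appTop]
      change a'.appTop.hom ((h' ≫ p).appTop.hom _) = 0
      rw [← h1, map_zero]
    have hinj' : Function.Injective (Scheme.ΓSpecIso (.of A)).inv :=
      (ConcreteCategory.bijective_of_isIso _).1
    exact hinj' (by rw [hx, map_zero])
  -- base change to the closed subscheme
  let g : pullback p i₀ ⟶ P := pullback.fst p i₀
  let pb : pullback p i₀ ⟶ Spec (.of (A ⧸ I)) := pullback.snd p i₀
  haveI : Smooth pb := MorphismProperty.pullback_snd (P := @Smooth) _ _ inferInstance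
  let sb : Spec (.of (A ⧸ I)) ⟶ pullback p i₀ :=
    pullback.lift s₀ (𝟙 _) (by rw [hs, Category.id_comp])
  have hsb : sb ≫ pb = 𝟙 _ := pullback.lift_snd _ _ _
  have hsbg : sb ≫ g = s₀ := pullback.lift_fst _ _ _
  have hc : IsPullback sb (𝟙 _) g s₀ := by
    have big' : IsPullback (sb ≫ pb) (𝟙 _) i₀ (s₀ ≫ p) := by
      rw [hsb, hs]; exact IsKernelPair.id_of_mono i₀
    exact IsPullback.of_right big' (by rw [hsbg, Category.id_comp])
      (IsPullback.of_hasPullback p i₀).flip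
  have hub := Groth.Agent.S9733.result sb (𝟙 _) g s₀ hc i h' hu
  obtain ⟨k1, k2, k3⟩ := props_of_section pb sb hsb _ _ hub
  have sqZ : IsPullback (pullback.snd g h') (pullback.fst g h' ≫ pb) (h' ≫ p) i₀ :=
    (IsPullback.of_hasPullback g h').flip.paste_vert (IsPullback.of_hasPullback p i₀)
  letI : Algebra A C := σ.hom.toAlgebra
  have sqZ' : IsPullback (pullback.fst g h' ≫ pb) (pullback.snd g h')
      (Spec.map (CommRingCat.ofHom (algebraMap A (A ⧸ I))))
      (Spec.map (CommRingCat.ofHom (algebraMap A C))) := by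
    have := sqZ.flip
    rw [← hσ] at this
    exact this
  haveI : Module.Projective (A ⧸ I) ((A ⧸ I) ⊗[A] C) :=
    projective_of_isPullback I _ _ sqZ' k1 k2 k3
  obtain ⟨μ, hμ1, hμ2⟩ := exists_retraction I hI π.hom
    (fun a => congrArg (fun ψ => ψ.hom a) hσπ) hJ hinj
  refine ⟨Spec.map (CommRingCat.ofHom μ) ≫ h', ?_, ?_⟩
  · have : CommRingCat.ofHom μ ≫ CommRingCat.ofHom (Ideal.Quotient.mk I) = π := by
      ext c
      exact hμ2 c
    rw [← Category.assoc, ← Spec.map_comp, this, hπ, hih']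
  · have : σ ≫ CommRingCat.ofHom μ = 𝟙 _ := by
      ext a
      exact hμ1 a
    rw [Category.assoc, ← hσ, ← Spec.map_comp, this, Spec.map_id]

end Groth.Agent.Lib.Helper15.SmoothSecGL
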