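import Groth.Agent.Lib.Helper15.SmSp9
import Groth.Agent.Lib.Helper15.AlgSpFormal3
import Groth.Agent.S1488
import Groth.Agent.S10619

set_option autoImplicit false
set_option backward.isDefEq.respectTransparency.types false
universe u
open CategoryTheory CategoryTheory.Limits AlgebraicGeometry Opposite MorphismProperty

namespace Groth.Agent.Lib.Helper15.SmSp

variable {S : Scheme.{u}}

open AlgSp Groth.Agent.Lib.Helper3 Groth.Agent.Lib.Helper15.AlgSpFormal3

theorem isFormallySmoothHom_of_yon_map {U V : Over S} (h : U ⟶ V)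
    (hh : IsFormallySmoothMor ((yon S).map h)) : MoreMor.IsFormallySmoothHom h.left := by
  intro A _ I hI a₀ b₀ w
  let sq := infSqOfScheme h A I hI a₀ b₀ w
  obtain ⟨l, hl1, hl2⟩ := hh sq
  obtain ⟨L, rfl⟩ := (yon S).map_surjective l
  have hL1 : sq.j ≫ L = CategoryTheory.Over.homMk a₀ _ := (yon S).map_injective (by rw [Functor.map_comp]; exact hl1)
  have hL2 : L ≫ h = CategoryTheory.Over.homMk b₀ rfl := (yon S).map_injective (by rw [Functor.map_comp]; exact hl2)
  exact ⟨L.left, congrArg (fun φ => φ.left) hL1, congrArg (fun φ => φ.left) hL2⟩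

/-- charts of a formally smooth morphism are formally smooth -/
theorem isFormallySmoothHom_chart {F G : Sp S} (f : F ⟶ G) (hf : IsFormallySmoothMor f)
    {U V : Over S} (a : (yon S).obj U ⟶ F) (b : (yon S).obj V ⟶ G) (h : U ⟶ V)
    (ha : RepWith @Etale a) (hb : RepWith @Etale b) (hcomm : a ≫ f = (yon S).map h ≫ b) :
    MoreMor.IsFormallySmoothHom h.left := by
  apply isFormallySmoothHom_of_yon_map
  have haFE := AlgSpFormal.isFormallyEtaleMor_of_repWith_etale a ha
  have hbFE := AlgSpFormal.isFormallyEtaleMor_of_repWith_etale b hb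
  have h1 : IsFormallySmoothMor (a ≫ f) :=
    Groth.Agent.S10619.smooth_comp a f (AlgSpFormal2.isFormallySmoothMor_of_isFormallyEtaleMor haFE) hf
  rw [hcomm] at h1
  exact Groth.Agent.S10618.smooth_of_comp _ b
    (AlgSpFormal2.isFormallyUnramifiedMor_of_isFormallyEtaleMor hbFE) h1

theorem smooth_iff {F G : Sp S} (hF : IsAlgSpace F) (hG : IsAlgSpace G) (f : F ⟶ G) :
    LocP @Smooth f ↔ LocP @LocallyOfFinitePresentation f ∧ IsFormallySmoothMor f := by
  constructor
  · intro hf
    refine ⟨fun U V a b h ha hb hc => ?_, isFormallySmoothMor_of_smooth hF hG f hf⟩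
    have : Smooth h.left := hf a b h ha hb hc
    infer_instance
  · rintro ⟨hlfp, hfs⟩ U V a b h ha hb hc
    exact (Groth.Agent.S1488.result h.left).2
      ⟨hlfp a b h ha hb hc, isFormallySmoothHom_chart f hfs a b h ha hb hc⟩

end Groth.Agent.Lib.Helper15.SmSp
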