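import Groth.Agent.Lib.Helper15.SmSp10
import Groth.Agent.Lib.Helper3.AlgSpNoethChart
import Groth.Agent.S1417

set_option autoImplicit false
set_option backward.isDefEq.respectTransparency.types false
universe u
open CategoryTheory CategoryTheory.Limits AlgebraicGeometry Opposite MorphismProperty

namespace Groth.Agent.Lib.Helper15.SmSp

variable {S : Scheme.{u}}

open AlgSp Groth.Agent.Lib.Helper3

/-- lifting along a surjection of rings with square zero kernel, for a formally smooth morphism -/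
theorem exists_lift_of_formallySmooth {F G : Sp S} (f : F ⟶ G) (hf : IsFormallySmoothMor f)
    {B' B : Type u} [CommRing B'] [CommRing B] (φ : B' →+* B) (hφ : Function.Surjective φ)
    (hker : RingHom.ker φ ^ 2 = ⊥) (s : Spec (CommRingCat.of B') ⟶ S)
    (α : (yon S).obj (Over.mk (Spec.map (CommRingCat.ofHom φ) ≫ s)) ⟶ F)
    (β : (yon S).obj (Over.mk s) ⟶ G)
    (hcomm : α ≫ f = (yon S).map (CategoryTheory.Over.homMk (Spec.map (CommRingCat.ofHom φ)) :
      Over.mk (Spec.map (CommRingCat.ofHom φ) ≫ s) ⟶ Over.mk s) ≫ β) :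
    ∃ γ : (yon S).obj (Over.mk s) ⟶ F,
      (yon S).map (CategoryTheory.Over.homMk (Spec.map (CommRingCat.ofHom φ)) :
        Over.mk (Spec.map (CommRingCat.ofHom φ) ≫ s) ⟶ Over.mk s) ≫ γ = α ∧ γ ≫ f = β := by
  let I : Ideal B' := RingHom.ker φ
  let e : (B' ⧸ I) ≃+* B := RingHom.quotientKerEquivOfSurjective hφ
  have hmk : CommRingCat.ofHom (Ideal.Quotient.mk I) ≫ CommRingCat.ofHom e.toRingHom =
      CommRingCat.ofHom φ := by
    ext x
    rfl
  have hSpec : Spec.map (CommRingCat.ofHom e.toRingHom) ≫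
      Spec.map (CommRingCat.ofHom (Ideal.Quotient.mk I)) = Spec.map (CommRingCat.ofHom φ) := by
    rw [← Spec.map_comp, hmk]
  haveI : IsIso (CommRingCat.ofHom e.toRingHom) :=
    (ConcreteCategory.isIso_iff_bijective _).2 e.bijective
  let TB : Over S := Over.mk (Spec.map (CommRingCat.ofHom φ) ≫ s)
  let TI : Over S := Over.mk (Spec.map (CommRingCat.ofHom (Ideal.Quotient.mk I)) ≫ s)
  let ι : TB ≅ TI := Over.isoMk (asIso (Spec.map (CommRingCat.ofHom e.toRingHom))) (by
    change Spec.map (CommRingCat.ofHom e.toRingHom) ≫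
      Spec.map (CommRingCat.ofHom (Ideal.Quotient.mk I)) ≫ s = Spec.map (CommRingCat.ofHom φ) ≫ s
    rw [← Category.assoc, hSpec])
  let jI : TI ⟶ Over.mk s :=
    CategoryTheory.Over.homMk (Spec.map (CommRingCat.ofHom (Ideal.Quotient.mk I))) rfl
  let jφ : TB ⟶ Over.mk s := CategoryTheory.Over.homMk (Spec.map (CommRingCat.ofHom φ)) rfl
  have hιj : ι.hom ≫ jI = jφ := by
    ext
    exact hSpec
  let sq : InfSq f :=
    { A := B'
      I := I
      sq_zero := hker
      str := s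
      top := (yon S).map ι.inv ≫ α
      bot := β
      comm := by
        rw [Category.assoc, hcomm, ← Category.assoc, ← Functor.map_comp]
        congr 2
        change ι.inv ≫ jφ = jI
        rw [← hιj, Iso.inv_hom_id_assoc] }
  obtain ⟨l, hl1, hl2⟩ := hf sq
  refine ⟨l, ?_, hl2⟩
  have : (yon S).map jφ = (yon S).map ι.hom ≫ (yon S).map jI := by rw [← Functor.map_comp, hιj]
  change (yon S).map jφ ≫ l = α
  rw [this, Category.assoc]
  have hl1' : (yon S).map jI ≫ l = (yon S).map ι.inv ≫ α := hl1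
  rw [hl1', ← Category.assoc, ← Functor.map_comp, Iso.hom_inv_id, CategoryTheory.Functor.map_id,
    Category.id_comp]


/-- a lift into the space lifts to the charts -/
theorem exists_chart_lift {F G : Sp S} (f : F ⟶ G)
    {U V : Over S} (a : (yon S).obj U ⟶ F) (b : (yon S).obj V ⟶ G) (h : U ⟶ V)
    (ha : RepWith @Etale a) (hb : RepWith @Etale b) (hcomm : a ≫ f = (yon S).map h ≫ b)
    {B' B : Type u} [CommRing B'] [CommRing B] (φ : B' →+* B) (hφ : Function.Surjective φ)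
    (hker : RingHom.ker φ ^ 2 = ⊥)
    (α₀ : Spec (CommRingCat.of B) ⟶ U.left) (β₀ : Spec (CommRingCat.of B') ⟶ V.left)
    (hαβ : Spec.map (CommRingCat.ofHom φ) ≫ β₀ = α₀ ≫ h.left)
    (hw : α₀ ≫ U.hom = Spec.map (CommRingCat.ofHom φ) ≫ β₀ ≫ V.hom)
    (γ : (yon S).obj (Over.mk (β₀ ≫ V.hom)) ⟶ F)
    (hγ1 : (yon S).map (CategoryTheory.Over.homMk (Spec.map (CommRingCat.ofHom φ)) :
        Over.mk (Spec.map (CommRingCat.ofHom φ) ≫ β₀ ≫ V.hom) ⟶ Over.mk (β₀ ≫ V.hom)) ≫ γ =
      (yon S).map (CategoryTheory.Over.homMk α₀ hw :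
        Over.mk (Spec.map (CommRingCat.ofHom φ) ≫ β₀ ≫ V.hom) ⟶ U) ≫ a)
    (hγ2 : γ ≫ f = (yon S).map (CategoryTheory.Over.homMk β₀ rfl : Over.mk (β₀ ≫ V.hom) ⟶ V) ≫ b) :
    ∃ Γ : Spec (CommRingCat.of B') ⟶ U.left,
      Spec.map (CommRingCat.ofHom φ) ≫ Γ = α₀ ∧ Γ ≫ h.left = β₀ := by
  let T' : Over S := Over.mk (β₀ ≫ V.hom)
  let T : Over S := Over.mk (Spec.map (CommRingCat.ofHom φ) ≫ β₀ ≫ V.hom)
  let jφ : T ⟶ T' := CategoryTheory.Over.homMk (Spec.map (CommRingCat.ofHom φ)) rfl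
  let α₀' : T ⟶ U := CategoryTheory.Over.homMk α₀ hw
  let β₀' : T' ⟶ V := CategoryTheory.Over.homMk β₀ rfl
  have hjfo : MoreMor.IsFirstOrderThickening jφ.left :=
    UnivThickAffine.isFirstOrderThickening_SpecMap _ hφ hker
  have hj : IsFOThickMor ((yon S).map jφ) :=
    UnivThickSp.isFOThickMor_yon_map_of_isFirstOrderThickening jφ hjfo
  have haFE := AlgSpFormal.isFormallyEtaleMor_of_repWith_etale a ha
  have hbFE := AlgSpFormal.isFormallyEtaleMor_of_repWith_etale b hb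
  obtain ⟨γ', ⟨hγ'1, hγ'2⟩, -⟩ := Groth.Agent.Lib.Helper9.AlgSpFE.formallyEtale_lift_existsUnique' a haFE
    (IsAlgSpace.yon_obj T') ((yon S).map jφ) hj ((yon S).map α₀') γ hγ1.symm
  obtain ⟨Γ', rfl⟩ := (yon S).map_surjective γ'
  have hjΓ : jφ ≫ Γ' = α₀' := by
    apply (yon S).map_injective
    rw [Functor.map_comp]
    exact hγ'1
  have hαβ' : jφ ≫ β₀' = α₀' ≫ h := by
    ext
    exact hαβ
  have hw2 : (yon S).map (α₀' ≫ h) ≫ b = (yon S).map jφ ≫ ((yon S).map β₀' ≫ b) := by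
    rw [← Category.assoc, ← Functor.map_comp, hαβ']
  obtain ⟨c, -, hcu⟩ := Groth.Agent.Lib.Helper9.AlgSpFE.formallyEtale_lift_existsUnique' b hbFE
    (IsAlgSpace.yon_obj T') ((yon S).map jφ) hj ((yon S).map (α₀' ≫ h)) ((yon S).map β₀' ≫ b) hw2
  have h1 := hcu ((yon S).map (Γ' ≫ h)) ⟨by rw [← Functor.map_comp, ← Category.assoc, hjΓ], by
    rw [Functor.map_comp, Category.assoc, ← hcomm, ← Category.assoc, hγ'2, hγ2]⟩
  have h2 := hcu ((yon S).map β₀') ⟨by rw [← Functor.map_comp, hαβ'], rfl⟩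
  have hΓh : Γ' ≫ h = β₀' := (yon S).map_injective (h1.trans h2.symm)
  exact ⟨Γ'.left, congrArg (fun φ => φ.left) hjΓ, congrArg (fun φ => φ.left) hΓh⟩


theorem ker_sq_of_small {B' B : Type u} [CommRing B'] [CommRing B] [IsLocalRing B']
    [Nontrivial B] (π : B' →+* B)
    (h : ∃ t : B', RingHom.ker π = Ideal.span {t} ∧ ∀ a ∈ IsLocalRing.maximalIdeal B', a * t = 0) :
    RingHom.ker π ^ 2 = ⊥ := by
  obtain ⟨t, hker, hm⟩ := h
  have ht : t ∈ IsLocalRing.maximalIdeal B' := by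
    rw [IsLocalRing.mem_maximalIdeal, mem_nonunits_iff]
    intro hu
    have h1 : (1 : B') ∈ RingHom.ker π := by
      rw [hker, Ideal.mem_span_singleton]
      exact hu.dvd
    rw [RingHom.mem_ker, map_one] at h1
    exact one_ne_zero h1
  rw [hker, Ideal.span_singleton_pow, pow_two, hm t ht]
  exact Ideal.span_singleton_eq_bot.2 rfl

theorem locP_lft_of_etale {F G : Sp S} (b : F ⟶ G) (hb : RepWith @Etale b) :
    LocP @LocallyOfFiniteType b := by
  refine locP_of_repWith isEtLocal_locallyOfFiniteType _ (MorphismProperty.relative_monotone ?_ _ hb)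
  intro A B f hf
  have : Etale ((Over.forget S).map f) := hf
  change LocallyOfFiniteType ((Over.forget S).map f)
  infer_instance

/-- S10602 -/
theorem smooth_iff_small {F G : Sp S} (hF : IsAlgSpace F) (hG : IsAlgSpace G) (f : F ⟶ G)
    (hY : IsLocNoethSp G) (hft : LocP @LocallyOfFiniteType f) :
    LocP @Smooth f ↔
      ∀ (B' B : Type u) [CommRing B'] [CommRing B] [IsLocalRing B'] [IsLocalRing B]
        [IsArtinianRing B'] [IsArtinianRing B] (π : B' →+* B), Function.Surjective π →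
        (∃ t : B', RingHom.ker π = Ideal.span {t} ∧ ∀ a ∈ IsLocalRing.maximalIdeal B', a * t = 0) →
        ∀ (s : Spec (CommRingCat.of B') ⟶ S)
          (α : (AlgSp.yon S).obj (Over.mk (Spec.map (CommRingCat.ofHom π) ≫ s)) ⟶ F)
          (β : (AlgSp.yon S).obj (Over.mk s) ⟶ G),
          AlgSp.LocP @LocallyOfFiniteType β →
          α ≫ f = (AlgSp.yon S).map
            (CategoryTheory.Over.homMk (Spec.map (CommRingCat.ofHom π)) :
              Over.mk (Spec.map (CommRingCat.ofHom π) ≫ s) ⟶ Over.mk s) ≫ β →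
          ∃ γ : (AlgSp.yon S).obj (Over.mk s) ⟶ F,
            (AlgSp.yon S).map (CategoryTheory.Over.homMk (Spec.map (CommRingCat.ofHom π)) :
              Over.mk (Spec.map (CommRingCat.ofHom π) ≫ s) ⟶ Over.mk s) ≫ γ = α ∧ γ ≫ f = β := by
  constructor
  · intro hsm B' B _ _ _ _ _ _ π hπ hsmall s α β _ hcomm
    exact exists_lift_of_formallySmooth f (isFormallySmoothMor_of_smooth hF hG f hsm) π hπ
      (ker_sq_of_small π hsmall) s α β hcomm
  · intro H U V a b h ha hb hc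
    haveI : IsLocallyNoetherian V.left := isLocallyNoetherian_of_isLocNoethSp hY b hb
    haveI : LocallyOfFiniteType h.left := hft a b h ha hb hc
    rw [Groth.Agent.S1417.result]
    intro B B' _ _ _ _ _ _ φ ε hφ hker hε α₀ β₀ hβ₀ hαβ
    have hsmall : ∃ t : B', RingHom.ker φ = Ideal.span {t} ∧
        ∀ a ∈ IsLocalRing.maximalIdeal B', a * t = 0 :=
      ⟨ε, hker, fun m hm => by rw [mul_comm]; exact hε m hm⟩
    have hw : α₀ ≫ U.hom = Spec.map (CommRingCat.ofHom φ) ≫ β₀ ≫ V.hom := by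
      rw [← Over.w h, ← Category.assoc, ← hαβ, Category.assoc]
    have hβlft : LocP @LocallyOfFiniteType
        ((yon S).map (CategoryTheory.Over.homMk β₀ rfl : Over.mk (β₀ ≫ V.hom) ⟶ V) ≫ b) := by
      refine locP_comp isEtLocal_locallyOfFiniteType (IsAlgSpace.yon_obj _) (IsAlgSpace.yon_obj V) hG
        _ _ ?_ (locP_lft_of_etale b hb)
      exact locP_of_repWith isEtLocal_locallyOfFiniteType _ ((repWith_yon_map_iff _ _).2 hβ₀)
    obtain ⟨γ, hγ1, hγ2⟩ := H B' B φ hφ hsmall (β₀ ≫ V.hom)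
      ((yon S).map (CategoryTheory.Over.homMk α₀ hw :
        Over.mk (Spec.map (CommRingCat.ofHom φ) ≫ β₀ ≫ V.hom) ⟶ U) ≫ a)
      ((yon S).map (CategoryTheory.Over.homMk β₀ rfl : Over.mk (β₀ ≫ V.hom) ⟶ V) ≫ b) hβlft (by
        rw [Category.assoc, hc]
        simp only [← Category.assoc, ← Functor.map_comp]
        congr 2
        ext
        exact hαβ.symm)
    exact exists_chart_lift f a b h ha hb hc φ hφ (ker_sq_of_small φ hsmall) α₀ β₀ hαβ hw γ hγ1 hγ2

end Groth.Agent.Lib.Helper15.SmSp
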