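import Mathlib
import Groth.Agent.Lib.helper10.SmallExtSch
import Groth.Agent.S2060
import Groth.Agent.Lib.Helper27.NoethLfp

set_option autoImplicit false
set_option backward.isDefEq.respectTransparency.types false
universe u
open CategoryTheory CategoryTheory.Limits AlgebraicGeometry Opposite IsLocalRing

namespace Groth.Agent.Lib.Helper15.SmSp

open Groth.Agent.Lib.Helper13.LocalSpecFactor Groth.Agent.Lib.helper10.SmallExtSch

set_option maxHeartbeats 3200000 in
set_option synthInstance.maxHeartbeats 400000 in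
/-- pointwise criterion: lifting along small extensions at the point `z` implies smoothness at
`z` -/
theorem mem_smoothLocus_of_small_lift {X Y : Scheme.{u}} (f : X ⟶ Y) [IsLocallyNoetherian Y]
    [LocallyOfFiniteType f] [LocallyOfFinitePresentation f] (z : X)
    (H : ∀ (B B' : Type u) [CommRing B] [CommRing B'] [IsArtinianRing B] [IsArtinianRing B']
      [IsLocalRing B] [IsLocalRing B'] (φ : B' →+* B), Function.Surjective φ →
      (∃ t : B', RingHom.ker φ = Ideal.span {t} ∧ ∀ a ∈ IsLocalRing.maximalIdeal B', a * t = 0) →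
      ∀ (α : Spec (CommRingCat.of B) ⟶ X) (β : Spec (CommRingCat.of B') ⟶ Y),
        α (closedPoint B) = z → Spec.map (CommRingCat.ofHom φ) ≫ β = α ≫ f →
        ∃ γ : Spec (CommRingCat.of B') ⟶ X,
          Spec.map (CommRingCat.ofHom φ) ≫ γ = α ∧ γ ≫ f = β) : z ∈ f.smoothLocus := by
  obtain ⟨_, ⟨U, hU, rfl⟩, hzU, -⟩ :=
    Y.isBasis_affineOpens.exists_subset_of_mem_open (Set.mem_univ (f z)) isOpen_univ
  obtain ⟨_, ⟨V, hV, rfl⟩, hzV, hVU⟩ :=
    X.isBasis_affineOpens.exists_subset_of_mem_open hzU (U.2.preimage f.continuous)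
  have hft := f.finiteType_appLE hU hV hVU
  rw [Scheme.Hom.mem_smoothLocus, formallySmooth_stalkMap_iff U hU V hV hVU hzV]
  algebraize [(f.appLE U V hVU).hom]
  haveI : IsNoetherianRing Γ(Y, U) := IsLocallyNoetherian.component_noetherian ⟨U, hU⟩
  change Algebra.IsSmoothAt Γ(Y, U) (hV.primeIdealOf ⟨z, hzV⟩).asIdeal
  rw [Groth.Agent.S2060.result]
  intro B' B _ _ _ _ _ _ _ _ π hπ hsmall g hg
  haveI : IsLocalRing (CommRingCat.of B) := ‹IsLocalRing B›
  haveI : IsLocalRing (CommRingCat.of B') := ‹IsLocalRing B'›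
  let α : Spec (CommRingCat.of B) ⟶ X := Spec.map (CommRingCat.ofHom g.toRingHom) ≫ hV.fromSpec
  let β : Spec (CommRingCat.of B') ⟶ Y :=
    Spec.map (CommRingCat.ofHom (algebraMap Γ(Y, U) B')) ≫ hU.fromSpec
  have hcomm : Spec.map (CommRingCat.ofHom π.toRingHom) ≫ β = α ≫ f := by
    show Spec.map (CommRingCat.ofHom π.toRingHom) ≫
        Spec.map (CommRingCat.ofHom (algebraMap Γ(Y, U) B')) ≫ hU.fromSpec =
      (Spec.map (CommRingCat.ofHom g.toRingHom) ≫ hV.fromSpec) ≫ f
    rw [Category.assoc, ← IsAffineOpen.SpecMap_appLE_fromSpec f hU hV hVU, ← Category.assoc,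
      ← Category.assoc, ← Spec.map_comp, ← Spec.map_comp]
    congr 2
    ext r
    show π (algebraMap Γ(Y, U) B' r) = g (algebraMap Γ(Y, U) Γ(X, V) r)
    rw [π.commutes, g.commutes]
  have hαz : α (closedPoint B) = z := by
    show (Spec.map (CommRingCat.ofHom g.toRingHom) ≫ hV.fromSpec) (closedPoint B) = z
    rw [Scheme.Hom.comp_apply]
    have h1 : (Spec.map (CommRingCat.ofHom g.toRingHom)) (closedPoint B) =
        hV.primeIdealOf ⟨z, hzV⟩ := by
      apply PrimeSpectrum.ext
      exact hg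
    rw [h1]
    exact hV.fromSpec_primeIdealOf ⟨z, hzV⟩
  obtain ⟨γ, hγ1, hγ2⟩ := H B B' π.toRingHom hπ hsmall α β hαz hcomm
  have hγV : γ (closedPoint B') ∈ V := by
    rw [← closedPoint_map π.toRingHom hπ, ← Scheme.Hom.comp_apply, hγ1, hαz]
    exact hzV
  obtain ⟨c, hc⟩ := exists_factor (R := CommRingCat.of B') γ hV hγV
  have hc1 : c ≫ CommRingCat.ofHom π.toRingHom = CommRingCat.ofHom g.toRingHom := by
    apply factor_unique hV
    rw [Spec.map_comp, Category.assoc, ← hc, hγ1]
  have hc2 : f.appLE U V hVU ≫ c = CommRingCat.ofHom (algebraMap Γ(Y, U) B') := by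
    apply factor_unique hU
    rw [Spec.map_comp, Category.assoc, IsAffineOpen.SpecMap_appLE_fromSpec f hU hV hVU,
      ← Category.assoc, ← hc, hγ2]
  let c' : Γ(X, V) →ₐ[Γ(Y, U)] B' :=
    { c.hom with
      commutes' := fun r => by
        have := congrArg (fun h => h.hom r) hc2
        exact this }
  refine ⟨c', ?_⟩
  refine AlgHom.ext fun x => ?_
  have := congrArg (fun h => h.hom x) hc1
  exact this

end Groth.Agent.Lib.Helper15.SmSp
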