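import Groth.Agent.Lib.Helper15.SmSp11
import Groth.Agent.Lib.Helper15.SmSp12
import Groth.Agent.Lib.Helper3.AlgSpHasAtMor
import Groth.Agent.S5008

set_option autoImplicit false
set_option backward.isDefEq.respectTransparency.types false
universe u
open CategoryTheory CategoryTheory.Limits AlgebraicGeometry Opposite MorphismProperty

namespace Groth.Agent.Lib.Helper15.SmSp

variable {S : Scheme.{u}}

open AlgSp Groth.Agent.Lib.Helper3

theorem smooth_restrict_smoothLocus {X Y : Scheme.{u}} (f : X ⟶ Y) [LocallyOfFinitePresentation f] :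
    Smooth (f.smoothLocus.ι ≫ f) := by
  rw [← Scheme.Hom.smoothLocus_eq_top_iff, ← Scheme.Hom.preimage_smoothLocus_eq]
  exact Scheme.Opens.ι_preimage_self _

/-- the chart part of smoothness at a point, from a pointwise lifting criterion for the chart -/
theorem hasAtMor_smooth_of_chart {F G : Sp S} (hF : IsAlgSpace F) (hG : IsAlgSpace G) (f : F ⟶ G)
    (hY : IsLocNoethSp G) (hft : LocP @LocallyOfFiniteType f) (x : Points F)
    (H : ∀ ⦃U V : Over S⦄ (a : (yon S).obj U ⟶ F) (b : (yon S).obj V ⟶ G) (h : U ⟶ V) (u : U.left),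
      RepWith @Etale a → RepWith @Etale b → a ≫ f = (yon S).map h ≫ b → Points.ofPt a u = x →
      ∀ [IsLocallyNoetherian V.left] [LocallyOfFiniteType h.left]
        [LocallyOfFinitePresentation h.left], u ∈ h.left.smoothLocus) :
    HasAtMor (fun U _ h u => ∃ W : U.Opens, u ∈ W ∧ Smooth (W.ι ≫ h)) f x := by
  obtain ⟨U, V, v, u', h, hve, hvs, hue, hus, hae, has, hh, hc⟩ := exists_chart_diagram hF hG f
  obtain ⟨u, hu⟩ := exists_ofPt_eq _ has x
  haveI : IsLocallyNoetherian V.left := isLocallyNoetherian_of_isLocNoethSp hY v hve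
  haveI : LocallyOfFiniteType h.left := hft _ v h hae hve hc
  haveI : LocallyOfFinitePresentation h.left :=
    Groth.Agent.Lib.Helper27.NoethLfp.locallyOfFinitePresentation_of_isLocallyNoetherian _
  have hmem := H _ v h u hae hve hc hu
  exact ⟨U, V, _, v, h, u, hae, hve, hc, hu, h.left.smoothLocus, hmem,
    smooth_restrict_smoothLocus h.left⟩


/-- transfer of a lifting problem for a chart to the spaces, and back -/
theorem exists_chart_lift_of_lift {F G : Sp S} (f : F ⟶ G) (x : Points F)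
    {U V : Over S} (a : (yon S).obj U ⟶ F) (b : (yon S).obj V ⟶ G) (h : U ⟶ V) (u : U.left)
    (ha : RepWith @Etale a) (hb : RepWith @Etale b) (hc : a ≫ f = (yon S).map h ≫ b)
    (hu : Points.ofPt a u = x)
    {B' B : Type u} [CommRing B'] [CommRing B] [IsLocalRing B] (φ : B' →+* B)
    (hφ : Function.Surjective φ) (hker : RingHom.ker φ ^ 2 = ⊥)
    (α₀ : Spec (CommRingCat.of B) ⟶ U.left) (β₀ : Spec (CommRingCat.of B') ⟶ V.left)
    (hα₀ : α₀ (IsLocalRing.closedPoint B) = u)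
    (hαβ : Spec.map (CommRingCat.ofHom φ) ≫ β₀ = α₀ ≫ h.left)
    (H : ∀ (s : Spec (CommRingCat.of B') ⟶ S)
      (α : (AlgSp.yon S).obj (Over.mk (Spec.map (CommRingCat.ofHom φ) ≫ s)) ⟶ F)
      (β : (AlgSp.yon S).obj (Over.mk s) ⟶ G),
      AlgSp.Points.ofPt α (IsLocalRing.closedPoint B) = x →
      α ≫ f = (AlgSp.yon S).map
        (CategoryTheory.Over.homMk (Spec.map (CommRingCat.ofHom φ)) :
          Over.mk (Spec.map (CommRingCat.ofHom φ) ≫ s) ⟶ Over.mk s) ≫ β →
      ∃ γ : (AlgSp.yon S).obj (Over.mk s) ⟶ F,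
        (AlgSp.yon S).map (CategoryTheory.Over.homMk (Spec.map (CommRingCat.ofHom φ)) :
          Over.mk (Spec.map (CommRingCat.ofHom φ) ≫ s) ⟶ Over.mk s) ≫ γ = α ∧ γ ≫ f = β) :
    ∃ Γ : Spec (CommRingCat.of B') ⟶ U.left,
      Spec.map (CommRingCat.ofHom φ) ≫ Γ = α₀ ∧ Γ ≫ h.left = β₀ := by
  have hw : α₀ ≫ U.hom = Spec.map (CommRingCat.ofHom φ) ≫ β₀ ≫ V.hom := by
    rw [← Over.w h, ← Category.assoc, ← hαβ, Category.assoc]
  obtain ⟨γ, hγ1, hγ2⟩ := H (β₀ ≫ V.hom)
    ((yon S).map (CategoryTheory.Over.homMk α₀ hw :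
      Over.mk (Spec.map (CommRingCat.ofHom φ) ≫ β₀ ≫ V.hom) ⟶ U) ≫ a)
    ((yon S).map (CategoryTheory.Over.homMk β₀ rfl : Over.mk (β₀ ≫ V.hom) ⟶ V) ≫ b) (by
      rw [AlgSpFT.ofPt_yon_map_comp]
      change Points.ofPt a (α₀ (IsLocalRing.closedPoint B)) = x
      rw [hα₀, hu]) (by
      rw [Category.assoc, hc]
      simp only [← Category.assoc, ← Functor.map_comp]
      congr 2
      ext
      exact hαβ.symm)
  exact exists_chart_lift f a b h ha hb hc φ hφ hker α₀ β₀ hαβ hw γ hγ1 hγ2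

/-- (2) ⇒ (1) -/
theorem hasAt_of_lift_sq {F G : Sp S} (hF : IsAlgSpace F) (hG : IsAlgSpace G) (f : F ⟶ G)
    (hY : IsLocNoethSp G) (hft : LocP @LocallyOfFiniteType f) (x : Points F)
    (H : ∀ (B' B : Type u) [CommRing B'] [CommRing B] [IsLocalRing B'] [IsLocalRing B] (π : B' →+* B),
        Function.Surjective π → RingHom.ker π ^ 2 = ⊥ →
        ∀ (s : Spec (CommRingCat.of B') ⟶ S)
          (α : (AlgSp.yon S).obj (Over.mk (Spec.map (CommRingCat.ofHom π) ≫ s)) ⟶ F)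
          (β : (AlgSp.yon S).obj (Over.mk s) ⟶ G),
          AlgSp.Points.ofPt α (IsLocalRing.closedPoint B) = x →
          α ≫ f = (AlgSp.yon S).map
            (CategoryTheory.Over.homMk (Spec.map (CommRingCat.ofHom π)) :
              Over.mk (Spec.map (CommRingCat.ofHom π) ≫ s) ⟶ Over.mk s) ≫ β →
          ∃ γ : (AlgSp.yon S).obj (Over.mk s) ⟶ F,
            (AlgSp.yon S).map (CategoryTheory.Over.homMk (Spec.map (CommRingCat.ofHom π)) :
              Over.mk (Spec.map (CommRingCat.ofHom π) ≫ s) ⟶ Over.mk s) ≫ γ = α ∧ γ ≫ f = β) :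
    HasAtMor (fun U _ h u => ∃ W : U.Opens, u ∈ W ∧ Smooth (W.ι ≫ h)) f x := by
  apply hasAtMor_smooth_of_chart hF hG f hY hft x
  intro U V a b h u ha hb hc hu _ _ _
  rw [Groth.Agent.S5008.result]
  intro B B' _ _ _ _ φ hφ hker α₀ β₀ hα₀ hαβ
  exact exists_chart_lift_of_lift f x a b h u ha hb hc hu φ hφ hker α₀ β₀ hα₀ hαβ
    (H B' B φ hφ hker)

/-- (3) ⇒ (1) -/
theorem hasAt_of_lift_small {F G : Sp S} (hF : IsAlgSpace F) (hG : IsAlgSpace G) (f : F ⟶ G)
    (hY : IsLocNoethSp G) (hft : LocP @LocallyOfFiniteType f) (x : Points F)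
    (H : ∀ (B' B : Type u) [CommRing B'] [CommRing B] [IsLocalRing B'] [IsLocalRing B]
        [IsArtinianRing B'] [IsArtinianRing B] (π : B' →+* B), Function.Surjective π →
        (∃ t : B', RingHom.ker π = Ideal.span {t} ∧ ∀ a ∈ IsLocalRing.maximalIdeal B', a * t = 0) →
        ∀ (s : Spec (CommRingCat.of B') ⟶ S)
          (α : (AlgSp.yon S).obj (Over.mk (Spec.map (CommRingCat.ofHom π) ≫ s)) ⟶ F)
          (β : (AlgSp.yon S).obj (Over.mk s) ⟶ G),
          AlgSp.Points.ofPt α (IsLocalRing.closedPoint B) = x →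
          α ≫ f = (AlgSp.yon S).map
            (CategoryTheory.Over.homMk (Spec.map (CommRingCat.ofHom π)) :
              Over.mk (Spec.map (CommRingCat.ofHom π) ≫ s) ⟶ Over.mk s) ≫ β →
          ∃ γ : (AlgSp.yon S).obj (Over.mk s) ⟶ F,
            (AlgSp.yon S).map (CategoryTheory.Over.homMk (Spec.map (CommRingCat.ofHom π)) :
              Over.mk (Spec.map (CommRingCat.ofHom π) ≫ s) ⟶ Over.mk s) ≫ γ = α ∧ γ ≫ f = β) :
    HasAtMor (fun U _ h u => ∃ W : U.Opens, u ∈ W ∧ Smooth (W.ι ≫ h)) f x := by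
  apply hasAtMor_smooth_of_chart hF hG f hY hft x
  intro U V a b h u ha hb hc hu _ _ _
  apply mem_smoothLocus_of_small_lift
  intro B B' _ _ _ _ _ _ φ hφ hsmall α₀ β₀ hα₀ hαβ
  exact exists_chart_lift_of_lift f x a b h u ha hb hc hu φ hφ (ker_sq_of_small φ hsmall) α₀ β₀
    hα₀ hαβ (H B' B φ hφ hsmall)

end Groth.Agent.Lib.Helper15.SmSp
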