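import Groth.Agent.Lib.Helper15.SmSp11
import Groth.Agent.Lib.Helper3.AlgSpOpenSubsp2
import Groth.Agent.Lib.Helper3.AlgSpChartPts
import Groth.Agent.Lib.Helper3.AlgSpLocP3

set_option autoImplicit false
set_option backward.isDefEq.respectTransparency.types false
universe u
open CategoryTheory CategoryTheory.Limits AlgebraicGeometry Opposite MorphismProperty

namespace Groth.Agent.Lib.Helper15.SmSp

variable {S : Scheme.{u}}

open AlgSp Groth.Agent.Lib.Helper3

/-- (1) ⇒ lifting along square-zero surjections onto a local ring whose closed point maps to `x` -/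
theorem lift_of_hasAt {F G : Sp S} (hF : IsAlgSpace F) (hG : IsAlgSpace G) (f : F ⟶ G)
    (x : Points F)
    (h1 : HasAtMor (fun U _ h u => ∃ W : U.Opens, u ∈ W ∧ Smooth (W.ι ≫ h)) f x)
    {B' B : Type u} [CommRing B'] [CommRing B] [IsLocalRing B] (φ : B' →+* B)
    (hφ : Function.Surjective φ) (hker : RingHom.ker φ ^ 2 = ⊥)
    (s : Spec (CommRingCat.of B') ⟶ S)
    (α : (yon S).obj (Over.mk (Spec.map (CommRingCat.ofHom φ) ≫ s)) ⟶ F)
    (β : (yon S).obj (Over.mk s) ⟶ G)
    (hx : Points.ofPt α (IsLocalRing.closedPoint B) = x)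
    (hcomm : α ≫ f = (yon S).map (CategoryTheory.Over.homMk (Spec.map (CommRingCat.ofHom φ)) :
      Over.mk (Spec.map (CommRingCat.ofHom φ) ≫ s) ⟶ Over.mk s) ≫ β) :
    ∃ γ : (yon S).obj (Over.mk s) ⟶ F,
      (yon S).map (CategoryTheory.Over.homMk (Spec.map (CommRingCat.ofHom φ)) :
        Over.mk (Spec.map (CommRingCat.ofHom φ) ≫ s) ⟶ Over.mk s) ≫ γ = α ∧ γ ≫ f = β := by
  obtain ⟨U, V, a, b, h, u, ha, hb, hc, hu, W, huW, hsm⟩ := h1
  let aW := chartRestrict a W
  have haW : RepWith @Etale aW := chartRestrict_etale a ha W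
  let Ω : Set (Points F) := Set.range (Points.ofPt aW)
  have hΩ : IsOpen Ω := (isOpenMap_ofPt aW haW).isOpen_range
  have hxΩ : x ∈ Ω := ⟨⟨u, huW⟩, by rw [ofPt_chartRestrict]; exact hu⟩
  have hι : RepWith @IsOpenImmersion (openSubι F Ω) := repWith_isOpenImmersion_openSubι F Ω hΩ
  obtain ⟨aW', haW', hét, hsurj, -⟩ := exists_factor_surjective_etale aW haW (openSubι F Ω) hι
    (range_map_openSubι F Ω)
  have hXΩ : IsAlgSpace (openSub F Ω) := isAlgSpace_openSub hF Ω hΩ
  have hLoc : LocP @Smooth (openSubι F Ω ≫ f) := by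
    refine locP_of_chart isEtLocal_smooth (openSubι F Ω ≫ f) aW' hét hsurj b hb
      ((CategoryTheory.Over.homMk W.ι rfl : Over.mk (W.ι ≫ U.hom) ⟶ U) ≫ h) ?_ hsm
    rw [← Category.assoc, haW', Functor.map_comp, Category.assoc, ← hc]
    rfl
  have hfs : IsFormallySmoothMor (openSubι F Ω ≫ f) :=
    isFormallySmoothMor_of_smooth hXΩ hG _ hLoc
  have hmem : ∀ t, Points.ofPt α t ∈ Ω := by
    intro t
    have hopen : IsOpen (Points.ofPt α ⁻¹' Ω) := hΩ.preimage (Points.continuous_ofPt α)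
    have hcl : (IsLocalRing.closedPoint B : ↥(Spec (CommRingCat.of B))) ∈ Points.ofPt α ⁻¹' Ω := by
      change Points.ofPt α (IsLocalRing.closedPoint B) ∈ Ω
      rw [hx]
      exact hxΩ
    have hsp : (t : PrimeSpectrum B) ⤳ IsLocalRing.closedPoint B :=
      IsLocalRing.specializes_closedPoint t
    exact hsp.mem_open hopen hcl
  let α' : (yon S).obj (Over.mk (Spec.map (CommRingCat.ofHom φ) ≫ s)) ⟶ openSub F Ω :=
    openSubLift α (app_mem_openSubfunctor_of_forall α hmem)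
  have hα' : α' ≫ openSubι F Ω = α := openSubLift_ι _ _
  obtain ⟨γ', hγ1, hγ2⟩ := exists_lift_of_formallySmooth (openSubι F Ω ≫ f) hfs φ hφ hker s α' β
    (by rw [← Category.assoc, hα', hcomm])
  refine ⟨γ' ≫ openSubι F Ω, ?_, ?_⟩
  · rw [← Category.assoc, hγ1, hα']
  · rw [Category.assoc, hγ2]

end Groth.Agent.Lib.Helper15.SmSp
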