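import Groth.Agent.Lib.Helper15.SmSp1
import Groth.Agent.Lib.Helper13.ThickAffineC

set_option autoImplicit false
set_option backward.isDefEq.respectTransparency.types false
universe u
open CategoryTheory CategoryTheory.Limits AlgebraicGeometry Opposite MorphismProperty

namespace Groth.Agent.Lib.Helper15.SmSp

variable {S : Scheme.{u}}

open AlgSp Groth.Agent.Lib.Helper3

/-- uniqueness of the universal first order thickening, sheaf level -/
theorem exists_iso_of_isUnivFOThick {Z X Z' Z'' : Sp S} (hZ : IsAlgSpace Z) (hZ' : IsAlgSpace Z')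
    (hZ'' : IsAlgSpace Z'') (η : Z ⟶ X)
    (i : Z ⟶ Z') (k : Z' ⟶ X) (i₂ : Z ⟶ Z'') (k₂ : Z'' ⟶ X)
    (H : IsUnivFOThick η i k) (H₂ : IsUnivFOThick η i₂ k₂) :
    ∃ φ : Z' ≅ Z'', i ≫ φ.hom = i₂ ∧ φ.hom ≫ k₂ = k := by
  obtain ⟨f₁, ⟨hf1, hf2⟩, -⟩ := H.2.2 hZ hZ'' i₂ (𝟙 _) k₂ H₂.1 (by rw [H₂.2.1, Category.id_comp])
  obtain ⟨f₂, ⟨hg1, hg2⟩, -⟩ := H₂.2.2 hZ hZ' i (𝟙 _) k H.1 (by rw [H.2.1, Category.id_comp])
  rw [Category.id_comp] at hf1 hg1
  have h12 : f₂ ≫ f₁ = 𝟙 Z' := by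
    obtain ⟨c, -, hcu⟩ := H.2.2 hZ hZ' i (𝟙 _) k H.1 (by rw [H.2.1, Category.id_comp])
    rw [hcu (f₂ ≫ f₁) ⟨by rw [← Category.assoc, hg1, hf1, Category.id_comp], by
        rw [Category.assoc, hf2, hg2]⟩,
      hcu (𝟙 Z') ⟨by rw [Category.comp_id, Category.id_comp], by rw [Category.id_comp]⟩]
  have h21 : f₁ ≫ f₂ = 𝟙 Z'' := by
    obtain ⟨c, -, hcu⟩ := H₂.2.2 hZ hZ'' i₂ (𝟙 _) k₂ H₂.1 (by rw [H₂.2.1, Category.id_comp])
    rw [hcu (f₁ ≫ f₂) ⟨by rw [← Category.assoc, hf1, hg1, Category.id_comp], by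
        rw [Category.assoc, hg2, hf2]⟩,
      hcu (𝟙 Z'') ⟨by rw [Category.comp_id, Category.id_comp], by rw [Category.id_comp]⟩]
  exact ⟨⟨f₂, f₁, h12, h21⟩, hg1, hg2⟩


/-- the universal first order thickening of a section over a thickening of an affine scheme is
affine over the big affine scheme -/
theorem isAffineMor_univ {T T' : Over S} (j : T ⟶ T') (hT' : IsAffine T'.left)
    (hjc : IsClosedImmersion j.left) (hjs : Surjective j.left)
    {P : Sp S} (hP : IsAlgSpace P) (pT : P ⟶ (yon S).obj T') (s₀ : (yon S).obj T ⟶ P)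
    (hs : s₀ ≫ pT = (yon S).map j) (hfu : IsFormallyUnramifiedMor s₀)
    {Z₁ : Sp S} (hZ₁ : IsAlgSpace Z₁) (i₁ : (yon S).obj T ⟶ Z₁) (h₁ : Z₁ ⟶ P)
    (HU : IsUnivFOThick s₀ i₁ h₁) : IsAffineMor (h₁ ≫ pT) := by
  obtain ⟨U, p, hpe, hps⟩ := hP.atlas
  have he : IsEtaleMor p := isEtaleMor_of_repWith_etale hpe
  have hes : IsSurjectiveMor p := (S9906.repWith_surjective_iff p hps.rep).1 hps
  obtain ⟨K, W, W', g, g', jW, c, hW'a, hg'e, hsq, hg's, hgs, hge, hc⟩ :=
    UnivDescend.exists_cover_lift (IsAlgSpace.yon_obj U) hP p he hes j hT' hjc hjs s₀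
  have hcov := isFpqcCover_of_etale_family W' g' hg'e hg's
  -- the local models
  have key : ∀ k, ∃ (V' : Over S) (w : V' ⟶ W' k) (q : (yon S).obj V' ⟶ Z₁),
      IsPullback q ((yon S).map w) (h₁ ≫ pT) ((yon S).map (g' k)) ∧ IsAffine V'.left := by
    intro k
    obtain ⟨ψ, hψ⟩ := (yon S).map_surjective (c k)
    have hcomm : (yon S).map (g k) ≫ s₀ = (yon S).map ψ ≫ p := by rw [hψ, hc k]
    have hge' : RepWith @Etale ((yon S).map (g k)) := (repWith_yon_map_iff _ _).2 (hge k)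
    obtain ⟨V', iV, κ, hiV, HV⟩ := UnivAtlas.exists_univ_chart
      (Z := (ofScheme S).obj T) (X := ⟨P, hP⟩) (ObjectProperty.homMk s₀) hfu
      ((yon S).map (g k)) hge' p hpe ψ hcomm
    -- the base change of `Z₁`
    let Zk := pullback (h₁ ≫ pT) ((yon S).map (g' k))
    have sqk : IsPullback (pullback.fst (h₁ ≫ pT) ((yon S).map (g' k)))
        (pullback.snd (h₁ ≫ pT) ((yon S).map (g' k))) (h₁ ≫ pT) ((yon S).map (g' k)) :=
      IsPullback.of_hasPullback _ _
    have hZk : IsAlgSpace Zk :=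
      isAlgSpace_of_isPullback' (IsAlgSpace.yon_obj T') hZ₁ (IsAlgSpace.yon_obj (W' k)) sqk
    have hw0 : ((yon S).map (g k) ≫ i₁) ≫ (h₁ ≫ pT) =
        (yon S).map (jW k) ≫ (yon S).map (g' k) := by
      rw [Category.assoc, ← Category.assoc i₁, HU.2.1, hs, ← Functor.map_comp, ← Functor.map_comp,
        (hsq k).w]
    let iZ : (yon S).obj (W k) ⟶ Zk := pullback.lift _ _ hw0
    have hiZ1 : iZ ≫ pullback.fst _ _ = (yon S).map (g k) ≫ i₁ := pullback.lift_fst _ _ _
    have hiZ2 : iZ ≫ pullback.snd _ _ = (yon S).map (jW k) := pullback.lift_snd _ _ _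
    have hleft : IsPullback ((yon S).map (g k)) iZ i₁ (pullback.fst _ _) := by
      have hbig : IsPullback ((yon S).map (g k)) (iZ ≫ pullback.snd _ _)
          (i₁ ≫ (h₁ ≫ pT)) ((yon S).map (g' k)) := by
        rw [hiZ2, ← Category.assoc, HU.2.1, hs]
        exact ((hsq k).map (yon S)).flip
      exact (IsPullback.of_right hbig.flip hiZ1 sqk.flip).flip
    have hfe : RepWith @Etale (pullback.fst (h₁ ≫ pT) ((yon S).map (g' k))) :=
      MorphismProperty.of_isPullback sqk.flip ((repWith_yon_map_iff _ _).2 (hg'e k))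
    have HZ := UnivEtLoc.isUnivFOThick_of_etale_pullback ((yon S).map (g k)) s₀ i₁ h₁ HU iZ
      (pullback.fst _ _) (isEtaleMor_of_repWith_etale hfe)
      (AlgSpFormal.isFormallyEtaleMor_of_repWith_etale _ hfe) hleft
    obtain ⟨φ, hφ1, hφ2⟩ := exists_iso_of_isUnivFOThick (IsAlgSpace.yon_obj (W k))
      (IsAlgSpace.yon_obj V') hZk _ _ _ _ _ HV HZ
    obtain ⟨w, hw⟩ := (yon S).map_surjective (φ.hom ≫ pullback.snd _ _)
    refine ⟨V', w, φ.hom ≫ pullback.fst _ _, ?_, ?_⟩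
    · rw [hw]
      exact IsPullback.of_iso sqk φ.symm (Iso.refl _) (Iso.refl _) (Iso.refl _) (by simp) (by simp)
        (by simp) (by simp)
    · have hWa : IsAffine (W k).left := by
        have : IsClosedImmersion (jW k).left :=
          MorphismProperty.of_isPullback ((hsq k).map (Over.forget S)).flip hjc
        have := hW'a k
        exact isAffine_of_isAffineHom (jW k).left
      have hth : MoreMor.IsThickening iV.left := hiV.1
      have := hth.1
      exact Groth.Agent.Lib.Helper13.ThickAffine.isAffine_of_isAffine iV.left hth.2.surj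
  choose V' w q hpb hV'a using key
  refine (FpqcDesc.isLocalOnBase_fpqc_isAffineMor (fun k => (yon S).obj (W' k))
    (fun k => (yon S).map (g' k)) (IsAlgSpace.yon_obj T') (fun k => IsAlgSpace.yon_obj (W' k)) hcov
    (h₁ ≫ pT) hZ₁ (fun k => (yon S).obj (V' k)) (fun k => (yon S).map (w k)) q
    (fun k => IsAlgSpace.yon_obj (V' k)) hpb).2 (fun k => ?_)
  rw [isAffineMor_iff_repWith]
  refine (repWith_yon_map_iff _ (w k)).2 ?_
  have := hV'a k
  have := hW'a k
  exact isAffineHom_of_isAffine (w k).left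

end Groth.Agent.Lib.Helper15.SmSp
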