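import Groth.Agent.Lib.Helper15.SmSp2
import Groth.Agent.S10615

set_option autoImplicit false
set_option backward.isDefEq.respectTransparency.types false
universe u
open CategoryTheory CategoryTheory.Limits AlgebraicGeometry Opposite MorphismProperty

namespace Groth.Agent.Lib.Helper15.SmSp

variable {S : Scheme.{u}}

open AlgSp Groth.Agent.Lib.Helper3

/-- etale local sections of the universal thickening of a section of a smooth morphism -/
theorem exists_local_sections {T T' : Over S} (j : T ⟶ T')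
    (hjfo : MoreMor.IsFirstOrderThickening j.left)
    {P : Sp S} (hP : IsAlgSpace P) (pT : P ⟶ (yon S).obj T') (hsm : LocP @Smooth pT)
    (s₀ : (yon S).obj T ⟶ P) (hs : s₀ ≫ pT = (yon S).map j)
    {Z₁ : Sp S} (i₁ : (yon S).obj T ⟶ Z₁) (h₁ : Z₁ ⟶ P)
    (HU : IsUnivFOThick s₀ i₁ h₁) (t : T'.left) :
    ∃ (V : Over S) (e : V ⟶ T') (a' : (yon S).obj V ⟶ Z₁), Etale e.left ∧
      t ∈ Set.range e.left ∧ a' ≫ (h₁ ≫ pT) = (yon S).map e := by
  have hjFO : IsFOThickMor ((yon S).map j) :=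
    UnivThickSp.isFOThickMor_yon_map_of_isFirstOrderThickening j hjfo
  obtain ⟨V, e, ℓ, hee, ⟨v, hv⟩, hℓ, hpb⟩ := Groth.Agent.S10615.result
    (X := ⟨P, hP⟩) (Y := (ofScheme S).obj T') (T := (ofScheme S).obj T) (T' := (ofScheme S).obj T')
    (ObjectProperty.homMk pT) hsm ((ofScheme S).map j) hjFO.1 (ObjectProperty.homMk s₀) (𝟙 _)
    (by
      apply ObjectProperty.hom_ext
      change s₀ ≫ pT = (yon S).map j ≫ 𝟙 _
      rw [hs, Category.comp_id]) (Points.schemeHomeo T' t)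
  obtain ⟨e₀, rfl⟩ := (yon S).map_surjective e
  have hℓ' : ℓ ≫ pT = (yon S).map e₀ := by
    have : ℓ ≫ pT = (yon S).map e₀ ≫ 𝟙 _ := hℓ
    rw [this, Category.comp_id]
  -- the thickening of `V`
  let P' := pullback ((yon S).map j) ((yon S).map e₀)
  have sqP : IsPullback (pullback.fst ((yon S).map j) ((yon S).map e₀))
      (pullback.snd ((yon S).map j) ((yon S).map e₀)) ((yon S).map j) ((yon S).map e₀) :=
    IsPullback.of_hasPullback _ _
  have hP' : IsAlgSpace P' :=
    isAlgSpace_of_isPullback' (IsAlgSpace.yon_obj T') (IsAlgSpace.yon_obj T)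
      (IsAlgSpace.yon_obj V) sqP
  have hjV : IsFOThickMor (pullback.snd ((yon S).map j) ((yon S).map e₀)) :=
    FOThickBC.isFOThickMor_of_isPullback _ hjFO (IsAlgSpace.yon_obj T') _ _ _ sqP
  have hcomp := hpb P' _ _ sqP
  obtain ⟨a', ⟨-, ha'2⟩, -⟩ := HU.2.2 hP' (IsAlgSpace.yon_obj V) _ (pullback.fst _ _) ℓ hjV hcomp
  refine ⟨V, e₀, a', (repWith_yon_map_iff _ _).1 hee, ⟨v, ?_⟩, ?_⟩
  · apply (Points.schemeHomeo T').injective
    rw [← hv]
    have := AlgSpFT.ofPt_yon_map_comp e₀ (𝟙 _) v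
    rw [Category.comp_id] at this
    exact this.symm
  · rw [← Category.assoc, ha'2, hℓ']

end Groth.Agent.Lib.Helper15.SmSp
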