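import Groth.Agent.Lib.Helper15.SmoothSecGL

set_option autoImplicit false
set_option backward.isDefEq.respectTransparency.types false
universe u
open CategoryTheory CategoryTheory.Limits AlgebraicGeometry Opposite MorphismProperty

namespace Groth.Agent.Lib.Helper15.SmSp

open Groth.Agent.Lib.Helper15.SmoothSecSch

/-- the universal first order thickening of a section (over a closed subscheme of the base) of a
smooth morphism restricts to a finite locally free scheme over the closed subscheme -/
theorem finLocFree_of_univ {P T T' Z : Scheme.{u}} (p : P ⟶ T') [Smooth p] (i₀ : T ⟶ T') [Mono i₀]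
    (s₀ : T ⟶ P) (hs : s₀ ≫ p = i₀) [FormallyUnramified s₀] (i : T ⟶ Z) (h' : Z ⟶ P)
    (hu : OmegaSh.IsUnivThickening s₀ i h') {R : Scheme.{u}} (a : R ⟶ Z) (r : R ⟶ T)
    (sq : IsPullback a r (h' ≫ p) i₀) :
    IsFinite r ∧ Flat r ∧ LocallyOfFinitePresentation r := by
  let g : pullback p i₀ ⟶ P := pullback.fst p i₀
  let pb : pullback p i₀ ⟶ T := pullback.snd p i₀
  haveI : Smooth pb := MorphismProperty.pullback_snd (P := @Smooth) _ _ inferInstance
  let sb : T ⟶ pullback p i₀ := pullback.lift s₀ (𝟙 _) (by rw [hs, Category.id_comp])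
  have hsb : sb ≫ pb = 𝟙 _ := pullback.lift_snd _ _ _
  have hsbg : sb ≫ g = s₀ := pullback.lift_fst _ _ _
  have hc : IsPullback sb (𝟙 _) g s₀ := by
    have big' : IsPullback (sb ≫ pb) (𝟙 _) i₀ (s₀ ≫ p) := by
      rw [hsb, hs]; exact IsKernelPair.id_of_mono i₀
    exact IsPullback.of_right big' (by rw [hsbg, Category.id_comp])
      (IsPullback.of_hasPullback p i₀).flip
  have hub := Groth.Agent.S9733.result sb (𝟙 _) g s₀ hc i h' hu
  obtain ⟨k1, k2, k3⟩ := props_of_section pb sb hsb _ _ hub
  have sqZ : IsPullback (pullback.snd g h') (pullback.fst g h' ≫ pb) (h' ≫ p) i₀ :=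
    (IsPullback.of_hasPullback g h').flip.paste_vert (IsPullback.of_hasPullback p i₀)
  let e := sq.isoIsPullback _ _ sqZ
  have he : e.hom ≫ (pullback.fst g h' ≫ pb) = r := sq.isoIsPullback_hom_snd _ _ sqZ
  rw [← he]
  refine ⟨?_, ?_, ?_⟩
  · exact (MorphismProperty.cancel_left_of_respectsIso @IsFinite e.hom _).2 k1
  · exact (MorphismProperty.cancel_left_of_respectsIso @Flat e.hom _).2 k2
  · exact (MorphismProperty.cancel_left_of_respectsIso @LocallyOfFinitePresentation e.hom _).2 k3


/-- a universal first order thickening over `U` is also one over a scheme etale over `U` through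
which everything factors -/
theorem isUnivThickening_lift {W U T' W' V' : Scheme.{u}} (ψ : W ⟶ U) (iV : W ⟶ V') (hV' : V' ⟶ U)
    (hu : OmegaSh.IsUnivThickening ψ iV hV') (p : U ⟶ T') (g' : W' ⟶ T') [FormallyUnramified g']
    (w : V' ⟶ W') (hw : hV' ≫ p = w ≫ g') :
    OmegaSh.IsUnivThickening (pullback.lift ψ (iV ≫ w)
      (by rw [← hu.2.1, Category.assoc, hw, Category.assoc])) iV (pullback.lift hV' w hw) := by
  refine ⟨hu.1, ?_, ?_⟩
  · apply pullback.hom_ext
    · rw [Category.assoc, pullback.lift_fst, pullback.lift_fst, hu.2.1]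
    · rw [Category.assoc, pullback.lift_snd, pullback.lift_snd]
  · intro A₀ A₁ j b a hj hjb
    have hjb1 : j ≫ (b ≫ pullback.fst p g') = a ≫ ψ := by
      rw [← Category.assoc, hjb, Category.assoc, pullback.lift_fst]
    have hjb2 : j ≫ (b ≫ pullback.snd p g') = a ≫ iV ≫ w := by
      rw [← Category.assoc, hjb, Category.assoc, pullback.lift_snd]
    obtain ⟨c, ⟨hc1, hc2⟩, hcu⟩ := hu.2.2 A₀ A₁ j (b ≫ pullback.fst p g') a hj hjb1
    have hnil : IsNilpotent j.ker := ⟨2, by rw [pow_two]; exact hj.2⟩
    haveI : IsClosedImmersion j := hj.1.1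
    have hcw : c ≫ w = b ≫ pullback.snd p g' := by
      apply FormallyUnramified.hom_ext j hnil g'
      · rw [← Category.assoc, hc1, Category.assoc, hjb2]
      · rw [Category.assoc, ← hw, ← Category.assoc, hc2, Category.assoc, Category.assoc,
          pullback.condition]
    refine ⟨c, ⟨hc1, ?_⟩, ?_⟩
    · apply pullback.hom_ext
      · rw [Category.assoc, pullback.lift_fst, hc2]
      · rw [Category.assoc, pullback.lift_snd, hcw]
    · rintro c' ⟨h1, h2⟩
      apply hcu
      refine ⟨h1, ?_⟩
      rw [← h2, Category.assoc, pullback.lift_fst]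


/-- local form: the universal thickening of `W ⟶ U` over `U`, with `U` smooth over `T'` and
`W` a closed subscheme of `W'` etale over `T'`, restricts to a finite locally free `W`-scheme -/
theorem finLocFree_of_univ_chart {W U T' W' V' : Scheme.{u}} (ψ : W ⟶ U) (iV : W ⟶ V')
    (hV' : V' ⟶ U) (hu : OmegaSh.IsUnivThickening ψ iV hV') (p : U ⟶ T') [Smooth p]
    (g' : W' ⟶ T') [Etale g'] (w : V' ⟶ W') (hw : hV' ≫ p = w ≫ g') (jW : W ⟶ W')
    [IsClosedImmersion jW] (hjW : iV ≫ w = jW) {R : Scheme.{u}} (a : R ⟶ V') (r : R ⟶ W)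
    (sq : IsPullback a r w jW) :
    IsFinite r ∧ Flat r ∧ LocallyOfFinitePresentation r := by
  have hu' := isUnivThickening_lift ψ iV hV' hu p g' w hw
  haveI : Smooth (pullback.snd p g') := MorphismProperty.pullback_snd (P := @Smooth) _ _ inferInstance
  have hs : pullback.lift ψ (iV ≫ w) (by rw [← hu.2.1, Category.assoc, hw, Category.assoc]) ≫
      pullback.snd p g' = jW := by rw [pullback.lift_snd, hjW]
  haveI : FormallyUnramified (pullback.lift ψ (iV ≫ w)
      (by rw [← hu.2.1, Category.assoc, hw, Category.assoc]) ≫ pullback.snd p g') := by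
    rw [hs]; infer_instance
  haveI : FormallyUnramified (pullback.lift ψ (iV ≫ w)
      (by rw [← hu.2.1, Category.assoc, hw, Category.assoc] : ψ ≫ p = (iV ≫ w) ≫ g')) :=
    FormallyUnramified.of_comp _ (pullback.snd p g')
  refine finLocFree_of_univ (pullback.snd p g') jW _ hs iV _ hu' a r ?_
  rw [pullback.lift_snd]
  exact sq

end Groth.Agent.Lib.Helper15.SmSp
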