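import Groth.Agent.Lib.Helper15.SmSp3
import Groth.Agent.Lib.Helper15.SmSp4

set_option autoImplicit false
set_option backward.isDefEq.respectTransparency.types false
universe u
open CategoryTheory CategoryTheory.Limits AlgebraicGeometry Opposite MorphismProperty

namespace Groth.Agent.Lib.Helper15.SmSp

variable {S : Scheme.{u}}

open AlgSp Groth.Agent.Lib.Helper3

/-- universal first order thickening of a chart of a formally unramified morphism, keeping the
scheme level universal property -/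
theorem exists_univ_chart' {Z X : Space S} (h : Z ⟶ X) (hh : IsFormallyUnramifiedMor h.hom)
    {V U : Over S} (v : (yon S).obj V ⟶ Z.obj) (hv : RepWith @Etale v)
    (p : (yon S).obj U ⟶ X.obj) (hp : RepWith @Etale p) (ψ : V ⟶ U)
    (hcomm : v ≫ h.hom = (yon S).map ψ ≫ p) :
    ∃ (V' : Over S) (iV : V ⟶ V') (hV' : V' ⟶ U),
      OmegaSh.IsUnivThickening ψ.left iV.left hV'.left ∧
      IsUnivFOThick (v ≫ h.hom) ((yon S).map iV) ((yon S).map hV' ≫ p) := by
  have hfu : FormallyUnramified ψ.left :=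
    ((Groth.Agent.S10621.result h).1.1 hh) v p ψ hv hp hcomm
  obtain ⟨V'₀, i₀, h'₀, H⟩ := Groth.Agent.S9731.result ψ.left
  let V' : Over S := Over.mk (h'₀ ≫ U.hom)
  let iV : V ⟶ V' := Over.homMk i₀ (by
    change i₀ ≫ h'₀ ≫ U.hom = V.hom
    rw [← Category.assoc, H.2.1, CategoryTheory.Over.w])
  let hV' : V' ⟶ U := Over.homMk h'₀ rfl
  have H' : OmegaSh.IsUnivThickening ψ.left iV.left hV'.left := H
  have HA := UnivAtlas.isUnivFOThick_yon_of_isUnivThickening ψ iV hV' H'
  have HB := Groth.Agent.Lib.Helper9.AlgSpFE.isUnivFOThick_comp_formallyEtale _ p _ _ HA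
    (AlgSpFormal.isFormallyEtaleMor_of_repWith_etale p hp)
  rw [← hcomm] at HB
  exact ⟨V', iV, hV', H', HB⟩

/-- the local model of the universal thickening of a section over an etale chart of the base -/
theorem local_model {T T' : Over S} (j : T ⟶ T') (hjc : IsClosedImmersion j.left)
    {P : Sp S} (hP : IsAlgSpace P) (pT : P ⟶ (yon S).obj T') (hsm : LocP @Smooth pT)
    (s₀ : (yon S).obj T ⟶ P)
    (hs : s₀ ≫ pT = (yon S).map j) (hfu : IsFormallyUnramifiedMor s₀)
    {Z₁ : Sp S} (hZ₁ : IsAlgSpace Z₁) (i₁ : (yon S).obj T ⟶ Z₁) (h₁ : Z₁ ⟶ P)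
    (HU : IsUnivFOThick s₀ i₁ h₁)
    {U : Over S} (p : (yon S).obj U ⟶ P) (hpe : RepWith @Etale p)
    {W W' : Over S} (g : W ⟶ T) (g' : W' ⟶ T') (jW : W ⟶ W') (hg'e : Etale g'.left)
    (hge : Etale g.left) (hsq : IsPullback jW g g' j) (hW'a : IsAffine W'.left)
    (ψ : W ⟶ U) (hc : (yon S).map ψ ≫ p = (yon S).map g ≫ s₀) :
    ∃ (V' : Over S) (w : V' ⟶ W') (q : (yon S).obj V' ⟶ Z₁),
      IsPullback q ((yon S).map w) (h₁ ≫ pT) ((yon S).map g') ∧ IsAffine V'.left ∧
      ∀ {R : Scheme.{u}} (a : R ⟶ V'.left) (r : R ⟶ W.left), IsPullback a r w.left jW.left →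
        IsFinite r ∧ Flat r ∧ LocallyOfFinitePresentation r := by
  have hcomm : (yon S).map g ≫ s₀ = (yon S).map ψ ≫ p := hc.symm
  have hge' : RepWith @Etale ((yon S).map g) := (repWith_yon_map_iff _ _).2 hge
  obtain ⟨V', iV, hV', HVs, HV⟩ := exists_univ_chart'
    (Z := (ofScheme S).obj T) (X := ⟨P, hP⟩) (ObjectProperty.homMk s₀) hfu
    ((yon S).map g) hge' p hpe ψ hcomm
  -- the base change of `Z₁`
  let Zk := pullback (h₁ ≫ pT) ((yon S).map g')
  have sqk : IsPullback (pullback.fst (h₁ ≫ pT) ((yon S).map g'))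
      (pullback.snd (h₁ ≫ pT) ((yon S).map g')) (h₁ ≫ pT) ((yon S).map g') :=
    IsPullback.of_hasPullback _ _
  have hZk : IsAlgSpace Zk :=
    isAlgSpace_of_isPullback' (IsAlgSpace.yon_obj T') hZ₁ (IsAlgSpace.yon_obj W') sqk
  have hw0 : ((yon S).map g ≫ i₁) ≫ (h₁ ≫ pT) = (yon S).map jW ≫ (yon S).map g' := by
    rw [Category.assoc, ← Category.assoc i₁, HU.2.1, hs, ← Functor.map_comp, ← Functor.map_comp,
      hsq.w]
  let iZ : (yon S).obj W ⟶ Zk := pullback.lift _ _ hw0
  have hiZ1 : iZ ≫ pullback.fst _ _ = (yon S).map g ≫ i₁ := pullback.lift_fst _ _ _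
  have hiZ2 : iZ ≫ pullback.snd _ _ = (yon S).map jW := pullback.lift_snd _ _ _
  have hleft : IsPullback ((yon S).map g) iZ i₁ (pullback.fst _ _) := by
    have hbig : IsPullback ((yon S).map g) (iZ ≫ pullback.snd _ _)
        (i₁ ≫ (h₁ ≫ pT)) ((yon S).map g') := by
      rw [hiZ2, ← Category.assoc, HU.2.1, hs]
      exact (hsq.map (yon S)).flip
    exact (IsPullback.of_right hbig.flip hiZ1 sqk.flip).flip
  have hfe : RepWith @Etale (pullback.fst (h₁ ≫ pT) ((yon S).map g')) :=
    MorphismProperty.of_isPullback sqk.flip ((repWith_yon_map_iff _ _).2 hg'e)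
  have HZ := UnivEtLoc.isUnivFOThick_of_etale_pullback ((yon S).map g) s₀ i₁ h₁ HU iZ
    (pullback.fst _ _) (isEtaleMor_of_repWith_etale hfe)
    (AlgSpFormal.isFormallyEtaleMor_of_repWith_etale _ hfe) hleft
  obtain ⟨φ, hφ1, hφ2⟩ := exists_iso_of_isUnivFOThick (IsAlgSpace.yon_obj W)
    (IsAlgSpace.yon_obj V') hZk _ _ _ _ _ HV HZ
  obtain ⟨w, hw⟩ := (yon S).map_surjective (φ.hom ≫ pullback.snd _ _)
  have hiVw : iV ≫ w = jW := by
    apply (yon S).map_injective
    rw [Functor.map_comp, hw, ← Category.assoc, hφ1, hiZ2]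
  obtain ⟨u, hu⟩ := (yon S).map_surjective (p ≫ pT)
  have hsmu : Smooth u.left := hsm p (𝟙 _) u hpe (repWith_id _ T') (by rw [Category.comp_id, hu])
  have hVu : hV' ≫ u = w ≫ g' := by
    apply (yon S).map_injective
    rw [Functor.map_comp, Functor.map_comp, hu, hw, ← Category.assoc, ← hφ2]
    simp only [Category.assoc]
    rw [← sqk.w]
  have hWa : IsAffine W.left := by
    have : IsClosedImmersion jW.left :=
      MorphismProperty.of_isPullback (hsq.map (Over.forget S)).flip hjc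
    exact isAffine_of_isAffineHom jW.left
  have hjWc : IsClosedImmersion jW.left :=
    MorphismProperty.of_isPullback (hsq.map (Over.forget S)).flip hjc
  refine ⟨V', w, φ.hom ≫ pullback.fst _ _, ?_, ?_, ?_⟩
  · rw [hw]
    exact IsPullback.of_iso sqk φ.symm (Iso.refl _) (Iso.refl _) (Iso.refl _) (by simp) (by simp)
      (by simp) (by simp)
  · have hth : MoreMor.IsThickening iV.left := HVs.1.1
    have := hth.1
    exact Groth.Agent.Lib.Helper13.ThickAffine.isAffine_of_isAffine iV.left hth.2.surj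
  · intro R a r sqR
    exact finLocFree_of_univ_chart ψ.left iV.left hV'.left HVs u.left g'.left w.left
      (congrArg (fun f => f.left) hVu) jW.left (congrArg (fun f => f.left) hiVw) a r sqR

end Groth.Agent.Lib.Helper15.SmSp
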