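import Groth.Agent.Lib.Helper15.SmSp5

set_option autoImplicit false
set_option backward.isDefEq.respectTransparency.types false
universe u
open CategoryTheory CategoryTheory.Limits AlgebraicGeometry Opposite MorphismProperty

namespace Groth.Agent.Lib.Helper15.SmSp

variable {S : Scheme.{u}}

open AlgSp Groth.Agent.Lib.Helper3

/-- a sheaf affine over `Spec A` is the spectrum of an `A`-algebra -/
theorem exists_spec_model {A : CommRingCat.{u}} (str : Spec A ⟶ S) {Z₁ : Sp S}
    (q : Z₁ ⟶ (yon S).obj (Over.mk str)) (hq : IsAffineMor q) :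
    ∃ (C : CommRingCat.{u}) (σ : A ⟶ C) (ζ : (yon S).obj (Over.mk (Spec.map σ ≫ str)) ≅ Z₁),
      ζ.hom ≫ q =
        (yon S).map (Over.homMk (Spec.map σ) rfl : Over.mk (Spec.map σ ≫ str) ⟶ Over.mk str) := by
  obtain ⟨W, i, fst, sq, hW⟩ := hq (Z := Over.mk str) (inferInstanceAs (IsAffine (Spec A))) (𝟙 _)
  haveI : IsIso fst := sq.isIso_fst_of_isIso
  let C : CommRingCat.{u} := Γ(W.left, ⊤)
  let σ : A ⟶ C := Spec.preimage (W.left.isoSpec.inv ≫ i.left)
  have hσ : Spec.map σ = W.left.isoSpec.inv ≫ i.left := Spec.map_preimage _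
  have hw : W.left.isoSpec.inv ≫ W.hom = Spec.map σ ≫ str := by
    rw [hσ, Category.assoc]
    congr 1
    exact (Over.w i).symm
  let ε : Over.mk (Spec.map σ ≫ str) ≅ W := Over.isoMk W.left.isoSpec.symm hw
  refine ⟨C, σ, (yon S).mapIso ε ≪≫ asIso fst, ?_⟩
  have h1 : ε.hom ≫ i = (Over.homMk (Spec.map σ) rfl : Over.mk (Spec.map σ ≫ str) ⟶ Over.mk str) := by
    ext
    change W.left.isoSpec.inv ≫ i.left = Spec.map σ
    exact hσ.symm
  rw [Iso.trans_hom, Functor.mapIso_hom, asIso_hom, Category.assoc, sq.w, Category.comp_id,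
    ← Functor.map_comp, h1]

end Groth.Agent.Lib.Helper15.SmSp
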