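import Groth.Agent.Lib.Helper15.SmSp6

set_option autoImplicit false
set_option backward.isDefEq.respectTransparency.types false
universe u
open CategoryTheory CategoryTheory.Limits AlgebraicGeometry Opposite MorphismProperty

namespace Groth.Agent.Lib.Helper15.SmSp

variable {S : Scheme.{u}}

open AlgSp Groth.Agent.Lib.Helper3

/-- the restriction to the closed subscheme of the (affine) universal thickening of a section of a
smooth morphism is finite locally free -/
theorem finLocFree_pullback_snd {T T' : Over S} (j : T ⟶ T') (hT' : IsAffine T'.left)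
    (hjc : IsClosedImmersion j.left) (hjs : Surjective j.left)
    {P : Sp S} (hP : IsAlgSpace P) (pT : P ⟶ (yon S).obj T') (hsm : LocP @Smooth pT)
    (s₀ : (yon S).obj T ⟶ P)
    (hs : s₀ ≫ pT = (yon S).map j) (hfu : IsFormallyUnramifiedMor s₀)
    {Z₁ : Sp S} (hZ₁ : IsAlgSpace Z₁) (i₁ : (yon S).obj T ⟶ Z₁) (h₁ : Z₁ ⟶ P)
    (HU : IsUnivFOThick s₀ i₁ h₁) {Zs : Over S} (qs : Zs ⟶ T') (ζ : (yon S).obj Zs ≅ Z₁)
    (hζ : ζ.hom ≫ (h₁ ≫ pT) = (yon S).map qs) :
    Mor2.IsFinLocFree (pullback.snd qs.left j.left) := by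
  obtain ⟨U, p, hpe, hps⟩ := hP.atlas
  have he : IsEtaleMor p := isEtaleMor_of_repWith_etale hpe
  have hes : IsSurjectiveMor p := (S9906.repWith_surjective_iff p hps.rep).1 hps
  obtain ⟨K, W, W', g, g', jW, c, hW'a, hg'e, hsq, hg's, hgs, hge, hc⟩ :=
    UnivDescend.exists_cover_lift (IsAlgSpace.yon_obj U) hP p he hes j hT' hjc hjs s₀
  have hcov := isFpqcCover_of_etale_family W g hge hgs
  -- the base change to `T`
  let Zb : Over S := Over.mk (pullback.snd qs.left j.left ≫ T.hom)
  have hbw : pullback.fst qs.left j.left ≫ Zs.hom = Zb.hom := by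
    change _ = pullback.snd qs.left j.left ≫ T.hom
    rw [← Over.w qs, ← Over.w j, ← Category.assoc, ← Category.assoc, pullback.condition]
  let bfst : Zb ⟶ Zs := Over.homMk (pullback.fst qs.left j.left) hbw
  let rb : Zb ⟶ T := Over.homMk (pullback.snd qs.left j.left) rfl
  have hbcomm : bfst ≫ qs = rb ≫ j := by
    ext
    exact pullback.condition
  have sqb : IsPullback bfst rb qs j :=
    UnivDescend.isPullback_over_of_left hbcomm (IsPullback.of_hasPullback _ _)
  have key : ∀ k, ∃ (R : Over S) (r : R ⟶ W k) (q' : R ⟶ Zb),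
      IsPullback q' r rb (g k) ∧ Mor2.IsFinLocFree r.left := by
    intro k
    obtain ⟨ψ, hψ⟩ := (yon S).map_surjective (c k)
    obtain ⟨V', w, q, sqk, -, flf⟩ := local_model j hjc hP pT hsm s₀ hs hfu hZ₁ i₁ h₁ HU p hpe
      (g k) (g' k) (jW k) (hg'e k) (hge k) (hsq k) (hW'a k) ψ (by rw [hψ, hc k])
    obtain ⟨v, hv⟩ := (yon S).map_surjective (q ≫ ζ.inv)
    have sqk' : IsPullback ((yon S).map v) ((yon S).map w) ((yon S).map qs)
        ((yon S).map (g' k)) := by
      rw [hv]
      refine IsPullback.of_iso sqk (Iso.refl _) ζ.symm (Iso.refl _) (Iso.refl _) (by simp) (by simp)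
        ?_ (by simp)
      rw [Iso.symm_hom, Iso.refl_hom, Category.comp_id, ← hζ, Iso.inv_hom_id_assoc]
    have sqk'' : IsPullback v w qs (g' k) := IsPullback.of_map (yon S) (by
      apply (yon S).map_injective
      rw [Functor.map_comp, Functor.map_comp]
      exact sqk'.w) sqk'
    let R : Over S := Over.mk (pullback.snd w.left (jW k).left ≫ (W k).hom)
    have hRw : pullback.fst w.left (jW k).left ≫ V'.hom = R.hom := by
      change _ = pullback.snd w.left (jW k).left ≫ (W k).hom
      rw [← Over.w w, ← Over.w (jW k), ← Category.assoc, ← Category.assoc, pullback.condition]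
    let Rfst : R ⟶ V' := Over.homMk (pullback.fst w.left (jW k).left) hRw
    let r : R ⟶ W k := Over.homMk (pullback.snd w.left (jW k).left) rfl
    have hRcomm : Rfst ≫ w = r ≫ jW k := by
      ext
      exact pullback.condition
    have sqR : IsPullback Rfst r w (jW k) :=
      UnivDescend.isPullback_over_of_left hRcomm (IsPullback.of_hasPullback _ _)
    have hbig : IsPullback (Rfst ≫ v) r qs (g k ≫ j) := by
      have := sqR.paste_horiz sqk''
      rw [(hsq k).w] at this
      exact this
    let q' : R ⟶ Zb := sqb.lift (Rfst ≫ v) (r ≫ g k) (by rw [hbig.w, Category.assoc])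
    have hq'1 : q' ≫ bfst = Rfst ≫ v := sqb.lift_fst _ _ _
    have hq'2 : q' ≫ rb = r ≫ g k := sqb.lift_snd _ _ _
    refine ⟨R, r, q', ?_, flf _ _ (IsPullback.of_hasPullback _ _)⟩
    rw [← hq'1] at hbig
    exact IsPullback.of_right hbig hq'2 sqb
  choose R r q' hpb hflf using key
  have hmain : IsFinLocFreeMor ((yon S).map rb) := by
    refine (FpqcDesc.isLocalOnBase_fpqc_isFinLocFreeMor (fun k => (yon S).obj (W k))
      (fun k => (yon S).map (g k)) (IsAlgSpace.yon_obj T) (fun k => IsAlgSpace.yon_obj (W k)) hcov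
      ((yon S).map rb) (IsAlgSpace.yon_obj Zb) (fun k => (yon S).obj (R k))
      (fun k => (yon S).map (r k)) (fun k => (yon S).map (q' k))
      (fun k => IsAlgSpace.yon_obj (R k)) (fun k => (hpb k).map (yon S))).2 (fun k => ?_)
    exact (repWith_yon_map_iff _ (r k)).2 (hflf k)
  exact (repWith_yon_map_iff finLocFree rb).1 hmain

end Groth.Agent.Lib.Helper15.SmSp
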