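import Groth.Agent.Lib.Helper15.SmSp7
import Groth.Agent.S10618

set_option autoImplicit false
set_option backward.isDefEq.respectTransparency.types false
universe u
open CategoryTheory CategoryTheory.Limits AlgebraicGeometry Opposite MorphismProperty TensorProduct

namespace Groth.Agent.Lib.Helper15.SmSp

variable {S : Scheme.{u}}

open AlgSp Groth.Agent.Lib.Helper3
open Groth.Agent.Lib.Helper15.UnivThick Groth.Agent.Lib.Helper15.UnivThickAffine
open Groth.Agent.Lib.Helper15.SmoothSecSch Groth.Agent.Lib.Helper15.SmoothSecRing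

/-- sections of a smooth morphism of algebraic spaces over an affine scheme extend along first
order thickenings of the base -/
theorem exists_section_sp {A : Type u} [CommRing A] (I : Ideal A) (hI : I ^ 2 = ⊥)
    (str : Spec (.of A) ⟶ S) {P : Sp S} (hP : IsAlgSpace P)
    (pT : P ⟶ (yon S).obj (Over.mk str)) (hsm : LocP @Smooth pT)
    (s₀ : (yon S).obj (Over.mk (Spec.map (CommRingCat.ofHom (Ideal.Quotient.mk I)) ≫ str)) ⟶ P)
    (hs : s₀ ≫ pT = (yon S).map (Over.homMk (Spec.map (CommRingCat.ofHom (Ideal.Quotient.mk I))) rfl :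
      Over.mk (Spec.map (CommRingCat.ofHom (Ideal.Quotient.mk I)) ≫ str) ⟶ Over.mk str)) :
    ∃ s : (yon S).obj (Over.mk str) ⟶ P,
      (yon S).map (Over.homMk (Spec.map (CommRingCat.ofHom (Ideal.Quotient.mk I))) rfl :
        Over.mk (Spec.map (CommRingCat.ofHom (Ideal.Quotient.mk I)) ≫ str) ⟶ Over.mk str) ≫ s = s₀ ∧
      s ≫ pT = 𝟙 _ := by
  let T' : Over S := Over.mk str
  let T : Over S := Over.mk (Spec.map (CommRingCat.ofHom (Ideal.Quotient.mk I)) ≫ str)
  let j : T ⟶ T' := Over.homMk (Spec.map (CommRingCat.ofHom (Ideal.Quotient.mk I))) rfl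
  have hs : s₀ ≫ pT = (yon S).map j := hs
  have hjfo : MoreMor.IsFirstOrderThickening j.left :=
    isFirstOrderThickening_SpecMap _ Ideal.Quotient.mk_surjective (by simpa using hI)
  have hjc : IsClosedImmersion j.left := hjfo.1.1
  have hjs : Surjective j.left := hjfo.1.2
  have hT'a : IsAffine T'.left := inferInstanceAs (IsAffine (Spec (.of A)))
  have hfu : IsFormallyUnramifiedMor s₀ := by
    apply Groth.Agent.S10618.unram_of_comp s₀ pT
    rw [hs, AlgSpFormal4.isFormallyUnramifiedMor_yon_map_iff]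
    infer_instance
  obtain ⟨Z₁, i₁, h₁, HU⟩ := UnivExist.exists_isUnivFOThick
    (Z := (ofScheme S).obj T) (X := ⟨P, hP⟩) (ObjectProperty.homMk s₀) hfu
  have HU' : IsUnivFOThick s₀ i₁.hom h₁.hom := HU
  have haff := isAffineMor_univ j hT'a hjc hjs hP pT s₀ hs hfu Z₁.property i₁.hom h₁.hom HU'
  obtain ⟨C, σ, ζ, hζ⟩ := exists_spec_model str (h₁.hom ≫ pT) haff
  let Zs : Over S := Over.mk (Spec.map σ ≫ str)
  let qs : Zs ⟶ T' := Over.homMk (Spec.map σ) rfl
  have hζ : ζ.hom ≫ (h₁.hom ≫ pT) = (yon S).map qs := hζ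
  obtain ⟨is, his⟩ := (yon S).map_surjective (i₁.hom ≫ ζ.inv)
  have hisζ : (yon S).map is ≫ ζ.hom = i₁.hom := by rw [his, Category.assoc, Iso.inv_hom_id,
    Category.comp_id]
  have hisq : is ≫ qs = j := by
    apply (yon S).map_injective
    rw [Functor.map_comp, ← hζ, ← Category.assoc, hisζ, ← Category.assoc, HU'.2.1, hs]
  -- first order thickening
  have hisFO : IsFOThickMor ((yon S).map is) := by
    have sq : IsPullback (𝟙 _) ((yon S).map is) i₁.hom ζ.hom :=
      IsPullback.of_horiz_isIso ⟨by rw [Category.id_comp, hisζ]⟩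
    exact FOThickBC.isFOThickMor_of_isPullback i₁.hom HU'.1 Z₁.property _ _ _ sq
  have hZsa : IsAffine Zs.left := inferInstanceAs (IsAffine (Spec C))
  have hisfo : MoreMor.IsFirstOrderThickening is.left :=
    isFirstOrderThickening_of_isFOThickMor_yon_map hZsa hisFO
  let π : C ⟶ CommRingCat.of (A ⧸ I) := Spec.preimage is.left
  have hπ : Spec.map π = is.left := Spec.map_preimage _
  have hσπ : σ ≫ π = CommRingCat.ofHom (Ideal.Quotient.mk I) := by
    apply Spec.map_injective
    rw [Spec.map_comp, hπ]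
    exact congrArg (fun f => f.left) hisq
  have hJ : RingHom.ker π.hom ^ 2 = ⊥ := ker_sq_of_SpecMap π (by rw [hπ]; exact hisfo.2)
  -- injectivity
  have hinj : ∀ a : A, σ.hom a = 0 → a = 0 := by
    intro a ha
    have hx : (Scheme.ΓSpecIso (.of A)).inv a = 0 := by
      apply FOThickBC.eq_zero_of_flat_cover
      intro t
      obtain ⟨V, e, a', hee, ⟨v, hv⟩, ha'⟩ := exists_local_sections j hjfo hP pT hsm s₀ hs i₁.hom
        h₁.hom HU' t
      obtain ⟨α, hα⟩ := (yon S).map_surjective (a' ≫ ζ.inv)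
      have hαq : α ≫ qs = e := by
        apply (yon S).map_injective
        rw [Functor.map_comp, hα, ← hζ, Category.assoc, Iso.inv_hom_id_assoc, ha']
      refine ⟨V.left, e.left, inferInstance, v, hv, ?_⟩
      have h1 := congrArg (fun ψ => ψ.hom a) (Scheme.ΓSpecIso_inv_naturality σ)
      simp only [CommRingCat.hom_comp, RingHom.coe_comp, Function.comp_apply] at h1
      rw [ha, map_zero] at h1
      have he : e.left = α.left ≫ Spec.map σ := by
        rw [← hαq]; rfl
      rw [he, Scheme.Hom.comp_appTop]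
      change α.left.appTop.hom ((Spec.map σ).appTop.hom _) = 0
      rw [← h1, map_zero]
    have hinj' : Function.Injective (Scheme.ΓSpecIso (.of A)).inv :=
      (ConcreteCategory.bijective_of_isIso _).1
    exact hinj' (by rw [hx, map_zero])
  -- projectivity
  have hflf := finLocFree_pullback_snd j hT'a hjc hjs hP pT hsm s₀ hs hfu Z₁.property i₁.hom h₁.hom
    HU' qs ζ hζ
  letI : Algebra A C := σ.hom.toAlgebra
  haveI : Module.Projective (A ⧸ I) ((A ⧸ I) ⊗[A] C) := by
    refine SmoothSecGL.projective_of_isPullback I (pullback.snd qs.left j.left)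
      (pullback.fst qs.left j.left) ?_ hflf.1 hflf.2.1 hflf.2.2
    exact (IsPullback.of_hasPullback qs.left j.left).flip
  obtain ⟨μ, hμ1, hμ2⟩ := exists_retraction I hI π.hom
    (fun a => congrArg (fun ψ => ψ.hom a) hσπ) hJ hinj
  have hμπ : CommRingCat.ofHom μ ≫ CommRingCat.ofHom (Ideal.Quotient.mk I) = π := by
    ext c
    exact hμ2 c
  have hσμ : σ ≫ CommRingCat.ofHom μ = 𝟙 _ := by
    ext a
    exact hμ1 a
  let m : T' ⟶ Zs := Over.homMk (Spec.map (CommRingCat.ofHom μ)) (by
    change Spec.map (CommRingCat.ofHom μ) ≫ Spec.map σ ≫ str = str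
    rw [← Category.assoc, ← Spec.map_comp, hσμ, Spec.map_id, Category.id_comp])
  have hjm : j ≫ m = is := by
    ext
    change Spec.map (CommRingCat.ofHom (Ideal.Quotient.mk I)) ≫ Spec.map (CommRingCat.ofHom μ) = is.left
    rw [← Spec.map_comp, hμπ, hπ]
  have hmq : m ≫ qs = 𝟙 _ := by
    ext
    change Spec.map (CommRingCat.ofHom μ) ≫ Spec.map σ = 𝟙 _
    rw [← Spec.map_comp, hσμ, Spec.map_id]
  refine ⟨(yon S).map m ≫ ζ.hom ≫ h₁.hom, ?_, ?_⟩
  · rw [← Category.assoc, ← Functor.map_comp, hjm, ← Category.assoc, hisζ]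
    exact HU'.2.1
  · rw [Category.assoc, Category.assoc, hζ, ← Functor.map_comp, hmq, CategoryTheory.Functor.map_id]

end Groth.Agent.Lib.Helper15.SmSp
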