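import Groth.Agent.Lib.Helper15.SmSp8
import Groth.Agent.Lib.Helper3.SmoothEt6

set_option autoImplicit false
set_option backward.isDefEq.respectTransparency.types false
universe u
open CategoryTheory CategoryTheory.Limits AlgebraicGeometry Opposite MorphismProperty

namespace Groth.Agent.Lib.Helper15.SmSp

variable {S : Scheme.{u}}

open AlgSp Groth.Agent.Lib.Helper3

/-- a smooth morphism of algebraic spaces is formally smooth -/
theorem isFormallySmoothMor_of_smooth {F G : Sp S} (hF : IsAlgSpace F) (hG : IsAlgSpace G)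
    (f : F ⟶ G) (hf : LocP @Smooth f) : IsFormallySmoothMor f := by
  intro sq
  have sqP := IsPullback.of_hasPullback f sq.bot
  have hP : IsAlgSpace (pullback f sq.bot) :=
    isAlgSpace_of_isPullback' hG hF (IsAlgSpace.yon_obj _) sqP
  have hsm : LocP @Smooth (pullback.snd f sq.bot) :=
    locP_of_isPullback isEtLocal_smooth hF hG (IsAlgSpace.yon_obj _) hP f sq.bot _ _ sqP hf
  obtain ⟨s, hs1, hs2⟩ := exists_section_sp sq.I sq.sq_zero sq.str hP (pullback.snd f sq.bot) hsm
    (pullback.lift sq.top ((yon S).map sq.j) sq.comm) (pullback.lift_snd _ _ _)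
  refine ⟨s ≫ pullback.fst f sq.bot, ?_, ?_⟩
  · rw [← Category.assoc]
    change ((yon S).map sq.j ≫ s) ≫ _ = _
    rw [hs1, pullback.lift_fst]
  · rw [Category.assoc, pullback.condition, ← Category.assoc, hs2, Category.id_comp]

end Groth.Agent.Lib.Helper15.SmSp
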