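import Mathlib
import Groth.Agent.Lib.Helper15.EtaleLiftThick
import Groth.Agent.Lib.Helper15.SmoothNilLift

set_option autoImplicit false
universe u
open CategoryTheory CategoryTheory.Limits AlgebraicGeometry Opposite

namespace Groth.Agent.Lib.Helper15.SmoothLiftLocal

open Groth.Agent.Lib.Helper15

/-- global lifting for a smooth morphism of affine schemes along a thickening of an affine scheme -/
theorem exists_lift_affine {V W T T₀ : Scheme.{u}} [IsAffine V] [IsAffine W] [IsAffine T]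
    (v : V ⟶ W) [Smooth v] (j : T₀ ⟶ T) [IsClosedImmersion j] [Surjective j]
    (α : T₀ ⟶ V) (β : T ⟶ W) (w : α ≫ v = j ≫ β) :
    ∃ ℓ : T ⟶ V, ℓ ≫ v = β ∧ j ≫ ℓ = α := by
  have hsm : v.appTop.hom.Smooth :=
    (HasRingHomProperty.iff_of_isAffine (P := @Smooth)).1 inferInstance
  obtain ⟨hT₀, hsurj⟩ := IsClosedImmersion.isAffine_surjective_of_isAffine j
  have hnil : RingHom.ker j.appTop.hom ≤ nilradical Γ(T, ⊤) :=
    SmoothNilLift.ker_app_le_nilradical j ⊤ (isAffineOpen_top T)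
  have hcomm : α.appTop.hom.comp v.appTop.hom = j.appTop.hom.comp β.appTop.hom := by
    rw [← CommRingCat.hom_comp, ← CommRingCat.hom_comp, ← Scheme.Hom.comp_appTop,
      ← Scheme.Hom.comp_appTop, w]
  obtain ⟨ψ, hψ1, hψ2⟩ := SmoothNilLift.exists_ringHom_lift v.appTop.hom hsm β.appTop.hom
    j.appTop.hom hsurj hnil α.appTop.hom hcomm
  refine ⟨T.isoSpec.hom ≫ Spec.map (CommRingCat.ofHom ψ) ≫ V.isoSpec.inv, ?_, ?_⟩
  · rw [← cancel_mono W.isoSpec.hom]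
    simp only [Category.assoc]
    rw [← Scheme.isoSpec_hom_naturality v, Iso.inv_hom_id_assoc, ← Spec.map_comp,
      ← Scheme.isoSpec_hom_naturality β]
    congr 2
    ext1
    rw [CommRingCat.hom_comp, CommRingCat.hom_ofHom, hψ1]
  · rw [← Category.assoc, ← cancel_mono V.isoSpec.hom]
    simp only [Category.assoc, Iso.inv_hom_id, Category.comp_id]
    rw [← Scheme.isoSpec_hom_naturality_assoc j, ← Spec.map_comp,
      ← Scheme.isoSpec_hom_naturality α]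
    congr 2
    ext1
    rw [CommRingCat.hom_comp, CommRingCat.hom_ofHom, hψ2]

attribute [local instance] MvPolynomial.algebraMvPolynomial in
set_option maxHeartbeats 800000 in
/-- a smooth scheme over a closed subscheme `S₀` of `S` lifts, locally, to a smooth affine scheme
over an affine open of `S` -/
theorem exists_local_smooth_lift {S S₀ X₀ : Scheme.{u}} (ι : S₀ ⟶ S) [IsClosedImmersion ι]
    (W : S.Opens) (hW : IsAffineOpen W) (a : X₀ ⟶ S₀) [Smooth a] (x : X₀) (hx : ι (a x) ∈ W)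
    (O : X₀.Opens) (hxO : x ∈ O) :
    ∃ (U' : Scheme.{u}) (_ : IsAffine U') (uW : U' ⟶ Spec Γ(S, W)) (_ : Smooth uW)
      (U₀' : Scheme.{u}) (_ : IsAffine U₀') (o : U₀' ⟶ X₀) (_ : IsOpenImmersion o) (jW : U₀' ⟶ U'),
      x ∈ Set.range o ∧ Set.range o ⊆ (O : Set X₀) ∧
      IsPullback jW (o ≫ a) (uW ≫ hW.fromSpec) ι := by
  have hW₀ : IsAffineOpen (ι ⁻¹ᵁ W) := hW.preimage ι
  have hxW₀ : x ∈ a ⁻¹ᵁ (ι ⁻¹ᵁ W) := hx
  obtain ⟨U₁, hU₁, hxU₁, hle⟩ : ∃ U₁ : X₀.Opens, IsAffineOpen U₁ ∧ x ∈ U₁ ∧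
      U₁ ≤ O ⊓ a ⁻¹ᵁ (ι ⁻¹ᵁ W) := by
    obtain ⟨_, ⟨U, hU, rfl⟩, hz, hle⟩ := X₀.isBasis_affineOpens.exists_subset_of_mem_open
      (show x ∈ ((O ⊓ a ⁻¹ᵁ (ι ⁻¹ᵁ W) : X₀.Opens) : Set X₀) from ⟨hxO, hxW₀⟩)
      (O ⊓ a ⁻¹ᵁ (ι ⁻¹ᵁ W)).2
    exact ⟨U, hU, hz, hle⟩
  have e₁ : U₁ ≤ a ⁻¹ᵁ (ι ⁻¹ᵁ W) := hle.trans inf_le_right
  have hsm : (a.appLE (ι ⁻¹ᵁ W) U₁ e₁).hom.Smooth :=
    HasRingHomProperty.appLE (P := @Smooth) a inferInstance ⟨_, hW₀⟩ ⟨U₁, hU₁⟩ e₁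
  obtain ⟨s, hs, hst⟩ := RingHom.smooth_iff_locally_isStandardSmooth.1 hsm
  let p := hU₁.primeIdealOf ⟨x, hxU₁⟩
  obtain ⟨t, hts, htp⟩ : ∃ t ∈ s, t ∉ p.asIdeal := by
    by_contra hcon
    push Not at hcon
    have h1 : Ideal.span s ≤ p.asIdeal := Ideal.span_le.2 hcon
    rw [hs] at h1
    exact p.isPrime.ne_top (top_le_iff.1 h1)
  obtain ⟨n, g, hgC, hg⟩ := (hst t hts).exists_etale_mvPolynomial
  -- the rings
  let φ : Γ(S, W) ⟶ Γ(S₀, ι ⁻¹ᵁ W) := ι.app W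
  have hφ : Function.Surjective φ.hom := ι.app_surjective W hW
  let mφ : CommRingCat.of (MvPolynomial (Fin n) Γ(S, W)) ⟶
      CommRingCat.of (MvPolynomial (Fin n) Γ(S₀, ι ⁻¹ᵁ W)) :=
    CommRingCat.ofHom (MvPolynomial.map φ.hom)
  let cR : Γ(S, W) ⟶ CommRingCat.of (MvPolynomial (Fin n) Γ(S, W)) :=
    CommRingCat.ofHom MvPolynomial.C
  let cR₀ : Γ(S₀, ι ⁻¹ᵁ W) ⟶ CommRingCat.of (MvPolynomial (Fin n) Γ(S₀, ι ⁻¹ᵁ W)) :=
    CommRingCat.ofHom MvPolynomial.C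
  have hpo : IsPushout cR φ mφ cR₀ := by
    letI : Algebra Γ(S, W) Γ(S₀, ι ⁻¹ᵁ W) := φ.hom.toAlgebra
    have := CommRingCat.isPushout_of_isPushout Γ(S, W) (MvPolynomial (Fin n) Γ(S, W))
      Γ(S₀, ι ⁻¹ᵁ W) (MvPolynomial (Fin n) Γ(S₀, ι ⁻¹ᵁ W))
    exact this
  have sq2 := isPullback_SpecMap_of_isPushout cR φ mφ cR₀ hpo
  haveI : IsClosedImmersion (Spec.map mφ) :=
    IsClosedImmersion.spec_of_surjective mφ (MvPolynomial.map_surjective _ hφ)
  haveI : Etale (Spec.map (CommRingCat.ofHom g)) :=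
    (HasRingHomProperty.Spec_iff (P := @Etale)).2 hg
  obtain ⟨U', g', jW, hU', hg', sq1⟩ :=
    EtaleLiftThick.exists_etale_lift_affine (Spec.map mφ) (Spec.map (CommRingCat.ofHom g))
  haveI : Smooth (Spec.map cR) := by
    rw [HasRingHomProperty.Spec_iff (P := @Smooth)]
    have : (algebraMap Γ(S, W) (MvPolynomial (Fin n) Γ(S, W))).Smooth :=
      RingHom.smooth_algebraMap.2 ⟨inferInstance, inferInstance⟩
    exact this
  -- the open immersion
  let loc : Γ(X₀, U₁) ⟶ CommRingCat.of (Localization.Away t) :=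
    CommRingCat.ofHom (algebraMap Γ(X₀, U₁) (Localization.Away t))
  let o : Spec (CommRingCat.of (Localization.Away t)) ⟶ X₀ := Spec.map loc ≫ hU₁.fromSpec
  have sq3 : IsPullback (Spec.map φ) hW₀.fromSpec hW.fromSpec ι := by
    apply IsOpenImmersion.isPullback
    · rw [← IsAffineOpen.SpecMap_appLE_fromSpec ι hW hW₀ le_rfl]
      simp only [φ, Scheme.Hom.app_eq_appLE]
    · rw [IsAffineOpen.opensRange_fromSpec, IsAffineOpen.opensRange_fromSpec]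
  have sq := (sq1.paste_vert sq2).paste_vert sq3
  have hcomp : (Spec.map (CommRingCat.ofHom g) ≫ Spec.map cR₀) ≫ hW₀.fromSpec = o ≫ a := by
    rw [← Spec.map_comp]
    have h1 : cR₀ ≫ CommRingCat.ofHom g = a.appLE (ι ⁻¹ᵁ W) U₁ e₁ ≫ loc := by
      ext1
      rw [CommRingCat.hom_comp, CommRingCat.hom_comp, CommRingCat.hom_ofHom]
      exact hgC
    rw [h1, Spec.map_comp, Category.assoc, IsAffineOpen.SpecMap_appLE_fromSpec a hW₀ hU₁ e₁,
      ← Category.assoc]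
  rw [hcomp] at sq
  refine ⟨U', hU', g' ≫ Spec.map cR, inferInstance, _, inferInstance, o, inferInstance, jW,
    ?_, ?_, sq⟩
  · have hp : p ∈ Set.range (Spec.map loc) := by
      have := PrimeSpectrum.localization_away_comap_range (Localization.Away t) t
      change p ∈ Set.range (PrimeSpectrum.comap (algebraMap Γ(X₀, U₁) (Localization.Away t)))
      rw [this]
      exact htp
    obtain ⟨y, hy⟩ := hp
    refine ⟨y, ?_⟩
    change hU₁.fromSpec (Spec.map loc y) = x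
    rw [hy]
    exact hU₁.fromSpec_primeIdealOf ⟨x, hxU₁⟩
  · rintro _ ⟨y, rfl⟩
    have h1 : hU₁.fromSpec (Spec.map loc y) ∈ Set.range hU₁.fromSpec := ⟨_, rfl⟩
    rw [IsAffineOpen.range_fromSpec] at h1
    exact (hle h1).1

end Groth.Agent.Lib.Helper15.SmoothLiftLocal
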