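import Groth.Agent.Lib.Helper15.PushCl
import Groth.Agent.Lib.Helper3.AlgSpEtGerm
import Groth.Agent.Lib.Helper3.AlgSpEtNbhdLift
import Groth.Prelude.Def_AlgSpOX3

set_option autoImplicit false
set_option backward.isDefEq.respectTransparency false
universe u
open CategoryTheory CategoryTheory.Limits AlgebraicGeometry Opposite
open AlgSp

namespace Groth.Agent.Lib.Helper15.StalkCl

open Groth.Agent.Lib.Helper3

variable {S : Scheme.{u}} {Z X : Sp S} {i : Z ⟶ X} (hi : RepWith @IsClosedImmersion i)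
  (z : FieldPt Z)

/-- the etale neighbourhood of `z` induced by one of `i z` -/
noncomputable def bcNbhd (N : EtNbhd (z.map i)) : EtNbhd z :=
  ⟨(EtOver.bc hi.1).obj N.1,
    ⟨hi.1.lift z.toHom N.2.1 ((N.2.2.trans (FieldPt.toHom_map i z)).symm), hi.1.lift_fst _ _ _⟩⟩

theorem bcNbhd_snd (N : EtNbhd (z.map i)) :
    (bcNbhd hi z N).2.1 ≫ hi.1.snd N.1.obj.hom = N.2.1 := hi.1.lift_snd _ _ _

theorem bcNbhd_fst (N : EtNbhd (z.map i)) :
    (yon S).map (bcNbhd hi z N).2.1 ≫ hi.1.fst N.1.obj.hom = z.toHom := hi.1.lift_fst _ _ _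

/-- functoriality -/
noncomputable def bcNbhdMap {N' N : EtNbhd (z.map i)} (f : N' ⟶ N) :
    bcNbhd hi z N' ⟶ bcNbhd hi z N :=
  ⟨(EtOver.bc hi.1).map f.1, by
    apply Subtype.ext
    change (bcNbhd hi z N').2.1 ≫ (EtOver.bcMap hi.1 f.1).hom.left = (bcNbhd hi z N).2.1
    apply hi.1.hom_ext
    · rw [Functor.map_comp, Category.assoc, EtOver.map_bcMap_fst, bcNbhd_fst, bcNbhd_fst]
    · rw [Category.assoc, EtOver.bcMap_snd, ← Category.assoc, bcNbhd_snd, bcNbhd_snd]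
      exact congrArg Subtype.val f.2⟩

/-- pointed version of `PushCl.locFull_bc` -/
theorem exists_of_hom (N₁ N₂ : EtNbhd (z.map i)) (g : bcNbhd hi z N₁ ⟶ bcNbhd hi z N₂) :
    ∃ (W : EtNbhd (z.map i)) (a : W ⟶ N₁) (b : W ⟶ N₂),
      (EtOver.bc hi.1).map a.1 ≫ g.1 = (EtOver.bc hi.1).map b.1 := by
  obtain ⟨W0, a, b, ha, hab⟩ := PushCl.locFull_bc hi (U₁ := N₁.1) (U₂ := N₂.1) g.1
  have hg : (bcNbhd hi z N₁).2.1 ≫ g.1.hom.left = (bcNbhd hi z N₂).2.1 := congrArg Subtype.val g.2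
  let w : z.pt ⟶ W0.obj.left :=
    (bcNbhd hi z N₁).2.1 ≫ (inv ((EtOver.bc hi.1).map a)).hom.left ≫ hi.1.snd W0.obj.hom
  have hinv : (inv ((EtOver.bc hi.1).map a)).hom.left ≫ (EtOver.bcMap hi.1 a).hom.left = 𝟙 _ := by
    have := IsIso.inv_hom_id ((EtOver.bc hi.1).map a)
    exact congrArg (fun φ => φ.hom.left) this
  have hw : (yon S).map w ≫ W0.obj.hom = (z.map i).toHom := by
    rw [FieldPt.toHom_map]
    change (yon S).map ((bcNbhd hi z N₁).2.1 ≫ (inv ((EtOver.bc hi.1).map a)).hom.left ≫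
      hi.1.snd W0.obj.hom) ≫ W0.obj.hom = _
    rw [Functor.map_comp, Functor.map_comp, Category.assoc, Category.assoc, ← hi.1.w W0.obj.hom,
      ← Category.assoc ((yon S).map (inv ((EtOver.bc hi.1).map a)).hom.left)]
    have h1 : (yon S).map (inv ((EtOver.bc hi.1).map a)).hom.left ≫ hi.1.fst W0.obj.hom =
        hi.1.fst N₁.1.obj.hom := EtOver.w (inv ((EtOver.bc hi.1).map a))
    rw [h1, ← Category.assoc, bcNbhd_fst]
  have hwa : w ≫ a.hom.left = N₁.2.1 := by
    change ((bcNbhd hi z N₁).2.1 ≫ (inv ((EtOver.bc hi.1).map a)).hom.left ≫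
      hi.1.snd W0.obj.hom) ≫ a.hom.left = _
    rw [Category.assoc, Category.assoc, ← EtOver.bcMap_snd, ← Category.assoc
      (inv ((EtOver.bc hi.1).map a)).hom.left, hinv, Category.id_comp, bcNbhd_snd]
  have hwb : w ≫ b.hom.left = N₂.2.1 := by
    change ((bcNbhd hi z N₁).2.1 ≫ (inv ((EtOver.bc hi.1).map a)).hom.left ≫
      hi.1.snd W0.obj.hom) ≫ b.hom.left = _
    have hab' : (EtOver.bcMap hi.1 a).hom.left ≫ g.1.hom.left = (EtOver.bcMap hi.1 b).hom.left :=
      congrArg (fun φ => φ.hom.left) hab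
    rw [Category.assoc, Category.assoc, ← EtOver.bcMap_snd, ← hab', Category.assoc,
      ← Category.assoc (inv ((EtOver.bc hi.1).map a)).hom.left, hinv, Category.id_comp,
      ← Category.assoc, hg, bcNbhd_snd]
  exact ⟨⟨W0, ⟨w, hw⟩⟩, ⟨a, Subtype.ext hwa⟩, ⟨b, Subtype.ext hwb⟩, hab⟩

/-- pointed version of `PushCl.exists_bc_to` -/
theorem exists_bcNbhd_to (hX : IsAlgSpace X) (hz : z.IsGeometric) (M : EtNbhd z) :
    ∃ (N : EtNbhd (z.map i)), Nonempty (bcNbhd hi z N ⟶ M) := by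
  obtain ⟨V, v, hv⟩ := M
  haveI : IsAlgClosed z.K := hz
  obtain ⟨X0, a0, ha0e, ha0s⟩ := hX.atlas
  let E0 : EtOver X := EtOver.mk a0 ha0e
  haveI : IsClosedImmersion (hi.rep.snd a0).left := hi.property_snd a0
  have hz0s : RepWith @Surjective (hi.rep.fst a0) :=
    MorphismProperty.of_isPullback (hi.rep.isPullback a0).flip ha0s
  have hz0e : RepWith @Etale (hi.rep.fst a0) :=
    MorphismProperty.of_isPullback (hi.rep.isPullback a0).flip ha0e
  have sqC := hz0s.rep.isPullback' V.obj.hom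
  have hc0 : Surjective (hz0s.rep.snd V.obj.hom).left := hz0s.property_snd V.obj.hom
  haveI hc0e : Etale (hz0s.rep.snd V.obj.hom).left :=
    hz0e.property V.obj.hom (hz0s.rep.fst V.obj.hom) (hz0s.rep.snd V.obj.hom)
      (hz0s.rep.isPullback V.obj.hom)
  haveI hw : Etale (hz0s.rep.fst' V.obj.hom).left :=
    V.property.property (hi.rep.fst a0) ((yon S).map (hz0s.rep.snd V.obj.hom))
      (hz0s.rep.fst' V.obj.hom) sqC.flip
  obtain ⟨x0, hx0⟩ := hc0.surj (v.left (IsLocalRing.closedPoint z.K))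
  obtain ⟨l0, hl0⟩ := exists_lift_of_etale_algClosed z.K (hz0s.rep.snd V.obj.hom).left v.left x0 hx0
  obtain ⟨Usch, p, -, hp, H⟩ := ClImmEt.exists_etale_lift_nbhd (hi.rep.snd a0).left
    (hz0s.rep.fst' V.obj.hom).left (l0 (IsLocalRing.closedPoint z.K))
  let UO : Over S := Over.mk (p ≫ X0.hom)
  let pO : UO ⟶ X0 := Over.homMk p rfl
  have hEU : RepWith @Etale ((yon S).map pO ≫ a0) := by
    refine (repWith_isMultiplicative (S := S) @Etale).comp_mem _ _ ?_ ha0e
    rw [repWith_yon_map_iff]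
    exact hp
  let EU : EtOver X := EtOver.mk _ hEU
  let eU0 : EU ⟶ E0 := EtOver.homMk pO rfl
  have sqU : IsPullback (EtOver.bcMap hi.rep eU0).hom.left.left (hi.rep.snd EU.obj.hom).left
      (hi.rep.snd a0).left p := EtOver.isPullback_bcMap_left hi.rep eU0
  obtain ⟨e', he'o, he'w, b0, hb0⟩ := H _ _ sqU
  haveI : Subsingleton ↥(Spec (CommRingCat.of z.K)) :=
    inferInstanceAs (Subsingleton (PrimeSpectrum z.K))
  have hrange : Set.range l0 ⊆ Set.range e' := by
    rintro _ ⟨y, rfl⟩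
    rw [Subsingleton.elim y (IsLocalRing.closedPoint z.K)]
    exact ⟨b0, hb0⟩
  have hbar : IsOpenImmersion.lift e' l0 hrange ≫ e' = l0 := IsOpenImmersion.lift_fac _ _ _
  let e'O : (EtOver.bcObj hi.rep EU).obj.left ⟶ hz0s.rep.pullback V.obj.hom := Over.homMk e' (by
    rw [← Over.w (hz0s.rep.fst' V.obj.hom), ← Category.assoc, he'w]
    exact Over.w (EtOver.bcMap hi.rep eU0).hom.left)
  have he'O : e'O ≫ hz0s.rep.fst' V.obj.hom = (EtOver.bcMap hi.rep eU0).hom.left := by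
    ext : 1
    exact he'w
  let φ : (EtOver.bc hi.rep).obj EU ⟶ V := EtOver.homMk (e'O ≫ hz0s.rep.snd V.obj.hom) (by
    change (yon S).map (e'O ≫ hz0s.rep.snd V.obj.hom) ≫ V.obj.hom = hi.rep.fst EU.obj.hom
    rw [Functor.map_comp, Category.assoc, ← sqC.w, ← Category.assoc, ← Functor.map_comp, he'O]
    exact EtOver.w (EtOver.bcMap hi.rep eU0))
  let bO : z.pt ⟶ (EtOver.bcObj hi.rep EU).obj.left := Over.homMk (IsOpenImmersion.lift e' l0 hrange) (by
    have h1 : e' ≫ (hz0s.rep.pullback V.obj.hom).hom = (EtOver.bcObj hi.rep EU).obj.left.hom :=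
      Over.w e'O
    rw [← h1, ← Category.assoc, hbar, ← Over.w (hz0s.rep.snd V.obj.hom), ← Category.assoc, hl0]
    exact Over.w v)
  have hbφ : bO ≫ φ.hom.left = v := by
    ext : 1
    change IsOpenImmersion.lift e' l0 hrange ≫ e' ≫ (hz0s.rep.snd V.obj.hom).left = v.left
    rw [← Category.assoc, hbar, hl0]
  have hstar : (yon S).map bO ≫ hi.rep.fst EU.obj.hom = z.toHom := by
    have h1 : (yon S).map φ.hom.left ≫ V.obj.hom = hi.rep.fst EU.obj.hom := EtOver.w φ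
    rw [← h1, ← Category.assoc, ← Functor.map_comp, hbφ]
    exact hv
  have hu : (yon S).map (bO ≫ hi.rep.snd EU.obj.hom) ≫ EU.obj.hom = (z.map i).toHom := by
    rw [FieldPt.toHom_map, Functor.map_comp, Category.assoc, ← hi.rep.w EU.obj.hom, ← Category.assoc,
      hstar]
  let N : EtNbhd (z.map i) := ⟨EU, ⟨bO ≫ hi.rep.snd EU.obj.hom, hu⟩⟩
  have hlift : (bcNbhd hi z N).2.1 = bO := by
    apply hi.1.hom_ext
    · rw [bcNbhd_fst]; exact hstar.symm
    · rw [bcNbhd_snd]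
  refine ⟨N, ⟨⟨φ, ?_⟩⟩⟩
  apply Subtype.ext
  change (bcNbhd hi z N).2.1 ≫ φ.hom.left = v
  rw [hlift, hbφ]

section Main

variable (hZ : IsAlgSpace Z) (hX : IsAlgSpace X) (hz : z.IsGeometric)
  (F : EtSh Z (Type (u + 1)))

/-- the cocone defining the comparison map on stalks -/
noncomputable def stalkCocone :
    Cocone (stalkEtDiagram (z.map i) ((pushEt hi.1 (Type (u + 1))).obj F)) where
  pt := stalkEt z F
  ι :=
    { app := fun N => stalkEtι z F (bcNbhd hi z N.unop)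
      naturality := by
        intro N N' f
        have := colimit.w (stalkEtDiagram z F) (bcNbhdMap hi z f.unop).op
        exact this.trans (Category.comp_id _).symm }

/-- the comparison map on stalks -/
noncomputable def stalkMap :
    stalkEt (z.map i) ((pushEt hi.1 (Type (u + 1))).obj F) ⟶ stalkEt z F :=
  colimit.desc _ (stalkCocone hi z F)

theorem stalkMap_germ (N : EtNbhd (z.map i))
    (s : F.obj.obj (op ((EtOver.bc hi.1).obj N.1))) :
    stalkMap hi z F (stalkEtι (z.map i) ((pushEt hi.1 (Type (u + 1))).obj F) N s) =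
      stalkEtι z F (bcNbhd hi z N) s := by
  have := colimit.ι_desc (stalkCocone hi z F) (op N)
  exact congrArg (fun φ => φ s) this

include hZ hX hz in
theorem stalkMap_surjective : Function.Surjective (stalkMap hi z F) := by
  intro t
  obtain ⟨M, σ, rfl⟩ := stalkEtι_jointly_surjective hZ z hz F t
  obtain ⟨N, ⟨h⟩⟩ := exists_bcNbhd_to hi z hX hz M
  refine ⟨stalkEtι (z.map i) ((pushEt hi.1 (Type (u + 1))).obj F) N (F.obj.map h.1.op σ), ?_⟩
  rw [stalkMap_germ]
  have := colimit.w (stalkEtDiagram z F) h.op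
  exact congrArg (fun φ => φ σ) this

include hZ hX hz in
theorem stalkMap_injective : Function.Injective (stalkMap hi z F) := by
  intro s t hst
  have hp : (z.map i).IsGeometric := hz
  obtain ⟨N₁, σ₁, rfl⟩ := stalkEtι_jointly_surjective hX (z.map i) hp
    ((pushEt hi.1 (Type (u + 1))).obj F) s
  obtain ⟨N₂, σ₂, rfl⟩ := stalkEtι_jointly_surjective hX (z.map i) hp
    ((pushEt hi.1 (Type (u + 1))).obj F) t
  obtain ⟨W, f₁, f₂, -⟩ := etNbhd_cone_objs (z.map i) N₁ N₂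
  have e₁ : stalkEtι _ ((pushEt hi.1 (Type (u + 1))).obj F) N₁ σ₁ =
      stalkEtι _ ((pushEt hi.1 (Type (u + 1))).obj F) W
        (((pushEt hi.1 (Type (u + 1))).obj F).obj.map f₁.1.op σ₁) :=
    (congrArg (fun φ => φ σ₁)
      (colimit.w (stalkEtDiagram _ ((pushEt hi.1 (Type (u + 1))).obj F)) f₁.op)).symm
  have e₂ : stalkEtι _ ((pushEt hi.1 (Type (u + 1))).obj F) N₂ σ₂ =
      stalkEtι _ ((pushEt hi.1 (Type (u + 1))).obj F) W
        (((pushEt hi.1 (Type (u + 1))).obj F).obj.map f₂.1.op σ₂) :=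
    (congrArg (fun φ => φ σ₂)
      (colimit.w (stalkEtDiagram _ ((pushEt hi.1 (Type (u + 1))).obj F)) f₂.op)).symm
  rw [e₁, e₂] at hst ⊢
  rw [stalkMap_germ, stalkMap_germ] at hst
  obtain ⟨M', f, hf⟩ := (stalkEtι_eq_iff hZ z hz F (bcNbhd hi z W) _ _).1 hst
  obtain ⟨N'', ⟨h⟩⟩ := exists_bcNbhd_to hi z hX hz M'
  obtain ⟨W', a, b, hab⟩ := exists_of_hom hi z N'' W (h ≫ f)
  refine (stalkEtι_eq_iff hX (z.map i) hp ((pushEt hi.1 (Type (u + 1))).obj F) W _ _).2 ⟨W', b, ?_⟩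
  change F.obj.map ((EtOver.bc hi.1).map b.1).op _ = F.obj.map ((EtOver.bc hi.1).map b.1).op _
  rw [← hab]
  change F.obj.map (((EtOver.bc hi.1).map a.1 ≫ h.1) ≫ f.1).op _ =
    F.obj.map (((EtOver.bc hi.1).map a.1 ≫ h.1) ≫ f.1).op _
  rw [op_comp, Functor.map_comp]
  exact congrArg (F.obj.map ((EtOver.bc hi.1).map a.1 ≫ h.1).op) hf

end Main

theorem main {Z X : Space S} (i : Z ⟶ X) (hi : RepWith @IsClosedImmersion i.hom)
    (z : FieldPt Z.obj) (hz : z.IsGeometric) (F : EtSh Z.obj (Type (u + 1))) :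
    ∃ φ : stalkEt (z.map i.hom) ((pushEt hi.1 (Type (u + 1))).obj F) ≃ stalkEt z F,
      ∀ (N : EtNbhd (z.map i.hom)) (s : F.obj.obj (op ((EtOver.bc hi.1).obj N.1))),
        φ (stalkEtι (z.map i.hom) ((pushEt hi.1 (Type (u + 1))).obj F) N s) =
          stalkEtι z F ⟨(EtOver.bc hi.1).obj N.1,
            ⟨hi.1.lift z.toHom N.2.1 ((N.2.2.trans (FieldPt.toHom_map i.hom z)).symm),
              hi.1.lift_fst _ _ _⟩⟩ s :=
  ⟨Equiv.ofBijective (stalkMap hi z F)
    ⟨stalkMap_injective hi z Z.property X.property hz F,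
      stalkMap_surjective hi z Z.property X.property hz F⟩,
    fun N s => stalkMap_germ hi z F N s⟩

end Groth.Agent.Lib.Helper15.StalkCl
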