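import Groth.Agent.Lib.Helper3.PropQF
import Groth.Agent.Lib.Helper15.AlgSpThick
import Groth.Agent.S10587
import Groth.Agent.S10589
import Groth.Agent.S10593
import Groth.Agent.S1313
import Groth.Agent.S1316

set_option autoImplicit false
universe u
open CategoryTheory CategoryTheory.Limits AlgebraicGeometry
open AlgSp

namespace Groth.Agent.Lib.Helper15.ThickGlobal
open Groth.Agent.Lib.Helper3 Groth.Agent.Lib.Helper15.AlgSpThick
set_option backward.isDefEq.respectTransparency.types false

variable {S : Scheme.{u}}

/-- A represented pullback of `f'` along `g' : h_{T'} ⟶ Y'` restricts, along a cartesian square of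
thickenings, to a represented pullback of `f`, and the resulting square of schemes is cartesian. -/
theorem exists_thick_rep {X X' Y Y' : Sp S} (i : X ⟶ X') (j : Y ⟶ Y') (f : X ⟶ Y) (f' : X' ⟶ Y')
    (hj : IsThickMor j) (hcart : IsPullback i f f' j)
    {T' W' : Over S} (g' : (yon S).obj T' ⟶ Y') (fst' : (yon S).obj W' ⟶ X') (k' : W' ⟶ T')
    (sq' : IsPullback fst' ((yon S).map k') f' g') :
    ∃ (T W : Over S) (iT : T ⟶ T') (iW : W ⟶ W') (k : W ⟶ T) (g : (yon S).obj T ⟶ Y)
      (a : (yon S).obj W ⟶ X),
      MoreMor.IsThickening iT.left ∧ IsPullback iW.left k.left k'.left iT.left ∧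
      IsPullback a ((yon S).map k) f g := by
  have sqT := hj.rep.isPullback g'
  have hT : MoreMor.IsThickening (hj.rep.snd g').left := hj.property_snd g'
  let T : Over S := hj.rep.pullback g'
  let iT : T ⟶ T' := hj.rep.snd g'
  let g : (yon S).obj T ⟶ Y := hj.rep.fst g'
  have sqO : IsPullback (pullback.fst k' iT) (pullback.snd k' iT) k' iT :=
    IsPullback.of_hasPullback k' iT
  let W : Over S := pullback k' iT
  have sqY : IsPullback ((yon S).map (pullback.fst k' iT)) ((yon S).map (pullback.snd k' iT))
      ((yon S).map k') ((yon S).map iT) := sqO.map (yon S)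
  -- horizontal paste
  have big : IsPullback ((yon S).map (pullback.fst k' iT) ≫ fst')
      ((yon S).map (pullback.snd k' iT)) f' ((yon S).map iT ≫ g') := sqY.paste_horiz sq'
  have e1 : (yon S).map iT ≫ g' = g ≫ j := sqT.w.symm
  rw [e1] at big
  have comm : ((yon S).map (pullback.fst k' iT) ≫ fst') ≫ f' =
      ((yon S).map (pullback.snd k' iT) ≫ g) ≫ j := by
    rw [Category.assoc (f := (yon S).map (pullback.snd k' iT))]; exact big.w
  let a : (yon S).obj W ⟶ X := hcart.lift _ _ comm
  have ha1 : a ≫ i = (yon S).map (pullback.fst k' iT) ≫ fst' := hcart.lift_fst _ _ comm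
  have ha2 : a ≫ f = (yon S).map (pullback.snd k' iT) ≫ g := hcart.lift_snd _ _ comm
  have big' : IsPullback (a ≫ i) ((yon S).map (pullback.snd k' iT)) f' (g ≫ j) := by
    rw [ha1]; exact big
  have left : IsPullback a ((yon S).map (pullback.snd k' iT)) f g :=
    IsPullback.of_right big' ha2 hcart
  exact ⟨T, W, iT, pullback.fst k' iT, pullback.snd k' iT, g, a, hT,
    sqO.map (Over.forget S), left⟩

/-- Transfer of a represented property along a cartesian square of thickenings, given the
scheme-level statement and representability of `f'`. -/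
theorem repWith_of_thick {P : MorphismProperty Scheme.{u}}
    (hP : ∀ {A A' B B' : Scheme.{u}} (iA : A ⟶ A') (iB : B ⟶ B') (h : A ⟶ B) (h' : A' ⟶ B'),
      MoreMor.IsThickening iB → IsPullback iA h h' iB → LocallyOfFiniteType h →
      LocallyOfFiniteType h' → P h → P h')
    {X X' Y Y' : Sp S} (hX' : IsAlgSpace X') (hY' : IsAlgSpace Y')
    (i : X ⟶ X') (j : Y ⟶ Y') (f : X ⟶ Y) (f' : X' ⟶ Y')
    (hj : IsThickMor j) (hcart : IsPullback i f f' j)
    (hft' : LocP @LocallyOfFiniteType f') (hrep' : Representable f')
    (hf : RepWith P f) : RepWith P f' := by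
  have hlft' : RepWith @LocallyOfFiniteType f' :=
    repWith_of_locP isEtLocal_locallyOfFiniteType hX' hY' f' hrep' hft'
  refine ⟨hrep', fun T' W' g' fst' k' sq' => ?_⟩
  obtain ⟨T, W, iT, iW, k, g, a, hT, sqS, sqL⟩ :=
    exists_thick_rep i j f f' hj hcart g' fst' k' sq'
  have h1 : LocallyOfFiniteType k'.left := hlft'.property g' fst' k' sq'
  have h2 : LocallyOfFiniteType k.left := MorphismProperty.of_isPullback sqS h1
  have h3 : P k.left := hf.property g a k sqL
  exact hP iW.left iT.left k.left k'.left hT sqS h2 h1 h3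

end Groth.Agent.Lib.Helper15.ThickGlobal
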