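import Groth.Agent.Lib.Helper15.ThickGlobal

set_option autoImplicit false
universe u
open CategoryTheory CategoryTheory.Limits AlgebraicGeometry
open AlgSp

namespace Groth.Agent.Lib.Helper15.ThickGlobal
open Groth.Agent.Lib.Helper3 Groth.Agent.Lib.Helper15.AlgSpThick
set_option backward.isDefEq.respectTransparency.types false

variable {S : Scheme.{u}}

section
variable {X X' Y Y' : AlgSp.Space S} (i : X ⟶ X') (j : Y ⟶ Y') (f : X ⟶ Y) (f' : X' ⟶ Y')
    (hi : IsThickMor i.hom) (hj : IsThickMor j.hom) (w : i ≫ f' = f ≫ j)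
    (hcart : IsPullback i.hom f.hom f'.hom j.hom)

include hi hj w in
theorem proper_up (hft' : LocP @LocallyOfFiniteType f'.hom) (h : IsProperMor f.hom) :
    IsProperMor f'.hom :=
  ⟨(Groth.Agent.S10589.result i j f f' hi hj w).1.1 h.1,
    ⟨hft', (Groth.Agent.S10587.result i j f f' hi hj w).2.1.1 h.2.1.2⟩,
    (Groth.Agent.S10587.result i j f f' hi hj w).2.2.1.1 h.2.2⟩

include hcart in
theorem proper_down (h : IsProperMor f'.hom) : IsProperMor f.hom :=
  isProperMor_of_isPullback X'.property Y'.property Y.property X.property hcart h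

include hi hj w hcart in
theorem finite_up (hft : LocP @LocallyOfFiniteType f.hom)
    (hft' : LocP @LocallyOfFiniteType f'.hom) (h : IsFiniteMor f.hom) : IsFiniteMor f'.hom := by
  obtain ⟨hp, hq⟩ := PropQF.proper_lqf_of_isFiniteMor f.hom h
  have hp' := proper_up i j f f' hi hj w hft' hp
  have hq' := (Groth.Agent.S10593.result i j f f' hi hj w hcart hft hft').1.1 hq
  exact PropQF.isFiniteMor_of_proper_lqf X'.property Y'.property f'.hom hp'.1 hp'.2.1.2 hp'.2.2 hq'

include hcart in
theorem finite_down (h : IsFiniteMor f'.hom) : IsFiniteMor f.hom :=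
  (isFiniteMor_iff_repWith f.hom).2
    (MorphismProperty.of_isPullback hcart ((isFiniteMor_iff_repWith f'.hom).1 h))

include hi hj w hcart in
theorem closed_up (hft : LocP @LocallyOfFiniteType f.hom)
    (hft' : LocP @LocallyOfFiniteType f'.hom) (h : RepWith @IsClosedImmersion f.hom) :
    RepWith @IsClosedImmersion f'.hom := by
  have hfin : IsFiniteMor f.hom := (isFiniteMor_iff_repWith f.hom).2
    (repWith_mono (fun _ _ g hg => by
      have : IsClosedImmersion g := hg
      exact inferInstanceAs (IsFinite g)) h)
  have hfin' := finite_up i j f f' hi hj w hcart hft hft' hfin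
  have hrep' : Representable f'.hom := ((isFiniteMor_iff_repWith f'.hom).1 hfin').rep
  exact repWith_of_thick (P := @IsClosedImmersion) (fun iA iB h h' hB sq h1 h2 hP => by
      haveI := h1; haveI := h2
      exact (Groth.Agent.S1313.result iA iB h h' hB sq).1 hP)
    X'.property Y'.property i.hom j.hom f.hom f'.hom hj hcart hft' hrep' h

include hi hj w hcart in
theorem imm_up (hft : LocP @LocallyOfFiniteType f.hom)
    (hft' : LocP @LocallyOfFiniteType f'.hom) (h : RepWith @IsImmersion f.hom) :
    RepWith @IsImmersion f'.hom := by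
  have hsep : IsSeparatedMor f.hom := (Groth.Agent.S9905.isSeparatedMor_iff_repWith f.hom h.rep).2
    (repWith_mono (fun _ _ g hg => by
      have : IsImmersion g := hg
      exact inferInstanceAs (IsSeparated g)) h)
  have hqf : LocP (@LocallyQuasiFinite ⊓ @LocallyOfFiniteType) f.hom :=
    locP_of_repWith isEtLocal_locallyQuasiFinite f.hom
      (repWith_mono (fun _ _ g hg => by
        have : IsImmersion g := hg
        exact ⟨inferInstanceAs (LocallyQuasiFinite g), inferInstanceAs (LocallyOfFiniteType g)⟩) h)
  have hsep' := (Groth.Agent.S10589.result i j f f' hi hj w).1.1 hsep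
  have hqf' := (Groth.Agent.S10593.result i j f f' hi hj w hcart hft hft').1.1 hqf
  have hrep' : Representable f'.hom :=
    Rep0418.representable_of_lqf_separated X'.property Y'.property f'.hom hqf' hsep'
  exact repWith_of_thick (P := @IsImmersion) (fun iA iB h h' hB sq h1 h2 hP => by
      haveI := h1; haveI := h2
      exact (Groth.Agent.S1316.result iA iB h h' hB sq).1 hP)
    X'.property Y'.property i.hom j.hom f.hom f'.hom hj hcart hft' hrep' h

include hi hj w hcart in
theorem main_lft (hft : LocP @LocallyOfFiniteType f.hom)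
    (hft' : LocP @LocallyOfFiniteType f'.hom) :
    (IsFiniteMor f.hom ↔ IsFiniteMor f'.hom) ∧
    (RepWith @IsClosedImmersion f.hom ↔ RepWith @IsClosedImmersion f'.hom) ∧
    (RepWith @IsImmersion f.hom ↔ RepWith @IsImmersion f'.hom) ∧
    (IsProperMor f.hom ↔ IsProperMor f'.hom) :=
  ⟨⟨finite_up i j f f' hi hj w hcart hft hft', finite_down i j f f' hcart⟩,
    ⟨closed_up i j f f' hi hj w hcart hft hft', fun h => MorphismProperty.of_isPullback hcart h⟩,
    ⟨imm_up i j f f' hi hj w hcart hft hft', fun h => MorphismProperty.of_isPullback hcart h⟩,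
    ⟨proper_up i j f f' hi hj w hft', proper_down i j f f' hcart⟩⟩

end

end Groth.Agent.Lib.Helper15.ThickGlobal
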