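import Mathlib
import Groth.Agent.Lib.Helper15.Thick
import Groth.Agent.Lib.Helper15.ThickMore

/-!
# Helper15 — ThickSrc: descent of finite type along a thickening whose *source* thickening
`X ⟶ X'` is of finite order (the base thickening arbitrary).
-/

set_option autoImplicit false
universe u
open CategoryTheory CategoryTheory.Limits AlgebraicGeometry TensorProduct

namespace Groth.Agent.Lib.Helper15.ThickSrc
open Groth.Agent.Lib.Helper15.Thick

/-- Nakayama for submodules: `N ⊔ I • ⊤ = ⊤` and `I ^ n • ⊤ = ⊥` implies `N = ⊤`. -/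
theorem eq_top_of_sup_smul_top' {A M : Type*} [CommRing A] [AddCommGroup M] [Module A M]
    (I : Ideal A) (n : ℕ) (hI : (I ^ n) • (⊤ : Submodule A M) = ⊥) (N : Submodule A M)
    (h : ⊤ ≤ N ⊔ I • (⊤ : Submodule A M)) : N = ⊤ := by
  have key : ∀ k : ℕ, (⊤ : Submodule A M) ≤ N ⊔ (I ^ k) • (⊤ : Submodule A M) := by
    intro k
    induction k with
    | zero => rw [pow_zero, Ideal.one_eq_top, Submodule.top_smul]; exact le_sup_right
    | succ k ih =>
      have h1 : (I ^ k) • (⊤ : Submodule A M) ≤ N ⊔ (I ^ (k + 1)) • (⊤ : Submodule A M) := by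
        calc (I ^ k) • (⊤ : Submodule A M) ≤ (I ^ k) • (N ⊔ I • (⊤ : Submodule A M)) :=
              Submodule.smul_mono le_rfl h
          _ = (I ^ k) • N ⊔ (I ^ k) • (I • (⊤ : Submodule A M)) := Submodule.smul_sup _ _ _
          _ ≤ N ⊔ (I ^ (k + 1)) • (⊤ : Submodule A M) := by
              apply sup_le_sup
              · exact Submodule.smul_le_right
              · rw [← Submodule.mul_smul, ← pow_succ]
      exact ih.trans (sup_le le_sup_left h1)
  have := key n
  rw [hI, sup_bot_eq] at this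
  exact top_le_iff.mp this

theorem finiteType_of_comp_surjective' {A B B₀ : Type*} [CommRing A] [CommRing B] [CommRing B₀]
    (φ : A →+* B) (π : B →+* B₀) (hπ : Function.Surjective π) (I : Ideal A)
    (hI : IsNilpotent (Ideal.map φ I))
    (hker : RingHom.ker π ≤ Ideal.map φ I) (hft : (π.comp φ).FiniteType) : φ.FiniteType := by
  classical
  letI := φ.toAlgebra
  letI := (π.comp φ).toAlgebra
  let πₐ : B →ₐ[A] B₀ := { π with commutes' := fun a => rfl }
  have hft' : Algebra.FiniteType A B₀ := hft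
  obtain ⟨s, hs⟩ := hft'.out
  let t : Finset B := s.image (Function.surjInv hπ)
  have hts : πₐ '' (t : Set B) = (s : Set B₀) := by
    ext y
    simp only [t, Finset.coe_image, Set.mem_image, Finset.mem_coe]
    constructor
    · rintro ⟨_, ⟨z, hz, rfl⟩, rfl⟩
      have : πₐ (Function.surjInv hπ z) = z := Function.surjInv_eq hπ z
      rw [this]; exact hz
    · intro hy
      exact ⟨_, ⟨y, hy, rfl⟩, Function.surjInv_eq hπ y⟩
  let C : Subalgebra A B := Algebra.adjoin A (t : Set B)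
  have hmap : C.map πₐ = ⊤ := by
    rw [AlgHom.map_adjoin, hts, hs]
  obtain ⟨n, hn⟩ := hI
  have hIn : (I ^ n) • (⊤ : Submodule A B) = ⊥ := by
    rw [Ideal.smul_top_eq_map]
    have : Ideal.map (algebraMap A B) (I ^ n) = ⊥ := by
      rw [Ideal.map_pow]; exact hn
    rw [this]; rfl
  have hC : Subalgebra.toSubmodule C = ⊤ := by
    apply eq_top_of_sup_smul_top' I n hIn
    intro b _
    have hb : πₐ b ∈ C.map πₐ := by rw [hmap]; trivial
    obtain ⟨c, hc, hcb⟩ := hb
    have hk : b - c ∈ RingHom.ker π := by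
      rw [RingHom.mem_ker, map_sub]
      have : π c = π b := hcb
      rw [this, sub_self]
    have hk' : b - c ∈ I • (⊤ : Submodule A B) := by
      rw [Ideal.smul_top_eq_map]
      exact hker hk
    have : b = c + (b - c) := by ring
    rw [this]
    exact Submodule.add_mem_sup hc hk'
  refine ⟨⟨t, ?_⟩⟩
  show C = ⊤
  apply Subalgebra.toSubmodule_injective
  rw [hC]; rfl

set_option backward.isDefEq.respectTransparency.types false

section ring2

variable {A B A₀ B₀ : CommRingCat.{u}} {φ : A ⟶ B} {ψ : A ⟶ A₀} {ψ' : B ⟶ B₀} {φ₀ : A₀ ⟶ B₀}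

theorem map_ker_le_of_comm (h : IsPushout φ ψ ψ' φ₀) :
    Ideal.map φ.hom (RingHom.ker ψ.hom) ≤ RingHom.ker ψ'.hom := by
  rw [Ideal.map_le_iff_le_comap]
  intro a ha
  rw [Ideal.mem_comap, RingHom.mem_ker]
  have h1 := congrArg (fun k => k.hom a) h.w
  simp only [CommRingCat.hom_comp, RingHom.comp_apply] at h1
  rw [h1, (RingHom.mem_ker).mp ha, map_zero]

theorem finiteType_of_isPushout_src (h : IsPushout φ ψ ψ' φ₀) (hψ : Function.Surjective ψ.hom)
    (hnil : IsNilpotent (RingHom.ker ψ'.hom)) (hQ : φ₀.hom.FiniteType) : φ.hom.FiniteType := by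
  have hnil' : IsNilpotent (Ideal.map φ.hom (RingHom.ker ψ.hom)) := by
    obtain ⟨n, hn⟩ := hnil
    refine ⟨n, ?_⟩
    rw [Ideal.zero_eq_bot, eq_bot_iff]
    calc Ideal.map φ.hom (RingHom.ker ψ.hom) ^ n ≤ RingHom.ker ψ'.hom ^ n :=
          Ideal.pow_right_mono (map_ker_le_of_comm h) n
      _ = ⊥ := hn
  apply finiteType_of_comp_surjective' φ.hom ψ'.hom (surjective_of_isPushout h hψ) _ hnil'
    (ker_le_of_isPushout h hψ)
  have : ψ'.hom.comp φ.hom = φ₀.hom.comp ψ.hom := congrArg (fun k => k.hom) h.w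
  rw [this]
  exact hQ.comp (RingHom.FiniteType.of_surjective _ hψ)

end ring2

section scheme

theorem descend_along_nilpotent_src {P : MorphismProperty Scheme.{u}}
    {Q : ∀ {R S : Type u} [CommRing R] [CommRing S], (R →+* S) → Prop} [HasRingHomProperty P Q]
    (hQ : ∀ {A B A₀ B₀ : CommRingCat.{u}} (φ : A ⟶ B) (ψ : A ⟶ A₀) (ψ' : B ⟶ B₀) (φ₀ : A₀ ⟶ B₀),
      IsPushout φ ψ ψ' φ₀ → Function.Surjective ψ.hom → IsNilpotent (RingHom.ker ψ'.hom) →
        Q φ₀.hom → Q φ.hom)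
    {X X' S S' : Scheme.{u}} (iX : X ⟶ X') (iS : S ⟶ S') (f : X ⟶ S) (f' : X' ⟶ S')
    [IsClosedImmersion iS]
    (hnil : ∀ V : X'.affineOpens, IsNilpotent (RingHom.ker (iX.app V.1).hom))
    (hc : IsPullback iX f f' iS) (hf : P f) : P f' := by
  rw [HasRingHomProperty.iff_appLE (P := P)]
  intro U V e
  have hU₀ : IsAffineOpen (iS ⁻¹ᵁ U.1) := U.2.preimage iS
  haveI : IsClosedImmersion iX := MorphismProperty.of_isPullback (P := @IsClosedImmersion) hc.flip inferInstance
  have hV₀ : IsAffineOpen (iX ⁻¹ᵁ V.1) := V.2.preimage iX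
  have hVU₀ : iX ⁻¹ᵁ V.1 = iX ⁻¹ᵁ V.1 ⊓ f ⁻¹ᵁ (iS ⁻¹ᵁ U.1) := by
    refine (inf_eq_left.mpr ?_).symm
    intro y hy
    show iS (f y) ∈ U.1
    have : iS (f y) = f' (iX y) := by
      rw [← Scheme.Hom.comp_apply, ← Scheme.Hom.comp_apply, hc.w]
    rw [this]
    exact e hy
  have hiso := isIso_pushoutSection_of_isAffineOpen hc (US := U.1) (UT := iS ⁻¹ᵁ U.1) (UX := V.1)
    le_rfl e (UY := iX ⁻¹ᵁ V.1) hVU₀ U.2 hU₀ V.2
  have hpo := (isIso_pushoutSection_iff hc (US := U.1) (UT := iS ⁻¹ᵁ U.1) (UX := V.1)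
    le_rfl e (UY := iX ⁻¹ᵁ V.1) hVU₀).mp hiso
  refine hQ _ _ _ _ hpo ?_ ?_ ?_
  · rw [Scheme.Hom.appLE_eq_app]
    exact iS.app_surjective U.1 U.2
  · rw [Scheme.Hom.appLE_eq_app]
    exact hnil V
  · exact HasRingHomProperty.appLE P f hf ⟨_, hU₀⟩ ⟨_, hV₀⟩ _

theorem lft_of_lft_src {X X' S S' : Scheme.{u}} (iX : X ⟶ X') (iS : S ⟶ S') (f : X ⟶ S)
    (f' : X' ⟶ S') (hX : MoreMor.IsFiniteOrderThickening iX) (hS : IsClosedImmersion iS)
    (hc : IsPullback iX f f' iS) (hf : LocallyOfFiniteType f) : LocallyOfFiniteType f' := by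
  obtain ⟨h1, h2⟩ := isNilpotent_ker_app_of_isFiniteOrderThickening iX hX
  exact descend_along_nilpotent_src (P := @LocallyOfFiniteType)
    (fun φ ψ ψ' φ₀ h hs hn hq => finiteType_of_isPushout_src h hs hn hq) iX iS f f' h2 hc hf

end scheme

end Groth.Agent.Lib.Helper15.ThickSrc
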