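import Groth.Agent.Lib.Helper15.ThickGlobal2
import Groth.Agent.S10591

set_option autoImplicit false
universe u
open CategoryTheory CategoryTheory.Limits AlgebraicGeometry
open AlgSp

namespace Groth.Agent.Lib.Helper15.ThickGlobal
open Groth.Agent.Lib.Helper3 Groth.Agent.Lib.Helper15.AlgSpThick
set_option backward.isDefEq.respectTransparency.types false

variable {S : Scheme.{u}}

section
variable {X X' Y Y' : AlgSp.Space S} (i : X ⟶ X') (j : Y ⟶ Y') (f : X ⟶ Y) (f' : X' ⟶ Y')
    (hi : IsThickMor i.hom) (hj : IsThickMor j.hom) (w : i ≫ f' = f ≫ j)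
    (hcart : IsPullback i.hom f.hom f'.hom j.hom)

theorem lft_of_closed {X Y : Sp S} (f : X ⟶ Y) (h : RepWith @IsClosedImmersion f) :
    LocP @LocallyOfFiniteType f :=
  locP_of_repWith isEtLocal_locallyOfFiniteType f
    (repWith_mono (fun _ _ g hg => by
      have : IsClosedImmersion g := hg
      exact inferInstanceAs (LocallyOfFiniteType g)) h)

theorem lft_of_imm {X Y : Sp S} (f : X ⟶ Y) (h : RepWith @IsImmersion f) :
    LocP @LocallyOfFiniteType f :=
  locP_of_repWith isEtLocal_locallyOfFiniteType f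
    (repWith_mono (fun _ _ g hg => by
      have : IsImmersion g := hg
      exact inferInstanceAs (LocallyOfFiniteType g)) h)

theorem lft_of_finite {X Y : Sp S} (f : X ⟶ Y) (h : IsFiniteMor f) :
    LocP @LocallyOfFiniteType f :=
  (PropQF.proper_lqf_of_isFiniteMor f h).1.2.1.1

include hi hj w hcart in
theorem main_fo (hfo : IsFinThickMor i.hom) :
    (RepWith @IsClosedImmersion f.hom ↔ RepWith @IsClosedImmersion f'.hom) ∧
    (IsProperMor f.hom ↔ IsProperMor f'.hom) ∧
    (IsFiniteMor f.hom ↔ IsFiniteMor f'.hom) ∧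
    (RepWith @IsImmersion f.hom ↔ RepWith @IsImmersion f'.hom) := by
  have hl : LocP @LocallyOfFiniteType f.hom ↔ LocP @LocallyOfFiniteType f'.hom :=
    (Groth.Agent.S10591.result i j f f' hi hj w hcart hfo 0).2.1
  refine ⟨⟨fun h => ?_, fun h => MorphismProperty.of_isPullback hcart h⟩,
    ⟨fun h => ?_, proper_down i j f f' hcart⟩,
    ⟨fun h => ?_, finite_down i j f f' hcart⟩,
    ⟨fun h => ?_, fun h => MorphismProperty.of_isPullback hcart h⟩⟩
  · have h1 := lft_of_closed f.hom h
    exact closed_up i j f f' hi hj w hcart h1 (hl.1 h1) h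
  · exact proper_up i j f f' hi hj w (hl.1 h.2.1.1) h
  · have h1 := lft_of_finite f.hom h
    exact finite_up i j f f' hi hj w hcart h1 (hl.1 h1) h
  · have h1 := lft_of_imm f.hom h
    exact imm_up i j f f' hi hj w hcart h1 (hl.1 h1) h

end

end Groth.Agent.Lib.Helper15.ThickGlobal
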