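import Groth.Agent.Lib.Helper15.ThickGlobal3
import Groth.Agent.Lib.Helper15.AlgSpDeform
import Groth.Agent.Lib.Helper15.EtCoverDesc
import Groth.Agent.S10596

set_option autoImplicit false
universe u
open CategoryTheory CategoryTheory.Limits AlgebraicGeometry
open AlgSp

namespace Groth.Agent.Lib.Helper15.ThickGlobal
open Groth.Agent.Lib.Helper3 Groth.Agent.Lib.Helper15.AlgSpThick
set_option backward.isDefEq.respectTransparency.types false

variable {S : Scheme.{u}}

section
variable {X X' Y Y' B B' : AlgSp.Space S} (iX : X ⟶ X') (iY : Y ⟶ Y') (iB : B ⟶ B')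
    (f : X ⟶ Y) (f' : X' ⟶ Y') (g : Y ⟶ B) (g' : Y' ⟶ B')
    (hcX : IsPullback iX.hom (f ≫ g).hom (f' ≫ g').hom iB.hom)
    (hcY : IsPullback iY.hom g.hom g'.hom iB.hom)
    (w : iX ≫ f' = f ≫ iY)

include hcX hcY w in
theorem thick_of_deform (hB : IsThickMor iB.hom) :
    IsThickMor iX.hom ∧ IsThickMor iY.hom ∧ IsPullback iX.hom f.hom f'.hom iY.hom := by
  have hiY : IsThickMor iY.hom :=
    MorphismProperty.of_isPullback (P := RepWith AlgSp.thick) hcY.flip hB
  have hL := AlgSpDeform.isPullback_left iX iY iB f f' g g' hcX hcY w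
  have hiX : IsThickMor iX.hom :=
    MorphismProperty.of_isPullback (P := RepWith AlgSp.thick) hL.flip hiY
  exact ⟨hiX, hiY, hL⟩

include hcX hcY w in
theorem deform_finite (hB : IsFinThickMor iB.hom) (hflat : LocP @Flat (f' ≫ g').hom) :
    IsFiniteMor f.hom ↔ IsFiniteMor f'.hom := by
  obtain ⟨hiX, hiY, hL⟩ := thick_of_deform iX iY iB f f' g g' hcX hcY w hB.choose_spec.1
  have hl : LocP @LocallyOfFiniteType f.hom ↔ LocP @LocallyOfFiniteType f'.hom :=
    (Groth.Agent.S10596.result iX iY iB f f' g g' hcX hcY w hB hflat 0).2.2.1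
  refine ⟨fun h => ?_, finite_down iX iY f f' hL⟩
  have h1 := lft_of_finite f.hom h
  exact finite_up iX iY f f' hiX hiY w hL h1 (hl.1 h1) h

include hcX hcY w in
theorem deform_fp_proper_finite (hB : IsThickMor iB.hom)
    (hfp : LocP @LocallyOfFinitePresentation (f' ≫ g').hom) :
    (IsProperMor f.hom ↔ IsProperMor f'.hom) ∧ (IsFiniteMor f.hom ↔ IsFiniteMor f'.hom) := by
  obtain ⟨hiX, hiY, hL⟩ := thick_of_deform iX iY iB f f' g g' hcX hcY w hB
  have hft'' : LocP @LocallyOfFiniteType (f'.hom ≫ g'.hom) := by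
    intro U V a b h ha hb ww
    have : LocallyOfFinitePresentation h.left := hfp a b h ha hb ww
    exact inferInstanceAs (LocallyOfFiniteType h.left)
  have hft' : LocP @LocallyOfFiniteType f'.hom :=
    EtCoverDesc.locP_lft_of_comp X'.property Y'.property B'.property f'.hom g'.hom hft''
  have hft : LocP @LocallyOfFiniteType f.hom :=
    locP_of_isPullback isEtLocal_locallyOfFiniteType X'.property Y'.property Y.property X.property
      f'.hom iY.hom iX.hom f.hom hL hft'
  have := main_lft iX iY f f' hiX hiY w hL hft hft'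
  exact ⟨this.2.2.2, this.1⟩

end

end Groth.Agent.Lib.Helper15.ThickGlobal
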