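import Groth.Agent.Lib.Helper15.ThickGlobal4
import Groth.Agent.Lib.Helper3.AlgSpEtMono
import Groth.Agent.Lib.Helper3.AlgSpLocP5
import Groth.Agent.Lib.Helper3.AlgSpFpqcLocal
import Groth.Agent.S9906
import Groth.Agent.S9928
import Groth.Agent.S9937

set_option autoImplicit false
universe u
open CategoryTheory CategoryTheory.Limits AlgebraicGeometry
open AlgSp

namespace Groth.Agent.Lib.Helper15.ThickGlobal
open Groth.Agent.Lib.Helper3 Groth.Agent.Lib.Helper15.AlgSpThick
set_option backward.isDefEq.respectTransparency.types false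

variable {S : Scheme.{u}}

theorem etale_of_openImm {X Y : Sp S} (hX : IsAlgSpace X) (hY : IsAlgSpace Y) (f : X ⟶ Y)
    (h : RepWith @IsOpenImmersion f) : IsEtaleMor f :=
  (isEtaleMor_iff_locP_etale hX hY).2 (locP_of_repWith isEtLocal_etale f
    (repWith_mono (fun _ _ g hg => by
      have : IsOpenImmersion g := hg
      exact inferInstanceAs (Etale g)) h))

theorem univInj_of_openImm {X Y : Sp S} (f : X ⟶ Y)
    (h : RepWith @IsOpenImmersion f) : IsUnivInjectiveMor f := by
  have : Mono f := Groth.Agent.S9928.mono_of_repWith @IsOpenImmersion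
    (fun g hg => by have : IsOpenImmersion g := hg; infer_instance) f h
  exact isUnivInjectiveMor_of_mono f

theorem isIso_of_openImm_surjective {X Y : AlgSp.Space S} (f : X ⟶ Y)
    (h : RepWith @IsOpenImmersion f.hom) (hs : IsSurjectiveMor f.hom) : IsIso f.hom := by
  have h2 : RepWith @Surjective f.hom := (Groth.Agent.S9906.result f h.rep).2 hs
  apply isIso_of_repWith_isomorphisms
  refine ⟨h.rep, fun T W g fst snd sq => ?_⟩
  have h3 : IsOpenImmersion snd.left := h.property g fst snd sq
  have h4 : Surjective snd.left := h2.property g fst snd sq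
  exact (isIso_iff_isOpenImmersion_and_surjective snd.left).2 ⟨h3, h4⟩

section
variable {X X' Y Y' B B' : AlgSp.Space S} (iX : X ⟶ X') (iY : Y ⟶ Y') (iB : B ⟶ B')
    (f : X ⟶ Y) (f' : X' ⟶ Y') (g : Y ⟶ B) (g' : Y' ⟶ B')
    (hcX : IsPullback iX.hom (f ≫ g).hom (f' ≫ g').hom iB.hom)
    (hcY : IsPullback iY.hom g.hom g'.hom iB.hom)
    (w : iX ≫ f' = f ≫ iY)

include hcX hcY w in
/-- open immersions deform, given that etaleness does -/
theorem openImm_up (hB : IsThickMor iB.hom)
    (het : IsEtaleMor f.hom → IsEtaleMor f'.hom)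
    (h : RepWith @IsOpenImmersion f.hom) : RepWith @IsOpenImmersion f'.hom := by
  obtain ⟨hiX, hiY, hL⟩ := thick_of_deform iX iY iB f f' g g' hcX hcY w hB
  have h1 := het (etale_of_openImm X.property Y.property f.hom h)
  have h2 := (Groth.Agent.S10587.result iX iY f f' hiX hiY w).2.2.2.1.1 (univInj_of_openImm f.hom h)
  exact repWith_isOpenImmersion_of_etale_univInjective X'.property Y'.property f'.hom h1 h2

include hcX hcY w in
theorem iso_up (hB : IsThickMor iB.hom)
    (het : IsEtaleMor f.hom → IsEtaleMor f'.hom)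
    (h : IsIso f.hom) : IsIso f'.hom := by
  obtain ⟨hiX, hiY, hL⟩ := thick_of_deform iX iY iB f f' g g' hcX hcY w hB
  have h0 : RepWith @IsOpenImmersion f.hom :=
    Groth.Agent.S9937.repWith_of_isIso @IsOpenImmersion (fun g _ => inferInstance) f.hom
  have hs0 : IsSurjectiveMor f.hom := isSurjectiveMor_of_repWith
    (Groth.Agent.S9937.repWith_of_isIso @Surjective (fun g _ => inferInstance) f.hom)
  have h1 := openImm_up iX iY iB f f' g g' hcX hcY w hB het h0
  have h2 := (Groth.Agent.S10587.result iX iY f f' hiX hiY w).1.1 hs0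
  exact isIso_of_openImm_surjective f' h1 h2

end

end Groth.Agent.Lib.Helper15.ThickGlobal
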