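import Groth.Agent.Lib.Helper15.ThickGlobal5
import Groth.Prelude.Def_AlgSpMor5

set_option autoImplicit false
universe u
open CategoryTheory CategoryTheory.Limits AlgebraicGeometry
open AlgSp

namespace Groth.Agent.Lib.Helper15.ThickGlobal
open Groth.Agent.Lib.Helper3 Groth.Agent.Lib.Helper15.AlgSpThick
set_option backward.isDefEq.respectTransparency.types false

variable {S : Scheme.{u}}

theorem finLocFree_of {X Y : Sp S} (hX : IsAlgSpace X) (hY : IsAlgSpace Y) (f : X ⟶ Y)
    (h1 : IsFiniteMor f) (h2 : LocP @Flat f) (h3 : LocP @LocallyOfFinitePresentation f) :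
    IsFinLocFreeMor f := by
  have r1 := (isFiniteMor_iff_repWith f).1 h1
  have r2 := repWith_of_locP isEtLocal_flat hX hY f r1.rep h2
  have r3 := repWith_of_locP isEtLocal_locallyOfFinitePresentation hX hY f r1.rep h3
  exact ⟨r1.rep, fun T W g fst snd sq =>
    ⟨r1.property g fst snd sq, r2.property g fst snd sq, r3.property g fst snd sq⟩⟩

theorem of_finLocFree {X Y : Sp S} (f : X ⟶ Y) (h : IsFinLocFreeMor f) :
    IsFiniteMor f ∧ LocP @Flat f ∧ LocP @LocallyOfFinitePresentation f :=
  ⟨(isFiniteMor_iff_repWith f).2 (repWith_mono (fun _ _ g hg => hg.1) h),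
    locP_of_repWith isEtLocal_flat f (repWith_mono (fun _ _ g hg => hg.2.1) h),
    locP_of_repWith isEtLocal_locallyOfFinitePresentation f
      (repWith_mono (fun _ _ g hg => hg.2.2) h)⟩

theorem finLocFree_of_deg {X Y : Sp S} (d : ℕ) (f : X ⟶ Y) (h : IsFinLocFreeOfDegMor d f) :
    IsFinLocFreeMor f := repWith_mono (fun _ _ g hg => hg.1) h

/-- the degree of a finite locally free morphism is detected on a thickening of the target -/
theorem deg_up {X X' Y Y' : Sp S} (i : X ⟶ X') (j : Y ⟶ Y') (f : X ⟶ Y) (f' : X' ⟶ Y')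
    (hj : IsThickMor j) (hcart : IsPullback i f f' j) (d : ℕ)
    (h' : IsFinLocFreeMor f') (h : IsFinLocFreeOfDegMor d f) : IsFinLocFreeOfDegMor d f' := by
  refine ⟨h'.rep, fun T' W' g' fst' k' sq' => ?_⟩
  obtain ⟨T, W, iT, iW, k, g, a, hT, sqS, sqL⟩ :=
    exists_thick_rep i j f f' hj hcart g' fst' k' sq'
  have hk' : Mor2.IsFinLocFree k'.left := h'.property g' fst' k' sq'
  have hk : Mor2.IsFinLocFreeOfDeg d k.left := h.property g a k sqL
  have key : ∀ y : T'.left, Scheme.Hom.finrank k'.left y = d := by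
    intro y
    haveI := hT.2
    obtain ⟨t, rfl⟩ := iT.left.surjective y
    haveI := hk'.1
    haveI := hk'.2.1
    rw [← Scheme.Hom.finrank_of_isPullback iW.left k.left k'.left iT.left sqS t]
    exact hk.2 t
  exact ⟨hk', key⟩

section
variable {X X' Y Y' B B' : AlgSp.Space S} (iX : X ⟶ X') (iY : Y ⟶ Y') (iB : B ⟶ B')
    (f : X ⟶ Y) (f' : X' ⟶ Y') (g : Y ⟶ B) (g' : Y' ⟶ B')
    (hcX : IsPullback iX.hom (f ≫ g).hom (f' ≫ g').hom iB.hom)
    (hcY : IsPullback iY.hom g.hom g'.hom iB.hom)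
    (w : iX ≫ f' = f ≫ iY)

include hcX hcY w in
/-- the deformation datum of the diagonal -/
theorem exists_diag_data :
    ∃ (P P' : AlgSp.Space S) (iP : P ⟶ P') (δ : X ⟶ P) (δ' : X' ⟶ P') (π : P ⟶ B) (π' : P' ⟶ B'),
      (δ ≫ π).hom = (f ≫ g).hom ∧ (δ' ≫ π').hom = (f' ≫ g').hom ∧
      IsPullback iP.hom π.hom π'.hom iB.hom ∧ iX ≫ δ' = δ ≫ iP ∧
      (IsIso δ.hom ↔ Mono f.hom) ∧ (IsIso δ'.hom ↔ Mono f'.hom) ∧
      (LocP @LocallyOfFiniteType f'.hom → LocP @LocallyOfFiniteType g'.hom →
        LocP @LocallyOfFiniteType π'.hom) := by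
  have hL := AlgSpDeform.isPullback_left iX iY iB f f' g g' hcX hcY w
  have w' : iX.hom ≫ f'.hom = f.hom ≫ iY.hom := hL.w
  let P : AlgSp.Space S := ⟨pullback f.hom f.hom,
    isAlgSpace_of_isPullback' Y.property X.property X.property (IsPullback.of_hasPullback _ _)⟩
  let P' : AlgSp.Space S := ⟨pullback f'.hom f'.hom,
    isAlgSpace_of_isPullback' Y'.property X'.property X'.property (IsPullback.of_hasPullback _ _)⟩
  let iP₀ : pullback f.hom f.hom ⟶ pullback f'.hom f'.hom :=
    pullback.map f.hom f.hom f'.hom f'.hom iX.hom iX.hom iY.hom w'.symm w'.symm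
  have hP := IsPullback.of_hasPullback f.hom f.hom
  have hP' := IsPullback.of_hasPullback f'.hom f'.hom
  have e1 : iP₀ ≫ pullback.fst f'.hom f'.hom = pullback.fst f.hom f.hom ≫ iX.hom :=
    pullback.lift_fst _ _ _
  have e2 : iP₀ ≫ pullback.snd f'.hom f'.hom = pullback.snd f.hom f.hom ≫ iX.hom :=
    pullback.lift_snd _ _ _
  have big1 : IsPullback (pullback.fst f.hom f.hom ≫ iX.hom) (pullback.snd f.hom f.hom) f'.hom
      (f.hom ≫ iY.hom) := hP.paste_horiz hL
  rw [← w', ← e1] at big1
  have left : IsPullback iP₀ (pullback.snd f.hom f.hom) (pullback.snd f'.hom f'.hom) iX.hom :=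
    IsPullback.of_right big1 e2 hP'
  have sqP : IsPullback iP₀ ((pullback.snd f.hom f.hom ≫ f.hom) ≫ g.hom)
      ((pullback.snd f'.hom f'.hom ≫ f'.hom) ≫ g'.hom) iB.hom :=
    (left.paste_vert hL).paste_vert hcY
  refine ⟨P, P', ObjectProperty.homMk iP₀, ObjectProperty.homMk (pullback.diagonal f.hom),
    ObjectProperty.homMk (pullback.diagonal f'.hom),
    ObjectProperty.homMk ((pullback.snd f.hom f.hom ≫ f.hom) ≫ g.hom),
    ObjectProperty.homMk ((pullback.snd f'.hom f'.hom ≫ f'.hom) ≫ g'.hom), ?_, ?_, sqP, ?_,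
    pullback.isIso_diagonal_iff f.hom, pullback.isIso_diagonal_iff f'.hom, ?_⟩
  · change pullback.diagonal f.hom ≫ (pullback.snd f.hom f.hom ≫ f.hom) ≫ g.hom = f.hom ≫ g.hom
    rw [← Category.assoc, ← Category.assoc, pullback.diagonal_snd, Category.id_comp]
  · change pullback.diagonal f'.hom ≫ (pullback.snd f'.hom f'.hom ≫ f'.hom) ≫ g'.hom =
      f'.hom ≫ g'.hom
    rw [← Category.assoc, ← Category.assoc, pullback.diagonal_snd, Category.id_comp]
  · apply ObjectProperty.hom_ext
    change iX.hom ≫ pullback.diagonal f'.hom = pullback.diagonal f.hom ≫ iP₀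
    apply pullback.hom_ext
    · rw [Category.assoc, pullback.diagonal_fst, Category.comp_id, Category.assoc, e1,
        ← Category.assoc, pullback.diagonal_fst, Category.id_comp]
    · rw [Category.assoc, pullback.diagonal_snd, Category.comp_id, Category.assoc, e2,
        ← Category.assoc, pullback.diagonal_snd, Category.id_comp]
  · intro hf' hg'
    have h1 : LocP @LocallyOfFiniteType (pullback.snd f'.hom f'.hom) :=
      locP_of_isPullback isEtLocal_locallyOfFiniteType X'.property Y'.property X'.property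
        P'.property f'.hom f'.hom (pullback.fst f'.hom f'.hom) (pullback.snd f'.hom f'.hom) hP' hf'
    exact locP_comp isEtLocal_locallyOfFiniteType P'.property Y'.property B'.property _ _
      (locP_comp isEtLocal_locallyOfFiniteType P'.property X'.property Y'.property _ _ h1 hf') hg'

end

end Groth.Agent.Lib.Helper15.ThickGlobal
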