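import Groth.Agent.Lib.Helper15.ThickGlobal6
import Groth.Agent.S10599

set_option autoImplicit false
universe u
open CategoryTheory CategoryTheory.Limits AlgebraicGeometry
open AlgSp

namespace Groth.Agent.Lib.Helper15.ThickGlobal
open Groth.Agent.Lib.Helper3 Groth.Agent.Lib.Helper15.AlgSpThick
set_option backward.isDefEq.respectTransparency.types false

variable {S : Scheme.{u}}

section
variable {X X' Y Y' B B' : AlgSp.Space S} (iX : X ⟶ X') (iY : Y ⟶ Y') (iB : B ⟶ B')
    (f : X ⟶ Y) (f' : X' ⟶ Y') (g : Y ⟶ B) (g' : Y' ⟶ B')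
    (hcX : IsPullback iX.hom (f ≫ g).hom (f' ≫ g').hom iB.hom)
    (hcY : IsPullback iY.hom g.hom g'.hom iB.hom)
    (w : iX ≫ f' = f ≫ iY)

include hcX hcY w in
theorem main_deform_fo (hB : IsFinThickMor iB.hom) (hflat : LocP @Flat (f' ≫ g').hom) :
    (IsIso f.hom ↔ IsIso f'.hom) ∧
    (RepWith @IsOpenImmersion f.hom ↔ RepWith @IsOpenImmersion f'.hom) ∧
    (Mono f.hom ↔ Mono f'.hom) ∧
    (IsFinLocFreeMor f.hom ↔ IsFinLocFreeMor f'.hom) ∧
    (∀ d : ℕ, IsFinLocFreeOfDegMor d f.hom ↔ IsFinLocFreeOfDegMor d f'.hom) := by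
  have hBt : IsThickMor iB.hom := hB.choose_spec.1
  obtain ⟨hiX, hiY, hL⟩ := thick_of_deform iX iY iB f f' g g' hcX hcY w hBt
  have R := Groth.Agent.S10596.result iX iY iB f f' g g' hcX hcY w hB hflat 0
  have het : IsEtaleMor f.hom → IsEtaleMor f'.hom := R.2.2.2.2.2.2.2.1
  have hfl : IsFinLocFreeMor f.hom → IsFinLocFreeMor f'.hom := fun h => by
    obtain ⟨a, b, c⟩ := of_finLocFree f.hom h
    exact finLocFree_of X'.property Y'.property f'.hom
      ((deform_finite iX iY iB f f' g g' hcX hcY w hB hflat).1 a) (R.2.1.1 b) (R.2.2.2.2.1.1 c)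
  refine ⟨⟨iso_up iX iY iB f f' g g' hcX hcY w hBt het, fun h => hL.isIso_snd_of_isIso h⟩,
    ⟨openImm_up iX iY iB f f' g g' hcX hcY w hBt het,
      fun h => MorphismProperty.of_isPullback hL h⟩,
    ⟨fun h => ?_, fun h => hL.mono_snd_of_mono h⟩,
    ⟨hfl, fun h => MorphismProperty.of_isPullback (P := RepWith finLocFree) hL h⟩,
    fun d => ⟨fun h => deg_up iX.hom iY.hom f.hom f'.hom hiY hL d
        (hfl (finLocFree_of_deg d f.hom h)) h,
      fun h => MorphismProperty.of_isPullback (P := RepWith (finLocFreeOfDeg d)) hL h⟩⟩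
  -- monomorphisms, through the diagonal
  obtain ⟨P, P', iP, δ, δ', π, π', e, e', sqP, wP, m, m', -⟩ :=
    exists_diag_data iX iY iB f f' g g' hcX hcY w
  have hcX' : IsPullback iX.hom (δ ≫ π).hom (δ' ≫ π').hom iB.hom := by rw [e, e']; exact hcX
  have hflat' : LocP @Flat (δ' ≫ π').hom := by rw [e']; exact hflat
  have R' := Groth.Agent.S10596.result iX iP iB δ δ' π π' hcX' sqP wP hB hflat' 0
  exact m'.1 (iso_up iX iP iB δ δ' π π' hcX' sqP wP hBt R'.2.2.2.2.2.2.2.1 (m.2 h))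

include hcX hcY w in
theorem main_deform_fp (hB : IsThickMor iB.hom) (hg' : LocP @LocallyOfFiniteType g'.hom)
    (hflat : LocP @Flat (f' ≫ g').hom) (hfp : LocP @LocallyOfFinitePresentation (f' ≫ g').hom) :
    (IsIso f.hom ↔ IsIso f'.hom) ∧
    (RepWith @IsOpenImmersion f.hom ↔ RepWith @IsOpenImmersion f'.hom) ∧
    (Mono f.hom ↔ Mono f'.hom) ∧
    (IsFinLocFreeMor f.hom ↔ IsFinLocFreeMor f'.hom) ∧
    (∀ d : ℕ, IsFinLocFreeOfDegMor d f.hom ↔ IsFinLocFreeOfDegMor d f'.hom) := by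
  obtain ⟨hiX, hiY, hL⟩ := thick_of_deform iX iY iB f f' g g' hcX hcY w hB
  have R := Groth.Agent.S10599.result iX iY iB f f' g g' hcX hcY w hB hg' hflat hfp 0
  have het : IsEtaleMor f.hom → IsEtaleMor f'.hom := R.2.2.2.2.2.1
  have hft'' : LocP @LocallyOfFiniteType (f'.hom ≫ g'.hom) := by
    intro U V a b h ha hb ww
    have : LocallyOfFinitePresentation h.left := hfp a b h ha hb ww
    exact inferInstanceAs (LocallyOfFiniteType h.left)
  have hft' : LocP @LocallyOfFiniteType f'.hom :=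
    EtCoverDesc.locP_lft_of_comp X'.property Y'.property B'.property f'.hom g'.hom hft''
  have hlfp' : LocP @LocallyOfFinitePresentation f'.hom :=
    EtCoverDesc.locP_lfp_of_comp X'.property Y'.property B'.property f'.hom g'.hom hfp hg'
  have hfl : IsFinLocFreeMor f.hom → IsFinLocFreeMor f'.hom := fun h => by
    obtain ⟨a, b, c⟩ := of_finLocFree f.hom h
    exact finLocFree_of X'.property Y'.property f'.hom
      ((deform_fp_proper_finite iX iY iB f f' g g' hcX hcY w hB hfp).2.1 a) (R.2.1.1 b) hlfp'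
  refine ⟨⟨iso_up iX iY iB f f' g g' hcX hcY w hB het, fun h => hL.isIso_snd_of_isIso h⟩,
    ⟨openImm_up iX iY iB f f' g g' hcX hcY w hB het,
      fun h => MorphismProperty.of_isPullback hL h⟩,
    ⟨fun h => ?_, fun h => hL.mono_snd_of_mono h⟩,
    ⟨hfl, fun h => MorphismProperty.of_isPullback (P := RepWith finLocFree) hL h⟩,
    fun d => ⟨fun h => deg_up iX.hom iY.hom f.hom f'.hom hiY hL d
        (hfl (finLocFree_of_deg d f.hom h)) h,
      fun h => MorphismProperty.of_isPullback (P := RepWith (finLocFreeOfDeg d)) hL h⟩⟩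
  -- monomorphisms, through the diagonal
  obtain ⟨P, P', iP, δ, δ', π, π', e, e', sqP, wP, m, m', hπ⟩ :=
    exists_diag_data iX iY iB f f' g g' hcX hcY w
  have hcX' : IsPullback iX.hom (δ ≫ π).hom (δ' ≫ π').hom iB.hom := by rw [e, e']; exact hcX
  have hflat' : LocP @Flat (δ' ≫ π').hom := by rw [e']; exact hflat
  have hfp' : LocP @LocallyOfFinitePresentation (δ' ≫ π').hom := by rw [e']; exact hfp
  have R' := Groth.Agent.S10599.result iX iP iB δ δ' π π' hcX' sqP wP hB (hπ hft' hg') hflat' hfp' 0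
  exact m'.1 (iso_up iX iP iB δ δ' π π' hcX' sqP wP hB R'.2.2.2.2.2.1 (m.2 h))

end

end Groth.Agent.Lib.Helper15.ThickGlobal
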