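import Mathlib.LinearAlgebra.Dimension.Finite
import Mathlib.LinearAlgebra.LinearIndependent.Basic
import Mathlib.Algebra.Module.Torsion.Free
import Mathlib.RingTheory.Finiteness.Basic
import Mathlib.LinearAlgebra.Dual.Defs
import Mathlib.LinearAlgebra.FreeModule.StrongRankCondition

set_option autoImplicit false

namespace Groth.Agent.Lib.Helper15.TFE

universe u v

variable {R : Type u} [CommRing R] [IsDomain R] {M : Type v} [AddCommGroup M] [Module R M]

/-- Over a domain, a finite module contains a free submodule `F = span v` (with `v` linearly
independent) such that `s • M ⊆ F` for one nonzero `s`. -/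
theorem exists_linearIndependent_smul_mem [Module.Finite R M] :
    ∃ (n : ℕ) (v : Fin n → M) (s : R), LinearIndependent R v ∧ s ≠ 0 ∧
      ∀ m : M, s • m ∈ Submodule.span R (Set.range v) := by
  classical
  obtain ⟨v, hv⟩ := exists_linearIndependent_of_le_finrank (R := R) (M := M) le_rfl
  -- every element has a nonzero multiple in the span
  have hmul : ∀ m : M, ∃ c : R, c ≠ 0 ∧ c • m ∈ Submodule.span R (Set.range v) := by
    intro m
    by_contra hcon
    simp only [not_exists, not_and] at hcon
    have hli : LinearIndependent R (Fin.cons m v : Fin (Module.finrank R M).succ → M) := by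
      apply LinearIndependent.finCons' m v hv
      intro c y hy hcy
      by_contra hc
      apply hcon c hc
      have : c • m = -y := eq_neg_of_add_eq_zero_left hcy
      rw [this]
      exact neg_mem hy
    have := hli.fintype_card_le_finrank
    simp at this
  choose c hc0 hc using hmul
  obtain ⟨S, hS⟩ := (Module.Finite.fg_top : (⊤ : Submodule R M).FG)
  refine ⟨_, v, ∏ g ∈ S, c g, hv, Finset.prod_ne_zero_iff.mpr (fun g _ => hc0 g), ?_⟩
  intro m
  have hm : m ∈ Submodule.span R (S : Set M) := by rw [hS]; trivial
  induction hm using Submodule.span_induction with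
  | mem x hx =>
    have hx' : x ∈ S := hx
    rw [← Finset.mul_prod_erase S c hx', mul_comm, mul_smul]
    exact Submodule.smul_mem _ _ (hc x)
  | zero => rw [smul_zero]; exact zero_mem _
  | add x y _ _ hx hy => rw [smul_add]; exact add_mem hx hy
  | smul a x _ hx => rw [smul_comm]; exact Submodule.smul_mem _ _ hx

/-- A finite torsion-free module over a domain embeds into a finite free module. -/
theorem exists_injective_of_isTorsionFree [Module.Finite R M] [Module.IsTorsionFree R M] :
    ∃ (n : ℕ) (f : M →ₗ[R] (Fin n → R)), Function.Injective f := by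
  classical
  obtain ⟨n, v, s, hv, hs, hmem⟩ := exists_linearIndependent_smul_mem (R := R) (M := M)
  -- multiplication by s into the span, then coordinates
  let g : M →ₗ[R] Submodule.span R (Set.range v) :=
    LinearMap.codRestrict _ (LinearMap.lsmul R M s) hmem
  have hg : Function.Injective g := by
    intro x y hxy
    have : s • x = s • y := congrArg Subtype.val hxy
    exact smul_right_injective M hs this
  refine ⟨n, (Finsupp.linearEquivFunOnFinite R R (Fin n)).toLinearMap ∘ₗ
    hv.repr ∘ₗ g, ?_⟩
  simp only [LinearMap.coe_comp, LinearEquiv.coe_coe]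
  exact (LinearEquiv.injective _).comp ((LinearMap.ker_eq_bot.mp hv.repr_ker).comp hg)

end Groth.Agent.Lib.Helper15.TFE
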