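import Groth.Agent.Lib.Helper18.PairPt.Main
import Groth.Agent.Lib.lead.FibreDimFormula
import Groth.Agent.Lib.lead.FibreDimBCLocal

set_option autoImplicit false
set_option linter.style.haveILetI false
universe u
open AlgebraicGeometry CategoryTheory Limits IsLocalRing

namespace Groth.Agent.Lib.Helper15.TrdegBC

open Groth.Agent.Lib.Helper18.PairPt

variable {X S S' X' : Scheme.{u}}

/-- The transcendence degree of the residue field extension does not increase under base
change. -/
theorem resTrdeg_le_of_isPullback (f : X ⟶ S) (g : S' ⟶ S) (f' : X' ⟶ S') (g' : X' ⟶ X)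
    (hX : IsPullback g' f' f g) (x' : X') :
    Dual3.resTrdeg f' x' ≤ Dual3.resTrdeg f (g' x') := by
  -- the two canonical points
  obtain ⟨vx, hvx⟩ : ∃ vx : Spec (CommRingCat.of (X.residueField (g' x'))) ⟶ X,
    vx = X.fromSpecResidueField (g' x') := ⟨_, rfl⟩
  obtain ⟨v₁, hv₁⟩ : ∃ v₁ : Spec (CommRingCat.of (X'.residueField x')) ⟶ X',
    v₁ = X'.fromSpecResidueField x' := ⟨_, rfl⟩
  have htx : imgField vx = ⊤ := by rw [hvx]; exact imgField_fromSpecResidueField _
  have ht₁ : imgField v₁ = ⊤ := by rw [hv₁]; exact imgField_fromSpecResidueField _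
  have hsx : spt vx = g' x' := by rw [hvx]; exact spt_fromSpecResidueField _
  have hs₁ : spt v₁ = x' := by rw [hv₁]; exact spt_fromSpecResidueField _
  have h₁ : g' (spt v₁) = spt vx := by rw [hs₁, hsx]
  obtain ⟨ι, t, hcard, ht⟩ := exists_basis vx f htx
  obtain ⟨φ, hφ⟩ := exists_hom_of_spt_eq' vx htx (v₁ ≫ g') h₁
  have hle : (imgField (vx ≫ f)).map φ ≤ imgField (v₁ ≫ f') := by
    have e1 : imgField ((v₁ ≫ f') ≫ g) ≤ imgField (v₁ ≫ f') := imgField_comp_le (v₁ ≫ f') g
    have e2 : (v₁ ≫ f') ≫ g = Spec.map (CommRingCat.ofHom φ) ≫ (vx ≫ f) := by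
      rw [Category.assoc, ← hX.w, ← Category.assoc, hφ, Category.assoc]
    rw [e2, imgField_SpecMap_comp] at e1
    exact e1
  have hmem : ∀ c ∈ imgField (vx ≫ f), φ c ∈ imgField (v₁ ≫ f') :=
    fun c hc => hle ⟨c, hc, rfl⟩
  have htop : (⊤ : Subfield (X'.residueField x')) = φ.fieldRange ⊔ imgField (v₁ ≫ f') := by
    have e1 := imgField_of_isPullback hX v₁
    rw [ht₁, hφ, imgField_SpecMap_comp, htx, ← RingHom.fieldRange_eq_map] at e1
    exact e1
  have hspan : ∀ z : X'.residueField x',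
      IsAlgebraic (Algebra.adjoin (imgField (v₁ ≫ f')) (Set.range (φ ∘ t))) z := by
    intro z
    have hz : z ∈ φ.fieldRange ⊔ imgField (v₁ ≫ f') := by rw [← htop]; trivial
    refine isAlgebraic_of_mem_sup (imgField (v₁ ≫ f')) φ.fieldRange (φ ∘ t) ?_ z hz
    rintro _ ⟨a, rfl⟩
    have ha : IsAlgebraic (Algebra.adjoin (imgField (vx ≫ f)) (Set.range t)) a :=
      ((ht.1.isTranscendenceBasis_iff_isAlgebraic).1 ht).isAlgebraic a
    exact isAlgebraic_adjoin_map (φ.restrict (imgField (vx ≫ f)) (imgField (v₁ ≫ f')) hmem) φ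
      (by ext c; rfl) t φ.injective ha
  haveI : Algebra.IsAlgebraic (Algebra.adjoin (imgField (v₁ ≫ f')) (Set.range (φ ∘ t)))
      (X'.residueField x') := ⟨hspan⟩
  obtain ⟨ι', t', hcard', hb⟩ := exists_basis v₁ f' ht₁
  have htr : Algebra.trdeg (imgField (v₁ ≫ f')) (X'.residueField x') ≤ Cardinal.mk ι :=
    (Algebra.IsAlgebraic.trdeg_le_cardinalMk (imgField (v₁ ≫ f')) (Set.range (φ ∘ t))).trans
      Cardinal.mk_range_le
  have key : Dual3.resTrdeg f' (spt v₁) ≤ Dual3.resTrdeg f (spt vx) := by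
    rw [← hcard', hb.cardinalMk_eq_trdeg, ← hcard]
    exact htr
  rw [hs₁, hsx] at key
  exact key


/-- A field containing `Kx` and `k'` over `k` in which a transcendence basis of `Kx / k` stays
algebraically independent over `k'`. -/
theorem exists_field_indep {k Kx k' : Type u} [Field k] [Field Kx] [Field k'] [Algebra k Kx]
    [Algebra k k'] {ι : Type u} (t : ι → Kx) (ht : IsTranscendenceBasis k t) :
    ∃ (Ω : Type u) (_ : Field Ω) (j₁ : Kx →+* Ω) (j₂ : k' →+* Ω),
      j₁.comp (algebraMap k Kx) = j₂.comp (algebraMap k k') ∧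
        AlgebraicIndependent j₂.fieldRange (j₁ ∘ t) := by
  classical
  let P' := MvPolynomial ι k'
  let F' := FractionRing P'
  let Ω := AlgebraicClosure F'
  let R := MvPolynomial ι k
  let ψ : R →+* Ω := (algebraMap F' Ω).comp ((algebraMap P' F').comp
    (MvPolynomial.map (algebraMap k k')))
  have hψinj : Function.Injective ψ := by
    refine (algebraMap F' Ω).injective.comp ((IsFractionRing.injective P' F').comp ?_)
    exact MvPolynomial.map_injective _ (algebraMap k k').injective
  letI algKx : Algebra R Kx := (MvPolynomial.aeval t : R →ₐ[k] Kx).toRingHom.toAlgebra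
  letI algΩ : Algebra R Ω := ψ.toAlgebra
  have hinjKx : Function.Injective (algebraMap R Kx) := ht.1
  haveI : Module.IsTorsionFree R Kx := Module.isTorsionFree_iff_algebraMap_injective.2 hinjKx
  haveI : Module.IsTorsionFree R Ω := Module.isTorsionFree_iff_algebraMap_injective.2 hψinj
  haveI : Algebra.IsAlgebraic R Kx := ⟨fun a =>
    isAlgebraic_mvPolynomial_of_adjoin t a
      (((ht.1.isTranscendenceBasis_iff_isAlgebraic).1 ht).isAlgebraic a)⟩
  let J : Kx →ₐ[R] Ω := IsAlgClosed.lift
  let j₂ : k' →+* Ω := (algebraMap F' Ω).comp ((algebraMap P' F').comp MvPolynomial.C)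
  refine ⟨Ω, inferInstance, J.toRingHom, j₂, ?_, ?_⟩
  · ext c
    have h1 : algebraMap k Kx c = algebraMap R Kx (MvPolynomial.C c) := by
      show _ = MvPolynomial.aeval t (MvPolynomial.C c)
      rw [MvPolynomial.aeval_C]
    show J (algebraMap k Kx c) = j₂ (algebraMap k k' c)
    rw [h1, J.commutes]
    show ψ (MvPolynomial.C c) = _
    simp only [ψ, j₂, RingHom.comp_apply]
    rw [MvPolynomial.map_C]
  · have hJt : ∀ i, J (t i) = ψ (MvPolynomial.X i) := by
      intro i
      have h1 : t i = algebraMap R Kx (MvPolynomial.X i) := by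
        show _ = MvPolynomial.aeval t (MvPolynomial.X i)
        rw [MvPolynomial.aeval_X]
      rw [h1, J.commutes]
      rfl
    let θ : P' →+* Ω := (algebraMap F' Ω).comp (algebraMap P' F')
    have hθinj : Function.Injective θ :=
      (algebraMap F' Ω).injective.comp (IsFractionRing.injective P' F')
    letI : Algebra k' Ω := j₂.toAlgebra
    let θA : P' →ₐ[k'] Ω := ⟨θ, fun c => rfl⟩
    have h2 : AlgebraicIndependent k' (θA ∘ (MvPolynomial.X : ι → P')) :=
      (MvPolynomial.algebraicIndependent_X ι k').map' hθinj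
    have h3 : (J.toRingHom ∘ t) = θA ∘ (MvPolynomial.X : ι → P') := by
      funext i
      show J (t i) = θ (MvPolynomial.X i)
      rw [hJt i]
      show (algebraMap F' Ω) ((algebraMap P' F') (MvPolynomial.map (algebraMap k k')
        (MvPolynomial.X i))) = _
      rw [MvPolynomial.map_X]
      rfl
    rw [h3]
    have := algebraicIndependent_ringHom_iff_of_comp_eq (x := θA ∘ (MvPolynomial.X : ι → P'))
      (j₂.rangeRestrictFieldEquiv) (RingHom.id Ω) Function.injective_id
      (by ext c; rfl)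
    exact this.2 h2


/-- A point of a subfield-valued factorisation has full image field. -/
theorem imgField_eq_top_of_factor {Ω : Type u} [Field Ω] {Y : Scheme.{u}}
    (v : Spec (CommRingCat.of Ω) ⟶ Y) (v₀ : Spec (CommRingCat.of (imgField v)) ⟶ Y)
    (h : Spec.map (CommRingCat.ofHom (imgField v).subtype) ≫ v₀ = v) : imgField v₀ = ⊤ := by
  have h1 := imgField_SpecMap_comp (imgField v).subtype v₀
  rw [eq_top_iff]
  intro z _
  have hz : (z : Ω) ∈ imgField (Spec.map (CommRingCat.ofHom (imgField v).subtype) ≫ v₀) := by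
    rw [h]; exact z.2
  rw [h1] at hz
  obtain ⟨z', hz', hzz'⟩ := hz
  have : z' = z := Subtype.ext hzz'
  rw [← this]
  exact hz'

/-- Over a point of `X` and a point of `S'` with the same image there is a point of the fibre
product with the same residue transcendence degree. -/
theorem exists_point_resTrdeg_eq (f : X ⟶ S) (g : S' ⟶ S) (f' : X' ⟶ S') (g' : X' ⟶ X)
    (hX : IsPullback g' f' f g) (x : X) (s' : S') (h : f x = g s') :
    ∃ x' : X', g' x' = x ∧ f' x' = s' ∧ Dual3.resTrdeg f' x' = Dual3.resTrdeg f x := by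
  obtain ⟨vx, hvx⟩ : ∃ vx : Spec (CommRingCat.of (X.residueField x)) ⟶ X,
    vx = X.fromSpecResidueField x := ⟨_, rfl⟩
  obtain ⟨vs, hvs⟩ : ∃ vs : Spec (CommRingCat.of (S'.residueField s')) ⟶ S',
    vs = S'.fromSpecResidueField s' := ⟨_, rfl⟩
  have htx : imgField vx = ⊤ := by rw [hvx]; exact imgField_fromSpecResidueField _
  have hts : imgField vs = ⊤ := by rw [hvs]; exact imgField_fromSpecResidueField _
  have hsx : spt vx = x := by rw [hvx]; exact spt_fromSpecResidueField _
  have hss : spt vs = s' := by rw [hvs]; exact spt_fromSpecResidueField _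
  obtain ⟨ι, t, hcard, ht⟩ := exists_basis vx f htx
  -- the point of `S` with values in `κ`
  obtain ⟨v₀, hv₀⟩ := exists_factor (vx ≫ f) (imgField (vx ≫ f)) le_rfl
  have hv₀top : imgField v₀ = ⊤ := imgField_eq_top_of_factor _ v₀ hv₀
  have hs₀ : spt v₀ = f x := by
    have h1 := spt_SpecMap_comp (imgField (vx ≫ f)).subtype v₀
    rw [hv₀] at h1
    rw [← h1]
    show f (spt vx) = f x
    rw [hsx]
  have hsg : spt (vs ≫ g) = spt v₀ := by
    show g (spt vs) = spt v₀
    rw [hss, hs₀, h]
  obtain ⟨β, hβ⟩ := exists_hom_of_spt_eq' v₀ hv₀top (vs ≫ g) hsg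
  letI : Algebra (imgField (vx ≫ f)) (S'.residueField s') := β.toAlgebra
  obtain ⟨Ω, hΩ, j₁, j₂, hj, hind⟩ := exists_field_indep (k := imgField (vx ≫ f))
    (k' := S'.residueField s') t ht
  have hj' : ∀ c : imgField (vx ≫ f), j₁ (c : X.residueField x) = j₂ (β c) := fun c =>
    RingHom.congr_fun hj c
  obtain ⟨a, ha⟩ : ∃ a : Spec (CommRingCat.of Ω) ⟶ X,
    a = Spec.map (CommRingCat.ofHom j₁) ≫ vx := ⟨_, rfl⟩
  obtain ⟨b, hb⟩ : ∃ b : Spec (CommRingCat.of Ω) ⟶ S',
    b = Spec.map (CommRingCat.ofHom j₂) ≫ vs := ⟨_, rfl⟩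
  have hab : a ≫ f = b ≫ g := by
    rw [ha, hb, Category.assoc, Category.assoc, ← hv₀, hβ, ← Category.assoc, ← Category.assoc,
      ← Spec.map_comp, ← Spec.map_comp, ← CommRingCat.ofHom_comp, ← CommRingCat.ofHom_comp]
    congr 3
  obtain ⟨v, hva, hvb⟩ : ∃ v : Spec (CommRingCat.of Ω) ⟶ X', v ≫ g' = a ∧ v ≫ f' = b :=
    ⟨hX.lift a b hab, hX.lift_fst _ _ _, hX.lift_snd _ _ _⟩
  have hIa : imgField a = j₁.fieldRange := by
    rw [ha, imgField_SpecMap_comp, htx, ← RingHom.fieldRange_eq_map]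
  have hIb : imgField b = j₂.fieldRange := by
    rw [hb, imgField_SpecMap_comp, hts, ← RingHom.fieldRange_eq_map]
  have hIv : imgField v = j₁.fieldRange ⊔ imgField (v ≫ f') := by
    rw [imgField_of_isPullback hX v, hva, hIa]
  refine ⟨spt v, ?_, ?_, ?_⟩
  · show spt (v ≫ g') = x
    rw [hva, ha, spt_SpecMap_comp, hsx]
  · show spt (v ≫ f') = s'
    rw [hvb, hb, spt_SpecMap_comp, hss]
  · have hΛ : imgField (v ≫ f') = j₂.fieldRange := by rw [hvb, hIb]
    have hmemΛ : ∀ c ∈ imgField (vx ≫ f), j₁ c ∈ imgField (v ≫ f') := by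
      intro c hc
      rw [hΛ]
      exact ⟨β ⟨c, hc⟩, (hj' ⟨c, hc⟩).symm⟩
    have h1 : Dual3.resTrdeg f' (spt v) = Cardinal.mk ι := by
      refine resTrdeg_eq_card v f' (j₁ ∘ t) ?_ ?_ ?_
      · intro i
        rw [hIv]
        exact (le_sup_left : j₁.fieldRange ≤ _) ⟨t i, rfl⟩
      · rw [hΛ]
        exact hind
      · rw [hIv]
        refine isAlgebraic_of_mem_sup (imgField (v ≫ f')) j₁.fieldRange (j₁ ∘ t) ?_
        rintro _ ⟨a', rfl⟩
        have ha' : IsAlgebraic (Algebra.adjoin (imgField (vx ≫ f)) (Set.range t)) a' :=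
          ((ht.1.isTranscendenceBasis_iff_isAlgebraic).1 ht).isAlgebraic a'
        exact isAlgebraic_adjoin_map
          (j₁.restrict (imgField (vx ≫ f)) (imgField (v ≫ f')) hmemΛ) j₁
          (by ext c; rfl) t j₁.injective ha'
    rw [h1, hcard, hsx]


open Groth.Agent.Lib.lead Groth.Agent.Lib.Helper24 in
/-- In a base change square, fibre local ring dimension plus residue transcendence degree is
unchanged, and the fibre local ring dimension does not decrease. -/
theorem G_add_tr_baseChange (f : X ⟶ S) [LocallyOfFiniteType f] (g : S' ⟶ S) (f' : X' ⟶ S')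
    (g' : X' ⟶ X) (hX : IsPullback g' f' f g) (x' : X') :
    haveI : LocallyOfFiniteType f' := MorphismProperty.of_isPullback hX inferInstance
    (FibreOrder.G f' x' + (FibreDim.tr f' x' : ℕ∞) =
        FibreOrder.G f (g' x') + (FibreDim.tr f (g' x') : ℕ∞)) ∧
      FibreDim.tr f' x' ≤ FibreDim.tr f (g' x') ∧ FibreOrder.G f (g' x') ≤ FibreOrder.G f' x' := by
  haveI : LocallyOfFiniteType f' := MorphismProperty.of_isPullback hX inferInstance
  obtain ⟨b, hb⟩ := FibreDimFormula.exists_nat_G f (g' x')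
  obtain ⟨b', hb'⟩ := FibreDimFormula.exists_nat_G f' x'
  have h1 := FibreDimFormula.fibreDimAt_eq f (g' x') b hb
  have h2 := FibreDimFormula.fibreDimAt_eq f' x' b' hb'
  have h3 := FibreDimBCLocal.fibreDimAt_baseChange f g g' f' hX x'
  rw [h1, h2] at h3
  have h4 : FibreDim.tr f' x' + b' = FibreDim.tr f (g' x') + b := by
    exact_mod_cast h3
  have h5 : FibreDim.tr f' x' ≤ FibreDim.tr f (g' x') := by
    have := resTrdeg_le_of_isPullback f g f' g' hX x'
    unfold Dual3.resTrdeg at this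
    rw [FibreDim.tr_spec f' x', FibreDim.tr_spec f (g' x')] at this
    exact_mod_cast this
  rw [hb, hb']
  refine ⟨?_, h5, ?_⟩
  · have : ((b' + FibreDim.tr f' x' : ℕ) : ℕ∞) = ((b + FibreDim.tr f (g' x') : ℕ) : ℕ∞) := by
      rw [add_comm b', add_comm b, h4]
    exact_mod_cast this
  · have : b ≤ b' := by omega
    exact_mod_cast this

open Groth.Agent.Lib.lead Groth.Agent.Lib.Helper24 in
/-- Over a point of `X` and a point of `S'` with the same image there is a point of the fibre
product with the same fibre local ring dimension. -/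
theorem exists_point_G_eq (f : X ⟶ S) [LocallyOfFiniteType f] (g : S' ⟶ S) (f' : X' ⟶ S')
    (g' : X' ⟶ X) (hX : IsPullback g' f' f g) (x : X) (s' : S') (h : f x = g s') :
    ∃ x' : X', g' x' = x ∧ f' x' = s' ∧ FibreOrder.G f' x' = FibreOrder.G f x := by
  haveI : LocallyOfFiniteType f' := MorphismProperty.of_isPullback hX inferInstance
  obtain ⟨x', hx1, hx2, hx3⟩ := exists_point_resTrdeg_eq f g f' g' hX x s' h
  refine ⟨x', hx1, hx2, ?_⟩
  obtain ⟨h1, -, -⟩ := G_add_tr_baseChange f g f' g' hX x'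
  have h5 : FibreDim.tr f' x' = FibreDim.tr f (g' x') := by
    rw [← hx1] at hx3
    unfold Dual3.resTrdeg at hx3
    rw [FibreDim.tr_spec f' x', FibreDim.tr_spec f (g' x')] at hx3
    exact_mod_cast hx3
  rw [h5] at h1
  rw [← hx1]
  exact (ENat.add_left_injective_of_ne_top (ENat.natCast_ne_top _)) h1

end Groth.Agent.Lib.Helper15.TrdegBC
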