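import Mathlib

set_option autoImplicit false
universe u
open Polynomial PrimeSpectrum

namespace Groth.Agent.Lib.Helper15.UCInt1

variable {R S : Type*} [CommRing R] [CommRing S] (f : R →+* S)

/-- If the image of the hyperbola `r X = 1` in `Spec R[X]` is closed, then `r` is integral. -/
theorem isIntegralElem_of_isClosed_image (r : S)
    (h : IsClosed (comap (mapRingHom f) '' zeroLocus {(C r * X - 1 : S[X])})) :
    f.IsIntegralElem r := by
  algebraize [f]
  rcases subsingleton_or_nontrivial S with hS | hS
  · exact ⟨1, monic_one, Subsingleton.elim _ _⟩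
  haveI : Nontrivial R := f.domain_nontrivial
  let p : S[X] := C r * X - 1
  have : (1 : R[X]) ∈ Ideal.span {X} ⊔ (Ideal.span {p}).comap (mapRingHom f) := by
    have H := h
    rw [← zeroLocus_span, ← closure_eq_iff_isClosed, closure_image_comap_zeroLocus] at H
    rw [← Ideal.eq_top_iff_one, sup_comm, ← zeroLocus_empty_iff_eq_top, zeroLocus_sup, H]
    suffices ∀ (a : PrimeSpectrum S[X]), p ∈ a.asIdeal → X ∉ a.asIdeal by
      simpa [Set.eq_empty_iff_forall_notMem]
    intro q hpq hXq
    have : 1 ∈ q.asIdeal := by simpa [p] using! (sub_mem (q.asIdeal.mul_mem_left (C r) hXq) hpq)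
    exact q.2.ne_top (q.asIdeal.eq_top_iff_one.mpr this)
  obtain ⟨a, b, hb, e⟩ := Ideal.mem_span_singleton_sup.mp this
  obtain ⟨c, hc : b.map f = _⟩ := Ideal.mem_span_singleton.mp hb
  refine ⟨b.reverse * X ^ (1 + c.natDegree), ?_, ?_⟩
  · refine Monic.mul ?_ (by simp)
    have h : b.coeff 0 = 1 := by simpa using! congr(($e).coeff 0)
    have : b.natTrailingDegree = 0 := by simp [h]
    rw [Monic.def, reverse_leadingCoeff, trailingCoeff, this, h]
  · have : p.natDegree ≤ 1 := by simpa using! natDegree_linear_le (a := r) (b := -1)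
    rw [eval₂_eq_eval_map, reverse, Polynomial.map_mul, ← reflect_map, Polynomial.map_pow,
      map_X, ← revAt_zero (1 + _), ← reflect_monomial,
      ← reflect_mul _ _ natDegree_map_le (by simp), pow_zero, mul_one, hc,
      ← add_assoc, reflect_mul _ _ (this.trans (by simp)) le_rfl,
      eval_mul, reflect_sub, reflect_mul _ _ (by simp) (by simp)]
    simp [← pow_succ']

end Groth.Agent.Lib.Helper15.UCInt1
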