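import Groth.Agent.Lib.Helper3.AlgSpChartPts
import Groth.Agent.Lib.Helper3.AlgSpHasAtMor
import Groth.Agent.Lib.Helper3.SpUC
import Groth.Prelude.Def_AlgSp4

set_option autoImplicit false
set_option backward.isDefEq.respectTransparency.types false
universe u
open CategoryTheory CategoryTheory.Limits AlgebraicGeometry Opposite
open AlgSp

namespace Groth.Agent.Lib.Helper15.UCInt2

open Groth.Agent.Lib.Helper3

variable {S : Scheme.{u}}

/-- For a universally closed morphism `X ⟶ h_Y` with etale surjective chart `U`, the image in a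
base change `Y'` of a closed subset of `U' = U ×_Y Y'` saturated for the equivalence relation
of the chart is closed. -/
theorem isClosed_image_of_saturated {X : Sp S} {Y U Y' U' : Over S}
    (f : X ⟶ (yon S).obj Y) (huc : IsUnivClosedMor f)
    (a : (yon S).obj U ⟶ X) (hae : RepWith @Etale a) (has : RepWith @Surjective a)
    (hU : U ⟶ Y) (hhU : (yon S).map hU = a ≫ f)
    (π : Y' ⟶ Y) (πU : U' ⟶ U) (h' : U' ⟶ Y') (sq : IsPullback πU h' hU π)
    (C : Set ↥U'.left) (hC : IsClosed C)
    (hsat : ∀ (W : Over S) (p₁ p₂ : W ⟶ U'), p₁ ≫ h' = p₂ ≫ h' →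
      (yon S).map (p₁ ≫ πU) ≫ a = (yon S).map (p₂ ≫ πU) ≫ a → p₁.left ⁻¹' C = p₂.left ⁻¹' C) :
    IsClosed (h'.left '' C) := by
  have hcl : IsClosedMap (Points.map (pullback.snd f ((yon S).map π))) :=
    huc (IsAlgSpace.yon_obj Y') ((yon S).map π) (pullback.fst _ _) (pullback.snd _ _)
      (IsPullback.of_hasPullback _ _)
  have hw : ((yon S).map πU ≫ a) ≫ f = (yon S).map h' ≫ (yon S).map π := by
    rw [Category.assoc, ← hhU, ← Functor.map_comp, ← Functor.map_comp, sq.w]
  let a' : (yon S).obj U' ⟶ pullback f ((yon S).map π) :=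
    pullback.lift ((yon S).map πU ≫ a) ((yon S).map h') hw
  have ha'1 : a' ≫ pullback.fst _ _ = (yon S).map πU ≫ a := pullback.lift_fst _ _ _
  have ha'2 : a' ≫ pullback.snd _ _ = (yon S).map h' := pullback.lift_snd _ _ _
  have sqa : IsPullback a' ((yon S).map πU) (pullback.fst f ((yon S).map π)) a := by
    refine IsPullback.of_right ?_ ha'1 (IsPullback.of_hasPullback f ((yon S).map π)).flip
    rw [ha'2, ← hhU]
    exact (sq.map (yon S)).flip
  have hae' : RepWith @Etale a' := MorphismProperty.of_isPullback sqa.flip hae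
  have has' : RepWith @Surjective a' := MorphismProperty.of_isPullback sqa.flip has
  have hopen : IsOpen (Points.ofPt a' '' Cᶜ) := isOpenMap_ofPt a' hae' _ hC.isOpen_compl
  have himg : Points.ofPt a' '' C = (Points.ofPt a' '' Cᶜ)ᶜ := by
    ext z
    constructor
    · rintro ⟨x, hx, rfl⟩ ⟨y, hy, hxy⟩
      obtain ⟨W, p₁, p₂, sqW⟩ := exists_pullback_charts a' hae'.1 a'
      obtain ⟨w, hw1, hw2⟩ := exists_of_ofPt_eq_of_isPullback sqW x y hxy.symm
      have e1 : p₁ ≫ h' = p₂ ≫ h' := by
        apply (yon S).map_injective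
        rw [Functor.map_comp, Functor.map_comp, ← ha'2, ← Category.assoc, ← Category.assoc, sqW.w]
      have e2 : (yon S).map (p₁ ≫ πU) ≫ a = (yon S).map (p₂ ≫ πU) ≫ a := by
        rw [Functor.map_comp, Functor.map_comp, Category.assoc, Category.assoc, ← ha'1,
          ← Category.assoc, ← Category.assoc, sqW.w]
      have e3 := hsat W p₁ p₂ e1 e2
      have : w ∈ p₁.left ⁻¹' C := by rw [Set.mem_preimage, hw1]; exact hx
      rw [e3, Set.mem_preimage, hw2] at this
      exact hy this
    · intro hz
      obtain ⟨y, rfl⟩ := SpUC.ofPt_surjective a' has' z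
      refine ⟨y, ?_, rfl⟩
      by_contra hy
      exact hz ⟨y, hy, rfl⟩
  have h1 : IsClosed (Points.map (pullback.snd f ((yon S).map π)) '' (Points.ofPt a' '' C)) := by
    apply hcl
    rw [himg]
    exact hopen.isClosed_compl
  have h2 : Points.map (pullback.snd f ((yon S).map π)) '' (Points.ofPt a' '' C) =
      Points.schemeHomeo Y' '' (h'.left '' C) := by
    rw [Set.image_image, Set.image_image]
    refine Set.image_congr fun x _ => ?_
    rw [Points.map_ofPt, ha'2, SpUC.ofPt_yon_map]
  rw [h2] at h1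
  exact (Points.schemeHomeo Y').isClosed_image.1 h1

end Groth.Agent.Lib.Helper15.UCInt2
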