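import Mathlib

set_option autoImplicit false
universe u
open CategoryTheory AlgebraicGeometry Opposite

namespace Groth.Agent.Lib.Helper15.UCInt3

/-- Pullback of global functions along a flat surjective morphism is injective. -/
theorem appTop_injective_of_flat_surjective {X Y : Scheme.{u}} (f : X ⟶ Y) [Flat f]
    [Surjective f] : Function.Injective f.appTop.hom := by
  rw [injective_iff_map_eq_zero]
  intro t ht
  apply TopCat.Presheaf.section_ext Y.sheaf ⊤
  intro y hy
  obtain ⟨x, rfl⟩ := f.surjective y
  change Y.presheaf.germ ⊤ (f x) hy t = Y.presheaf.germ ⊤ (f x) hy 0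
  rw [map_zero]
  algebraize [(f.stalkMap x).hom]
  have : Module.FaithfullyFlat (Y.presheaf.stalk (f x)) (X.presheaf.stalk x) :=
    @Module.FaithfullyFlat.of_flat_of_isLocalHom _ _ _ _ _ _ _
      (Flat.stalkMap f x) (f.toLRSHom.prop x)
  have hinj : Function.Injective (f.stalkMap x).hom := ‹RingHom.FaithfullyFlat _›.injective
  apply hinj
  rw [map_zero]
  have := Scheme.Hom.germ_stalkMap_apply f ⊤ x hy t
  refine this.trans ?_
  have h2 : f.app ⊤ t = 0 := ht
  rw [h2, map_zero]

end Groth.Agent.Lib.Helper15.UCInt3
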