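import Mathlib
import Groth.Prelude.Def_AlgSp4
import Groth.Agent.Lib.Helper15.UCInt1
import Groth.Agent.Lib.Helper15.UCInt2

set_option autoImplicit false
set_option backward.isDefEq.respectTransparency.types false
universe u
open CategoryTheory CategoryTheory.Limits AlgebraicGeometry Opposite Polynomial
open AlgSp

namespace Groth.Agent.Lib.Helper15.UCInt4

variable {S : Scheme.{u}}

section A1
variable (V : Over S) [IsAffine V.left]

/-- The affine line over an affine scheme over `S`. -/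
noncomputable def A1 : Over S :=
  Over.mk (Spec.map (CommRingCat.ofHom (C : Γ(V.left, ⊤) →+* Γ(V.left, ⊤)[X])) ≫
    V.left.isoSpec.inv ≫ V.hom)

/-- The projection of the affine line. -/
noncomputable def A1π : A1 V ⟶ V :=
  Over.homMk (Spec.map (CommRingCat.ofHom (C : Γ(V.left, ⊤) →+* Γ(V.left, ⊤)[X])) ≫
    V.left.isoSpec.inv) (by simp [A1])

end A1

section map
variable {U V : Over S} [IsAffine U.left] [IsAffine V.left] (hU : U ⟶ V)

theorem A1map_aux :
    Spec.map (CommRingCat.ofHom (mapRingHom hU.left.appTop.hom)) ≫ (A1 V).hom = (A1 U).hom := by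
  have h1 : Spec.map (CommRingCat.ofHom (mapRingHom hU.left.appTop.hom)) ≫
      Spec.map (CommRingCat.ofHom (C : Γ(V.left, ⊤) →+* Γ(V.left, ⊤)[X])) =
      Spec.map (CommRingCat.ofHom (C : Γ(U.left, ⊤) →+* Γ(U.left, ⊤)[X])) ≫
        Spec.map hU.left.appTop := by
    rw [← Spec.map_comp, ← Spec.map_comp]
    congr 1
    ext x
    simp
  change _ ≫ Spec.map _ ≫ _ ≫ V.hom = Spec.map _ ≫ _ ≫ U.hom
  rw [reassoc_of% h1, Scheme.isoSpec_inv_naturality_assoc, Over.w hU]

/-- The map of affine lines induced by a morphism of affine schemes. -/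
noncomputable def A1map : A1 U ⟶ A1 V :=
  Over.homMk (Spec.map (CommRingCat.ofHom (mapRingHom hU.left.appTop.hom))) (A1map_aux hU)

theorem A1_isPullback : IsPullback (A1π U) (A1map hU) hU (A1π V) := by
  have comm : A1π U ≫ hU = A1map hU ≫ A1π V := by
    ext
    change (Spec.map _ ≫ U.left.isoSpec.inv) ≫ hU.left = Spec.map _ ≫ Spec.map _ ≫ V.left.isoSpec.inv
    have h1 : Spec.map (CommRingCat.ofHom (mapRingHom hU.left.appTop.hom)) ≫
        Spec.map (CommRingCat.ofHom (C : Γ(V.left, ⊤) →+* Γ(V.left, ⊤)[X])) =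
        Spec.map (CommRingCat.ofHom (C : Γ(U.left, ⊤) →+* Γ(U.left, ⊤)[X])) ≫
          Spec.map hU.left.appTop := by
      rw [← Spec.map_comp, ← Spec.map_comp]
      congr 1
      ext x
      simp
    rw [reassoc_of% h1, Scheme.isoSpec_inv_naturality, Category.assoc]
  refine IsPullback.of_map (Over.forget S) comm ?_
  change IsPullback (Spec.map _ ≫ U.left.isoSpec.inv) (Spec.map _) hU.left
    (Spec.map _ ≫ V.left.isoSpec.inv)
  algebraize [hU.left.appTop.hom, mapRingHom hU.left.appTop.hom]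
  have base := (isPullback_SpecMap_of_isPushout _ _ _ _
    (CommRingCat.isPushout_of_isPushout Γ(V.left, ⊤) Γ(U.left, ⊤) Γ(V.left, ⊤)[X] Γ(U.left, ⊤)[X]))
  refine IsPullback.of_iso base (Iso.refl _) U.left.isoSpec.symm (Iso.refl _) V.left.isoSpec.symm
    ?_ ?_ ?_ ?_
  · simp
  · simp
  · simp
    exact Scheme.isoSpec_inv_naturality hU.left
  · simp

theorem isoSpec_inv_appTop' (X : Scheme.{u}) [IsAffine X] :
    X.isoSpec.inv.appTop = (Scheme.ΓSpecIso Γ(X, ⊤)).inv := by
  have h1 : X.isoSpec.hom.appTop = (Scheme.ΓSpecIso Γ(X, ⊤)).hom := by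
    simp [Scheme.isoSpec]
  have h2 : X.isoSpec.inv.appTop ≫ X.isoSpec.hom.appTop = 𝟙 _ := by
    rw [← Scheme.Hom.comp_appTop, Iso.hom_inv_id]
    rfl
  rw [h1] at h2
  rw [← Category.comp_id X.isoSpec.inv.appTop, ← (Scheme.ΓSpecIso Γ(X, ⊤)).hom_inv_id,
    ← Category.assoc, h2, Category.id_comp]

/-- The pullback of a function on `U` to the affine line over `U` is the constant polynomial. -/
theorem A1π_appTop (σ : Γ(U.left, ⊤)) :
    (A1π U).left.appTop.hom σ = (Scheme.ΓSpecIso (CommRingCat.of Γ(U.left, ⊤)[X])).inv.hom (C σ) := by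
  change (Spec.map (CommRingCat.ofHom (C : Γ(U.left, ⊤) →+* Γ(U.left, ⊤)[X])) ≫
    U.left.isoSpec.inv).appTop.hom σ = _
  rw [Scheme.Hom.comp_appTop, isoSpec_inv_appTop']
  have := Scheme.ΓSpecIso_inv_naturality (CommRingCat.ofHom (C : Γ(U.left, ⊤) →+* Γ(U.left, ⊤)[X]))
  have h2 := congrArg (fun k => k.hom σ) this
  exact h2.symm

/-- The coordinate of the affine line over `U` is pulled back from the affine line over `V`. -/
theorem A1map_appTop_X :
    (A1map hU).left.appTop.hom ((Scheme.ΓSpecIso (CommRingCat.of Γ(V.left, ⊤)[X])).inv.hom X) =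
      (Scheme.ΓSpecIso (CommRingCat.of Γ(U.left, ⊤)[X])).inv.hom X := by
  change (Spec.map (CommRingCat.ofHom (mapRingHom hU.left.appTop.hom))).appTop.hom _ = _
  have := Scheme.ΓSpecIso_inv_naturality (CommRingCat.ofHom (mapRingHom hU.left.appTop.hom))
  have h2 := congrArg (fun k => k.hom (X : Γ(V.left, ⊤)[X])) this
  refine h2.symm.trans ?_
  change (Scheme.ΓSpecIso (CommRingCat.of Γ(U.left, ⊤)[X])).inv.hom
    (mapRingHom hU.left.appTop.hom X) = _
  rw [coe_mapRingHom, map_X]

end map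

section main
variable {F : Sp S} {V U : Over S} [IsAffine V.left] [IsAffine U.left]

/-- Main chart statement: a function on an affine etale surjective chart of `F` which is compatible
with the equivalence relation of the chart is integral over the functions of the affine base when
`F` is universally closed over it. -/
theorem isIntegralElem_chart (f : F ⟶ (yon S).obj V) (huc : IsUnivClosedMor f)
    (a : (yon S).obj U ⟶ F) (hae : RepWith @Etale a) (has : RepWith @Surjective a)
    (hU : U ⟶ V) (hhU : (yon S).map hU = a ≫ f) (σ : Γ(U.left, ⊤))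
    (hσ : ∀ (W : Over S) (q₁ q₂ : W ⟶ U), (yon S).map q₁ ≫ a = (yon S).map q₂ ≫ a →
      q₁.left.appTop.hom σ = q₂.left.appTop.hom σ) :
    hU.left.appTop.hom.IsIntegralElem σ := by
  apply UCInt1.isIntegralElem_of_isClosed_image
  let G : Γ((A1 U).left, ⊤) :=
    (Scheme.ΓSpecIso (CommRingCat.of Γ(U.left, ⊤)[X])).inv.hom (C σ * X - 1)
  have hG : G = (A1π U).left.appTop.hom σ * (A1map hU).left.appTop.hom
      ((Scheme.ΓSpecIso (CommRingCat.of Γ(V.left, ⊤)[X])).inv.hom X) - 1 := by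
    rw [A1π_appTop, A1map_appTop_X]
    exact (map_sub _ _ _).trans (congrArg₂ _ (map_mul _ _ _) (map_one _))
  let C₀ : Set ↥(A1 U).left := PrimeSpectrum.zeroLocus {(C σ * X - 1 : Γ(U.left, ⊤)[X])}
  have hC₀ : IsClosed C₀ := PrimeSpectrum.isClosed_zeroLocus _
  have hC₀' : C₀ = (((A1 U).left.basicOpen G : (A1 U).left.Opens) : Set ↥(A1 U).left)ᶜ := by
    have h := basicOpen_eq_of_affine (R := CommRingCat.of Γ(U.left, ⊤)[X]) (C σ * X - 1)
    have h' : (((A1 U).left.basicOpen G : (A1 U).left.Opens) : Set ↥(A1 U).left) =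
        ((PrimeSpectrum.basicOpen (C σ * X - 1 : Γ(U.left, ⊤)[X]) :
          TopologicalSpace.Opens (PrimeSpectrum Γ(U.left, ⊤)[X])) :
          Set (PrimeSpectrum Γ(U.left, ⊤)[X])) :=
      congrArg (fun O : TopologicalSpace.Opens (PrimeSpectrum Γ(U.left, ⊤)[X]) =>
        (O : Set (PrimeSpectrum Γ(U.left, ⊤)[X]))) h
    rw [h', PrimeSpectrum.basicOpen_eq_zeroLocus_compl]
    exact (compl_compl (PrimeSpectrum.zeroLocus {(C σ * X - 1 : Γ(U.left, ⊤)[X])})).symm
  have hsat : ∀ (W : Over S) (p₁ p₂ : W ⟶ A1 U), p₁ ≫ A1map hU = p₂ ≫ A1map hU →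
      (yon S).map (p₁ ≫ A1π U) ≫ a = (yon S).map (p₂ ≫ A1π U) ≫ a →
      p₁.left ⁻¹' C₀ = p₂.left ⁻¹' C₀ := by
    intro W p₁ p₂ e1 e2
    have key : p₁.left.appTop.hom G = p₂.left.appTop.hom G := by
      rw [hG]
      simp only [map_sub, map_mul, map_one]
      have k1 : ∀ p : W ⟶ A1 U, p.left.appTop.hom ((A1π U).left.appTop.hom σ) =
          (p ≫ A1π U).left.appTop.hom σ := fun p => rfl
      have k2 : ∀ p : W ⟶ A1 U, p.left.appTop.hom ((A1map hU).left.appTop.hom
          ((Scheme.ΓSpecIso (CommRingCat.of Γ(V.left, ⊤)[X])).inv.hom X)) =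
          (p ≫ A1map hU).left.appTop.hom
            ((Scheme.ΓSpecIso (CommRingCat.of Γ(V.left, ⊤)[X])).inv.hom X) := fun p => rfl
      rw [k1, k1, k2, k2, e1, hσ W _ _ e2]
    rw [hC₀', Set.preimage_compl, Set.preimage_compl]
    congr 1
    have b1 := Scheme.preimage_basicOpen_top p₁.left G
    have b2 := Scheme.preimage_basicOpen_top p₂.left G
    have b3 : p₁.left ⁻¹ᵁ (A1 U).left.basicOpen G = p₂.left ⁻¹ᵁ (A1 U).left.basicOpen G := by
      rw [b1, b2]
      exact congrArg _ key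
    exact congrArg (fun O : W.left.Opens => (O : Set ↥W.left)) b3
  have := UCInt2.isClosed_image_of_saturated f huc a hae has hU hhU (A1π V) (A1π U) (A1map hU)
    (A1_isPullback hU) C₀ hC₀ hsat
  refine (congrArg IsClosed ?_).mp this
  rfl

end main

end Groth.Agent.Lib.Helper15.UCInt4
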