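import Groth.Agent.Lib.Helper15.UCInt3
import Groth.Agent.Lib.Helper15.UCInt4
import Groth.Agent.Lib.Helper3.AlgSpEtCommon
import Groth.Agent.Lib.Helper3.AlgSpQC4
import Groth.Prelude.Def_AlgSpOX

set_option autoImplicit false
set_option backward.isDefEq.respectTransparency.types false
universe u
open CategoryTheory CategoryTheory.Limits AlgebraicGeometry Opposite
open AlgSp

namespace Groth.Agent.Lib.Helper15.UCInt5

open Groth.Agent.Lib.Helper3

theorem main {S : Scheme.{u}} (V : Over S) [IsAffine V.left] (X : AlgSp.Space S)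
    (f : X ⟶ (AlgSp.ofScheme S).obj V) (hqc : AlgSp.IsQuasiCompactMor f.hom)
    (huc : AlgSp.IsUnivClosedMor f.hom)
    (s : ↥(AlgSp.gsectEt (AlgSp.OEt X.obj) : CommRingCat.{u + 1})) :
    ∃ p : Polynomial Γ(V.left, ⊤), p.Monic ∧
      ∀ E : AlgSp.EtOver X.obj,
        Polynomial.eval₂ ((AlgSp.yon S).preimage (E.obj.hom ≫ f.hom)).left.appTop.hom
          ((limit.π (AlgSp.OEt X.obj).obj (op E)) s).down p = 0 := by
  have hXqc : IsQuasiCompactSp X.obj :=
    hqc (IsAlgSpace.yon_obj V) (isQuasiCompactSp_yon (inferInstance : CompactSpace ↥V.left))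
      (𝟙 _) (𝟙 _) f.hom IsPullback.of_id_fst
  obtain ⟨U, a, hae, has, hUaff⟩ := exists_affine_chart_of_isQuasiCompactSp hXqc
  haveI : IsAffine U.left := hUaff
  let EU : EtOver X.obj := EtOver.mk a hae
  let σ : Γ(U.left, ⊤) := ((limit.π (OEt X.obj).obj (op EU)) s).down
  let hU : U ⟶ V := (yon S).preimage (a ≫ f.hom)
  have hhU : (yon S).map hU = a ≫ f.hom := (yon S).map_preimage _
  have hσ : ∀ (W : Over S) (q₁ q₂ : W ⟶ U), (yon S).map q₁ ≫ a = (yon S).map q₂ ≫ a →
      q₁.left.appTop.hom σ = q₂.left.appTop.hom σ := by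
    intro W q₁ q₂ hq
    obtain ⟨R, r₁, r₂, sqR⟩ := exists_pullback_charts a hae.1 a
    let ℓ : W ⟶ R := (yon S).preimage (sqR.lift ((yon S).map q₁) ((yon S).map q₂) hq)
    have hℓ1 : ℓ ≫ r₁ = q₁ := (yon S).map_injective (by
      rw [Functor.map_comp, Functor.map_preimage, sqR.lift_fst])
    have hℓ2 : ℓ ≫ r₂ = q₂ := (yon S).map_injective (by
      rw [Functor.map_comp, Functor.map_preimage, sqR.lift_snd])
    have hr₁e : RepWith @Etale ((yon S).map r₁) := MorphismProperty.of_isPullback sqR.flip hae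
    let ER : EtOver X.obj := EtOver.mk ((yon S).map r₁ ≫ a)
      (MorphismProperty.comp_mem _ _ _ hr₁e hae)
    let φ₁ : ER ⟶ EU := EtOver.homMk r₁ rfl
    let φ₂ : ER ⟶ EU := EtOver.homMk r₂ sqR.w.symm
    have e1 := gsectEt_OEt_res φ₁ s
    have e2 := gsectEt_OEt_res φ₂ s
    have e3 : r₁.left.appTop.hom σ = r₂.left.appTop.hom σ := e1.symm.trans e2
    rw [← hℓ1, ← hℓ2]
    change ℓ.left.appTop.hom (r₁.left.appTop.hom σ) = ℓ.left.appTop.hom (r₂.left.appTop.hom σ)
    rw [e3]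
  obtain ⟨p, hp, hpσ⟩ := UCInt4.isIntegralElem_chart f.hom huc a hae has hU hhU σ hσ
  refine ⟨p, hp, fun E => ?_⟩
  obtain ⟨W, pE, pU, sqW⟩ := exists_pullback_charts E.obj.hom E.property.1 a
  have hpEe : Etale pE.left := hae.2 E.obj.hom ((yon S).map pU) pE sqW.flip
  have hpEs : Surjective pE.left := has.2 E.obj.hom ((yon S).map pU) pE sqW.flip
  have hinj := UCInt3.appTop_injective_of_flat_surjective pE.left
  have hpEe' : RepWith @Etale ((yon S).map pE) := MorphismProperty.of_isPullback sqW.flip hae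
  let EW : EtOver X.obj := EtOver.mk ((yon S).map pE ≫ E.obj.hom)
    (MorphismProperty.comp_mem _ _ _ hpEe' E.property)
  let φ₁ : EW ⟶ E := EtOver.homMk pE rfl
  let φ₂ : EW ⟶ EU := EtOver.homMk pU sqW.w.symm
  have e1 := gsectEt_OEt_res φ₁ s
  have e2 := gsectEt_OEt_res φ₂ s
  have e3 : pE.left.appTop.hom ((limit.π (OEt X.obj).obj (op E)) s).down = pU.left.appTop.hom σ :=
    e1.symm.trans e2
  have e4 : pE ≫ (yon S).preimage (E.obj.hom ≫ f.hom) = pU ≫ hU := (yon S).map_injective (by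
    rw [Functor.map_comp, Functor.map_comp, Functor.map_preimage, hhU, ← Category.assoc,
      sqW.w, Category.assoc]
    rfl)
  apply hinj
  rw [map_zero, Polynomial.hom_eval₂, e3]
  have e5 : pE.left.appTop.hom.comp
      ((yon S).preimage (E.obj.hom ≫ f.hom)).left.appTop.hom =
      pU.left.appTop.hom.comp hU.left.appTop.hom := by
    have := congrArg (fun k : W ⟶ V => k.left.appTop.hom) e4
    exact this
  rw [e5, ← Polynomial.hom_eval₂, hpσ, map_zero]

end Groth.Agent.Lib.Helper15.UCInt5
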