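import Groth.Agent.Lib.Helper15.UnivEtLoc
import Groth.Agent.S9731
import Groth.Agent.S10621

set_option autoImplicit false
set_option backward.isDefEq.respectTransparency.types false
universe u
open CategoryTheory CategoryTheory.Limits AlgebraicGeometry Opposite MorphismProperty

namespace Groth.Agent.Lib.Helper15.UnivAtlas

variable {S : Scheme.{u}}

open AlgSp Groth.Agent.Lib.Helper3

/-- a universal first order thickening of schemes is one of the associated sheaves -/
theorem isUnivFOThick_yon_of_isUnivThickening {V U V' : Over S} (ψ : V ⟶ U) (iV : V ⟶ V')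
    (hV' : V' ⟶ U) (H : OmegaSh.IsUnivThickening ψ.left iV.left hV'.left) :
    IsUnivFOThick ((yon S).map ψ) ((yon S).map iV) ((yon S).map hV') := by
  have hi : IsFOThickMor ((yon S).map iV) :=
    UnivThickSp.isFOThickMor_yon_map_of_isFirstOrderThickening iV H.1
  have hw : iV ≫ hV' = ψ := by
    ext
    exact H.2.1
  have := (Groth.Agent.S10630.result (S := S) ((ofScheme S).map ψ) ((ofScheme S).map iV)
    ((ofScheme S).map hV') hi (by rw [← Functor.map_comp, hw])).2
  refine this ?_
  intro T T' j hT' hj a b hab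
  obtain ⟨a₀, rfl⟩ := (yon S).map_surjective a
  obtain ⟨b₀, rfl⟩ := (yon S).map_surjective b
  have hab₀ : j ≫ b₀ = a₀ ≫ ψ := by
    apply (yon S).map_injective
    rw [Functor.map_comp, Functor.map_comp]
    exact hab
  have hjt : MoreMor.IsFirstOrderThickening j.left :=
    isFirstOrderThickening_of_isFOThickMor_yon_map hT' hj
  obtain ⟨c₀, ⟨hc1, hc2⟩, hcu⟩ := H.2.2 T.left T'.left j.left b₀.left a₀.left hjt
    (congrArg (fun f => f.left) hab₀)
  have hcw : c₀ ≫ V'.hom = T'.hom := by
    rw [← CategoryTheory.Over.w hV', ← Category.assoc, hc2, CategoryTheory.Over.w]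
  refine ⟨(yon S).map (Over.homMk c₀ hcw), ⟨?_, ?_⟩, ?_⟩
  · change (yon S).map j ≫ (yon S).map _ = (yon S).map a₀ ≫ (yon S).map iV
    rw [← Functor.map_comp, ← Functor.map_comp]
    congr 1
    ext
    exact hc1
  · change (yon S).map _ ≫ (yon S).map hV' = (yon S).map b₀
    rw [← Functor.map_comp]
    congr 1
    ext
    exact hc2
  · rintro c' ⟨h1, h2⟩
    obtain ⟨c'₀, rfl⟩ := (yon S).map_surjective c'
    congr 1
    ext
    apply hcu
    constructor
    · have : j ≫ c'₀ = a₀ ≫ iV := by
        apply (yon S).map_injective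
        rw [Functor.map_comp, Functor.map_comp]
        exact h1
      exact congrArg (fun f => f.left) this
    · have : c'₀ ≫ hV' = b₀ := by
        apply (yon S).map_injective
        rw [Functor.map_comp]
        exact h2
      exact congrArg (fun f => f.left) this

/-- universal first order thickening of a chart of a formally unramified morphism -/
theorem exists_univ_chart {Z X : Space S} (h : Z ⟶ X) (hh : IsFormallyUnramifiedMor h.hom)
    {V U : Over S} (v : (yon S).obj V ⟶ Z.obj) (hv : RepWith @Etale v)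
    (p : (yon S).obj U ⟶ X.obj) (hp : RepWith @Etale p) (ψ : V ⟶ U)
    (hcomm : v ≫ h.hom = (yon S).map ψ ≫ p) :
    ∃ (V' : Over S) (iV : V ⟶ V') (k : (yon S).obj V' ⟶ X.obj),
      MoreMor.IsFirstOrderThickening iV.left ∧ IsUnivFOThick (v ≫ h.hom) ((yon S).map iV) k := by
  have hfu : FormallyUnramified ψ.left :=
    ((Groth.Agent.S10621.result h).1.1 hh) v p ψ hv hp hcomm
  obtain ⟨V'₀, i₀, h'₀, H⟩ := Groth.Agent.S9731.result ψ.left
  let V' : Over S := Over.mk (h'₀ ≫ U.hom)
  let iV : V ⟶ V' := Over.homMk i₀ (by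
    change i₀ ≫ h'₀ ≫ U.hom = V.hom
    rw [← Category.assoc, H.2.1, CategoryTheory.Over.w])
  let hV' : V' ⟶ U := Over.homMk h'₀ rfl
  have H' : OmegaSh.IsUnivThickening ψ.left iV.left hV'.left := H
  have HA := isUnivFOThick_yon_of_isUnivThickening ψ iV hV' H'
  have HB := Groth.Agent.Lib.Helper9.AlgSpFE.isUnivFOThick_comp_formallyEtale _ p _ _ HA
    (AlgSpFormal.isFormallyEtaleMor_of_repWith_etale p hp)
  rw [← hcomm] at HB
  exact ⟨V', iV, _, H.1, HB⟩

end Groth.Agent.Lib.Helper15.UnivAtlas
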