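import Groth.Agent.Lib.Helper15.UnivDescend
import Groth.Agent.S10632

set_option autoImplicit false
set_option backward.isDefEq.respectTransparency.types false
universe u
open CategoryTheory CategoryTheory.Limits AlgebraicGeometry Opposite MorphismProperty

namespace Groth.Agent.Lib.Helper15.UnivEtLoc

variable {S : Scheme.{u}}

open AlgSp Groth.Agent.Lib.Helper3

/-- sheaf-level form of S10632 -/
theorem isUnivFOThick_of_etale_pullback {Z Y Y' Z' X : Sp S} (e : Z ⟶ Y) (hY : Y ⟶ X)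
    (iY : Y ⟶ Y') (hY' : Y' ⟶ X) (HU : IsUnivFOThick hY iY hY') (iZ : Z ⟶ Z') (e' : Z' ⟶ Y')
    (he' : IsEtaleMor e') (hfe : IsFormallyEtaleMor e') (sq : IsPullback e iZ iY e') :
    IsUnivFOThick (e ≫ hY) iZ (e' ≫ hY') := by
  refine ⟨Groth.Agent.S10632.W64.isFOThickMor_of_isPullback e iY iZ e' he' sq HU.1, ?_, ?_⟩
  · rw [← Category.assoc, ← sq.w, Category.assoc, HU.2.1]
  · intro T T' hT hT' j a b hj hjb
    obtain ⟨c, ⟨hc1, hc2⟩, hcu⟩ := HU.2.2 hT hT' j (a ≫ e) b hj (by rw [hjb, Category.assoc])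
    obtain ⟨a', ⟨ha'1, ha'2⟩, ha'u⟩ :=
      Groth.Agent.Lib.Helper9.AlgSpFE.formallyEtale_lift_existsUnique' e' hfe hT' j hj
        (a ≫ iZ) c (by rw [Category.assoc, ← sq.w, hc1, Category.assoc])
    refine ⟨a', ⟨ha'1, ?_⟩, ?_⟩
    · rw [← Category.assoc, ha'2, hc2]
    · rintro a'' ⟨h1, h2⟩
      have hc'' : a'' ≫ e' = c := hcu _ ⟨by
        rw [← Category.assoc, h1, Category.assoc, ← sq.w, Category.assoc], by
        rw [Category.assoc, h2]⟩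
      exact ha'u a'' ⟨h1, hc''⟩

/-- the scheme case: an etale morphism of schemes over a universal thickening -/
theorem isUnivFOThick_of_etale_pullback_yon {X : Sp S} {A₁ A₂ A₁' A₂' : Over S}
    (s : A₁ ⟶ A₂) (η : (yon S).obj A₂ ⟶ X) (i₂ : A₂ ⟶ A₂') (k₂ : (yon S).obj A₂' ⟶ X)
    (HU : IsUnivFOThick η ((yon S).map i₂) k₂) (i₁ : A₁ ⟶ A₁') (s' : A₁' ⟶ A₂')
    (hs' : Etale s'.left) (sq : IsPullback i₁ s s' i₂) :
    IsUnivFOThick ((yon S).map s ≫ η) ((yon S).map i₁) ((yon S).map s' ≫ k₂) :=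
  isUnivFOThick_of_etale_pullback _ _ _ _ HU _ _ ((isEtaleMor_yon_map_iff s').2 hs')
    (AlgSpFormal.isFormallyEtaleMor_of_repWith_etale _ ((repWith_yon_map_iff _ _).2 hs'))
    (sq.map (yon S)).flip

/-- uniqueness of the universal first order thickening (scheme representatives) -/
theorem exists_iso_of_isUnivFOThick {X : Sp S} {A A' A'' : Over S} (η : (yon S).obj A ⟶ X)
    (i : A ⟶ A') (k : (yon S).obj A' ⟶ X) (i₂ : A ⟶ A'') (k₂ : (yon S).obj A'' ⟶ X)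
    (H : IsUnivFOThick η ((yon S).map i) k) (H₂ : IsUnivFOThick η ((yon S).map i₂) k₂) :
    ∃ φ : A' ≅ A'', i ≫ φ.hom = i₂ ∧ (yon S).map φ.hom ≫ k₂ = k := by
  obtain ⟨f₁, ⟨hf1, hf2⟩, -⟩ := H.2.2 (IsAlgSpace.yon_obj A) (IsAlgSpace.yon_obj A'')
    ((yon S).map i₂) (𝟙 _) k₂ H₂.1 (by rw [H₂.2.1, Category.id_comp])
  obtain ⟨f₂, ⟨hg1, hg2⟩, -⟩ := H₂.2.2 (IsAlgSpace.yon_obj A) (IsAlgSpace.yon_obj A')
    ((yon S).map i) (𝟙 _) k H.1 (by rw [H.2.1, Category.id_comp])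
  rw [Category.id_comp] at hf1 hg1
  obtain ⟨φ₁, rfl⟩ := (yon S).map_surjective f₁
  obtain ⟨φ₂, rfl⟩ := (yon S).map_surjective f₂
  have h12 : φ₂ ≫ φ₁ = 𝟙 A' := by
    apply (yon S).map_injective
    obtain ⟨c, -, hcu⟩ := H.2.2 (IsAlgSpace.yon_obj A) (IsAlgSpace.yon_obj A')
      ((yon S).map i) (𝟙 _) k H.1 (by rw [H.2.1, Category.id_comp])
    rw [hcu ((yon S).map (φ₂ ≫ φ₁)) ⟨by
        rw [Functor.map_comp, ← Category.assoc, hg1, hf1, Category.id_comp], by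
        rw [Functor.map_comp, Category.assoc, hf2, hg2]⟩,
      hcu ((yon S).map (𝟙 A')) ⟨by rw [CategoryTheory.Functor.map_id, Category.comp_id,
        Category.id_comp], by rw [CategoryTheory.Functor.map_id, Category.id_comp]⟩]
  have h21 : φ₁ ≫ φ₂ = 𝟙 A'' := by
    apply (yon S).map_injective
    obtain ⟨c, -, hcu⟩ := H₂.2.2 (IsAlgSpace.yon_obj A) (IsAlgSpace.yon_obj A'')
      ((yon S).map i₂) (𝟙 _) k₂ H₂.1 (by rw [H₂.2.1, Category.id_comp])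
    rw [hcu ((yon S).map (φ₁ ≫ φ₂)) ⟨by
        rw [Functor.map_comp, ← Category.assoc, hf1, hg1, Category.id_comp], by
        rw [Functor.map_comp, Category.assoc, hg2, hf2]⟩,
      hcu ((yon S).map (𝟙 A'')) ⟨by rw [CategoryTheory.Functor.map_id, Category.comp_id,
        Category.id_comp], by rw [CategoryTheory.Functor.map_id, Category.id_comp]⟩]
  refine ⟨⟨φ₂, φ₁, h12, h21⟩, ?_, hg2⟩
  apply (yon S).map_injective
  rw [Functor.map_comp]
  exact hg1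

/-- the etale lift of an affine etale scheme over a universal thickening is universal -/
theorem exists_etale_lift_univ {X : Sp S} {A₁ A₂ B₂ : Over S} (η : (yon S).obj A₂ ⟶ X)
    (i₂ : A₂ ⟶ B₂) (k₂ : (yon S).obj B₂ ⟶ X) (HU : IsUnivFOThick η ((yon S).map i₂) k₂)
    (hB₂ : IsAffine B₂.left) (hA₁ : IsAffine A₁.left) (s₁ : A₁ ⟶ A₂) (hs₁ : Etale s₁.left) :
    ∃ (A₁'' : Over S) (g' : A₁'' ⟶ B₂) (j₁ : A₁ ⟶ A₁''), Etale g'.left ∧
      IsPullback j₁ s₁ g' i₂ ∧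
      IsUnivFOThick ((yon S).map s₁ ≫ η) ((yon S).map j₁) ((yon S).map g' ≫ k₂) := by
  have hthick : MoreMor.IsThickening i₂.left := (isThickMor_yon_map_iff i₂).1 HU.1.1
  have hci : IsClosedImmersion i₂.left := hthick.1
  obtain ⟨W', g'0, jW0, hW', hg', hsq⟩ :=
    EtaleLiftThick.exists_etale_lift_affine i₂.left s₁.left
  have hw : jW0 ≫ (g'0 ≫ B₂.hom) = A₁.hom := by
    rw [← Category.assoc, hsq.w, Category.assoc, CategoryTheory.Over.w, CategoryTheory.Over.w]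
  let A₁'' : Over S := Over.mk (g'0 ≫ B₂.hom)
  let g' : A₁'' ⟶ B₂ := Over.homMk g'0 rfl
  let j₁ : A₁ ⟶ A₁'' := Over.homMk jW0 hw
  have sq : IsPullback j₁ s₁ g' i₂ := by
    apply UnivDescend.isPullback_over_of_left
    · ext
      exact hsq.w
    · exact hsq
  exact ⟨A₁'', g', j₁, hg', sq,
    isUnivFOThick_of_etale_pullback_yon s₁ η i₂ k₂ HU j₁ g' hg' sq⟩

/-- local form: around every point of `V₁'` the induced map of universal thickenings is etale -/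
theorem exists_open_etale {X : Sp S} {V₁ V₂ V₁' V₂' : Over S} (η₂ : (yon S).obj V₂ ⟶ X)
    (s : V₁ ⟶ V₂) (hs : Etale s.left)
    (i₁ : V₁ ⟶ V₁') (h₁ : (yon S).obj V₁' ⟶ X)
    (HU₁ : IsUnivFOThick ((yon S).map s ≫ η₂) ((yon S).map i₁) h₁)
    (i₂ : V₂ ⟶ V₂') (h₂ : (yon S).obj V₂' ⟶ X) (HU₂ : IsUnivFOThick η₂ ((yon S).map i₂) h₂)
    (s' : V₁' ⟶ V₂') (w1 : i₁ ≫ s' = s ≫ i₂) (w2 : (yon S).map s' ≫ h₂ = h₁) (x : V₁'.left) :
    ∃ A : V₁'.left.Opens, x ∈ A ∧ Etale (A.ι ≫ s'.left) := by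
  -- affine open around the image
  obtain ⟨B₂, hB₂aff, hx₂, -⟩ :=
    exists_isAffineOpen_mem_and_subset (x := s'.left x) (U := ⊤) trivial
  let Bo₂ : Over S := Over.mk (B₂.ι ≫ V₂'.hom)
  let ιB₂ : Bo₂ ⟶ V₂' := Over.homMk B₂.ι rfl
  have sqA₂ : IsPullback (pullback.fst i₂ ιB₂) (pullback.snd i₂ ιB₂) i₂ ιB₂ :=
    IsPullback.of_hasPullback _ _
  have HA₂ : IsUnivFOThick ((yon S).map (pullback.fst i₂ ιB₂) ≫ η₂)
      ((yon S).map (pullback.snd i₂ ιB₂)) ((yon S).map ιB₂ ≫ h₂) :=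
    isUnivFOThick_of_etale_pullback_yon _ η₂ i₂ h₂ HU₂ _ ιB₂
      (inferInstanceAs (Etale B₂.ι)) sqA₂.flip
  -- affine open around `x`
  have hxO : x ∈ s'.left ⁻¹ᵁ B₂ := hx₂
  obtain ⟨A₁', hA₁'aff, hxA₁', hA₁'O⟩ :=
    exists_isAffineOpen_mem_and_subset (x := x) (U := s'.left ⁻¹ᵁ B₂) hxO
  let Ao₁' : Over S := Over.mk (A₁'.ι ≫ V₁'.hom)
  let ιA₁' : Ao₁' ⟶ V₁' := Over.homMk A₁'.ι rfl
  have sqÂ₁ : IsPullback (pullback.fst i₁ ιA₁') (pullback.snd i₁ ιA₁') i₁ ιA₁' :=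
    IsPullback.of_hasPullback _ _
  have HÂ₁ : IsUnivFOThick ((yon S).map (pullback.fst i₁ ιA₁') ≫ (yon S).map s ≫ η₂)
      ((yon S).map (pullback.snd i₁ ιA₁')) ((yon S).map ιA₁' ≫ h₁) :=
    isUnivFOThick_of_etale_pullback_yon _ _ i₁ h₁ HU₁ _ ιA₁'
      (inferInstanceAs (Etale A₁'.ι)) sqÂ₁.flip
  -- the restriction of `s'`
  have hrange : Set.range (A₁'.ι ≫ s'.left) ⊆ Set.range B₂.ι := by
    rintro _ ⟨y, rfl⟩
    rw [Scheme.Opens.range_ι]
    exact hA₁'O y.2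
  let σ₀ : (A₁' : Scheme.{u}) ⟶ (B₂ : Scheme.{u}) :=
    IsOpenImmersion.lift B₂.ι (A₁'.ι ≫ s'.left) hrange
  have hσ₀ : σ₀ ≫ B₂.ι = A₁'.ι ≫ s'.left := IsOpenImmersion.lift_fac _ _ _
  let σ : Ao₁' ⟶ Bo₂ := Over.homMk σ₀ (by
    change σ₀ ≫ B₂.ι ≫ V₂'.hom = A₁'.ι ≫ V₁'.hom
    rw [← Category.assoc, hσ₀, Category.assoc, CategoryTheory.Over.w])
  have hσ : σ ≫ ιB₂ = ιA₁' ≫ s' := by
    ext
    exact hσ₀
  have hlift : (pullback.fst i₁ ιA₁' ≫ s) ≫ i₂ = (pullback.snd i₁ ιA₁' ≫ σ) ≫ ιB₂ := by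
    rw [Category.assoc, ← w1, ← Category.assoc, sqÂ₁.w, Category.assoc, Category.assoc, hσ]
  let s₁ : pullback i₁ ιA₁' ⟶ pullback i₂ ιB₂ := sqA₂.lift _ _ hlift
  have hs₁1 : s₁ ≫ pullback.fst i₂ ιB₂ = pullback.fst i₁ ιA₁' ≫ s := sqA₂.lift_fst _ _ hlift
  have hs₁2 : s₁ ≫ pullback.snd i₂ ιB₂ = pullback.snd i₁ ιA₁' ≫ σ := sqA₂.lift_snd _ _ hlift
  -- properties of the projections
  have sqA₂L := sqA₂.map (Over.forget S)
  have sqÂ₁L := sqÂ₁.map (Over.forget S)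
  have hpA₂ : IsOpenImmersion (pullback.fst i₂ ιB₂).left :=
    MorphismProperty.of_isPullback (P := @IsOpenImmersion) sqA₂L.flip
      (inferInstanceAs (IsOpenImmersion B₂.ι))
  have hpÂ₁ : IsOpenImmersion (pullback.fst i₁ ιA₁').left :=
    MorphismProperty.of_isPullback (P := @IsOpenImmersion) sqÂ₁L.flip
      (inferInstanceAs (IsOpenImmersion A₁'.ι))
  have hci₁ : IsClosedImmersion i₁.left := ((isThickMor_yon_map_iff i₁).1 HU₁.1.1).1
  have hiÂ₁ : IsClosedImmersion (pullback.snd i₁ ιA₁').left :=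
    MorphismProperty.of_isPullback (P := @IsClosedImmersion) sqÂ₁L hci₁
  have hAo₁' : IsAffine Ao₁'.left := hA₁'aff
  have hBo₂ : IsAffine Bo₂.left := hB₂aff
  have hÂ₁aff : IsAffine (pullback i₁ ιA₁').left := isAffine_of_isAffineHom (pullback.snd i₁ ιA₁').left
  have hs₁e : Etale s₁.left := by
    have h1 : Etale (s₁.left ≫ (pullback.fst i₂ ιB₂).left) := by
      have : s₁.left ≫ (pullback.fst i₂ ιB₂).left = (pullback.fst i₁ ιA₁').left ≫ s.left := by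
        rw [← Over.comp_left, hs₁1]; rfl
      rw [this]
      infer_instance
    exact MorphismProperty.of_postcomp (W := @Etale) (W' := @IsOpenImmersion) s₁.left
      (pullback.fst i₂ ιB₂).left hpA₂ h1
  obtain ⟨A₁'', g', j₁, hg', sq'', HU''⟩ := exists_etale_lift_univ _ _ _ HA₂ hBo₂ hÂ₁aff s₁ hs₁e
  have hη : (yon S).map s₁ ≫ (yon S).map (pullback.fst i₂ ιB₂) ≫ η₂ =
      (yon S).map (pullback.fst i₁ ιA₁') ≫ (yon S).map s ≫ η₂ := by
    rw [← Category.assoc, ← Functor.map_comp, hs₁1, Functor.map_comp, Category.assoc]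
  rw [hη] at HU''
  obtain ⟨φ, hφ1, hφ2⟩ := exists_iso_of_isUnivFOThick _ _ _ _ _ HÂ₁ HU''
  -- the key equality
  have hkey : ιA₁' ≫ s' = φ.hom ≫ g' ≫ ιB₂ := by
    apply (yon S).map_injective
    have hb : (yon S).map (pullback.snd i₁ ιA₁') ≫ ((yon S).map ιA₁' ≫ h₁) =
        (yon S).map (pullback.fst i₁ ιA₁' ≫ s) ≫ η₂ := by
      rw [HÂ₁.2.1, Functor.map_comp, Category.assoc]
    obtain ⟨c, -, hcu⟩ := HU₂.2.2 (IsAlgSpace.yon_obj _) (IsAlgSpace.yon_obj _)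
      ((yon S).map (pullback.snd i₁ ιA₁')) ((yon S).map (pullback.fst i₁ ιA₁' ≫ s))
      ((yon S).map ιA₁' ≫ h₁) HÂ₁.1 hb
    have e1 : (yon S).map (ιA₁' ≫ s') = c := hcu _ ⟨by
        rw [← Functor.map_comp, ← Functor.map_comp, ← Category.assoc, ← sqÂ₁.w, Category.assoc,
          w1, Category.assoc], by
        rw [Functor.map_comp, Category.assoc, w2]⟩
    have e2 : (yon S).map (φ.hom ≫ g' ≫ ιB₂) = c := hcu _ ⟨by
        rw [← Functor.map_comp, ← Functor.map_comp, ← Category.assoc, hφ1, ← Category.assoc,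
          sq''.w, Category.assoc, ← sqA₂.w, ← Category.assoc, hs₁1, Category.assoc], by
        rw [Functor.map_comp, Functor.map_comp, Category.assoc, Category.assoc]
        exact hφ2⟩
    rw [e1, e2]
  refine ⟨A₁', hxA₁', ?_⟩
  have : A₁'.ι ≫ s'.left = φ.hom.left ≫ g'.left ≫ B₂.ι := by
    have := congrArg (fun f => f.left) hkey
    exact this
  rw [this]
  have : IsIso φ.hom.left := inferInstanceAs (IsIso ((Over.forget S).map φ.hom))
  infer_instance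

/-- the induced map of universal thickenings over an etale map is etale -/
theorem etale_of_isUnivFOThick {X : Sp S} {V₁ V₂ V₁' V₂' : Over S} (η₂ : (yon S).obj V₂ ⟶ X)
    (s : V₁ ⟶ V₂) (hs : Etale s.left)
    (i₁ : V₁ ⟶ V₁') (h₁ : (yon S).obj V₁' ⟶ X)
    (HU₁ : IsUnivFOThick ((yon S).map s ≫ η₂) ((yon S).map i₁) h₁)
    (i₂ : V₂ ⟶ V₂') (h₂ : (yon S).obj V₂' ⟶ X) (HU₂ : IsUnivFOThick η₂ ((yon S).map i₂) h₂)
    (s' : V₁' ⟶ V₂') (w1 : i₁ ≫ s' = s ≫ i₂) (w2 : (yon S).map s' ≫ h₂ = h₁) :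
    Etale s'.left := by
  choose A hxA hA using exists_open_etale η₂ s hs i₁ h₁ HU₁ i₂ h₂ HU₂ s' w1 w2
  refine IsZariskiLocalAtSource.of_iSup_eq_top (P := @Etale) A ?_ hA
  rw [eq_top_iff]
  intro x _
  exact TopologicalSpace.Opens.mem_iSup.2 ⟨x, hxA x⟩

/-- a commutative square of thickenings over etale maps is cartesian -/
theorem isPullback_of_etale_thickenings {V₁ V₂ V₁' V₂' : Scheme.{u}} (i₁ : V₁ ⟶ V₁')
    (i₂ : V₂ ⟶ V₂') (s : V₁ ⟶ V₂) (s' : V₁' ⟶ V₂') [IsClosedImmersion i₁] [Surjective i₁]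
    [IsClosedImmersion i₂] [Etale s] [Etale s'] (w : i₁ ≫ s' = s ≫ i₂) :
    IsPullback i₁ s s' i₂ := by
  let m : V₁ ⟶ pullback s' i₂ := pullback.lift i₁ s w
  have hm1 : m ≫ pullback.fst s' i₂ = i₁ := pullback.lift_fst _ _ _
  have hm2 : m ≫ pullback.snd s' i₂ = s := pullback.lift_snd _ _ _
  have hfst : IsClosedImmersion (pullback.fst s' i₂) := inferInstance
  have hsnd : Etale (pullback.snd s' i₂) := inferInstance
  have hmci : IsClosedImmersion m := by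
    have : IsClosedImmersion (m ≫ pullback.fst s' i₂) := by rw [hm1]; infer_instance
    exact IsClosedImmersion.of_comp_isClosedImmersion m (pullback.fst s' i₂)
  have hmet : Etale m := by
    have : Etale (m ≫ pullback.snd s' i₂) := by rw [hm2]; infer_instance
    exact Etale.of_comp m (pullback.snd s' i₂)
  have hmsurj : Surjective m := by
    refine ⟨fun y => ?_⟩
    obtain ⟨x, hx⟩ := i₁.surjective (pullback.fst s' i₂ y)
    refine ⟨x, ?_⟩
    apply (pullback.fst s' i₂).isClosedEmbedding.injective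
    rw [← Scheme.Hom.comp_apply, hm1, hx]
  have hiso : IsIso m := Flat.isIso_of_surjective_of_mono m
  exact IsPullback.of_iso_pullback ⟨w⟩ (asIso m) hm1 hm2

end Groth.Agent.Lib.Helper15.UnivEtLoc
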