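import Groth.Agent.Lib.Helper15.UnivAtlas

set_option autoImplicit false
set_option backward.isDefEq.respectTransparency.types false
universe u
open CategoryTheory CategoryTheory.Limits AlgebraicGeometry Opposite MorphismProperty

namespace Groth.Agent.Lib.Helper15.UnivRel

variable {S : Scheme.{u}}

open AlgSp Groth.Agent.Lib.Helper3

section Rel

variable {X : Sp S} {V R V' R' : Over S} (η : (yon S).obj V ⟶ X) (s₀ t₀ : R ⟶ V)
  (hη : (yon S).map s₀ ≫ η = (yon S).map t₀ ≫ η)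
  (iV : V ⟶ V') (kV : (yon S).obj V' ⟶ X) (HUV : IsUnivFOThick η ((yon S).map iV) kV)
  (iR : R ⟶ R') (kR : (yon S).obj R' ⟶ X)
  (HUR : IsUnivFOThick ((yon S).map s₀ ≫ η) ((yon S).map iR) kR)
  (s' t' : R' ⟶ V') (hs1 : iR ≫ s' = s₀ ≫ iV) (hs2 : (yon S).map s' ≫ kV = kR)
  (ht1 : iR ≫ t' = t₀ ≫ iV) (ht2 : (yon S).map t' ≫ kV = kR)

include HUV in
theorem mono_iV : Mono iV := by
  have : IsClosedImmersion iV.left := ((isThickMor_yon_map_iff iV).1 HUV.1.1).1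
  have : Mono ((Over.forget S).map iV) := inferInstanceAs (Mono iV.left)
  exact (Over.forget S).mono_of_mono_map this

include HUV in
/-- two points of `V'` agree if they agree on a first order thinning mapping to `V` and over `X` -/
theorem point_eq {T T₀ : Over S} (jT : T₀ ⟶ T) (hjT : IsFOThickMor ((yon S).map jT))
    (a₀ : T₀ ⟶ V) (a a' : T ⟶ V') (h1 : jT ≫ a = a₀ ≫ iV) (h1' : jT ≫ a' = a₀ ≫ iV)
    (h2 : (yon S).map a ≫ kV = (yon S).map a' ≫ kV) : a = a' := by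
  apply (yon S).map_injective
  have hb : (yon S).map jT ≫ ((yon S).map a ≫ kV) = (yon S).map a₀ ≫ η := by
    rw [← Category.assoc, ← Functor.map_comp, h1, Functor.map_comp, Category.assoc, HUV.2.1]
  obtain ⟨c, -, hcu⟩ := HUV.2.2 (IsAlgSpace.yon_obj T₀) (IsAlgSpace.yon_obj T) ((yon S).map jT)
    ((yon S).map a₀) ((yon S).map a ≫ kV) hjT hb
  rw [hcu ((yon S).map a) ⟨by rw [← Functor.map_comp, h1, Functor.map_comp], rfl⟩,
    hcu ((yon S).map a') ⟨by rw [← Functor.map_comp, h1', Functor.map_comp], h2.symm⟩]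

include HUR in
/-- lifting points to `R'` -/
theorem point_lift {T T₀ : Over S} (jT : T₀ ⟶ T) (hjT : IsFOThickMor ((yon S).map jT))
    (ρ : T₀ ⟶ R) (b : (yon S).obj T ⟶ X)
    (hb : (yon S).map jT ≫ b = (yon S).map ρ ≫ (yon S).map s₀ ≫ η) :
    ∃ r : T ⟶ R', jT ≫ r = ρ ≫ iR ∧ (yon S).map r ≫ kR = b := by
  obtain ⟨c, ⟨hc1, hc2⟩, -⟩ := HUR.2.2 (IsAlgSpace.yon_obj T₀) (IsAlgSpace.yon_obj T)
    ((yon S).map jT) ((yon S).map ρ) b hjT hb
  obtain ⟨r, rfl⟩ := (yon S).map_surjective c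
  refine ⟨r, ?_, hc2⟩
  apply (yon S).map_injective
  rw [Functor.map_comp, Functor.map_comp]
  exact hc1

include HUV in
theorem thin_isFOThick {T : Over S} (y : T ⟶ V') :
    IsFOThickMor ((yon S).map (pullback.fst y iV)) :=
  FOThickBC.isFOThickMor_of_isPullback _ HUV.1 (IsAlgSpace.yon_obj V') _ _ _
    ((IsPullback.of_hasPullback y iV).map (yon S)).flip

variable (pbs : IsPullback iR s₀ s' iV) (pbt : IsPullback iR t₀ t' iV) (hE : IsEqvRel s₀ t₀)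

include hη HUV HUR hs1 hs2 ht1 ht2 pbs hE in
theorem rel_injective (T : Over S) (r r' : T ⟶ R') (h1 : r ≫ t' = r' ≫ t')
    (h2 : r ≫ s' = r' ≫ s') : r = r' := by
  have hm := mono_iV η iV kV HUV
  let jT := pullback.fst (r ≫ s') iV
  let y₀ := pullback.snd (r ≫ s') iV
  have hjT : IsFOThickMor ((yon S).map jT) := thin_isFOThick η iV kV HUV (r ≫ s')
  have hcond : jT ≫ r ≫ s' = y₀ ≫ iV := pullback.condition
  have hcond' : jT ≫ r' ≫ s' = y₀ ≫ iV := by rw [← h2]; exact hcond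
  have w₁ : (jT ≫ r) ≫ s' = y₀ ≫ iV := by rw [Category.assoc]; exact hcond
  have w₂ : (jT ≫ r') ≫ s' = y₀ ≫ iV := by rw [Category.assoc]; exact hcond'
  obtain ⟨ρ, e1, e2⟩ : ∃ ρ : pullback (r ≫ s') iV ⟶ R, ρ ≫ iR = jT ≫ r ∧ ρ ≫ s₀ = y₀ :=
    ⟨pbs.lift _ _ w₁, pbs.lift_fst _ _ w₁, pbs.lift_snd _ _ w₁⟩
  obtain ⟨ρ', e1', e2'⟩ : ∃ ρ : pullback (r ≫ s') iV ⟶ R, ρ ≫ iR = jT ≫ r' ∧ ρ ≫ s₀ = y₀ :=
    ⟨pbs.lift _ _ w₂, pbs.lift_fst _ _ w₂, pbs.lift_snd _ _ w₂⟩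
  have hρ : ρ = ρ' := by
    apply hE.injective
    · rw [← cancel_mono iV, Category.assoc, Category.assoc, ← ht1, ← Category.assoc,
        ← Category.assoc, e1, e1', Category.assoc, Category.assoc, h1]
    · rw [e2, e2']
  apply (yon S).map_injective
  have hb : (yon S).map jT ≫ ((yon S).map r ≫ kR) =
      (yon S).map ρ ≫ (yon S).map s₀ ≫ η := by
    rw [← Category.assoc, ← Functor.map_comp, ← e1, Functor.map_comp, Category.assoc, HUR.2.1]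
  obtain ⟨c, -, hcu⟩ := HUR.2.2 (IsAlgSpace.yon_obj _) (IsAlgSpace.yon_obj T) ((yon S).map jT)
    ((yon S).map ρ) ((yon S).map r ≫ kR) hjT hb
  rw [hcu ((yon S).map r) ⟨by rw [← Functor.map_comp, ← e1, Functor.map_comp], rfl⟩,
    hcu ((yon S).map r') ⟨by rw [← Functor.map_comp, hρ, ← e1', Functor.map_comp], by
      rw [← hs2, ← Category.assoc, ← Category.assoc, ← Functor.map_comp, ← Functor.map_comp, h2]⟩]

include HUV in
theorem comp_eq {T T₀ : Over S} (jT : T₀ ⟶ T) (hjT : IsFOThickMor ((yon S).map jT))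
    (ρ₁ ρ₂ : T₀ ⟶ R) (r₁ r₂ : T ⟶ R') (hr₁ : jT ≫ r₁ = ρ₁ ≫ iR) (hr₂ : jT ≫ r₂ = ρ₂ ≫ iR)
    (hk : (yon S).map r₁ ≫ kR = (yon S).map r₂ ≫ kR) (u₀ w₀ : R ⟶ V) (u' w' : R' ⟶ V')
    (hu : iR ≫ u' = u₀ ≫ iV) (hw : iR ≫ w' = w₀ ≫ iV) (hu2 : (yon S).map u' ≫ kV = kR)
    (hw2 : (yon S).map w' ≫ kV = kR) (h0 : ρ₁ ≫ u₀ = ρ₂ ≫ w₀) : r₁ ≫ u' = r₂ ≫ w' := by
  refine point_eq η iV kV HUV jT hjT (ρ₂ ≫ w₀) _ _ ?_ ?_ ?_
  · rw [← Category.assoc, hr₁, Category.assoc, hu, ← Category.assoc, h0]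
  · rw [← Category.assoc, hr₂, Category.assoc, hw, Category.assoc]
  · rw [Functor.map_comp, Functor.map_comp, Category.assoc, Category.assoc, hu2, hw2, hk]

include hη HUV HUR hs1 hs2 ht1 ht2 pbs pbt hE in
theorem rel_equivalence (T : Over S) : _root_.Equivalence
    (fun a b : T ⟶ V' => ∃ r : T ⟶ R', r ≫ t' = a ∧ r ≫ s' = b) := by
  constructor
  · intro a
    have hjT : IsFOThickMor ((yon S).map (pullback.fst a iV)) := thin_isFOThick η iV kV HUV a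
    have hcond : pullback.fst a iV ≫ a = pullback.snd a iV ≫ iV := pullback.condition
    obtain ⟨e₀, he1, he2⟩ := (hE.equivalence V).refl (𝟙 V)
    have hb : (yon S).map (pullback.fst a iV) ≫ ((yon S).map a ≫ kV) =
        (yon S).map (pullback.snd a iV ≫ e₀) ≫ (yon S).map s₀ ≫ η := by
      rw [← Category.assoc, ← Functor.map_comp, hcond, Functor.map_comp, Category.assoc,
        HUV.2.1, ← Category.assoc, ← Functor.map_comp, Category.assoc, he2, Category.comp_id]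
    obtain ⟨r, hr1, hr2⟩ := point_lift η s₀ iR kR HUR _ hjT _ _ hb
    refine ⟨r, ?_, ?_⟩
    · refine point_eq η iV kV HUV _ hjT (pullback.snd a iV) _ _ ?_ hcond ?_
      · rw [← Category.assoc, hr1, Category.assoc, ht1, Category.assoc, ← Category.assoc e₀, he1,
          Category.id_comp]
      · rw [Functor.map_comp, Category.assoc, ht2, hr2]
    · refine point_eq η iV kV HUV _ hjT (pullback.snd a iV) _ _ ?_ hcond ?_
      · rw [← Category.assoc, hr1, Category.assoc, hs1, Category.assoc, ← Category.assoc e₀, he2,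
          Category.id_comp]
      · rw [Functor.map_comp, Category.assoc, hs2, hr2]
  · rintro a b ⟨r, rfl, rfl⟩
    have hjT : IsFOThickMor ((yon S).map (pullback.fst (r ≫ s') iV)) :=
      thin_isFOThick η iV kV HUV _
    have w₁ : (pullback.fst (r ≫ s') iV ≫ r) ≫ s' = pullback.snd (r ≫ s') iV ≫ iV := by
      rw [Category.assoc]; exact pullback.condition
    obtain ⟨ρ, e1, e2⟩ : ∃ ρ : pullback (r ≫ s') iV ⟶ R,
        ρ ≫ iR = pullback.fst (r ≫ s') iV ≫ r ∧ ρ ≫ s₀ = pullback.snd (r ≫ s') iV :=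
      ⟨pbs.lift _ _ w₁, pbs.lift_fst _ _ w₁, pbs.lift_snd _ _ w₁⟩
    obtain ⟨ρ', hρ1, hρ2⟩ := (hE.equivalence _).symm ⟨ρ, rfl, rfl⟩
    have hb : (yon S).map (pullback.fst (r ≫ s') iV) ≫ ((yon S).map r ≫ kR) =
        (yon S).map ρ' ≫ (yon S).map s₀ ≫ η := by
      rw [← Category.assoc, ← Functor.map_comp, ← e1, Functor.map_comp, Category.assoc,
        HUR.2.1, ← Category.assoc ((yon S).map ρ'), ← Functor.map_comp, hρ2, Functor.map_comp,
        Category.assoc, hη]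
    obtain ⟨r', hr1, hr2⟩ := point_lift η s₀ iR kR HUR _ hjT _ _ hb
    exact ⟨r', comp_eq η iV kV HUV iR kR _ hjT ρ' ρ r' r hr1 e1.symm hr2 t₀ s₀ t' s' ht1 hs1
      ht2 hs2 hρ1, comp_eq η iV kV HUV iR kR _ hjT ρ' ρ r' r hr1 e1.symm hr2 s₀ t₀ s' t' hs1 ht1
      hs2 ht2 hρ2⟩
  · rintro a b c ⟨r₁, rfl, rfl⟩ ⟨r₂, hb2, rfl⟩
    have hjT : IsFOThickMor ((yon S).map (pullback.fst (r₁ ≫ s') iV)) :=
      thin_isFOThick η iV kV HUV _
    have w₁ : (pullback.fst (r₁ ≫ s') iV ≫ r₁) ≫ s' = pullback.snd (r₁ ≫ s') iV ≫ iV := by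
      rw [Category.assoc]; exact pullback.condition
    have w₂ : (pullback.fst (r₁ ≫ s') iV ≫ r₂) ≫ t' = pullback.snd (r₁ ≫ s') iV ≫ iV := by
      rw [Category.assoc, hb2]; exact pullback.condition
    obtain ⟨ρ₁, e1, e2⟩ : ∃ ρ : pullback (r₁ ≫ s') iV ⟶ R,
        ρ ≫ iR = pullback.fst (r₁ ≫ s') iV ≫ r₁ ∧ ρ ≫ s₀ = pullback.snd (r₁ ≫ s') iV :=
      ⟨pbs.lift _ _ w₁, pbs.lift_fst _ _ w₁, pbs.lift_snd _ _ w₁⟩
    obtain ⟨ρ₂, f1, f2⟩ : ∃ ρ : pullback (r₁ ≫ s') iV ⟶ R,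
        ρ ≫ iR = pullback.fst (r₁ ≫ s') iV ≫ r₂ ∧ ρ ≫ t₀ = pullback.snd (r₁ ≫ s') iV :=
      ⟨pbt.lift _ _ w₂, pbt.lift_fst _ _ w₂, pbt.lift_snd _ _ w₂⟩
    obtain ⟨ρ₃, hρ1, hρ2⟩ := (hE.equivalence _).trans ⟨ρ₁, rfl, rfl⟩ ⟨ρ₂, by rw [f2, e2], rfl⟩
    have hb : (yon S).map (pullback.fst (r₁ ≫ s') iV) ≫ ((yon S).map r₁ ≫ kR) =
        (yon S).map ρ₃ ≫ (yon S).map s₀ ≫ η := by
      have L : (yon S).map (pullback.fst (r₁ ≫ s') iV) ≫ ((yon S).map r₁ ≫ kR) =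
          (yon S).map (pullback.snd (r₁ ≫ s') iV) ≫ η := by
        rw [← Category.assoc, ← Functor.map_comp, ← e1, Functor.map_comp, Category.assoc,
          HUR.2.1, ← Category.assoc, ← Functor.map_comp, e2]
      have Rr : (yon S).map ρ₃ ≫ (yon S).map s₀ ≫ η =
          (yon S).map (pullback.snd (r₁ ≫ s') iV) ≫ η := by
        rw [← Category.assoc, ← Functor.map_comp, hρ2, Functor.map_comp, Category.assoc, hη,
          ← Category.assoc, ← Functor.map_comp, f2]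
      exact L.trans Rr.symm
    obtain ⟨r₃, hr1, hr2⟩ := point_lift η s₀ iR kR HUR _ hjT _ _ hb
    have hk12 : (yon S).map r₁ ≫ kR = (yon S).map r₂ ≫ kR := by
      rw [← hs2, ← Category.assoc, ← Functor.map_comp, ← hb2, Functor.map_comp, Category.assoc,
        ht2, hs2]
    exact ⟨r₃, comp_eq η iV kV HUV iR kR _ hjT ρ₃ ρ₁ r₃ r₁ hr1 e1.symm hr2 t₀ t₀ t' t' ht1 ht1
      ht2 ht2 hρ1, comp_eq η iV kV HUV iR kR _ hjT ρ₃ ρ₂ r₃ r₂ hr1 f1.symm (hr2.trans hk12)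
      s₀ s₀ s' s' hs1 hs1 hs2 hs2 hρ2⟩

include hη HUV HUR hs1 hs2 ht1 ht2 pbs pbt hE in
theorem isEtaleEqvRel (hs' : Etale s'.left) (ht' : Etale t'.left) : IsEtaleEqvRel s' t' where
  injective := rel_injective η s₀ t₀ hη iV kV HUV iR kR HUR s' t' hs1 hs2 ht1 ht2 pbs hE
  equivalence := rel_equivalence η s₀ t₀ hη iV kV HUV iR kR HUR s' t' hs1 hs2 ht1 ht2 pbs pbt hE
  etale_left := hs'
  etale_right := ht'

end Rel

end Groth.Agent.Lib.Helper15.UnivRel
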