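import Mathlib.CategoryTheory.Limits.Shapes.WidePullbacks
import Mathlib.CategoryTheory.Limits.Shapes.Pullback.IsPullback.Basic

set_option autoImplicit false
universe v u
open CategoryTheory CategoryTheory.Limits

namespace Groth.Agent.Lib.Helper15.WPInd

variable {C : Type u} [Category.{v} C]

/-- the wide pullback of a family indexed by `Fin (n+2)` is the pullback of the wide pullback of
the first `n+1` members with the last one. -/
theorem isPullback_widePullback_succ {U : C} {n : ℕ} (X : Fin (n + 2) → C)
    (g : ∀ k, X k ⟶ U) [HasWidePullback U X g]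
    [HasWidePullback U (fun k : Fin (n + 1) => X k.castSucc) (fun k => g k.castSucc)] :
    IsPullback
      (WidePullback.lift (WidePullback.base g) (fun k : Fin (n + 1) => WidePullback.π g k.castSucc)
        (fun k => WidePullback.π_arrow g k.castSucc))
      (WidePullback.π g (Fin.last (n + 1)))
      (WidePullback.base (fun k : Fin (n + 1) => g k.castSucc)) (g (Fin.last (n + 1))) := by
  refine IsPullback.of_isLimit' ⟨by rw [WidePullback.lift_base, WidePullback.π_arrow]⟩ ?_
  refine PullbackCone.IsLimit.mk _
    (fun s => WidePullback.lift (s.fst ≫ WidePullback.base (fun k : Fin (n + 1) => g k.castSucc))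
      (fun k => Fin.lastCases (motive := fun k => s.pt ⟶ X k) s.snd
        (fun j => s.fst ≫ WidePullback.π (fun k : Fin (n + 1) => g k.castSucc) j) k) ?_) ?_ ?_ ?_
  · intro k
    induction k using Fin.lastCases with
    | last => rw [Fin.lastCases_last]; exact s.condition.symm
    | cast j => rw [Fin.lastCases_castSucc, Category.assoc, WidePullback.π_arrow]
  · intro s
    apply WidePullback.hom_ext
    · intro j
      rw [Category.assoc, WidePullback.lift_π, WidePullback.lift_π, Fin.lastCases_castSucc]
    · rw [Category.assoc, WidePullback.lift_base, WidePullback.lift_base]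
  · intro s
    rw [WidePullback.lift_π, Fin.lastCases_last]
  · intro s m h1 h2
    apply WidePullback.hom_ext
    · intro k
      rw [WidePullback.lift_π]
      induction k using Fin.lastCases with
      | last => rw [Fin.lastCases_last]; exact h2
      | cast j =>
        rw [Fin.lastCases_castSucc, ← h1, Category.assoc, WidePullback.lift_π]
    · rw [WidePullback.lift_base, ← h1, Category.assoc, WidePullback.lift_base]

/-- induction principle for wide pullbacks of finite families. -/
theorem widePullback_induction [HasFiniteWidePullbacks C] {U : C}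
    (Q : ∀ ⦃W : C⦄, (W ⟶ U) → Prop)
    (hiso : ∀ ⦃W W' : C⦄ (e : W ≅ W') (a : W' ⟶ U), Q a → Q (e.hom ≫ a))
    (hpb : ∀ ⦃W₁ W₂ P : C⦄ (a : W₁ ⟶ U) (b : W₂ ⟶ U) (fst : P ⟶ W₁) (snd : P ⟶ W₂),
      IsPullback fst snd a b → Q a → Q b → Q (fst ≫ a))
    (n : ℕ) (X : Fin (n + 1) → C) (g : ∀ k, X k ⟶ U) (hg : ∀ k, Q (g k)) :
    Q (WidePullback.base g) := by
  induction n with
  | zero =>
    let ψ : X 0 ⟶ widePullback U X g :=
      WidePullback.lift (g 0) (fun k => eqToHom (by rw [Fin.fin_one_eq_zero k])) (by
        intro k
        have := Fin.fin_one_eq_zero k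
        subst this
        simp)
    have h1 : ψ ≫ WidePullback.π g 0 = 𝟙 _ := by
      rw [WidePullback.lift_π]; rfl
    have h2 : WidePullback.π g 0 ≫ ψ = 𝟙 _ := by
      apply WidePullback.hom_ext
      · intro k
        have := Fin.fin_one_eq_zero k
        subst this
        rw [Category.assoc, h1, Category.comp_id, Category.id_comp]
      · rw [Category.assoc, WidePullback.lift_base, WidePullback.π_arrow, Category.id_comp]
    have := hiso ⟨WidePullback.π g 0, ψ, h2, h1⟩ (g 0) (hg 0)
    rwa [WidePullback.π_arrow] at this
  | succ n ih =>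
    have sq := isPullback_widePullback_succ X g
    have h1 := ih (fun k => X k.castSucc) (fun k => g k.castSucc) (fun k => hg k.castSucc)
    have := hpb _ _ _ _ sq h1 (hg (Fin.last (n + 1)))
    rwa [WidePullback.lift_base] at this

end Groth.Agent.Lib.Helper15.WPInd
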